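import Cfsg.Agent.Lib.Small.Char2Invol.Data.TabE6

/-!
The certificate for the involutions of type E6 in characteristic two.
-/

set_option autoImplicit false

namespace Cfsg.Agent.Small.C2Inv.Cert.E6

open Cfsg.Lie Cfsg.Agent.Small.C2Inv.Cert

def nodes0 : Tr (Node) :=
  .node (.node (.node (.node (.node (.leaf ⟨(nat_lit 4722366482800925736960), [], .br 36 1 351⟩) (.leaf ⟨(nat_lit 608760568830924685312), [(nat_lit 54), (nat_lit 64), (nat_lit 69)], .w 2 513⟩)) (.leaf ⟨(nat_lit 368943888673445773312), [(nat_lit 53), (nat_lit 66)], .br 68 257 668⟩)) (.node (.node (.leaf ⟨(nat_lit 368934881474191032320), [(nat_lit 66), (nat_lit 68)], .rep 1⟩) (.leaf ⟨(nat_lit 3624786336383833735168), [(nat_lit 50), (nat_lit 63), (nat_lit 70)], .w 3 664⟩)) (.leaf ⟨(nat_lit 1162361119794559713280), [(nat_lit 46)], .br 56 385 438⟩))) (.node (.node (.node (.leaf ⟨(nat_lit 4720060639860431519744), [(nat_lit 61)], .kill 37 62 [] 65⟩) (.leaf ⟨(nat_lit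 1773193837035284070400), [(nat_lit 49), (nat_lit 61)], .br 69 577 588⟩)) (.leaf ⟨(nat_lit 4722366476272575447040), [(nat_lit 41)], .sq 41 46 49 1 329⟩)) (.node (.leaf ⟨(nat_lit 4722365955104063881216), [(nat_lit 45)], .sq 45 56 60 1 208⟩) (.leaf ⟨(nat_lit 1162198990207974375424), [(nat_lit 46), (nat_lit 54)], .kill 37 55 [] 449⟩)))) (.node (.node (.node (.node (.leaf ⟨(nat_lit 4427218577690292387840), [], .br 68 33 40⟩) (.leaf ⟨(nat_lit 313630678050081341440), [(nat_lit 55), (nat_lit 64), (nat_lit 68)], .w 2 545⟩)) (.leaf ⟨(nat_lit 3559996430642621448192), [(nat_lit 42), (nat_lit 53)], .kill 36 54 [] 289⟩)) (.node (.leaf ⟨(nat_lit 4645734357510215696384), [(nat_lit 55)], .kill 57 69 [] 161⟩) (.leaf ⟨(nat_lit 1143698202938736377856), [(nat_lit 46), (nat_lit 65)], .kill 37 66 [] 417⟩))) (.node (.node (.node (.leaf ⟨(nat_lit 4675096701180764487680), [(nat_lit 60)], .w 5 97⟩) (.leaf ⟨(nat_lit 592611223517127507968), [(nat_lit 49),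 (nat_lit 53), (nat_lit 61)], .br 69 609 618⟩)) (.leaf ⟨(nat_lit 4722366482663486783488), [(nat_lit 36)], .kill 37 38 [] 353⟩)) (.node (.leaf ⟨(nat_lit 2629682819853442875392), [(nat_lit 45)], .br 49 225 303⟩) (.leaf ⟨(nat_lit 608742624801159380992), [(nat_lit 46), (nat_lit 64), (nat_lit 69)], .w 5 481⟩))))

def nodes1 : Tr (Node) :=
  .node (.node (.node (.node (.node (.leaf ⟨(nat_lit 4722361979270017843200), [], .br 52 17 145⟩) (.leaf ⟨(nat_lit 1438994656537048252416), [(nat_lit 52), (nat_lit 57)], .kill 53 67 [] 529⟩)) (.leaf ⟨(nat_lit 503862726310211092480), [(nat_lit 55), (nat_lit 60)], .kill 47 65 [] 273⟩)) (.node (.node (.leaf ⟨(nat_lit 2874845800534191898624), [(nat_lit 55)], .kill 61 71 [] 237⟩) (.leaf ⟨(nat_lit 41518684964728602624), [(nat_lit 52), (nat_lit 53), (nat_lit 62), (nat_lit 65)], .dbl 15 32 52 51 [(nat_lit 51), (nat_lit 54), (nat_lit 71)] [(nat_lit 63)] 657⟩)) (.leaf ⟨(nat_lit 590295810358705651712), [(nat_lit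 69)], .w 3 401⟩))) (.node (.node (.node (.leaf ⟨(nat_lit 592601653367919345664), [(nat_lit 61), (nat_lit 69)], .w 3 81⟩) (.leaf ⟨(nat_lit 1185207810335466061824), [(nat_lit 52), (nat_lit 62), (nat_lit 70)], .w 3 593⟩)) (.leaf ⟨(nat_lit 4722215384133465538560), [(nat_lit 39)], .kill 51 53 [] 337⟩)) (.node (.leaf ⟨(nat_lit 4722293897510025953280), [(nat_lit 45)], .kill 46 52 [] 209⟩) (.leaf ⟨(nat_lit 590296373308659073024), [(nat_lit 49), (nat_lit 69)], .w 2 465⟩)))) (.node (.node (.node (.node (.leaf ⟨(nat_lit 4667026250648516558848), [(nat_lit 64)], .w 5 49⟩) (.leaf ⟨(nat_lit 3104892520533927657472), [(nat_lit 40), (nat_lit 49)], .w 3 561⟩)) (.leaf ⟨(nat_lit 2629538704665367019520), [(nat_lit 45), (nat_lit 49)], .sq 49 58 65 1 305⟩)) (.node (.leaf ⟨(nat_lit 4722361416320064421888), [(nat_lit 49)], .sq 49 57 63 1 177⟩) (.leaf ⟨(nat_lit 903891022561721450496), [(nat_lit 49), (nat_lit 64), (nat_lit 68)], .kill 37 69 [] 433⟩)))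 (.node (.node (.node (.leaf ⟨(nat_lit 1185203306735838691328), [(nat_lit 62)], .w 3 247⟩) (.leaf ⟨(nat_lit 1807782326598419611648), [(nat_lit 48), (nat_lit 50), (nat_lit 65)], .kill 44 70 [] 625⟩)) (.leaf ⟨(nat_lit 4721594864575847596032), [(nat_lit 40)], .sq 40 61 64 1 369⟩)) (.node (.leaf ⟨(nat_lit 507321490824031633408), [(nat_lit 55)], .w 4 241⟩) (.leaf ⟨(nat_lit 1180596265054527029248), [(nat_lit 47), (nat_lit 52), (nat_lit 70)], .w 4 497⟩))))

def nodes2 : Tr (Node) :=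
  .node (.node (.node (.node (.node (.leaf ⟨(nat_lit 4722366465277459169280), [], .br 44 9 193⟩) (.leaf ⟨(nat_lit 1162325090997540749312), [(nat_lit 46), (nat_lit 57)], .sq 55 57 69 2 521⟩)) (.leaf ⟨(nat_lit 507321490824031633408), [(nat_lit 55), (nat_lit 63)], .w 4 265⟩)) (.node (.node (.leaf ⟨(nat_lit 4722123288489767206912), [(nat_lit 53)], .w 5 137⟩) (.leaf ⟨(nat_lit 41518684964728602624), [(nat_lit 52), (nat_lit 53), (nat_lit 62)], .br 65 649 656⟩)) (.leaf ⟨(nat_lit 2066035899205423202304), [(nat_lit 49)], .br 68 393 405⟩))) (.node (.node (.node (.leaf ⟨(nat_lit 4468723751856138878976), [(nat_lit 62)], .kill 45 69 [] 73⟩) (.leaf ⟨(nat_lit 295183933976371789824), [(nat_lit 55), (nat_lit 68)], .w 0 585⟩)) (.leaf ⟨(nat_lit 4722366404804319641600), [(nat_lit 40)], .w 5 329⟩)) (.node (.leaf ⟨(nat_lit 4722294412081467752448), [(nat_lit 42)], .w 3 201⟩) (.leaf ⟨(nat_lit 885452793106057396224), [(nat_lit 46), (nat_lit 53)], .w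 0 457⟩)))) (.node (.node (.node (.node (.leaf ⟨(nat_lit 4427218577690292387840), [(nat_lit 68)], .kill 37 69 [] 41⟩) (.leaf ⟨(nat_lit 1967556551194485719040), [(nat_lit 38), (nat_lit 48)], .sq 38 39 41 1 553⟩)) (.leaf ⟨(nat_lit 1003919910935294115840), [(nat_lit 52), (nat_lit 53)], .sq 52 58 68 1 297⟩)) (.node (.leaf ⟨(nat_lit 1445777077575868219392), [(nat_lit 52), (nat_lit 53)], .w 5 299⟩) (.leaf ⟨(nat_lit 221365432484141989888), [(nat_lit 52), (nat_lit 67)], .w 3 425⟩))) (.node (.node (.node (.leaf ⟨(nat_lit 4574864587874006728704), [(nat_lit 56)], .br 67 105 113⟩) (.leaf ⟨(nat_lit 156833353423550152704), [(nat_lit 55), (nat_lit 63), (nat_lit 67)], .w 3 617⟩)) (.leaf ⟨(nat_lit 4722366370856898134016), [(nat_lit 41)], .w 5 361⟩)) (.node (.leaf ⟨(nat_lit 1840532221613681147904), [(nat_lit 50)], .br 55 233 286⟩) (.leaf ⟨(nat_lit 184503469534114480128), [(nat_lit 55), (nat_lit 65), (nat_lit 67)], .rep 2⟩))))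

def nodes3 : Tr (Node) :=
  .node (.node (.node (.node (.node (.leaf ⟨(nat_lit 4721213561365038366720), [], .br 60 25 94⟩) (.leaf ⟨(nat_lit 1475812146440755478528), [(nat_lit 49), (nat_lit 56), (nat_lit 68)], .w 2 537⟩)) (.leaf ⟨(nat_lit 332653882876094316544), [(nat_lit 55), (nat_lit 59), (nat_lit 65)], .w 1 281⟩)) (.node (.node (.leaf ⟨(nat_lit 4722289921675979915264), [(nat_lit 52)], .kill 39 54 [] 153⟩) (.leaf ⟨(nat_lit 3062160642135692410880), [(nat_lit 50), (nat_lit 65), (nat_lit 69)], .sq 50 66 71 1 665⟩)) (.leaf ⟨(nat_lit 590296373308659073024), [(nat_lit 49), (nat_lit 69)], .w 2 409⟩))) (.node (.node (.node (.leaf ⟨(nat_lit 4722222367681569357824), [(nat_lit 57)], .kill 39 58 [] 89⟩) (.leaf ⟨(nat_lit 300948541499406024704), [(nat_lit 55), (nat_lit 60), (nat_lit 62)], .w 3 601⟩)) (.leaf ⟨(nat_lit 4570651242273938866176), [(nat_lit 50)], .w 2 345⟩)) (.node (.leaf ⟨(nat_lit 4703694633581357826048), [(nat_lit 42)], .sq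 42 65 68 1 217⟩) (.leaf ⟨(nat_lit 1189815274229242789888), [(nat_lit 48), (nat_lit 63), (nat_lit 70)], .w 2 473⟩)))) (.node (.node (.node (.node (.leaf ⟨(nat_lit 73786976294838206464), [(nat_lit 66)], .w 2 57⟩) (.leaf ⟨(nat_lit 2071810640927130648576), [(nat_lit 49), (nat_lit 62)], .kill 45 69 [] 569⟩)) (.leaf ⟨(nat_lit 2705375346556240134144), [(nat_lit 53), (nat_lit 59)], .w 4 313⟩)) (.node (.leaf ⟨(nat_lit 4718158009755355840512), [(nat_lit 47)], .w 3 185⟩) (.leaf ⟨(nat_lit 1162397148591578677248), [(nat_lit 46), (nat_lit 55)], .sq 55 56 66 1 441⟩))) (.node (.node (.node (.leaf ⟨(nat_lit 3541918977340309766144), [(nat_lit 57), (nat_lit 70)], .kill 46 71 [] 121⟩) (.leaf ⟨(nat_lit 1185203869685792112640), [(nat_lit 49), (nat_lit 62), (nat_lit 70)], .w 2 633⟩)) (.leaf ⟨(nat_lit 1967556550919607812096), [(nat_lit 48)], .w 4 377⟩)) (.node (.leaf ⟨(nat_lit 903890459611768029184), [(nat_lit 64), (nat_lit 68)], .kill 37 69 [] 249⟩)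 (.leaf ⟨(nat_lit 368943959042189950976), [(nat_lit 46), (nat_lit 53), (nat_lit 66), (nat_lit 68)], .dbl 11 28 46 48 [(nat_lit 48), (nat_lit 50), (nat_lit 71)] [(nat_lit 63)] 505⟩))))

def nodes4 : Tr (Node) :=
  .node (.node (.node (.node (.node (.leaf ⟨(nat_lit 4722366481770133585920), [], .br 40 5 321⟩) (.leaf ⟨(nat_lit 1162352116993351483392), [(nat_lit 42), (nat_lit 46)], .kill 56 57 [] 517⟩)) (.leaf ⟨(nat_lit 295183933976371789824), [(nat_lit 55), (nat_lit 68)], .w 0 261⟩)) (.node (.node (.leaf ⟨(nat_lit 4722276410877097803776), [(nat_lit 54)], .sq 54 57 68 1 137⟩) (.leaf ⟨(nat_lit 2407878849355585683456), [(nat_lit 45), (nat_lit 51), (nat_lit 59)], .w 3 645⟩)) (.leaf ⟨(nat_lit 1106804714791317274624), [(nat_lit 46)], .w 3 389⟩))) (.node (.node (.node (.leaf ⟨(nat_lit 4713143110832790437888), [(nat_lit 63)], .kill 39 65 [] 69⟩) (.leaf ⟨(nat_lit 299795619994799177728), [(nat_lit 55), (nat_lit 62)], .w 3 581⟩)) (.leaf ⟨(nat_lit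 4722366477921842888704), [(nat_lit 39)], .sq 39 46 47 1 325⟩)) (.node (.leaf ⟨(nat_lit 4722366474073552191488), [(nat_lit 43)], .sq 43 46 50 1 197⟩) (.leaf ⟨(nat_lit 498098189155921035264), [(nat_lit 46), (nat_lit 55)], .w 4 453⟩)))) (.node (.node (.node (.node (.leaf ⟨(nat_lit 0), [], .one⟩) (.leaf ⟨(nat_lit 1162424174724828364800), [(nat_lit 37), (nat_lit 46)], .w 5 549⟩)) (.leaf ⟨(nat_lit 1840532256798053236736), [(nat_lit 45), (nat_lit 50)], .kill 48 55 [] 293⟩)) (.node (.leaf ⟨(nat_lit 513663684999276134400), [(nat_lit 50), (nat_lit 55)], .sq 50 59 67 1 165⟩) (.leaf ⟨(nat_lit 1955355153288189181952), [(nat_lit 48), (nat_lit 65)], .w 5 421⟩))) (.node (.node (.node (.leaf ⟨(nat_lit 4704063853984011517952), [(nat_lit 57)], .kill 53 67 [] 101⟩) (.leaf ⟨(nat_lit 9243638235177943040), [(nat_lit 51), (nat_lit 54), (nat_lit 63)], .w 3 613⟩)) (.leaf ⟨(nat_lit 4722366479845988237312), [(nat_lit 38)], .sq 38 43 45 1 357⟩)) (.node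 (.leaf ⟨(nat_lit 3559996430642621448192), [(nat_lit 42)], .br 53 229 288⟩) (.leaf ⟨(nat_lit 1189817244554079764480), [(nat_lit 51), (nat_lit 63), (nat_lit 70)], .w 3 485⟩))))

def nodes5 : Tr (Node) :=
  .node (.node (.node (.node (.node (.leaf ⟨(nat_lit 4722294425275607285760), [], .br 56 21 86⟩) (.leaf ⟨(nat_lit 1254527215799952736256), [(nat_lit 52), (nat_lit 57)], .w 3 533⟩)) (.leaf ⟨(nat_lit 332653882876094316544), [(nat_lit 55), (nat_lit 59)], .w 1 277⟩)) (.node (.node (.leaf ⟨(nat_lit 4722293299375700443136), [(nat_lit 50)], .kill 37 51 [] 149⟩) (.leaf ⟨(nat_lit 3581012473905699356672), [(nat_lit 51), (nat_lit 55), (nat_lit 61), (nat_lit 65), (nat_lit 70)], .kill 41 55 [] 661⟩)) (.leaf ⟨(nat_lit 368934881474191032320), [(nat_lit 66), (nat_lit 68)], .rep 1⟩))) (.node (.node (.node (.leaf ⟨(nat_lit 627189298506124754944), [(nat_lit 65), (nat_lit 69)], .w 2 85⟩) (.leaf ⟨(nat_lit 1774346758539890917376), [(nat_lit 49), (nat_lit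 60), (nat_lit 61)], .kill 51 69 [] 597⟩)) (.leaf ⟨(nat_lit 4717288446141122215936), [(nat_lit 39)], .sq 39 63 65 1 341⟩)) (.node (.leaf ⟨(nat_lit 4721082429210263289856), [(nat_lit 45)], .w 5 213⟩) (.leaf ⟨(nat_lit 295183933976371789824), [(nat_lit 55), (nat_lit 68)], .w 0 469⟩)))) (.node (.node (.node (.node (.leaf ⟨(nat_lit 4058283696216101355520), [(nat_lit 66)], .kill 43 70 [] 53⟩) (.leaf ⟨(nat_lit 3140849259958853697536), [(nat_lit 40), (nat_lit 45)], .w 5 565⟩)) (.leaf ⟨(nat_lit 2535328994775938367488), [(nat_lit 49), (nat_lit 60)], .w 2 309⟩)) (.node (.leaf ⟨(nat_lit 4721922033881419087872), [(nat_lit 48)], .kill 45 55 [] 181⟩) (.leaf ⟨(nat_lit 221378943283024101376), [(nat_lit 54), (nat_lit 66), (nat_lit 67)], .w 0 437⟩))) (.node (.node (.node (.leaf ⟨(nat_lit 3836994824925624664064), [(nat_lit 56), (nat_lit 68)], .w 4 117⟩) (.leaf ⟨(nat_lit 73791620631953932288), [(nat_lit 47), (nat_lit 52), (nat_lit 66)], .w 2 629⟩))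 (.leaf ⟨(nat_lit 4697674674103499358208), [(nat_lit 48)], .kill 60 66 [] 373⟩)) (.node (.leaf ⟨(nat_lit 959239699032151425024), [(nat_lit 53)], .br 66 245 255⟩) (.leaf ⟨(nat_lit 627198305705379495936), [(nat_lit 53), (nat_lit 65), (nat_lit 69)], .w 0 501⟩))))

def nodes6 : Tr (Node) :=
  .node (.node (.node (.node (.node (.leaf ⟨(nat_lit 4722366201394668503040), [], .br 48 13 173⟩) (.leaf ⟨(nat_lit 1106876772385355202560), [(nat_lit 46), (nat_lit 56)], .w 3 525⟩)) (.leaf ⟨(nat_lit 175280097497259704320), [(nat_lit 55), (nat_lit 63)], .w 5 277⟩)) (.node (.node (.leaf ⟨(nat_lit 4721826050914360754176), [(nat_lit 55)], .sq 55 61 71 1 141⟩) (.leaf ⟨(nat_lit 73800487093720317952), [(nat_lit 52), (nat_lit 53), (nat_lit 66)], .w 0 653⟩)) (.leaf ⟨(nat_lit 1189814992754266079232), [(nat_lit 63)], .w 3 397⟩))) (.node (.node (.node (.leaf ⟨(nat_lit 1773193274085330649088), [(nat_lit 61)], .br 69 111 79⟩) (.leaf ⟨(nat_lit 1773193837035284070400),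 [(nat_lit 49), (nat_lit 61), (nat_lit 69)], .kill 39 70 [] 589⟩)) (.leaf ⟨(nat_lit 4722221692581429903360), [(nat_lit 41)], .w 5 333⟩)) (.node (.leaf ⟨(nat_lit 4722294337314677063680), [(nat_lit 44)], .sq 44 47 53 1 205⟩) (.leaf ⟨(nat_lit 36893558516163280896), [(nat_lit 46), (nat_lit 65)], .w 2 461⟩)))) (.node (.node (.node (.node (.leaf ⟨(nat_lit 3541774862152233910272), [(nat_lit 70)], .kill 46 71 [] 45⟩) (.leaf ⟨(nat_lit 1967555424469945155584), [(nat_lit 41), (nat_lit 48)], .kill 50 54 [] 557⟩)) (.leaf ⟨(nat_lit 1840099876049453580288), [(nat_lit 50), (nat_lit 55)], .kill 57 69 [] 301⟩)) (.node (.leaf ⟨(nat_lit 4722366060657180147712), [(nat_lit 47)], .w 4 173⟩) (.leaf ⟨(nat_lit 295183933976371789824), [(nat_lit 55), (nat_lit 68)], .w 0 429⟩))) (.node (.node (.node (.leaf ⟨(nat_lit 3541918977340309766144), [(nat_lit 57)], .br 70 109 120⟩) (.leaf ⟨(nat_lit 1773205096034352496640), [(nat_lit 49), (nat_lit 51), (nat_lit 61)],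 .w 0 621⟩)) (.leaf ⟨(nat_lit 4722220864924052094976), [(nat_lit 40)], .kill 50 53 [] 365⟩)) (.node (.leaf ⟨(nat_lit 843091864642266333184), [(nat_lit 54)], .w 4 237⟩) (.leaf ⟨(nat_lit 368943959042189950976), [(nat_lit 46), (nat_lit 53), (nat_lit 66)], .br 68 493 504⟩))))

def nodes7 : Tr (Node) :=
  .node (.node (.node (.node (.node (.leaf ⟨(nat_lit 4703919738795935662080), [], .br 64 29 47⟩) (.leaf ⟨(nat_lit 666406644061267034112), [(nat_lit 54), (nat_lit 61), (nat_lit 66)], .kill 42 69 [] 541⟩)) (.leaf ⟨(nat_lit 313630678050081341440), [(nat_lit 55), (nat_lit 64), (nat_lit 68)], .w 2 285⟩)) (.node (.node (.leaf ⟨(nat_lit 4722098518691816669184), [(nat_lit 54)], .sq 54 59 70 1 157⟩) (.leaf ⟨(nat_lit 368943888673445773312), [(nat_lit 53), (nat_lit 66), (nat_lit 68)], .w 5 669⟩)) (.leaf ⟨(nat_lit 295183933976371789824), [(nat_lit 55), (nat_lit 68)], .w 0 413⟩))) (.node (.node (.node (.leaf ⟨(nat_lit 4721790022117341790208), [(nat_lit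 59)], .kill 36 60 [] 93⟩) (.leaf ⟨(nat_lit 156833353423550152704), [(nat_lit 55), (nat_lit 63), (nat_lit 67)], .w 3 605⟩)) (.leaf ⟨(nat_lit 4722366482732206260224), [(nat_lit 37)], .sq 37 39 40 1 349⟩)) (.node (.leaf ⟨(nat_lit 4673247146700984811520), [(nat_lit 44)], .w 5 221⟩) (.leaf ⟨(nat_lit 221378943283024101376), [(nat_lit 54), (nat_lit 66), (nat_lit 67)], .w 0 477⟩)))) (.node (.node (.node (.node (.leaf ⟨(nat_lit 368934881474191032320), [(nat_lit 66), (nat_lit 68)], .rep 1⟩) (.leaf ⟨(nat_lit 1481514829468913369088), [(nat_lit 49), (nat_lit 62)], .w 4 573⟩)) (.leaf ⟨(nat_lit 4574864869348983439360), [(nat_lit 48), (nat_lit 56)], .w 5 317⟩)) (.node (.leaf ⟨(nat_lit 3523607411624165507072), [(nat_lit 46)], .kill 70 71 [] 381⟩) (.leaf ⟨(nat_lit 1162424170189342900224), [(nat_lit 46), (nat_lit 53)], .sq 53 56 64 1 445⟩))) (.node (.node (.node (.leaf ⟨(nat_lit 2361759702187126030336), [(nat_lit 59), (nat_lit 71)], .w 5 125⟩)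 (.leaf ⟨(nat_lit 184503469534114480128), [(nat_lit 55), (nat_lit 65), (nat_lit 67)], .rep 2⟩)) (.leaf ⟨(nat_lit 1162424174587389411328), [(nat_lit 46)], .br 42 381 515⟩)) (.node (.leaf ⟨(nat_lit 368934881474191032320), [(nat_lit 66), (nat_lit 68)], .rep 1⟩) (.leaf ⟨(nat_lit 3587893974136321474560), [(nat_lit 51), (nat_lit 63), (nat_lit 70)], .w 3 509⟩))))

def nodes8 : Tr (Node) :=
  .node (.node (.node (.node (.node (.leaf ⟨(nat_lit 4722366482594767306752), [], .br 38 3 354⟩) (.leaf ⟨(nat_lit 184503469534114480128), [(nat_lit 55), (nat_lit 65), (nat_lit 67)], .rep 2⟩)) (.leaf ⟨(nat_lit 73804990693347688448), [(nat_lit 54), (nat_lit 66)], .w 0 259⟩)) (.node (.node (.leaf ⟨(nat_lit 4722258396478588321792), [(nat_lit 55)], .sq 55 57 69 1 139⟩) (.leaf ⟨(nat_lit 1223263244778932797440), [(nat_lit 44), (nat_lit 52), (nat_lit 62)], .w 1 643⟩)) (.leaf ⟨(nat_lit 1162144947012445929472), [(nat_lit 46)], .br 64 387 414⟩))) (.node (.node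 (.node (.leaf ⟨(nat_lit 4717754796851217825792), [(nat_lit 62)], .kill 36 63 [] 67⟩) (.leaf ⟨(nat_lit 1182901967326252367872), [(nat_lit 52), (nat_lit 61)], .w 3 579⟩)) (.leaf ⟨(nat_lit 4722366477372087074816), [(nat_lit 40)], .sq 40 46 48 1 327⟩)) (.node (.leaf ⟨(nat_lit 4722366394908714991616), [(nat_lit 44)], .sq 44 47 53 1 195⟩) (.leaf ⟨(nat_lit 1162180975809464893440), [(nat_lit 46), (nat_lit 55)], .kill 56 66 [] 451⟩)))) (.node (.node (.node (.node (.leaf ⟨(nat_lit 3541774862152233910272), [], .br 70 35 44⟩) (.leaf ⟨(nat_lit 1711338737835326832640), [(nat_lit 40), (nat_lit 47)], .kill 36 41 [] 547⟩)) (.leaf ⟨(nat_lit 3011036913861782405120), [(nat_lit 43), (nat_lit 51)], .w 1 291⟩)) (.node (.leaf ⟨(nat_lit 2874846926434098741248), [(nat_lit 55)], .kill 61 71 [] 163⟩) (.leaf ⟨(nat_lit 1106804714791317274624), [(nat_lit 46), (nat_lit 66)], .w 3 419⟩))) (.node (.node (.node (.leaf ⟨(nat_lit 4623791694225759797248), [(nat_lit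 59)], .w 4 99⟩) (.leaf ⟨(nat_lit 4621256167635550208), [(nat_lit 49), (nat_lit 53), (nat_lit 62)], .w 5 611⟩)) (.leaf ⟨(nat_lit 4722366482594767306752), [(nat_lit 38)], .sq 38 39 41 1 355⟩)) (.node (.leaf ⟨(nat_lit 2754785481560214732800), [(nat_lit 44)], .w 4 227⟩) (.leaf ⟨(nat_lit 1189815133491754434560), [(nat_lit 47), (nat_lit 63), (nat_lit 70)], .w 4 483⟩))))

def nodes9 : Tr (Node) :=
  .node (.node (.node (.node (.node (.leaf ⟨(nat_lit 4722348468471135731712), [], .br 54 19 131⟩) (.leaf ⟨(nat_lit 2066107956799461130240), [(nat_lit 49), (nat_lit 56)], .br 68 531 535⟩)) (.leaf ⟨(nat_lit 489451207502625505280), [(nat_lit 55), (nat_lit 59)], .kill 50 67 [] 275⟩)) (.node (.node (.leaf ⟨(nat_lit 4722364231069831528448), [(nat_lit 51)], .sq 51 56 62 1 150⟩) (.leaf ⟨(nat_lit 2670193226267221819392), [(nat_lit 53), (nat_lit 54), (nat_lit 62), (nat_lit 63), (nat_lit 68)], .w 4 659⟩)) (.leaf ⟨(nat_lit 2361183241434822606848), [(nat_lit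 71)], .rep 0⟩))) (.node (.node (.node (.leaf ⟨(nat_lit 1185203306735838691328), [(nat_lit 62), (nat_lit 70)], .w 5 83⟩) (.leaf ⟨(nat_lit 221378943283024101376), [(nat_lit 54), (nat_lit 66), (nat_lit 67)], .w 0 595⟩)) (.leaf ⟨(nat_lit 4722188362535701315584), [(nat_lit 39)], .kill 57 58 [] 339⟩)) (.node (.leaf ⟨(nat_lit 4722271379511889100800), [(nat_lit 45)], .kill 48 55 [] 211⟩) (.leaf ⟨(nat_lit 73804990693347688448), [(nat_lit 54), (nat_lit 66)], .w 0 467⟩)))) (.node (.node (.node (.node (.leaf ⟨(nat_lit 4611686018427387904000), [(nat_lit 65)], .w 4 51⟩) (.leaf ⟨(nat_lit 3717104501581856899072), [(nat_lit 37), (nat_lit 41)], .w 2 563⟩)) (.leaf ⟨(nat_lit 2628674013536911884288), [(nat_lit 45), (nat_lit 49)], .w 0 307⟩)) (.node (.leaf ⟨(nat_lit 4722199286733479084032), [(nat_lit 49)], .w 5 179⟩) (.leaf ⟨(nat_lit 608743117382368624640), [(nat_lit 49), (nat_lit 64), (nat_lit 69)], .w 2 435⟩))) (.node (.node (.node (.leaf ⟨(nat_lit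 4279716682694653902848), [(nat_lit 56), (nat_lit 67)], .w 5 115⟩) (.leaf ⟨(nat_lit 36894895522302656512), [(nat_lit 48), (nat_lit 50), (nat_lit 65)], .w 4 627⟩)) (.leaf ⟨(nat_lit 4700842277492924350464), [(nat_lit 40)], .sq 40 63 66 1 371⟩)) (.node (.leaf ⟨(nat_lit 830121497715439304704), [(nat_lit 54)], .w 5 243⟩) (.leaf ⟨(nat_lit 1189815274229242789888), [(nat_lit 48), (nat_lit 63), (nat_lit 70)], .w 2 499⟩))))

def nodes10 : Tr (Node) :=
  .node (.node (.node (.node (.node (.leaf ⟨(nat_lit 4722366412500901036032), [], .br 46 11 169⟩) (.leaf ⟨(nat_lit 1014715109610845372416), [(nat_lit 46), (nat_lit 57)], .w 2 523⟩)) (.leaf ⟨(nat_lit 765557893457455874048), [(nat_lit 54), (nat_lit 63)], .kill 44 69 [] 267⟩)) (.node (.node (.leaf ⟨(nat_lit 4722096266892002983936), [(nat_lit 54)], .w 4 139⟩) (.leaf ⟨(nat_lit 9243638235177943040), [(nat_lit 51), (nat_lit 54), (nat_lit 63)], .w 3 651⟩)) (.leaf ⟨(nat_lit 1180592183667364724736),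 [(nat_lit 49)], .w 2 395⟩))) (.node (.node (.node (.leaf ⟨(nat_lit 4208163491814991462400), [(nat_lit 61)], .kill 55 71 [] 75⟩) (.leaf ⟨(nat_lit 313630678050081341440), [(nat_lit 55), (nat_lit 64), (nat_lit 68)], .w 2 587⟩)) (.leaf ⟨(nat_lit 4722366370719459180544), [(nat_lit 41)], .sq 41 57 60 1 331⟩)) (.node (.leaf ⟨(nat_lit 4722294346110770085888), [(nat_lit 43)], .kill 37 44 [] 203⟩) (.leaf ⟨(nat_lit 608742624801159380992), [(nat_lit 46), (nat_lit 64)], .w 5 459⟩)))) (.node (.node (.node (.node (.leaf ⟨(nat_lit 4132070672510939561984), [(nat_lit 69)], .kill 39 70 [] 43⟩) (.leaf ⟨(nat_lit 1967555424744823062528), [(nat_lit 38), (nat_lit 48)], .kill 39 41 [] 555⟩)) (.leaf ⟨(nat_lit 1580099188262006947840), [(nat_lit 51), (nat_lit 54)], .sq 54 59 70 1 299⟩)) (.node (.leaf ⟨(nat_lit 4722366271763412680704), [(nat_lit 46)], .w 3 171⟩) (.leaf ⟨(nat_lit 147591966988185894912), [(nat_lit 54), (nat_lit 67)], .w 4 427⟩))) (.node (.node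 (.node (.leaf ⟨(nat_lit 4132142730104977489920), [(nat_lit 56)], .br 69 107 117⟩) (.leaf ⟨(nat_lit 592611223517127507968), [(nat_lit 49), (nat_lit 53), (nat_lit 61), (nat_lit 69)], .dbl 14 27 49 47 [(nat_lit 47), (nat_lit 55), (nat_lit 71)] [(nat_lit 63)] 659⟩)) (.leaf ⟨(nat_lit 4722222272298935648256), [(nat_lit 40)], .kill 46 48 [] 363⟩)) (.node (.leaf ⟨(nat_lit 1580225289051573321728), [(nat_lit 51)], .w 3 235⟩) (.leaf ⟨(nat_lit 922346281253476499456), [(nat_lit 46), (nat_lit 53), (nat_lit 65)], .w 4 491⟩))))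

def nodes11 : Tr (Node) :=
  .node (.node (.node (.node (.node (.leaf ⟨(nat_lit 4717754796851217825792), [], .br 62 27 66⟩) (.leaf ⟨(nat_lit 1254527215799952736256), [(nat_lit 52), (nat_lit 57), (nat_lit 66)], .w 3 539⟩)) (.leaf ⟨(nat_lit 41541202962865455104), [(nat_lit 55), (nat_lit 62), (nat_lit 65)], .w 2 283⟩)) (.node (.node (.leaf ⟨(nat_lit 4721983676901318721536), [(nat_lit 52)], .w 3 155⟩) (.leaf ⟨(nat_lit 2730120374708827324416), [(nat_lit 51), (nat_lit 66), (nat_lit 68)], .w 3 667⟩)) (.leaf ⟨(nat_lit 73804990693347688448), [(nat_lit 54), (nat_lit 66)], .w 0 411⟩))) (.node (.node (.node (.leaf ⟨(nat_lit 4722078252493493501952), [(nat_lit 58)], .kill 37 59 [] 91⟩) (.leaf ⟨(nat_lit 322854050086936117248), [(nat_lit 55), (nat_lit 63), (nat_lit 64)], .kill 43 68 [] 603⟩)) (.leaf ⟨(nat_lit 4662817789628855091200), [(nat_lit 47)], .sq 47 69 71 1 347⟩)) (.node (.leaf ⟨(nat_lit 4708142012980176879616), [(nat_lit 43)], .sq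 43 66 70 1 219⟩) (.leaf ⟨(nat_lit 627198305705379495936), [(nat_lit 53), (nat_lit 65), (nat_lit 69)], .w 0 475⟩)))) (.node (.node (.node (.node (.leaf ⟨(nat_lit 1180591620717411303424), [(nat_lit 70)], .w 1 59⟩) (.leaf ⟨(nat_lit 1223263385516421152768), [(nat_lit 52), (nat_lit 62)], .br 44 571 641⟩)) (.leaf ⟨(nat_lit 3039398323719055081472), [(nat_lit 53), (nat_lit 58)], .w 3 315⟩)) (.node (.leaf ⟨(nat_lit 4713422404378431586304), [(nat_lit 46)], .kill 60 63 [] 187⟩) (.leaf ⟨(nat_lit 1162415162990088159232), [(nat_lit 46), (nat_lit 54)], .sq 54 56 65 1 443⟩))) (.node (.node (.node (.leaf ⟨(nat_lit 2361327356622898462720), [(nat_lit 57), (nat_lit 71)], .w 3 123⟩) (.leaf ⟨(nat_lit 608760568830924685312), [(nat_lit 54), (nat_lit 64), (nat_lit 69)], .w 2 635⟩)) (.leaf ⟨(nat_lit 1711338736735815204864), [(nat_lit 47)], .w 3 379⟩)) (.node (.leaf ⟨(nat_lit 608742554432415203328), [(nat_lit 64), (nat_lit 69)], .w 5 251⟩) (.leaf ⟨(nat_lit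 2997607170976870563840), [(nat_lit 51), (nat_lit 53), (nat_lit 63), (nat_lit 65), (nat_lit 69)], .w 3 507⟩))))

def nodes12 : Tr (Node) :=
  .node (.node (.node (.node (.node (.leaf ⟨(nat_lit 4722366478471598702592), [], .br 42 7 198⟩) (.leaf ⟨(nat_lit 1162352112595304972288), [(nat_lit 46), (nat_lit 57)], .sq 53 57 67 2 519⟩)) (.leaf ⟨(nat_lit 511933176842459021312), [(nat_lit 55), (nat_lit 62)], .kill 36 63 [] 263⟩)) (.node (.node (.leaf ⟨(nat_lit 4722285418076352544768), [(nat_lit 53)], .sq 53 57 67 1 135⟩) (.leaf ⟨(nat_lit 1223263227186746753024), [(nat_lit 52), (nat_lit 53), (nat_lit 62)], .sq 53 60 70 1 647⟩)) (.leaf ⟨(nat_lit 1955355153288189181952), [(nat_lit 48)], .w 5 391⟩))) (.node (.node (.node (.leaf ⟨(nat_lit 4602462646390533128192), [(nat_lit 63)], .kill 43 68 [] 71⟩) (.leaf ⟨(nat_lit 18482772870728515584), [(nat_lit 55), (nat_lit 64)], .w 5 583⟩)) (.leaf ⟨(nat_lit 4722366406453587083264), [(nat_lit 39)], .w 4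 327⟩)) (.node (.leaf ⟨(nat_lit 4722366478471598702592), [(nat_lit 42)], .sq 42 56 57 1 199⟩) (.leaf ⟨(nat_lit 996133257548314705920), [(nat_lit 46), (nat_lit 53)], .br 65 455 489⟩)))) (.node (.node (.node (.node (.leaf ⟨(nat_lit 4574792530279968800768), [(nat_lit 67)], .kill 36 68 [] 39⟩) (.leaf ⟨(nat_lit 1162415167663012577280), [(nat_lit 38), (nat_lit 46)], .w 3 551⟩)) (.leaf ⟨(nat_lit 1580225324235945410560), [(nat_lit 45), (nat_lit 51)], .w 3 295⟩)) (.node (.leaf ⟨(nat_lit 842805886065928306688), [(nat_lit 51), (nat_lit 54)], .w 3 167⟩) (.leaf ⟨(nat_lit 903891022561721450496), [(nat_lit 49), (nat_lit 64)], .br 68 423 432⟩))) (.node (.node (.node (.leaf ⟨(nat_lit 4685545052316264038400), [(nat_lit 56)], .kill 54 65 [] 103⟩) (.leaf ⟨(nat_lit 73800487093720317952), [(nat_lit 52), (nat_lit 53), (nat_lit 66)], .w 0 615⟩)) (.leaf ⟨(nat_lit 4722366476410014400512), [(nat_lit 41)], .sq 41 46 49 1 359⟩)) (.node (.leaf ⟨(nat_lit 3011039165661596090368),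 [(nat_lit 43)], .w 1 231⟩) (.leaf ⟨(nat_lit 608760568830924685312), [(nat_lit 54), (nat_lit 64), (nat_lit 69)], .w 2 487⟩))))

def nodes13 : Tr (Node) :=
  .node (.node (.node (.node (.node (.leaf ⟨(nat_lit 4722078252493493501952), [], .br 58 23 90⟩) (.leaf ⟨(nat_lit 666406644061267034112), [(nat_lit 54), (nat_lit 61)], .br 66 579 540⟩)) (.leaf ⟨(nat_lit 341877254912949092352), [(nat_lit 55), (nat_lit 59), (nat_lit 63)], .kill 39 65 [] 279⟩)) (.node (.node (.leaf ⟨(nat_lit 4722292173475793600512), [(nat_lit 51)], .kill 36 52 [] 151⟩) (.leaf ⟨(nat_lit 3620174650365406347264), [(nat_lit 50), (nat_lit 62), (nat_lit 70)], .w 3 663⟩)) (.leaf ⟨(nat_lit 1475740088846717550592), [(nat_lit 49), (nat_lit 68)], .w 4 407⟩))) (.node (.node (.node (.leaf ⟨(nat_lit 4722294425275607285760), [(nat_lit 56)], .kill 42 57 [] 87⟩) (.leaf ⟨(nat_lit 1184054888830859214848), [(nat_lit 52), (nat_lit 60), (nat_lit 61)], .w 3 599⟩)) (.leaf ⟨(nat_lit 4718158021849983746048),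 [(nat_lit 47)], .w 2 343⟩)) (.node (.leaf ⟨(nat_lit 4721977071035459043328), [(nat_lit 43)], .w 3 215⟩) (.leaf ⟨(nat_lit 627189368874868932608), [(nat_lit 46), (nat_lit 65), (nat_lit 69)], .w 3 471⟩)))) (.node (.node (.node (.node (.leaf ⟨(nat_lit 516508834063867445248), [(nat_lit 66)], .br 67 55 61⟩) (.leaf ⟨(nat_lit 3265366736288555728896), [(nat_lit 41), (nat_lit 44)], .w 1 567⟩)) (.leaf ⟨(nat_lit 2535314921027102834688), [(nat_lit 52), (nat_lit 60)], .w 3 311⟩)) (.node (.leaf ⟨(nat_lit 4720733083579793276928), [(nat_lit 48)], .kill 57 62 [] 183⟩) (.leaf ⟨(nat_lit 1162361119794559713280), [(nat_lit 46), (nat_lit 56)], .kill 42 57 [] 439⟩))) (.node (.node (.node (.leaf ⟨(nat_lit 2951551109387566186496), [(nat_lit 56), (nat_lit 69)], .w 3 119⟩) (.leaf ⟨(nat_lit 1180593309567271567360), [(nat_lit 49), (nat_lit 50), (nat_lit 70)], .w 4 631⟩)) (.leaf ⟨(nat_lit 4328739792629308325888), [(nat_lit 48)], .kill 68 71 [] 375⟩)) (.node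 (.leaf ⟨(nat_lit 903890459611768029184), [(nat_lit 64)], .br 68 247 248⟩) (.leaf ⟨(nat_lit 221378943283024101376), [(nat_lit 54), (nat_lit 66), (nat_lit 67)], .w 0 503⟩))))

def nodes14 : Tr (Node) :=
  .node (.node (.node (.node (.node (.leaf ⟨(nat_lit 4722365356969738371072), [], .br 50 15 147⟩) (.leaf ⟨(nat_lit 1826372904385228308480), [(nat_lit 50), (nat_lit 57)], .w 4 527⟩)) (.leaf ⟨(nat_lit 512509637594762444800), [(nat_lit 55), (nat_lit 59)], .w 5 271⟩)) (.node (.node (.leaf ⟨(nat_lit 4645733231610308853760), [(nat_lit 55)], .kill 57 69 [] 143⟩) (.leaf ⟨(nat_lit 156833353423550152704), [(nat_lit 55), (nat_lit 63), (nat_lit 67)], .w 3 655⟩)) (.leaf ⟨(nat_lit 36893488147419103232), [(nat_lit 65)], .w 4 399⟩))) (.node (.node (.node (.leaf ⟨(nat_lit 1256684440021463203840), [(nat_lit 61), (nat_lit 66)], .w 2 79⟩) (.leaf ⟨(nat_lit 1182898026676578418688), [(nat_lit 49), (nat_lit 61), (nat_lit 70)], .w 4 591⟩)) (.leaf ⟨(nat_lit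 4722222139532906594304), [(nat_lit 39)], .sq 39 51 53 1 335⟩)) (.node (.leaf ⟨(nat_lit 4722294161392816619520), [(nat_lit 44)], .w 5 207⟩) (.leaf ⟨(nat_lit 295148045916841181184), [(nat_lit 47), (nat_lit 68)], .w 4 463⟩)))) (.node (.node (.node (.node (.leaf ⟨(nat_lit 2361183241434822606848), [(nat_lit 71)], .rep 0⟩) (.leaf ⟨(nat_lit 1965231567062221979648), [(nat_lit 41), (nat_lit 48)], .w 1 559⟩)) (.leaf ⟨(nat_lit 1637184706076230025216), [(nat_lit 47), (nat_lit 55)], .w 3 451⟩)) (.node (.leaf ⟨(nat_lit 4722365638444715081728), [(nat_lit 48)], .w 5 175⟩) (.leaf ⟨(nat_lit 221378943283024101376), [(nat_lit 54), (nat_lit 66), (nat_lit 67)], .w 0 431⟩))) (.node (.node (.node (.leaf ⟨(nat_lit 2361471471810974318592), [(nat_lit 58)], .w 1 111⟩) (.leaf ⟨(nat_lit 1817005698635274387456), [(nat_lit 48), (nat_lit 50), (nat_lit 63)], .kill 39 65 [] 623⟩)) (.leaf ⟨(nat_lit 4722207354125169983488), [(nat_lit 40)], .kill 52 55 [] 367⟩))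 (.node (.leaf ⟨(nat_lit 513086098347065868288), [(nat_lit 55)], .br 60 239 271⟩) (.leaf ⟨(nat_lit 73805061062091866112), [(nat_lit 46), (nat_lit 54), (nat_lit 66)], .w 2 495⟩))))

def nodes15 : Tr (Node) :=
  .node (.node (.node (.node (.node (.leaf ⟨(nat_lit 4648579506574807007232), [], .br 66 31 51⟩) (.leaf ⟨(nat_lit 41541202962865455104), [(nat_lit 55), (nat_lit 62), (nat_lit 65)], .w 2 543⟩)) (.leaf ⟨(nat_lit 1840532221613681147904), [(nat_lit 50), (nat_lit 55)], .sq 55 57 69 1 287⟩)) (.node (.node (.leaf ⟨(nat_lit 4721827176814267596800), [(nat_lit 55)], .kill 56 66 [] 159⟩) (.leaf ⟨(nat_lit 184503469534114480128), [(nat_lit 55), (nat_lit 65), (nat_lit 67)], .rep 2⟩)) (.leaf ⟨(nat_lit 1162144947012445929472), [(nat_lit 46), (nat_lit 64)], .kill 36 65 [] 415⟩))) (.node (.node (.node (.leaf ⟨(nat_lit 4721213561365038366720), [(nat_lit 60)], .kill 46 63 [] 95⟩) (.leaf ⟨(nat_lit 1774355765739145658368), [(nat_lit 49), (nat_lit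 53), (nat_lit 61)], .sq 53 60 70 1 607⟩)) (.leaf ⟨(nat_lit 4722366481907572539392), [(nat_lit 37)], .w 5 355⟩)) (.node (.leaf ⟨(nat_lit 4400570250929559830528), [(nat_lit 45)], .kill 62 69 [] 223⟩) (.leaf ⟨(nat_lit 903890529980512206848), [(nat_lit 46), (nat_lit 64), (nat_lit 68)], .kill 37 69 [] 479⟩)))) (.node (.node (.node (.node (.leaf ⟨(nat_lit 221360928884514619392), [(nat_lit 66), (nat_lit 67)], .w 5 63⟩) (.leaf ⟨(nat_lit 1774355765739145658368), [(nat_lit 49), (nat_lit 61)], .br 53 575 606⟩)) (.leaf ⟨(nat_lit 4427291198234283737088), [(nat_lit 49), (nat_lit 56)], .kill 67 71 [] 530⟩)) (.node (.leaf ⟨(nat_lit 4722366377316528947200), [(nat_lit 45)], .sq 45 47 54 1 191⟩) (.leaf ⟨(nat_lit 1162207997407229116416), [(nat_lit 46), (nat_lit 53)], .kill 36 54 [] 447⟩))) (.node (.node (.node (.leaf ⟨(nat_lit 1189814992754266079232), [(nat_lit 63), (nat_lit 70)], .w 3 127⟩) (.leaf ⟨(nat_lit 3062162893935506096128), [(nat_lit 50),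 (nat_lit 51), (nat_lit 65), (nat_lit 66), (nat_lit 69)], .w 3 639⟩)) (.leaf ⟨(nat_lit 1162415162990088159232), [(nat_lit 46)], .br 54 383 442⟩)) (.node (.leaf ⟨(nat_lit 922346210884732321792), [(nat_lit 53), (nat_lit 65)], .w 4 255⟩) (.leaf ⟨(nat_lit 2988381547140202102784), [(nat_lit 53), (nat_lit 65), (nat_lit 69)], .kill 47 71 [] 511⟩))))

def nodes16 : Tr (Node) :=
  .node (.node (.node (.node (.node (.leaf ⟨(nat_lit 4722366482732206260224), [], .br 37 2 348⟩) (.leaf ⟨(nat_lit 221378943283024101376), [(nat_lit 54), (nat_lit 66), (nat_lit 67)], .w 0 514⟩)) (.leaf ⟨(nat_lit 73795983494092947456), [(nat_lit 53), (nat_lit 66)], .w 5 258⟩)) (.node (.node (.leaf ⟨(nat_lit 4722330454072626249728), [(nat_lit 55)], .sq 55 56 66 1 130⟩) (.leaf ⟨(nat_lit 1223263385516421152768), [(nat_lit 44), (nat_lit 52), (nat_lit 62)], .sq 44 47 53 1 642⟩)) (.leaf ⟨(nat_lit 1162289062200521785344), [(nat_lit 46)], .br 57 386 521⟩))) (.node (.node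 (.node (.leaf ⟨(nat_lit 4715448953842004131840), [(nat_lit 61)], .w 4 66⟩) (.leaf ⟨(nat_lit 1182898026676578418688), [(nat_lit 49), (nat_lit 61)], .w 2 578⟩)) (.leaf ⟨(nat_lit 4722366481770133585920), [(nat_lit 40)], .sq 40 42 44 1 322⟩)) (.node (.leaf ⟨(nat_lit 4722366465277459169280), [(nat_lit 44)], .sq 44 46 51 1 194⟩) (.leaf ⟨(nat_lit 1162162961410955411456), [(nat_lit 46), (nat_lit 54)], .w 4 450⟩)))) (.node (.node (.node (.node (.leaf ⟨(nat_lit 4132070672510939561984), [], .br 69 34 42⟩) (.leaf ⟨(nat_lit 184503469534114480128), [(nat_lit 55), (nat_lit 65), (nat_lit 67)], .rep 2⟩)) (.leaf ⟨(nat_lit 3559978416244111966208), [(nat_lit 42), (nat_lit 53)], .w 3 290⟩)) (.node (.leaf ⟨(nat_lit 4055438547151510044672), [(nat_lit 55)], .kill 58 70 [] 162⟩) (.leaf ⟨(nat_lit 1069911226643898171392), [(nat_lit 46), (nat_lit 65)], .w 4 418⟩))) (.node (.node (.node (.leaf ⟨(nat_lit 4697578670520598003712), [(nat_lit 59)], .kill 49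 66 [] 98⟩) (.leaf ⟨(nat_lit 2315413158421856256), [(nat_lit 49), (nat_lit 53), (nat_lit 61)], .w 4 610⟩)) (.leaf ⟨(nat_lit 4722366482388608876544), [(nat_lit 36)], .w 4 354⟩)) (.node (.leaf ⟨(nat_lit 2629682256903489454080), [(nat_lit 45)], .w 5 226⟩) (.leaf ⟨(nat_lit 627189368874868932608), [(nat_lit 46), (nat_lit 65), (nat_lit 69)], .w 3 482⟩))))

def nodes17 : Tr (Node) :=
  .node (.node (.node (.node (.node (.leaf ⟨(nat_lit 4722357475670390472704), [], .br 53 18 133⟩) (.leaf ⟨(nat_lit 1291420703947371839488), [(nat_lit 52), (nat_lit 57)], .w 2 530⟩)) (.leaf ⟨(nat_lit 466969238162791989248), [(nat_lit 55), (nat_lit 60)], .w 5 274⟩)) (.node (.node (.leaf ⟨(nat_lit 4722361979270017843200), [(nat_lit 52)], .sq 52 56 63 1 152⟩) (.leaf ⟨(nat_lit 2411938809235288096768), [(nat_lit 53), (nat_lit 54), (nat_lit 62), (nat_lit 63), (nat_lit 65)], .w 2 658⟩)) (.leaf ⟨(nat_lit 1180591620717411303424), [(nat_lit 70)], .w 1 402⟩))) (.node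 (.node (.node (.leaf ⟨(nat_lit 1182897463726624997376), [(nat_lit 61), (nat_lit 70)], .w 4 82⟩) (.leaf ⟨(nat_lit 608760568830924685312), [(nat_lit 54), (nat_lit 64), (nat_lit 69)], .w 2 594⟩)) (.leaf ⟨(nat_lit 4722206376934210797568), [(nat_lit 39)], .kill 52 54 [] 338⟩)) (.node (.leaf ⟨(nat_lit 4722289393910398582784), [(nat_lit 45)], .kill 47 54 [] 210⟩) (.leaf ⟨(nat_lit 73791479894465576960), [(nat_lit 52), (nat_lit 66)], .w 3 466⟩)))) (.node (.node (.node (.node (.leaf ⟨(nat_lit 4685472994722226110464), [(nat_lit 65)], .kill 37 66 [] 50⟩) (.leaf ⟨(nat_lit 3709030143385283854336), [(nat_lit 37), (nat_lit 49)], .w 1 562⟩)) (.leaf ⟨(nat_lit 2629250474289215307776), [(nat_lit 45), (nat_lit 49)], .sq 49 59 66 1 306⟩)) (.node (.leaf ⟨(nat_lit 4722217301131988566016), [(nat_lit 49)], .kill 43 54 [] 178⟩) (.leaf ⟨(nat_lit 313595212203015798784), [(nat_lit 49), (nat_lit 64), (nat_lit 68)], .w 4 434⟩))) (.node (.node (.node (.leaf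 ⟨(nat_lit 4574864587874006728704), [(nat_lit 56), (nat_lit 67)], .kill 36 68 [] 114⟩) (.leaf ⟨(nat_lit 627190705881008308224), [(nat_lit 48), (nat_lit 50), (nat_lit 65)], .br 69 626 637⟩)) (.leaf ⟨(nat_lit 4719289021566633902080), [(nat_lit 40)], .kill 61 64 [] 370⟩)) (.node (.leaf ⟨(nat_lit 839344869752294080512), [(nat_lit 54)], .br 63 242 265⟩) (.leaf ⟨(nat_lit 1180596405792015384576), [(nat_lit 48), (nat_lit 52), (nat_lit 70)], .w 0 498⟩))))

def nodes18 : Tr (Node) :=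
  .node (.node (.node (.node (.node (.leaf ⟨(nat_lit 4722366447685273124864), [], .br 45 10 189⟩) (.leaf ⟨(nat_lit 1162289062200521785344), [(nat_lit 46), (nat_lit 57)], .kill 53 67 [] 522⟩)) (.leaf ⟨(nat_lit 839344869752294080512), [(nat_lit 54), (nat_lit 63)], .kill 40 66 [] 266⟩)) (.node (.node (.leaf ⟨(nat_lit 4722132295689021947904), [(nat_lit 54)], .kill 37 55 [] 138⟩) (.leaf ⟨(nat_lit 4625196817309499392), [(nat_lit 52), (nat_lit 53), (nat_lit 62)], .w 5 650⟩)) (.leaf ⟨(nat_lit 1770887994026070376448), [(nat_lit 49)], .br 69 394 407⟩))) (.node (.node (.node (.leaf ⟨(nat_lit 3878427941497433227264), [(nat_lit 62)], .w 4 74⟩) (.leaf ⟨(nat_lit 368934881474191032320), [(nat_lit 66), (nat_lit 68)], .rep 1⟩)) (.leaf ⟨(nat_lit 4722366405903831269376), [(nat_lit 41)], .kill 42 45 [] 330⟩)) (.node (.leaf ⟨(nat_lit 4722294416479514263552), [(nat_lit 43)], .sq 43 46 50 1 202⟩) (.leaf ⟨(nat_lit 903890529980512206848), [(nat_lit 46),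 (nat_lit 64)], .br 68 458 478⟩)))) (.node (.node (.node (.node (.leaf ⟨(nat_lit 3836922767331586736128), [(nat_lit 68)], .w 4 42⟩) (.leaf ⟨(nat_lit 1967556550644729905152), [(nat_lit 38), (nat_lit 48)], .sq 38 50 52 1 554⟩)) (.leaf ⟨(nat_lit 1003631680559142404096), [(nat_lit 52), (nat_lit 53)], .w 3 298⟩)) (.node (.leaf ⟨(nat_lit 4722366412500901036032), [(nat_lit 46)], .kill 39 47 [] 170⟩) (.leaf ⟨(nat_lit 221378943283024101376), [(nat_lit 54), (nat_lit 67)], .br 66 426 430⟩))) (.node (.node (.node (.leaf ⟨(nat_lit 4427290635284330315776), [(nat_lit 56)], .br 68 106 115⟩) (.leaf ⟨(nat_lit 184503469534114480128), [(nat_lit 55), (nat_lit 65), (nat_lit 67)], .rep 2⟩)) (.leaf ⟨(nat_lit 4722366387487011504128), [(nat_lit 40)], .sq 40 57 59 1 362⟩)) (.node (.leaf ⟨(nat_lit 1840496192816662183936), [(nat_lit 50)], .w 4 234⟩) (.leaf ⟨(nat_lit 996133257548314705920), [(nat_lit 46), (nat_lit 53), (nat_lit 65)], .kill 37 66 [] 490⟩))))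

def nodes19 : Tr (Node) :=
  .node (.node (.node (.node (.node (.leaf ⟨(nat_lit 4720060639860431519744), [], .br 61 26 64⟩) (.leaf ⟨(nat_lit 1217633727652533633024), [(nat_lit 52), (nat_lit 57), (nat_lit 65)], .w 4 538⟩)) (.leaf ⟨(nat_lit 336689108142218280960), [(nat_lit 55), (nat_lit 62), (nat_lit 65)], .kill 42 68 [] 282⟩)) (.node (.node (.leaf ⟨(nat_lit 4722271907277470433280), [(nat_lit 52)], .sq 52 58 68 1 154⟩) (.leaf ⟨(nat_lit 2988373665840854204416), [(nat_lit 50), (nat_lit 65), (nat_lit 69)], .w 4 666⟩)) (.leaf ⟨(nat_lit 73791479894465576960), [(nat_lit 52), (nat_lit 66)], .w 3 410⟩))) (.node (.node (.node (.leaf ⟨(nat_lit 4721934137305417646080), [(nat_lit 57)], .w 3 90⟩) (.leaf ⟨(nat_lit 314783599554688188416), [(nat_lit 55), (nat_lit 60), (nat_lit 64)], .w 1 602⟩)) (.leaf ⟨(nat_lit 4699711277776274194432), [(nat_lit 47)], .kill 60 65 [] 346⟩)) (.node (.leaf ⟨(nat_lit 4666801145433938722816), [(nat_lit 42)], .w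 3 218⟩) (.leaf ⟨(nat_lit 1189817244554079764480), [(nat_lit 51), (nat_lit 63), (nat_lit 70)], .w 3 474⟩)))) (.node (.node (.node (.node (.leaf ⟨(nat_lit 590295810358705651712), [(nat_lit 69)], .w 3 58⟩) (.leaf ⟨(nat_lit 1481514830568424996864), [(nat_lit 49), (nat_lit 62)], .w 2 570⟩)) (.leaf ⟨(nat_lit 3039416338117564563456), [(nat_lit 53), (nat_lit 58)], .kill 36 54 [] 314⟩)) (.node (.leaf ⟨(nat_lit 4718034090396858974208), [(nat_lit 46)], .kill 59 62 [] 186⟩) (.leaf ⟨(nat_lit 1162325090997540749312), [(nat_lit 46), (nat_lit 55)], .sq 55 57 69 1 450⟩))) (.node (.node (.node (.leaf ⟨(nat_lit 1180735735905487159296), [(nat_lit 57), (nat_lit 70)], .w 1 122⟩) (.leaf ⟨(nat_lit 1185207810335466061824), [(nat_lit 52), (nat_lit 62), (nat_lit 70)], .w 3 634⟩)) (.leaf ⟨(nat_lit 1711338737835326832640), [(nat_lit 47)], .br 40 378 546⟩)) (.node (.leaf ⟨(nat_lit 313594649253062377472), [(nat_lit 64), (nat_lit 68)], .w 4 250⟩) (.leaf ⟨(nat_lit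 2739351628045029998592), [(nat_lit 50), (nat_lit 53), (nat_lit 63), (nat_lit 66), (nat_lit 68)], .w 4 506⟩))))

def nodes20 : Tr (Node) :=
  .node (.node (.node (.node (.node (.leaf ⟨(nat_lit 4722366480670621958144), [], .br 41 6 319⟩) (.leaf ⟨(nat_lit 1162208001805275627520), [(nat_lit 42), (nat_lit 46)], .w 0 518⟩)) (.leaf ⟨(nat_lit 368934881474191032320), [(nat_lit 66), (nat_lit 68)], .rep 1⟩)) (.node (.node (.leaf ⟨(nat_lit 4722357475670390472704), [(nat_lit 53)], .sq 53 56 64 1 134⟩) (.leaf ⟨(nat_lit 2407885604755026739200), [(nat_lit 45), (nat_lit 53), (nat_lit 59)], .w 1 646⟩)) (.leaf ⟨(nat_lit 1697100595518767104000), [(nat_lit 47)], .w 4 390⟩))) (.node (.node (.node (.leaf ⟨(nat_lit 4676249622685371334656), [(nat_lit 63)], .kill 40 66 [] 70⟩) (.leaf ⟨(nat_lit 313630678050081341440), [(nat_lit 55), (nat_lit 64)], .br 68 582 586⟩)) (.leaf ⟨(nat_lit 4722366407553098711040), [(nat_lit 39)], .kill 37 40 [] 326⟩)) (.node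 (.leaf ⟨(nat_lit 4722366403704808013824), [(nat_lit 43)], .sq 43 56 58 1 202⟩) (.leaf ⟨(nat_lit 830121568084183482368), [(nat_lit 46), (nat_lit 54)], .w 5 454⟩)))) (.node (.node (.node (.node (.leaf ⟨(nat_lit 2361183241434822606848), [(nat_lit 71)], .rep 0⟩) (.leaf ⟨(nat_lit 1162424174862267318272), [(nat_lit 38), (nat_lit 46)], .sq 38 53 55 1 550⟩)) (.leaf ⟨(nat_lit 1840496228001034272768), [(nat_lit 45), (nat_lit 50)], .w 4 294⟩)) (.node (.leaf ⟨(nat_lit 513087224246972710912), [(nat_lit 50), (nat_lit 55)], .w 4 166⟩) (.leaf ⟨(nat_lit 2084482643279132753920), [(nat_lit 49), (nat_lit 64)], .kill 45 70 [] 422⟩))) (.node (.node (.node (.leaf ⟨(nat_lit 4556489901394335105024), [(nat_lit 57)], .w 2 102⟩) (.leaf ⟨(nat_lit 36906998946301214720), [(nat_lit 52), (nat_lit 53), (nat_lit 65)], .w 4 614⟩)) (.leaf ⟨(nat_lit 4722366471049895215104), [(nat_lit 38)], .w 3 358⟩)) (.node (.leaf ⟨(nat_lit 3559987423443366707200), [(nat_lit 42)],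 .w 3 230⟩) (.leaf ⟨(nat_lit 627198305705379495936), [(nat_lit 53), (nat_lit 65), (nat_lit 69)], .w 0 486⟩))))

def nodes21 : Tr (Node) :=
  .node (.node (.node (.node (.node (.leaf ⟨(nat_lit 4722222367681569357824), [], .br 57 22 88⟩) (.leaf ⟨(nat_lit 664389031428205051904), [(nat_lit 54), (nat_lit 58)], .w 1 534⟩)) (.leaf ⟨(nat_lit 336689108142218280960), [(nat_lit 55), (nat_lit 62)], .br 65 580 281⟩)) (.node (.node (.leaf ⟨(nat_lit 4722291047575886757888), [(nat_lit 50)], .w 4 150⟩) (.leaf ⟨(nat_lit 3580976445108680392704), [(nat_lit 51), (nat_lit 61), (nat_lit 70)], .w 4 662⟩)) (.leaf ⟨(nat_lit 2066035899205423202304), [(nat_lit 49), (nat_lit 68)], .kill 37 69 [] 406⟩))) (.node (.node (.node (.leaf ⟨(nat_lit 368934881474191032320), [(nat_lit 66), (nat_lit 68)], .rep 1⟩) (.leaf ⟨(nat_lit 1184050948181185265664), [(nat_lit 49), (nat_lit 60), (nat_lit 61)], .w 2 598⟩)) (.leaf ⟨(nat_lit 4708065074104267440128), [(nat_lit 39)],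 .w 1 342⟩)) (.node (.leaf ⟨(nat_lit 4721669849894472384512), [(nat_lit 44)], .w 4 214⟩) (.leaf ⟨(nat_lit 368934881474191032320), [(nat_lit 66), (nat_lit 68)], .rep 1⟩)))) (.node (.node (.node (.node (.leaf ⟨(nat_lit 2877692075498690052096), [(nat_lit 66)], .kill 50 71 [] 54⟩) (.leaf ⟨(nat_lit 3274590108325410504704), [(nat_lit 41), (nat_lit 44)], .sq 44 63 69 1 566⟩)) (.leaf ⟨(nat_lit 2535332935425612316672), [(nat_lit 52), (nat_lit 60)], .kill 39 54 [] 310⟩)) (.node (.leaf ⟨(nat_lit 4721886005084400123904), [(nat_lit 48)], .sq 48 60 66 1 182⟩) (.leaf ⟨(nat_lit 184503469534114480128), [(nat_lit 55), (nat_lit 65), (nat_lit 67)], .rep 2⟩))) (.node (.node (.node (.leaf ⟨(nat_lit 4132142730104977489920), [(nat_lit 56), (nat_lit 69)], .kill 39 70 [] 118⟩) (.leaf ⟨(nat_lit 590297499208565915648), [(nat_lit 49), (nat_lit 50), (nat_lit 69)], .w 3 630⟩)) (.leaf ⟨(nat_lit 4623887697808661151744), [(nat_lit 48)], .sq 48 68 71 1 374⟩))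 (.node (.leaf ⟨(nat_lit 885452722737313218560), [(nat_lit 53)], .w 0 246⟩) (.leaf ⟨(nat_lit 608760568830924685312), [(nat_lit 54), (nat_lit 64), (nat_lit 69)], .w 2 502⟩))))

def nodes22 : Tr (Node) :=
  .node (.node (.node (.node (.node (.leaf ⟨(nat_lit 4722365919919691792384), [], .br 49 14 175⟩) (.leaf ⟨(nat_lit 1697172653112805031936), [(nat_lit 47), (nat_lit 56)], .w 2 526⟩)) (.leaf ⟨(nat_lit 513662559099369291776), [(nat_lit 55), (nat_lit 59)], .kill 36 60 [] 270⟩)) (.node (.node (.leaf ⟨(nat_lit 4719520207905147060224), [(nat_lit 55)], .kill 56 66 [] 142⟩) (.leaf ⟨(nat_lit 27706144907583291392), [(nat_lit 55), (nat_lit 63), (nat_lit 64)], .w 2 654⟩)) (.leaf ⟨(nat_lit 627189298506124754944), [(nat_lit 65)], .br 69 398 403⟩))) (.node (.node (.node (.leaf ⟨(nat_lit 1846980250380168855552), [(nat_lit 61), (nat_lit 66)], .kill 42 69 [] 78⟩) (.leaf ⟨(nat_lit 592602216317872766976), [(nat_lit 49), (nat_lit 61), (nat_lit 69)],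 .w 3 590⟩)) (.leaf ⟨(nat_lit 4722221990549081030656), [(nat_lit 40)], .w 4 334⟩)) (.node (.leaf ⟨(nat_lit 4722294196577188708352), [(nat_lit 44)], .kill 36 45 [] 206⟩) (.leaf ⟨(nat_lit 295147975548097003520), [(nat_lit 46), (nat_lit 68)], .w 3 462⟩)))) (.node (.node (.node (.node (.leaf ⟨(nat_lit 1180591620717411303424), [(nat_lit 70)], .w 1 46⟩) (.leaf ⟨(nat_lit 1967537410071435673600), [(nat_lit 41), (nat_lit 48)], .sq 41 61 65 1 558⟩)) (.leaf ⟨(nat_lit 1249804065690747928576), [(nat_lit 50), (nat_lit 55)], .w 2 302⟩)) (.node (.leaf ⟨(nat_lit 4722366201394668503040), [(nat_lit 48)], .kill 36 49 [] 174⟩) (.leaf ⟨(nat_lit 368934881474191032320), [(nat_lit 66), (nat_lit 68)], .rep 1⟩))) (.node (.node (.node (.leaf ⟨(nat_lit 2361327356622898462720), [(nat_lit 57)], .w 3 110⟩) (.leaf ⟨(nat_lit 1793947550018114158592), [(nat_lit 49), (nat_lit 50), (nat_lit 62)], .w 5 622⟩)) (.leaf ⟨(nat_lit 4722211857724797353984), [(nat_lit 40)],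 .sq 40 52 55 1 366⟩)) (.node (.leaf ⟨(nat_lit 513662559099369291776), [(nat_lit 55)], .br 59 238 269⟩) (.leaf ⟨(nat_lit 73796053862837125120), [(nat_lit 46), (nat_lit 53), (nat_lit 66)], .w 5 494⟩))))

def nodes23 : Tr (Node) :=
  .node (.node (.node (.node (.node (.leaf ⟨(nat_lit 4685472994722226110464), [], .br 65 30 49⟩) (.leaf ⟨(nat_lit 76110833702561382400), [(nat_lit 54), (nat_lit 61), (nat_lit 66)], .w 4 542⟩)) (.leaf ⟨(nat_lit 184503469534114480128), [(nat_lit 55), (nat_lit 65), (nat_lit 67)], .rep 2⟩)) (.node (.node (.leaf ⟨(nat_lit 4721522057939513245696), [(nat_lit 54)], .w 4 158⟩) (.leaf ⟨(nat_lit 221378943283024101376), [(nat_lit 54), (nat_lit 66), (nat_lit 67)], .w 0 670⟩)) (.leaf ⟨(nat_lit 368934881474191032320), [(nat_lit 66), (nat_lit 68)], .rep 1⟩))) (.node (.node (.node (.leaf ⟨(nat_lit 4720637100612734943232), [(nat_lit 59)], .w 5 94⟩) (.leaf ⟨(nat_lit 184503469534114480128), [(nat_lit 55), (nat_lit 65),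 (nat_lit 67)], .rep 2⟩)) (.leaf ⟨(nat_lit 4722366482182450446336), [(nat_lit 37)], .kill 36 38 [] 350⟩)) (.node (.leaf ⟨(nat_lit 4695718156108912656384), [(nat_lit 45)], .kill 61 68 [] 222⟩) (.leaf ⟨(nat_lit 184503469534114480128), [(nat_lit 55), (nat_lit 65), (nat_lit 67)], .rep 2⟩)))) (.node (.node (.node (.node (.leaf ⟨(nat_lit 516508834063867445248), [(nat_lit 66), (nat_lit 67)], .kill 36 68 [] 62⟩) (.leaf ⟨(nat_lit 1774358017538959343616), [(nat_lit 49), (nat_lit 61)], .br 51 574 619⟩)) (.leaf ⟨(nat_lit 4574865150823960150016), [(nat_lit 49), (nat_lit 56)], .sq 49 67 71 1 318⟩)) (.node (.leaf ⟨(nat_lit 4722366447685273124864), [(nat_lit 45)], .sq 45 46 52 1 190⟩) (.leaf ⟨(nat_lit 1162352112595304972288), [(nat_lit 46), (nat_lit 53)], .sq 53 57 67 1 446⟩))) (.node (.node (.node (.leaf ⟨(nat_lit 2362336162939429453824), [(nat_lit 60), (nat_lit 71)], .w 1 126⟩) (.leaf ⟨(nat_lit 627190705881008308224), [(nat_lit 48), (nat_lit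 50), (nat_lit 65), (nat_lit 69)], .dbl 11 29 48 47 [(nat_lit 47), (nat_lit 51), (nat_lit 71)] [(nat_lit 66)] 638⟩)) (.leaf ⟨(nat_lit 1162424170189342900224), [(nat_lit 46)], .br 53 382 444⟩)) (.node (.leaf ⟨(nat_lit 996133187179570528256), [(nat_lit 53), (nat_lit 65)], .kill 37 66 [] 254⟩) (.leaf ⟨(nat_lit 2997604919177056878592), [(nat_lit 53), (nat_lit 65), (nat_lit 69)], .sq 53 63 71 1 510⟩))))

def nodes24 : Tr (Node) :=
  .node (.node (.node (.node (.node (.leaf ⟨(nat_lit 4722366482319889399808), [], .br 39 4 323⟩) (.leaf ⟨(nat_lit 1162424174587389411328), [(nat_lit 42), (nat_lit 46)], .sq 42 56 57 1 516⟩)) (.leaf ⟨(nat_lit 36929516944438067200), [(nat_lit 55), (nat_lit 65)], .w 2 260⟩)) (.node (.node (.leaf ⟨(nat_lit 4722348468471135731712), [(nat_lit 54)], .sq 54 56 65 1 132⟩) (.leaf ⟨(nat_lit 2407887856554840424448), [(nat_lit 45), (nat_lit 51), (nat_lit 59)], .kill 39 53 [] 644⟩)) (.leaf ⟨(nat_lit 1143698202938736377856),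 [(nat_lit 46)], .br 65 388 416⟩))) (.node (.node (.node (.leaf ⟨(nat_lit 4708531424814363049984), [(nat_lit 62)], .w 5 68⟩) (.leaf ⟨(nat_lit 592619667766428827648), [(nat_lit 54), (nat_lit 61)], .w 4 580⟩)) (.leaf ⟨(nat_lit 4722366482319889399808), [(nat_lit 39)], .sq 39 42 43 1 324⟩)) (.node (.leaf ⟨(nat_lit 4722366254171226636288), [(nat_lit 44)], .sq 44 56 59 1 205⟩) (.leaf ⟨(nat_lit 1088393999514626686976), [(nat_lit 46), (nat_lit 55)], .kill 57 69 [] 452⟩)))) (.node (.node (.node (.node (.leaf ⟨(nat_lit 2361183241434822606848), [], .br 71 36 37⟩) (.leaf ⟨(nat_lit 1711338735636303577088), [(nat_lit 40), (nat_lit 47)], .w 3 548⟩)) (.leaf ⟨(nat_lit 1840532239205867192320), [(nat_lit 44), (nat_lit 50)], .w 5 292⟩)) (.node (.leaf ⟨(nat_lit 513663684999276134400), [(nat_lit 55)], .br 50 237 164⟩) (.leaf ⟨(nat_lit 1697100595518767104000), [(nat_lit 47), (nat_lit 66)], .w 4 420⟩))) (.node (.node (.node (.leaf ⟨(nat_lit 4662702795006240882688),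 [(nat_lit 58)], .w 3 100⟩) (.leaf ⟨(nat_lit 9241667910340968448), [(nat_lit 48), (nat_lit 54), (nat_lit 63)], .w 2 612⟩)) (.leaf ⟨(nat_lit 4722366482045011492864), [(nat_lit 38)], .kill 39 41 [] 356⟩)) (.node (.leaf ⟨(nat_lit 3011041417461409775616), [(nat_lit 43)], .w 3 228⟩) (.leaf ⟨(nat_lit 1189815274229242789888), [(nat_lit 48), (nat_lit 63), (nat_lit 70)], .w 2 484⟩))))

def nodes25 : Tr (Node) :=
  .node (.node (.node (.node (.node (.leaf ⟨(nat_lit 4722330454072626249728), [], .br 55 20 129⟩) (.leaf ⟨(nat_lit 1770960051620108304384), [(nat_lit 49), (nat_lit 56)], .w 2 532⟩)) (.leaf ⟨(nat_lit 341877254912949092352), [(nat_lit 55), (nat_lit 59)], .br 63 276 278⟩)) (.node (.node (.leaf ⟨(nat_lit 4722365356969738371072), [(nat_lit 50)], .sq 50 56 61 1 148⟩) (.leaf ⟨(nat_lit 2963053302835870433280), [(nat_lit 53), (nat_lit 55), (nat_lit 61), (nat_lit 63), (nat_lit 69)], .w 3 660⟩)) (.leaf ⟨(nat_lit 627189298506124754944), [(nat_lit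 65), (nat_lit 69)], .w 2 404⟩))) (.node (.node (.node (.leaf ⟨(nat_lit 1189814992754266079232), [(nat_lit 63), (nat_lit 70)], .w 3 84⟩) (.leaf ⟨(nat_lit 184503469534114480128), [(nat_lit 55), (nat_lit 65), (nat_lit 67)], .rep 2⟩)) (.leaf ⟨(nat_lit 4721900132159549603840), [(nat_lit 39)], .sq 39 62 64 1 340⟩)) (.node (.leaf ⟨(nat_lit 4722235350714870136832), [(nat_lit 45)], .kill 56 60 [] 212⟩) (.leaf ⟨(nat_lit 36929516944438067200), [(nat_lit 55), (nat_lit 65)], .w 2 468⟩)))) (.node (.node (.node (.node (.leaf ⟨(nat_lit 4648579506574807007232), [(nat_lit 66)], .kill 42 69 [] 52⟩) (.leaf ⟨(nat_lit 3717172651511569711104), [(nat_lit 37), (nat_lit 45)], .w 3 564⟩)) (.leaf ⟨(nat_lit 2535333498375565737984), [(nat_lit 49), (nat_lit 60)], .kill 42 52 [] 308⟩)) (.node (.leaf ⟨(nat_lit 4722210264257570799616), [(nat_lit 48)], .sq 48 58 64 1 180⟩) (.leaf ⟨(nat_lit 221365432484141989888), [(nat_lit 52), (nat_lit 66), (nat_lit 67)], .w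 3 436⟩))) (.node (.node (.node (.leaf ⟨(nat_lit 4427290635284330315776), [(nat_lit 56), (nat_lit 68)], .kill 37 69 [] 116⟩) (.leaf ⟨(nat_lit 73789368832140247040), [(nat_lit 47), (nat_lit 51), (nat_lit 66)], .w 5 628⟩)) (.leaf ⟨(nat_lit 4691618905456069574656), [(nat_lit 40)], .w 1 372⟩)) (.node (.leaf ⟨(nat_lit 996133187179570528256), [(nat_lit 53)], .br 65 244 253⟩) (.leaf ⟨(nat_lit 1189817244554079764480), [(nat_lit 51), (nat_lit 63), (nat_lit 70)], .w 3 500⟩))))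

def nodes26 : Tr (Node) :=
  .node (.node (.node (.node (.node (.leaf ⟨(nat_lit 4722366342132156858368), [], .br 47 12 171⟩) (.leaf ⟨(nat_lit 1143770260532774305792), [(nat_lit 46), (nat_lit 56)], .kill 54 65 [] 524⟩)) (.leaf ⟨(nat_lit 175262083098750222336), [(nat_lit 54), (nat_lit 63)], .w 4 268⟩)) (.node (.node (.leaf ⟨(nat_lit 4722114281290512465920), [(nat_lit 55)], .sq 55 58 70 1 140⟩) (.leaf ⟨(nat_lit 36906998946301214720), [(nat_lit 52), (nat_lit 53), (nat_lit 65)], .w 4 652⟩)) (.leaf ⟨(nat_lit 1180596124317038673920), [(nat_lit 52)], .w 0 396⟩))) (.node (.node (.node (.leaf ⟨(nat_lit 1846980250380168855552), [(nat_lit 61)], .br 66 76 77⟩) (.leaf ⟨(nat_lit 184503469534114480128), [(nat_lit 55), (nat_lit 65), (nat_lit 67)], .rep 2⟩)) (.leaf ⟨(nat_lit 4722222255531383324672), [(nat_lit 41)], .kill 46 49 [] 332⟩)) (.node (.leaf ⟨(nat_lit 4722294328518584041472), [(nat_lit 43)], .w 4 204⟩) (.leaf ⟨(nat_lit 627189368874868932608),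 [(nat_lit 46), (nat_lit 65)], .br 69 460 470⟩)))) (.node (.node (.node (.node (.leaf ⟨(nat_lit 2951479051793528258560), [(nat_lit 69)], .w 3 44⟩) (.leaf ⟨(nat_lit 1967555422545799806976), [(nat_lit 38), (nat_lit 48)], .w 3 556⟩)) (.leaf ⟨(nat_lit 1579522727509703524352), [(nat_lit 51), (nat_lit 54)], .w 4 300⟩)) (.node (.leaf ⟨(nat_lit 4722366342132156858368), [(nat_lit 47)], .kill 37 48 [] 172⟩) (.leaf ⟨(nat_lit 147609981386695376896), [(nat_lit 55), (nat_lit 67)], .w 5 428⟩))) (.node (.node (.node (.leaf ⟨(nat_lit 3541846919746271838208), [(nat_lit 56)], .w 2 108⟩) (.leaf ⟨(nat_lit 1774358017538959343616), [(nat_lit 49), (nat_lit 51), (nat_lit 61)], .sq 51 60 69 1 620⟩)) (.leaf ⟨(nat_lit 4722221990823958937600), [(nat_lit 40)], .sq 40 50 53 1 364⟩)) (.node (.leaf ⟨(nat_lit 1003915407335666745344), [(nat_lit 53)], .w 5 236⟩) (.leaf ⟨(nat_lit 959239769400895602688), [(nat_lit 46), (nat_lit 53), (nat_lit 66)], .kill 42 69 []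 492⟩))))

def nodes27 : Tr (Node) :=
  .node (.node (.node (.node (.node (.leaf ⟨(nat_lit 4713143110832790437888), [], .br 63 28 68⟩) (.leaf ⟨(nat_lit 664389031428205051904), [(nat_lit 54), (nat_lit 58), (nat_lit 66)], .w 1 540⟩)) (.leaf ⟨(nat_lit 299795619994799177728), [(nat_lit 55), (nat_lit 62), (nat_lit 68)], .w 3 284⟩)) (.node (.node (.leaf ⟨(nat_lit 4722134547488835633152), [(nat_lit 54)], .kill 37 55 [] 156⟩) (.leaf ⟨(nat_lit 2730127130108268380160), [(nat_lit 53), (nat_lit 66), (nat_lit 68)], .kill 48 71 [] 668⟩)) (.leaf ⟨(nat_lit 36929516944438067200), [(nat_lit 55), (nat_lit 65)], .w 2 412⟩))) (.node (.node (.node (.leaf ⟨(nat_lit 4721501791741190078464), [(nat_lit 58)], .w 4 92⟩) (.leaf ⟨(nat_lit 27706144907583291392), [(nat_lit 55), (nat_lit 63), (nat_lit 64)], .w 2 604⟩)) (.leaf ⟨(nat_lit 4072521979270149439488), [(nat_lit 47)], .kill 69 71 [] 377⟩)) (.node (.leaf ⟨(nat_lit 4634355036685338673152), [(nat_lit 43)],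 .w 4 220⟩) (.leaf ⟨(nat_lit 608760568830924685312), [(nat_lit 54), (nat_lit 64), (nat_lit 69)], .w 2 476⟩)))) (.node (.node (.node (.node (.leaf ⟨(nat_lit 2361183241434822606848), [(nat_lit 71)], .rep 0⟩) (.leaf ⟨(nat_lit 1223263367924235108352), [(nat_lit 52), (nat_lit 62)], .w 2 572⟩)) (.leaf ⟨(nat_lit 3671048437656090312704), [(nat_lit 51), (nat_lit 57)], .w 2 316⟩)) (.node (.leaf ⟨(nat_lit 4704199032341576810496), [(nat_lit 46)], .sq 46 70 71 1 188⟩) (.leaf ⟨(nat_lit 1162343105396050231296), [(nat_lit 46), (nat_lit 54)], .sq 54 57 68 1 448⟩))) (.node (.node (.node (.leaf ⟨(nat_lit 2361471471810974318592), [(nat_lit 58), (nat_lit 71)], .w 4 124⟩) (.leaf ⟨(nat_lit 221378943283024101376), [(nat_lit 54), (nat_lit 66), (nat_lit 67)], .w 0 636⟩)) (.leaf ⟨(nat_lit 1162424174862267318272), [(nat_lit 46)], .br 38 380 549⟩)) (.node (.leaf ⟨(nat_lit 627189298506124754944), [(nat_lit 65), (nat_lit 69)], .w 2 252⟩) (.leaf ⟨(nat_lit 3587902981335576215552),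 [(nat_lit 51), (nat_lit 53), (nat_lit 63), (nat_lit 65), (nat_lit 70)], .kill 39 53 [] 508⟩))))

def nodes28 : Tr (Node) :=
  .node (.node (.node (.node (.node (.leaf ⟨(nat_lit 4722366474073552191488), [], .br 43 8 196⟩) (.leaf ⟨(nat_lit 1162343105396050231296), [(nat_lit 46), (nat_lit 57)], .sq 54 57 68 2 520⟩)) (.leaf ⟨(nat_lit 502709804805604245504), [(nat_lit 55), (nat_lit 62)], .w 5 264⟩)) (.node (.node (.leaf ⟨(nat_lit 4722141302888276688896), [(nat_lit 53)], .kill 36 54 [] 136⟩) (.leaf ⟨(nat_lit 1222110305682139906048), [(nat_lit 52), (nat_lit 53), (nat_lit 62)], .kill 60 70 [] 648⟩)) (.leaf ⟨(nat_lit 2084482643279132753920), [(nat_lit 49)], .br 64 392 421⟩))) (.node (.node (.node (.leaf ⟨(nat_lit 4307314741211180302336), [(nat_lit 63)], .w 5 72⟩) (.leaf ⟨(nat_lit 36929516944438067200), [(nat_lit 55), (nat_lit 65)], .w 2 584⟩)) (.leaf ⟨(nat_lit 4722366407003342897152), [(nat_lit 40)], .kill 36 41 [] 328⟩)) (.node (.leaf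 ⟨(nat_lit 4722294420877560774656), [(nat_lit 42)], .kill 39 43 [] 200⟩) (.leaf ⟨(nat_lit 959239769400895602688), [(nat_lit 46), (nat_lit 53)], .br 66 456 491⟩)))) (.node (.node (.node (.node (.leaf ⟨(nat_lit 4279644625100615974912), [(nat_lit 67)], .w 5 40⟩) (.leaf ⟨(nat_lit 1711336484936001519616), [(nat_lit 41), (nat_lit 47)], .w 4 556⟩)) (.leaf ⟨(nat_lit 1003915442520038834176), [(nat_lit 45), (nat_lit 53)], .w 1 296⟩)) (.node (.leaf ⟨(nat_lit 1446929999080475066368), [(nat_lit 52), (nat_lit 53)], .sq 53 60 70 1 168⟩) (.leaf ⟨(nat_lit 608743117382368624640), [(nat_lit 49), (nat_lit 64)], .w 2 424⟩))) (.node (.node (.node (.leaf ⟨(nat_lit 4648651564168844935168), [(nat_lit 56)], .kill 55 66 [] 104⟩) (.leaf ⟨(nat_lit 27706144907583291392), [(nat_lit 55), (nat_lit 63), (nat_lit 64)], .w 2 616⟩)) (.leaf ⟨(nat_lit 4722366406041270222848), [(nat_lit 41)], .kill 42 45 [] 360⟩)) (.node (.leaf ⟨(nat_lit 1840532256798053236736), [(nat_lit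 50)], .br 45 232 292⟩) (.leaf ⟨(nat_lit 221378943283024101376), [(nat_lit 54), (nat_lit 66), (nat_lit 67)], .w 0 488⟩))))

def nodes29 : Tr (Node) :=
  .node (.node (.node (.node (.node (.leaf ⟨(nat_lit 4721790022117341790208), [], .br 59 24 92⟩) (.leaf ⟨(nat_lit 2066107956799461130240), [(nat_lit 49), (nat_lit 56), (nat_lit 68)], .kill 37 69 [] 536⟩)) (.leaf ⟨(nat_lit 304983766765529989120), [(nat_lit 55), (nat_lit 59), (nat_lit 63)], .w 3 280⟩)) (.node (.node (.leaf ⟨(nat_lit 4722287669876166230016), [(nat_lit 51)], .w 5 152⟩) (.leaf ⟨(nat_lit 3043713898061982859264), [(nat_lit 50), (nat_lit 64), (nat_lit 69)], .w 5 664⟩)) (.leaf ⟨(nat_lit 1770887994026070376448), [(nat_lit 49), (nat_lit 69)], .kill 39 70 [] 408⟩))) (.node (.node (.node (.leaf ⟨(nat_lit 4722150310087531429888), [(nat_lit 56)], .w 2 88⟩) (.leaf ⟨(nat_lit 593772589271035674624), [(nat_lit 54), (nat_lit 60), (nat_lit 61)], .w 4 600⟩)) (.leaf ⟨(nat_lit 4718225194863615279104),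 [(nat_lit 50)], .kill 59 67 [] 344⟩)) (.node (.leaf ⟨(nat_lit 4722141377655067377664), [(nat_lit 42)], .sq 42 64 67 1 216⟩) (.leaf ⟨(nat_lit 1189815133491754434560), [(nat_lit 47), (nat_lit 63), (nat_lit 70)], .w 4 472⟩)))) (.node (.node (.node (.node (.leaf ⟨(nat_lit 368934881474191032320), [(nat_lit 66)], .br 68 56 60⟩) (.leaf ⟨(nat_lit 2086790774372043849728), [(nat_lit 49), (nat_lit 51)], .w 0 568⟩)) (.leaf ⟨(nat_lit 2535328431825984946176), [(nat_lit 54), (nat_lit 60)], .w 5 312⟩)) (.node (.leaf ⟨(nat_lit 4716121397561365889024), [(nat_lit 48)], .w 4 184⟩) (.leaf ⟨(nat_lit 1162217004606483857408), [(nat_lit 46), (nat_lit 56)], .w 2 521⟩))) (.node (.node (.node (.leaf ⟨(nat_lit 3541846919746271838208), [(nat_lit 56), (nat_lit 70)], .w 2 120⟩) (.leaf ⟨(nat_lit 1180594435467178409984), [(nat_lit 49), (nat_lit 51), (nat_lit 70)], .w 0 632⟩)) (.leaf ⟨(nat_lit 1967556551194485719040), [(nat_lit 48)], .br 38 376 552⟩)) (.node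 (.leaf ⟨(nat_lit 608742554432415203328), [(nat_lit 64)], .w 5 397⟩) (.leaf ⟨(nat_lit 184503469534114480128), [(nat_lit 55), (nat_lit 65), (nat_lit 67)], .rep 2⟩))))

def nodes30 : Tr (Node) :=
  .node (.node (.node (.node (.node (.leaf ⟨(nat_lit 4722364231069831528448), [], .br 51 16 146⟩) (.leaf ⟨(nat_lit 1568119613253201428480), [(nat_lit 51), (nat_lit 57)], .w 5 528⟩)) (.leaf ⟨(nat_lit 513086098347065868288), [(nat_lit 55), (nat_lit 60)], .kill 46 63 [] 272⟩)) (.node (.node (.leaf ⟨(nat_lit 4055437421251603202048), [(nat_lit 55)], .kill 58 70 [] 144⟩) (.leaf ⟨(nat_lit 184503469534114480128), [(nat_lit 55), (nat_lit 65), (nat_lit 67)], .rep 2⟩)) (.leaf ⟨(nat_lit 73786976294838206464), [(nat_lit 66)], .w 2 400⟩))) (.node (.node (.node (.leaf ⟨(nat_lit 1773193274085330649088), [(nat_lit 61), (nat_lit 69)], .kill 39 70 [] 80⟩) (.leaf ⟨(nat_lit 1185203869685792112640), [(nat_lit 49), (nat_lit 62), (nat_lit 70)], .w 2 592⟩)) (.leaf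 ⟨(nat_lit 4722219887733092909056), [(nat_lit 39)], .sq 39 52 54 1 336⟩)) (.node (.leaf ⟨(nat_lit 4722294178985002663936), [(nat_lit 45)], .sq 45 48 55 1 208⟩) (.leaf ⟨(nat_lit 590296091833682362368), [(nat_lit 48), (nat_lit 69)], .w 5 464⟩)))) (.node (.node (.node (.node (.leaf ⟨(nat_lit 4703919738795935662080), [(nat_lit 64)], .kill 36 65 [] 48⟩) (.leaf ⟨(nat_lit 3141786008681346760704), [(nat_lit 40), (nat_lit 49)], .kill 58 65 [] 560⟩)) (.leaf ⟨(nat_lit 2629682819853442875392), [(nat_lit 45), (nat_lit 49)], .sq 49 57 63 1 304⟩)) (.node (.leaf ⟨(nat_lit 4722365919919691792384), [(nat_lit 49)], .kill 42 52 [] 176⟩) (.leaf ⟨(nat_lit 184503469534114480128), [(nat_lit 55), (nat_lit 65), (nat_lit 67)], .rep 2⟩))) (.node (.node (.node (.leaf ⟨(nat_lit 1182897463726624997376), [(nat_lit 61)], .w 4 112⟩) (.leaf ⟨(nat_lit 1780112210487855284224), [(nat_lit 48), (nat_lit 50), (nat_lit 63)], .w 3 624⟩)) (.leaf ⟨(nat_lit 4722171325328151019520),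 [(nat_lit 40)], .kill 57 59 [] 368⟩)) (.node (.leaf ⟨(nat_lit 511933176842459021312), [(nat_lit 55)], .br 62 240 262⟩) (.leaf ⟨(nat_lit 590313895125959311360), [(nat_lit 46), (nat_lit 54), (nat_lit 69)], .w 3 496⟩))))

def nodes31 : Tr (Node) :=
  .node (.node (.node (.node (.node (.leaf ⟨(nat_lit 4574792530279968800768), [], .br 67 32 38⟩) (.leaf ⟨(nat_lit 299795619994799177728), [(nat_lit 55), (nat_lit 62), (nat_lit 68)], .w 3 544⟩)) (.leaf ⟨(nat_lit 1840388106425605292032), [(nat_lit 50), (nat_lit 55)], .sq 55 58 70 1 300⟩)) (.node (.leaf ⟨(nat_lit 4648040200519429390336), [(nat_lit 55)], .sq 55 61 71 1 160⟩) (.leaf ⟨(nat_lit 1125251458865026826240), [(nat_lit 46), (nat_lit 64)], .w 5 416⟩))) (.node (.node (.node (.leaf ⟨(nat_lit 4711990189328183590912), [(nat_lit 60)], .kill 47 65 [] 96⟩) (.leaf ⟨(nat_lit 1773202844234538811392), [(nat_lit 49), (nat_lit 53), (nat_lit 61)], .kill 60 70 [] 608⟩)) (.leaf ⟨(nat_lit 4722366482800925736960),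 [(nat_lit 36)], .sq 36 37 38 1 352⟩)) (.node (.leaf ⟨(nat_lit 3810274440570854178816), [(nat_lit 45)], .kill 64 70 [] 224⟩) (.leaf ⟨(nat_lit 313594719621806555136), [(nat_lit 46), (nat_lit 64), (nat_lit 68)], .w 4 480⟩)))) (.node (.node (.node (.node (.leaf ⟨(nat_lit 368934881474191032320), [(nat_lit 66), (nat_lit 68)], .rep 1⟩) (.leaf ⟨(nat_lit 1774346758539890917376), [(nat_lit 49), (nat_lit 61)], .br 60 576 596⟩)) (.leaf ⟨(nat_lit 4722366480670621958144), [(nat_lit 41)], .sq 41 42 45 1 320⟩)) (.node (.leaf ⟨(nat_lit 4722366236579040591872), [(nat_lit 45)], .sq 45 48 55 1 192⟩) (.leaf ⟨(nat_lit 1162189983008719634432), [(nat_lit 46), (nat_lit 53)], .w 5 448⟩))) (.node (.node (.node (.leaf ⟨(nat_lit 627189298506124754944), [(nat_lit 65), (nat_lit 69)], .w 2 128⟩) (.leaf ⟨(nat_lit 3624795343583088476160), [(nat_lit 50), (nat_lit 53), (nat_lit 63), (nat_lit 66), (nat_lit 70)], .kill 40 53 [] 640⟩)) (.leaf ⟨(nat_lit 1162397148591578677248),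 [(nat_lit 46)], .br 55 384 440⟩)) (.node (.leaf ⟨(nat_lit 959239699032151425024), [(nat_lit 53), (nat_lit 66)], .kill 42 69 [] 256⟩) (.leaf ⟨(nat_lit 627198305705379495936), [(nat_lit 53), (nat_lit 65), (nat_lit 69)], .w 0 512⟩))))

def nodes : Tr (Node) :=
  (.node (.node (.node (.node (.node nodes0 nodes1) (.node nodes2 nodes3)) (.node (.node nodes4 nodes5) (.node nodes6 nodes7))) (.node (.node (.node nodes8 nodes9) (.node nodes10 nodes11)) (.node (.node nodes12 nodes13) (.node nodes14 nodes15)))) (.node (.node (.node (.node nodes16 nodes17) (.node nodes18 nodes19)) (.node (.node nodes20 nodes21) (.node nodes22 nodes23))) (.node (.node (.node nodes24 nodes25) (.node nodes26 nodes27)) (.node (.node nodes28 nodes29) (.node nodes30 nodes31)))))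

/-- The root sets of the classes. -/
def reps : List (List ℕ) := [[(nat_lit 71)], [(nat_lit 68), (nat_lit 66)], [(nat_lit 55), (nat_lit 65), (nat_lit 67)]]

theorem node_ok0 : ((List.range' 0 300).all fun p => force p fun p => okNode chevE6 tab reps nodes 671 p) = true := by decide +kernel

theorem node_ok300 : ((List.range' 300 300).all fun p => force p fun p => okNode chevE6 tab reps nodes 671 p) = true := by decide +kernel

theorem node_ok600 : ((List.range' 600 71).all fun p => force p fun p => okNode chevE6 tab reps nodes 671 p) = true := by decide +kernel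

theorem root_ok : rootOk chevE6 tab nodes = true := by decide +kernel

theorem node_ok : ∀ i, i < 671 → okNode chevE6 tab reps nodes 671 i = true := fun i hi =>
  chunkF (P := fun p => okNode chevE6 tab reps nodes 671 p) node_ok0 (chunkF (P := fun p => okNode chevE6 tab reps nodes 671 p) node_ok300 (chunkF (P := fun p => okNode chevE6 tab reps nodes 671 p) node_ok600 (chunk_end (n := 671) (lo := 671) le_rfl))) i (Nat.zero_le i) hi

end Cfsg.Agent.Small.C2Inv.Cert.E6
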