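import Cfsg.Agent.Lib.Small.Char2Invol.Rep
import Cfsg.Agent.Lib.Small.Char2Invol.Data.CertE6

/-!
Rank certificates for the representatives of type E6.
-/

set_option autoImplicit false

namespace Cfsg.Agent.Small.C2Inv.Cert.E6

open Cfsg.Lie Cfsg.Agent.Small.C2Inv.Cert

/-- Columns of class 0. -/
def cols0 : Tr ℕ :=
  (.node (.node (.node (.node (.node (.node (.node (.leaf (nat_lit 0)) (.leaf (nat_lit 0))) (.leaf (nat_lit 0))) (.node (.leaf (nat_lit 2305843009213693952)) (.leaf (nat_lit 0)))) (.node (.node (.node (.leaf (nat_lit 9007199254740992)) (.leaf (nat_lit 0))) (.leaf (nat_lit 0))) (.node (.leaf (nat_lit 590295810358705651712)) (.leaf (nat_lit 0))))) (.node (.node (.node (.node (.leaf (nat_lit 0)) (.leaf (nat_lit 0))) (.leaf (nat_lit 0))) (.node (.leaf (nat_lit 0)) (.leaf (nat_lit 0)))) (.node (.node (.node (.leaf (nat_lit 144115188075855872)) (.leaf (nat_lit 0))) (.leaf (nat_lit 0))) (.node (.leaf (nat_lit 9444732965739290427392)) (.leaf (nat_lit 0)))))) (.node (.node (.node (.node (.node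 (.leaf (nat_lit 0)) (.leaf (nat_lit 0))) (.leaf (nat_lit 0))) (.node (.leaf (nat_lit 0)) (.leaf (nat_lit 0)))) (.node (.node (.node (.leaf (nat_lit 36028797018963968)) (.leaf (nat_lit 0))) (.leaf (nat_lit 0))) (.node (.leaf (nat_lit 2361183241434822606848)) (.leaf (nat_lit 0))))) (.node (.node (.node (.node (.leaf (nat_lit 151115727451828646838313)) (.leaf (nat_lit 0))) (.leaf (nat_lit 0))) (.node (.leaf (nat_lit 147573952589676412928)) (.leaf (nat_lit 0)))) (.node (.node (.leaf (nat_lit 576460752303423488)) (.leaf (nat_lit 0))) (.node (.leaf (nat_lit 37778931862957161709568)) (.leaf (nat_lit 0))))))) (.node (.node (.node (.node (.node (.node (.leaf (nat_lit 151115727451828646838272)) (.leaf (nat_lit 0))) (.leaf (nat_lit 0))) (.node (.leaf (nat_lit 0)) (.leaf (nat_lit 0)))) (.node (.node (.node (.leaf (nat_lit 18014398509481984)) (.leaf (nat_lit 0))) (.leaf (nat_lit 0))) (.node (.leaf (nat_lit 1180591620717411303424)) (.leaf (nat_lit 0))))) (.node (.node (.node (.node (.leaf (nat_lit 0)) (.leaf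 (nat_lit 0))) (.leaf (nat_lit 0))) (.node (.leaf (nat_lit 0)) (.leaf (nat_lit 0)))) (.node (.node (.node (.leaf (nat_lit 288230376151711744)) (.leaf (nat_lit 0))) (.leaf (nat_lit 0))) (.node (.leaf (nat_lit 18889465931478580854784)) (.leaf (nat_lit 0)))))) (.node (.node (.node (.node (.node (.leaf (nat_lit 0)) (.leaf (nat_lit 0))) (.leaf (nat_lit 0))) (.node (.leaf (nat_lit 0)) (.leaf (nat_lit 0)))) (.node (.node (.node (.leaf (nat_lit 72057594037927936)) (.leaf (nat_lit 0))) (.leaf (nat_lit 0))) (.node (.leaf (nat_lit 4722366482869645213696)) (.leaf (nat_lit 0))))) (.node (.node (.node (.node (.leaf (nat_lit 4503599627370496)) (.leaf (nat_lit 0))) (.leaf (nat_lit 0))) (.node (.leaf (nat_lit 295147905179352825856)) (.leaf (nat_lit 0)))) (.node (.node (.leaf (nat_lit 1152921504606846976)) (.leaf (nat_lit 0))) (.node (.leaf (nat_lit 75557863725914323419136)) (.leaf (nat_lit 0))))))))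

/-- Odd entries of class 0. -/
def el0 : List EntTable :=
  [[((nat_lit 16322), [((nat_lit 77), (nat_lit 1)), ((nat_lit 0), (nat_lit 6)), ((nat_lit 3), (nat_lit 6)), ((nat_lit 5), (nat_lit 6)), ((nat_lit 77), (nat_lit 6)), ((nat_lit 52), (nat_lit 7)), ((nat_lit 53), (nat_lit 8)), ((nat_lit 54), (nat_lit 9)), ((nat_lit 55), (nat_lit 10)), ((nat_lit 56), (nat_lit 11)), ((nat_lit 57), (nat_lit 12)), ((nat_lit 58), (nat_lit 13))]),
      ((nat_lit 2143404032), [((nat_lit 59), (nat_lit 14)), ((nat_lit 60), (nat_lit 15)), ((nat_lit 61), (nat_lit 16)), ((nat_lit 67), (nat_lit 22)), ((nat_lit 68), (nat_lit 23)), ((nat_lit 69), (nat_lit 24)), ((nat_lit 70), (nat_lit 25)), ((nat_lit 71), (nat_lit 26)), ((nat_lit 72), (nat_lit 27)), ((nat_lit 73), (nat_lit 28)), ((nat_lit 74), (nat_lit 29)), ((nat_lit 75), (nat_lit 30))]),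
      ((nat_lit 2147483648), [((nat_lit 76), (nat_lit 31))])]]

/-- Rank certificate of class 0. -/
def rc0 : RankCert :=
  [((nat_lit 41), (nat_lit 5), [(nat_lit 1), (nat_lit 6)]),
    ((nat_lit 4503599627370496), (nat_lit 52), [(nat_lit 7)]),
    ((nat_lit 9007199254740992), (nat_lit 53), [(nat_lit 8)]),
    ((nat_lit 18014398509481984), (nat_lit 54), [(nat_lit 9)]),
    ((nat_lit 36028797018963968), (nat_lit 55), [(nat_lit 10)]),
    ((nat_lit 72057594037927936), (nat_lit 56), [(nat_lit 11)]),
    ((nat_lit 144115188075855872), (nat_lit 57), [(nat_lit 12)]),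
    ((nat_lit 288230376151711744), (nat_lit 58), [(nat_lit 13)]),
    ((nat_lit 576460752303423488), (nat_lit 59), [(nat_lit 14)]),
    ((nat_lit 1152921504606846976), (nat_lit 60), [(nat_lit 15)]),
    ((nat_lit 2305843009213693952), (nat_lit 61), [(nat_lit 16)]),
    ((nat_lit 147573952589676412928), (nat_lit 67), [(nat_lit 22)]),
    ((nat_lit 295147905179352825856), (nat_lit 68), [(nat_lit 23)]),
    ((nat_lit 590295810358705651712), (nat_lit 69), [(nat_lit 24)]),
    ((nat_lit 1180591620717411303424), (nat_lit 70), [(nat_lit 25)]),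
    ((nat_lit 2361183241434822606848), (nat_lit 71), [(nat_lit 26)]),
    ((nat_lit 4722366482869645213696), (nat_lit 72), [(nat_lit 27)]),
    ((nat_lit 9444732965739290427392), (nat_lit 73), [(nat_lit 28)]),
    ((nat_lit 18889465931478580854784), (nat_lit 74), [(nat_lit 29)]),
    ((nat_lit 37778931862957161709568), (nat_lit 75), [(nat_lit 30)]),
    ((nat_lit 75557863725914323419136), (nat_lit 76), [(nat_lit 31)]),
    ((nat_lit 151115727451828646838272), (nat_lit 77), [(nat_lit 1)])]

theorem rc0_ok : rankOk chevE6 78 [71] el0 cols0 rc0 = true := by decide +kernel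

theorem rc0_len : rc0.length = 22 := rfl

/-- Columns of class 1. -/
def cols1 : Tr ℕ :=
  (.node (.node (.node (.node (.node (.node (.node (.leaf (nat_lit 4722366482869645213696)) (.leaf (nat_lit 0))) (.leaf (nat_lit 147573952589676412928))) (.node (.leaf (nat_lit 2251799813685248)) (.leaf (nat_lit 37778931862957161709568)))) (.node (.node (.node (.leaf (nat_lit 2361183242568693972992)) (.leaf (nat_lit 0))) (.leaf (nat_lit 2361183241434822606848))) (.node (.leaf (nat_lit 0)) (.leaf (nat_lit 151115727451828646838272))))) (.node (.node (.node (.node (.leaf (nat_lit 23611832414348226068480)) (.leaf (nat_lit 0))) (.leaf (nat_lit 295147905179352825856))) (.node (.leaf (nat_lit 1152921504606846976)) (.leaf (nat_lit 0)))) (.node (.node (.node (.leaf (nat_lit 37778932153228231442432)) (.leaf (nat_lit 0))) (.leaf (nat_lit 0))) (.node (.leaf (nat_lit 36893488147419103232)) (.leaf (nat_lit 0)))))) (.node (.node (.node (.node (.node (.leaf (nat_lit 23611832414348226068480)) (.leaf (nat_lit 0))) (.leaf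 (nat_lit 590295810358705651712))) (.node (.leaf (nat_lit 36028797018963968)) (.leaf (nat_lit 0)))) (.node (.node (.node (.leaf (nat_lit 4398046511104)) (.leaf (nat_lit 0))) (.leaf (nat_lit 0))) (.node (.leaf (nat_lit 0)) (.leaf (nat_lit 0))))) (.node (.node (.node (.node (.leaf (nat_lit 73786976295509295104)) (.leaf (nat_lit 0))) (.leaf (nat_lit 0))) (.node (.leaf (nat_lit 4611686018427387904)) (.leaf (nat_lit 151115727451828646838272)))) (.node (.node (.leaf (nat_lit 75557864359233021018112)) (.leaf (nat_lit 75557863725914323419136))) (.node (.leaf (nat_lit 0)) (.leaf (nat_lit 0))))))) (.node (.node (.node (.node (.node (.node (.leaf (nat_lit 0)) (.leaf (nat_lit 0))) (.leaf (nat_lit 0))) (.node (.leaf (nat_lit 151115817523821194248192)) (.leaf (nat_lit 75557863725914323419136)))) (.node (.node (.node (.leaf (nat_lit 18889465931478580854835)) (.leaf (nat_lit 0))) (.leaf (nat_lit 9444732965739290427392))) (.node (.leaf (nat_lit 18446744073709551616)) (.leaf (nat_lit 0))))) (.node (.node (.node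 (.node (.leaf (nat_lit 18889465931478580854784)) (.leaf (nat_lit 0))) (.leaf (nat_lit 590295810358705651712))) (.node (.leaf (nat_lit 2305843009213693952)) (.leaf (nat_lit 0)))) (.node (.node (.node (.leaf (nat_lit 17592186044416)) (.leaf (nat_lit 0))) (.leaf (nat_lit 0))) (.node (.leaf (nat_lit 73786976294838206464)) (.leaf (nat_lit 0)))))) (.node (.node (.node (.node (.node (.leaf (nat_lit 0)) (.leaf (nat_lit 0))) (.leaf (nat_lit 2361183241434822606848))) (.node (.leaf (nat_lit 288230376151711744)) (.leaf (nat_lit 0)))) (.node (.node (.node (.leaf (nat_lit 4722366482869645213735)) (.leaf (nat_lit 0))) (.leaf (nat_lit 37778931862957161709568))) (.node (.leaf (nat_lit 73786976294838206464)) (.leaf (nat_lit 0))))) (.node (.node (.node (.node (.leaf (nat_lit 590295810513324474368)) (.leaf (nat_lit 0))) (.leaf (nat_lit 1180591620717411303424))) (.node (.leaf (nat_lit 9223372036854775808)) (.leaf (nat_lit 0)))) (.node (.node (.leaf (nat_lit 140737488355328)) (.leaf (nat_lit 0))) (.node (.leaf (nat_lit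 0)) (.leaf (nat_lit 0))))))))

/-- Odd entries of class 1. -/
def el1 : List EntTable :=
  [[((nat_lit 2036), [((nat_lit 74), (nat_lit 2)), ((nat_lit 74), (nat_lit 4)), ((nat_lit 74), (nat_lit 5)), ((nat_lit 0), (nat_lit 9)), ((nat_lit 1), (nat_lit 9)), ((nat_lit 4), (nat_lit 9)), ((nat_lit 5), (nat_lit 9)), ((nat_lit 74), (nat_lit 9)), ((nat_lit 29), (nat_lit 6)), ((nat_lit 37), (nat_lit 7)), ((nat_lit 40), (nat_lit 8)), ((nat_lit 42), (nat_lit 10))]),
      ((nat_lit 56012525568), [((nat_lit 48), (nat_lit 12)), ((nat_lit 49), (nat_lit 14)), ((nat_lit 51), (nat_lit 16)), ((nat_lit 56), (nat_lit 17)), ((nat_lit 58), (nat_lit 19)), ((nat_lit 60), (nat_lit 20)), ((nat_lit 63), (nat_lit 23)), ((nat_lit 64), (nat_lit 25)), ((nat_lit 66), (nat_lit 27)), ((nat_lit 67), (nat_lit 32)), ((nat_lit 69), (nat_lit 34)), ((nat_lit 71), (nat_lit 35))]),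
      ((nat_lit 18095762369937408), [((nat_lit 73), (nat_lit 41)), ((nat_lit 75), (nat_lit 43)), ((nat_lit 76), (nat_lit 46)), ((nat_lit 77), (nat_lit 54))])],
    [((nat_lit 6613), [((nat_lit 72), (nat_lit 0)), ((nat_lit 72), (nat_lit 2)), ((nat_lit 72), (nat_lit 4)), ((nat_lit 0), (nat_lit 11)), ((nat_lit 1), (nat_lit 11)), ((nat_lit 2), (nat_lit 11)), ((nat_lit 5), (nat_lit 11)), ((nat_lit 72), (nat_lit 11)), ((nat_lit 27), (nat_lit 6)), ((nat_lit 34), (nat_lit 7)), ((nat_lit 35), (nat_lit 8)), ((nat_lit 43), (nat_lit 12))]),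
      ((nat_lit 756726292480), [((nat_lit 44), (nat_lit 13)), ((nat_lit 46), (nat_lit 14)), ((nat_lit 47), (nat_lit 15)), ((nat_lit 54), (nat_lit 17)), ((nat_lit 55), (nat_lit 18)), ((nat_lit 61), (nat_lit 21)), ((nat_lit 62), (nat_lit 22)), ((nat_lit 65), (nat_lit 28)), ((nat_lit 66), (nat_lit 29)), ((nat_lit 68), (nat_lit 36)), ((nat_lit 69), (nat_lit 37)), ((nat_lit 70), (nat_lit 39))]),
      ((nat_lit 72903118479687680), [((nat_lit 71), (nat_lit 40)), ((nat_lit 75), (nat_lit 48)), ((nat_lit 76), (nat_lit 49)), ((nat_lit 77), (nat_lit 56))])]]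

/-- Rank certificate of class 1. -/
def rc1 : RankCert :=
  [((nat_lit 20), (nat_lit 4), [(nat_lit 2), (nat_lit 9), (nat_lit 11)]),
    ((nat_lit 39), (nat_lit 5), [(nat_lit 0), (nat_lit 11)]),
    ((nat_lit 671088640), (nat_lit 29), [(nat_lit 6), (nat_lit 27)]),
    ((nat_lit 154618822656), (nat_lit 37), [(nat_lit 7), (nat_lit 34)]),
    ((nat_lit 1133871366144), (nat_lit 40), [(nat_lit 8), (nat_lit 35)]),
    ((nat_lit 4398046511104), (nat_lit 42), [(nat_lit 10)]),
    ((nat_lit 17592186044416), (nat_lit 44), [(nat_lit 13)]),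
    ((nat_lit 140737488355328), (nat_lit 47), [(nat_lit 15)]),
    ((nat_lit 290271069732864), (nat_lit 48), [(nat_lit 12), (nat_lit 43)]),
    ((nat_lit 633318697598976), (nat_lit 49), [(nat_lit 14), (nat_lit 46)]),
    ((nat_lit 2251799813685248), (nat_lit 51), [(nat_lit 16)]),
    ((nat_lit 36028797018963968), (nat_lit 55), [(nat_lit 18)]),
    ((nat_lit 90071992547409920), (nat_lit 56), [(nat_lit 17), (nat_lit 54)]),
    ((nat_lit 288230376151711744), (nat_lit 58), [(nat_lit 19)]),
    ((nat_lit 1152921504606846976), (nat_lit 60), [(nat_lit 20)]),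
    ((nat_lit 2305843009213693952), (nat_lit 61), [(nat_lit 21)]),
    ((nat_lit 4611686018427387904), (nat_lit 62), [(nat_lit 22)]),
    ((nat_lit 9223372036854775808), (nat_lit 63), [(nat_lit 23)]),
    ((nat_lit 18446744073709551616), (nat_lit 64), [(nat_lit 25)]),
    ((nat_lit 36893488147419103232), (nat_lit 65), [(nat_lit 28)]),
    ((nat_lit 73786976294838206464), (nat_lit 66), [(nat_lit 27)]),
    ((nat_lit 147573952589676412928), (nat_lit 67), [(nat_lit 32)]),
    ((nat_lit 295147905179352825856), (nat_lit 68), [(nat_lit 36)]),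
    ((nat_lit 590295810358705651712), (nat_lit 69), [(nat_lit 34)]),
    ((nat_lit 1180591620717411303424), (nat_lit 70), [(nat_lit 39)]),
    ((nat_lit 2361183241434822606848), (nat_lit 71), [(nat_lit 35)]),
    ((nat_lit 4722366482869645213696), (nat_lit 72), [(nat_lit 0)]),
    ((nat_lit 9444732965739290427392), (nat_lit 73), [(nat_lit 41)]),
    ((nat_lit 18889465931478580854784), (nat_lit 74), [(nat_lit 0), (nat_lit 2)]),
    ((nat_lit 37778931862957161709568), (nat_lit 75), [(nat_lit 43)]),
    ((nat_lit 75557863725914323419136), (nat_lit 76), [(nat_lit 46)]),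
    ((nat_lit 151115727451828646838272), (nat_lit 77), [(nat_lit 54)])]

theorem rc1_ok : rankOk chevE6 78 [68, 66] el1 cols1 rc1 = true := by decide +kernel

theorem rc1_len : rc1.length = 32 := rfl

/-- Columns of class 2. -/
def cols2 : Tr ℕ :=
  (.node (.node (.node (.node (.node (.node (.node (.leaf (nat_lit 2363489084444036300800)) (.leaf (nat_lit 75557863725914323419136))) (.leaf (nat_lit 18014398509481984))) (.node (.leaf (nat_lit 75557864992551718617088)) (.leaf (nat_lit 18889465931478580854784)))) (.node (.node (.node (.leaf (nat_lit 576461302060285952)) (.leaf (nat_lit 0))) (.leaf (nat_lit 1152921504606846976))) (.node (.leaf (nat_lit 37788155252586202529792)) (.leaf (nat_lit 0))))) (.node (.node (.node (.node (.leaf (nat_lit 2363489084444036300800)) (.leaf (nat_lit 0))) (.leaf (nat_lit 151263445519606399107072))) (.node (.leaf (nat_lit 576460752303423488)) (.leaf (nat_lit 0)))) (.node (.node (.node (.leaf (nat_lit 2361183241434822606903)) (.leaf (nat_lit 0))) (.leaf (nat_lit 37778931862957161709568)))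 (.node (.leaf (nat_lit 75576311595887939813376)) (.leaf (nat_lit 0)))))) (.node (.node (.node (.node (.node (.leaf (nat_lit 11805916207174113034240)) (.leaf (nat_lit 0))) (.leaf (nat_lit 295147905179352825856))) (.node (.leaf (nat_lit 72057594037927936)) (.leaf (nat_lit 75557863725914323419136)))) (.node (.node (.node (.leaf (nat_lit 9444732965739290427411)) (.leaf (nat_lit 0))) (.leaf (nat_lit 18889465931478580854784))) (.node (.leaf (nat_lit 75576310610725521326080)) (.leaf (nat_lit 0))))) (.node (.node (.node (.node (.leaf (nat_lit 75576311736625763778560)) (.leaf (nat_lit 0))) (.leaf (nat_lit 590295810358705651712))) (.node (.leaf (nat_lit 2305843009213693990)) (.leaf (nat_lit 0)))) (.node (.node (.leaf (nat_lit 35184372088832)) (.leaf (nat_lit 0))) (.node (.leaf (nat_lit 73786976294838206464)) (.leaf (nat_lit 4722366482869645213696))))))) (.node (.node (.node (.node (.node (.node (.leaf (nat_lit 0)) (.leaf (nat_lit 0))) (.leaf (nat_lit 151263337433215342215168))) (.node (.leaf (nat_lit 9007199254740992))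 (.leaf (nat_lit 0)))) (.node (.node (.node (.leaf (nat_lit 1180591622950794297344)) (.leaf (nat_lit 0))) (.leaf (nat_lit 1180591620717411303424))) (.node (.leaf (nat_lit 70368744177664)) (.leaf (nat_lit 151115727451828646838272))))) (.node (.node (.node (.node (.leaf (nat_lit 11805916207174113034240)) (.leaf (nat_lit 0))) (.leaf (nat_lit 288230376151711744))) (.node (.leaf (nat_lit 1152921504606846976)) (.leaf (nat_lit 0)))) (.node (.node (.node (.leaf (nat_lit 18889466217351604076544)) (.leaf (nat_lit 0))) (.leaf (nat_lit 0))) (.node (.leaf (nat_lit 2251799813685248)) (.leaf (nat_lit 0)))))) (.node (.node (.node (.node (.node (.leaf (nat_lit 2361183241434822606848)) (.leaf (nat_lit 151115727451828646838272))) (.leaf (nat_lit 1180591620717411303424))) (.node (.leaf (nat_lit 151115907595813741658112)) (.leaf (nat_lit 0)))) (.node (.node (.node (.leaf (nat_lit 1152922604120571904)) (.leaf (nat_lit 0))) (.leaf (nat_lit 4722366482869645213696))) (.node (.leaf (nat_lit 36893488147419103232)) (.leaf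 (nat_lit 0))))) (.node (.node (.node (.node (.leaf (nat_lit 151263481548480728006656)) (.leaf (nat_lit 0))) (.leaf (nat_lit 576460752303423488))) (.node (.leaf (nat_lit 4726978177684165623808)) (.leaf (nat_lit 151115727451828646838272)))) (.node (.node (.leaf (nat_lit 562949953421312)) (.leaf (nat_lit 75557863725914323419136))) (.node (.leaf (nat_lit 0)) (.leaf (nat_lit 37778931862957161709568))))))))

/-- Odd entries of class 2. -/
def el2 : List EntTable :=
  [[((nat_lit 29362641), [((nat_lit 61), (nat_lit 0)), ((nat_lit 61), (nat_lit 4)), ((nat_lit 1), (nat_lit 22)), ((nat_lit 2), (nat_lit 22)), ((nat_lit 5), (nat_lit 22)), ((nat_lit 61), (nat_lit 22)), ((nat_lit 16), (nat_lit 6)), ((nat_lit 19), (nat_lit 7)), ((nat_lit 20), (nat_lit 8)), ((nat_lit 21), (nat_lit 11)), ((nat_lit 43), (nat_lit 23)), ((nat_lit 44), (nat_lit 24))]),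
      ((nat_lit 13835059924498907136), [((nat_lit 46), (nat_lit 25)), ((nat_lit 47), (nat_lit 26)), ((nat_lit 50), (nat_lit 28)), ((nat_lit 51), (nat_lit 29)), ((nat_lit 54), (nat_lit 32)), ((nat_lit 55), (nat_lit 33)), ((nat_lit 57), (nat_lit 36)), ((nat_lit 58), (nat_lit 37)), ((nat_lit 59), (nat_lit 39)), ((nat_lit 60), (nat_lit 40)), ((nat_lit 72), (nat_lit 62)), ((nat_lit 75), (nat_lit 63))]),
      ((nat_lit 166020696663385964544), [((nat_lit 76), (nat_lit 64)), ((nat_lit 77), (nat_lit 67))])],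
    [((nat_lit 4221), [((nat_lit 71), (nat_lit 0)), ((nat_lit 71), (nat_lit 2)), ((nat_lit 71), (nat_lit 3)), ((nat_lit 71), (nat_lit 4)), ((nat_lit 71), (nat_lit 5)), ((nat_lit 0), (nat_lit 12)), ((nat_lit 1), (nat_lit 12)), ((nat_lit 2), (nat_lit 12)), ((nat_lit 4), (nat_lit 12)), ((nat_lit 5), (nat_lit 12)), ((nat_lit 71), (nat_lit 12)), ((nat_lit 26), (nat_lit 6))]),
      ((nat_lit 1353411200), [((nat_lit 33), (nat_lit 7)), ((nat_lit 35), (nat_lit 9)), ((nat_lit 40), (nat_lit 11)), ((nat_lit 42), (nat_lit 13)), ((nat_lit 45), (nat_lit 14)), ((nat_lit 47), (nat_lit 16)), ((nat_lit 53), (nat_lit 17)), ((nat_lit 55), (nat_lit 19)), ((nat_lit 60), (nat_lit 21)), ((nat_lit 62), (nat_lit 23)), ((nat_lit 64), (nat_lit 28)), ((nat_lit 66), (nat_lit 30))]),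
      ((nat_lit 145533901673070592), [((nat_lit 67), (nat_lit 36)), ((nat_lit 69), (nat_lit 38)), ((nat_lit 70), (nat_lit 41)), ((nat_lit 72), (nat_lit 43)), ((nat_lit 74), (nat_lit 48)), ((nat_lit 76), (nat_lit 50)), ((nat_lit 77), (nat_lit 57))])],
    [((nat_lit 42980), [((nat_lit 73), (nat_lit 2)), ((nat_lit 73), (nat_lit 5)), ((nat_lit 0), (nat_lit 10)), ((nat_lit 1), (nat_lit 10)), ((nat_lit 4), (nat_lit 10)), ((nat_lit 73), (nat_lit 10)), ((nat_lit 28), (nat_lit 6)), ((nat_lit 36), (nat_lit 7)), ((nat_lit 39), (nat_lit 8)), ((nat_lit 41), (nat_lit 9)), ((nat_lit 48), (nat_lit 13)), ((nat_lit 49), (nat_lit 15))]),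
      ((nat_lit 22050582102016), [((nat_lit 50), (nat_lit 16)), ((nat_lit 56), (nat_lit 18)), ((nat_lit 57), (nat_lit 19)), ((nat_lit 59), (nat_lit 20)), ((nat_lit 63), (nat_lit 24)), ((nat_lit 64), (nat_lit 26)), ((nat_lit 65), (nat_lit 27)), ((nat_lit 67), (nat_lit 33)), ((nat_lit 68), (nat_lit 34)), ((nat_lit 70), (nat_lit 35)), ((nat_lit 74), (nat_lit 42)), ((nat_lit 75), (nat_lit 44))]),
      ((nat_lit 36169534507319296), [((nat_lit 76), (nat_lit 47)), ((nat_lit 77), (nat_lit 55))])]]

/-- Rank certificate of class 2. -/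
def rc2 : RankCert :=
  [((nat_lit 2), (nat_lit 1), [(nat_lit 0), (nat_lit 2), (nat_lit 3), (nat_lit 10), (nat_lit 12), (nat_lit 22)]),
    ((nat_lit 17), (nat_lit 4), [(nat_lit 0), (nat_lit 12), (nat_lit 22)]),
    ((nat_lit 36), (nat_lit 5), [(nat_lit 2), (nat_lit 10), (nat_lit 12)]),
    ((nat_lit 549756862464), (nat_lit 39), [(nat_lit 8), (nat_lit 20)]),
    ((nat_lit 1099513724928), (nat_lit 40), [(nat_lit 11), (nat_lit 21)]),
    ((nat_lit 2233382993920), (nat_lit 41), [(nat_lit 9), (nat_lit 35)]),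
    ((nat_lit 35184372088832), (nat_lit 45), [(nat_lit 14)]),
    ((nat_lit 70368744177664), (nat_lit 46), [(nat_lit 25)]),
    ((nat_lit 140737823965184), (nat_lit 47), [(nat_lit 6), (nat_lit 28)]),
    ((nat_lit 285873023221760), (nat_lit 48), [(nat_lit 13), (nat_lit 42)]),
    ((nat_lit 562949953421312), (nat_lit 49), [(nat_lit 15)]),
    ((nat_lit 1125900242452480), (nat_lit 50), [(nat_lit 6), (nat_lit 26)]),
    ((nat_lit 2251799813685248), (nat_lit 51), [(nat_lit 29)]),
    ((nat_lit 9007199254740992), (nat_lit 53), [(nat_lit 17)]),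
    ((nat_lit 18014398509481984), (nat_lit 54), [(nat_lit 32)]),
    ((nat_lit 36028874328899584), (nat_lit 55), [(nat_lit 7), (nat_lit 36)]),
    ((nat_lit 72057594037927936), (nat_lit 56), [(nat_lit 18)]),
    ((nat_lit 144115265385791488), (nat_lit 57), [(nat_lit 7), (nat_lit 33)]),
    ((nat_lit 288230376151711744), (nat_lit 58), [(nat_lit 37)]),
    ((nat_lit 576460752303423488), (nat_lit 59), [(nat_lit 20)]),
    ((nat_lit 1152921504606846976), (nat_lit 60), [(nat_lit 21)]),
    ((nat_lit 2305843009213693952), (nat_lit 61), [(nat_lit 0), (nat_lit 3)]),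
    ((nat_lit 4611694814520410112), (nat_lit 62), [(nat_lit 23), (nat_lit 43)]),
    ((nat_lit 9223389629040820224), (nat_lit 63), [(nat_lit 24), (nat_lit 44)]),
    ((nat_lit 18446744074045161472), (nat_lit 64), [(nat_lit 6), (nat_lit 16)]),
    ((nat_lit 36893488147419103232), (nat_lit 65), [(nat_lit 27)]),
    ((nat_lit 73786976294838206464), (nat_lit 66), [(nat_lit 30)]),
    ((nat_lit 147573952666986348544), (nat_lit 67), [(nat_lit 7), (nat_lit 19)]),
    ((nat_lit 295147905179352825856), (nat_lit 68), [(nat_lit 34)]),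
    ((nat_lit 590295810358705651712), (nat_lit 69), [(nat_lit 38)]),
    ((nat_lit 1180591620717411303424), (nat_lit 70), [(nat_lit 35)]),
    ((nat_lit 2361183241434822606848), (nat_lit 71), [(nat_lit 3)]),
    ((nat_lit 4722366482869645213696), (nat_lit 72), [(nat_lit 43)]),
    ((nat_lit 9444732965739290427392), (nat_lit 73), [(nat_lit 2), (nat_lit 3)]),
    ((nat_lit 18889465931478580854784), (nat_lit 74), [(nat_lit 42)]),
    ((nat_lit 37778931862957161709568), (nat_lit 75), [(nat_lit 44)]),
    ((nat_lit 75557863725914323419136), (nat_lit 76), [(nat_lit 16), (nat_lit 26), (nat_lit 28)]),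
    ((nat_lit 151115727451828646838272), (nat_lit 77), [(nat_lit 19), (nat_lit 33), (nat_lit 36)])]

theorem rc2_ok : rankOk chevE6 78 [55, 65, 67] el2 cols2 rc2 = true := by decide +kernel

theorem rc2_len : rc2.length = 38 := rfl

end Cfsg.Agent.Small.C2Inv.Cert.E6
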