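import Cfsg.Agent.Lib.Small.Char2Invol.Data.TabE7

/-!
The certificate for the involutions of type E7 in characteristic two.
-/

set_option autoImplicit false

namespace Cfsg.Agent.Small.C2Inv.Cert.E7

open Cfsg.Lie Cfsg.Agent.Small.C2Inv.Cert

def nodes0 : Tr (Node) :=
  .node (.node (.node (.node (.node (.leaf ⟨(nat_lit 85070591730234615856620279821087277056), [], .br 63 1 784⟩) (.leaf ⟨(nat_lit 46095725826044612279805952824457560064), [(nat_lit 91), (nat_lit 102)], .kill 69 105 [] 1025⟩)) (.node (.leaf ⟨(nat_lit 80080874379266834460530971330712961024), [(nat_lit 83)], .kill 118 124 [] 842⟩) (.leaf ⟨(nat_lit 1329230852950526543561481527459053568), [(nat_lit 92), (nat_lit 98), (nat_lit 101), (nat_lit 120)], .w 3 1537⟩))) (.node (.node (.leaf ⟨(nat_lit 41206068186245042117075369242866483200), [(nat_lit 98)], .br 120 257 264⟩) (.leaf ⟨(nat_lit 88593565148750496411801593617317888), [(nat_lit 108), (nat_lit 112), (nat_lit 116)], .w 1 1281⟩)) (.node (.leaf ⟨(nat_lit 85070579782692794819376065190477955072),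 [(nat_lit 80)], .kill 97 106 [] 769⟩) (.leaf ⟨(nat_lit 42732613288198880357761952588102631424), [(nat_lit 82), (nat_lit 83), (nat_lit 90), (nat_lit 103), (nat_lit 113), (nat_lit 117)], .w 0 1793⟩)))) (.node (.node (.node (.leaf ⟨(nat_lit 19129070663949621836959914788887986176), [(nat_lit 109)], .br 114 129 140⟩) (.leaf ⟨(nat_lit 53127591485699594010365301275125350400), [(nat_lit 73), (nat_lit 89)], .w 4 1153⟩)) (.node (.leaf ⟨(nat_lit 85070591730233633613615214971737604096), [(nat_lit 76)], .sq 76 80 90 1 641⟩) (.leaf ⟨(nat_lit 43046818869344967009545275539407765504), [(nat_lit 82), (nat_lit 85), (nat_lit 99)], .kill 77 111 [] 1665⟩))) (.node (.node (.leaf ⟨(nat_lit 768459935063154489022513456724574208), [(nat_lit 114), (nat_lit 116), (nat_lit 119)], .rep 3⟩) (.leaf ⟨(nat_lit 76576985709395318989605588196506206208), [(nat_lit 66), (nat_lit 76)], .w 5 1409⟩)) (.leaf ⟨(nat_lit 171345796331649311741506378864263168), [(nat_lit 112), (nat_lit 117)], .w 6 897⟩)))) (.node (.node (.node (.node (.leaf ⟨(nat_lit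 42535295865117307932921825928971026432), [(nat_lit 125)], .rep 0⟩) (.leaf ⟨(nat_lit 10888247146250204903598487817907339264), [(nat_lit 86), (nat_lit 99), (nat_lit 112)], .br 116 1089 1092⟩)) (.node (.leaf ⟨(nat_lit 42769006270513936931656443198626070528), [(nat_lit 83), (nat_lit 91)], .w 5 1165⟩) (.leaf ⟨(nat_lit 43046818869344967009545275539407765504), [(nat_lit 82), (nat_lit 85), (nat_lit 87), (nat_lit 99)], .kill 77 111 [] 1601⟩))) (.node (.node (.leaf ⟨(nat_lit 103927066809111159252305715589545984), [(nat_lit 106), (nat_lit 114), (nat_lit 116)], .w 2 321⟩) (.leaf ⟨(nat_lit 43303768476691300407516812869426479104), [(nat_lit 82), (nat_lit 101), (nat_lit 103), (nat_lit 114), (nat_lit 116), (nat_lit 119)], .w 2 1345⟩)) (.leaf ⟨(nat_lit 68792661156099416098145825642774528000), [(nat_lit 69)], .w 2 833⟩))) (.node (.node (.node (.leaf ⟨(nat_lit 85070589828758715523499549612887244800), [(nat_lit 99)], .w 4 193⟩) (.leaf ⟨(nat_lit 48019336171041661417059781017392381952), [(nat_lit 100), (nat_lit 108), (nat_lit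 109), (nat_lit 117), (nat_lit 122)], .w 3 1217⟩)) (.node (.leaf ⟨(nat_lit 85070591730234297106106058156890128384), [(nat_lit 71)], .w 6 705⟩) (.leaf ⟨(nat_lit 21539919308563083811577049590530048), [(nat_lit 88), (nat_lit 105), (nat_lit 106), (nat_lit 109), (nat_lit 114)], .w 4 1729⟩))) (.node (.node (.leaf ⟨(nat_lit 85070591658743578597112940982517628928), [(nat_lit 91)], .sq 91 99 120 1 449⟩) (.leaf ⟨(nat_lit 13297472571620343613723951473308467200), [(nat_lit 98), (nat_lit 112), (nat_lit 121)], .w 3 1473⟩)) (.leaf ⟨(nat_lit 1371090889206852920658834186934681600), [(nat_lit 108), (nat_lit 115), (nat_lit 120)], .w 2 961⟩))))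

def nodes1 : Tr (Node) :=
  .node (.node (.node (.node (.node (.leaf ⟨(nat_lit 85070591690620534608711483061170077696), [], .br 95 33 218⟩) (.leaf ⟨(nat_lit 664938517065086382821376823610310656), [(nat_lit 89), (nat_lit 108), (nat_lit 119)], .w 4 1057⟩)) (.node (.leaf ⟨(nat_lit 79795208020218070153097855533532053504), [(nat_lit 78)], .kill 118 122 [] 545⟩) (.leaf ⟨(nat_lit 2758412657856784319177925771395072), [(nat_lit 92), (nat_lit 107), (nat_lit 111)], .rep 2⟩))) (.node (.node (.leaf ⟨(nat_lit 21252071051886569797858363674690846720), [(nat_lit 93), (nat_lit 112)], .w 6 289⟩) (.leaf ⟨(nat_lit 748015266182673605235174627428270080), [(nat_lit 108), (nat_lit 116), (nat_lit 119)], .w 2 1313⟩)) (.leaf ⟨(nat_lit 85070591690569057456740782513202397184), [(nat_lit 67)], .w 5 801⟩))) (.node (.node (.node (.leaf ⟨(nat_lit 85070267211680957439116868701921476608), [(nat_lit 108)], .sq 108 109 125 1 161⟩) (.leaf ⟨(nat_lit 16996983776322718722465887764181155840), [(nat_lit 93), (nat_lit 111), (nat_lit 112)], .w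 6 1185⟩)) (.node (.leaf ⟨(nat_lit 85070520711936011313425238307205283840), [(nat_lit 73)], .w 3 673⟩) (.leaf ⟨(nat_lit 12017329547073673654259158735650816), [(nat_lit 89), (nat_lit 90), (nat_lit 103), (nat_lit 108)], .br 110 1697 1725⟩))) (.node (.node (.leaf ⟨(nat_lit 85070591719093155512275229383849934848), [(nat_lit 90)], .sq 90 94 112 1 417⟩) (.leaf ⟨(nat_lit 37405307281938360864312733897597124608), [(nat_lit 96), (nat_lit 99)], .br 114 1441 1481⟩)) (.leaf ⟨(nat_lit 46618063789931914621866092098740027392), [(nat_lit 90), (nat_lit 108)], .kill 83 121 [] 929⟩)))) (.node (.node (.node (.node (.leaf ⟨(nat_lit 2990762990516060714033565885630775296), [(nat_lit 118), (nat_lit 121)], .rep 1⟩) (.leaf ⟨(nat_lit 48924260001103036306157675005100425216), [(nat_lit 89), (nat_lit 95)], .w 3 1121⟩)) (.node (.leaf ⟨(nat_lit 88594199362115798622798307049603072), [(nat_lit 80), (nat_lit 86), (nat_lit 88), (nat_lit 99), (nat_lit 108)], .br 112 609 618⟩) (.leaf ⟨(nat_lit 43046757388290855940419302949302304768), [(nat_lit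 82), (nat_lit 85), (nat_lit 104)], .w 0 1633⟩))) (.node (.node (.leaf ⟨(nat_lit 15952034033537144496035859546639433728), [(nat_lit 93), (nat_lit 110)], .w 4 353⟩) (.leaf ⟨(nat_lit 72532695834224338449277874157907869696), [(nat_lit 71), (nat_lit 77)], .kill 103 116 [] 1377⟩)) (.leaf ⟨(nat_lit 25535797079912696883794676736109576192), [(nat_lit 106)], .br 113 865 906⟩))) (.node (.node (.node (.leaf ⟨(nat_lit 85070591413321965808786301483766251520), [(nat_lit 98)], .kill 78 102 [] 225⟩) (.leaf ⟨(nat_lit 19889093126526013248647566904969396224), [(nat_lit 82), (nat_lit 93)], .kill 110 121 [] 1249⟩)) (.node (.leaf ⟨(nat_lit 84743397105518444351923373323300372480), [(nat_lit 69)], .sq 69 122 123 1 737⟩) (.leaf ⟨(nat_lit 7798588968786377303671925211398144), [(nat_lit 78), (nat_lit 91), (nat_lit 103), (nat_lit 111), (nat_lit 112)], .w 5 1761⟩))) (.node (.node (.leaf ⟨(nat_lit 85070591720253724299105273391567863808), [(nat_lit 86)], .kill 69 89 [] 481⟩) (.leaf ⟨(nat_lit 5483066195666240604107242465551974400), [(nat_lit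 96), (nat_lit 99), (nat_lit 117), (nat_lit 122)], .dbl 33 47 96 95 [(nat_lit 95), (nat_lit 100), (nat_lit 125)] [(nat_lit 118)] 1505⟩)) (.leaf ⟨(nat_lit 2832408080011430375769358271013453824), [(nat_lit 91), (nat_lit 103), (nat_lit 111)], .kill 71 117 [] 993⟩))))

def nodes2 : Tr (Node) :=
  .node (.node (.node (.node (.node (.leaf ⟨(nat_lit 85070591730234011402933844543354699776), [], .br 79 17 515⟩) (.leaf ⟨(nat_lit 21703802136331015418765334669542031360), [(nat_lit 82), (nat_lit 100)], .w 3 1041⟩)) (.node (.leaf ⟨(nat_lit 85070591669393006142098209382504333312), [(nat_lit 80)], .w 4 529⟩) (.leaf ⟨(nat_lit 42547313194664381606576085087706677248), [(nat_lit 89), (nat_lit 90), (nat_lit 103)], .kill 114 125 [] 1672⟩))) (.node (.node (.leaf ⟨(nat_lit 26584600480517524761416989100109463552), [(nat_lit 105), (nat_lit 122)], .w 2 273⟩) (.leaf ⟨(nat_lit 667372410550314720771081455911567360), [(nat_lit 92), (nat_lit 107), (nat_lit 111), (nat_lit 119)], .rep 4⟩)) (.node (.leaf ⟨(nat_lit 85070591730234615856620279821087277056),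 [(nat_lit 63)], .sq 63 64 65 1 785⟩) (.leaf ⟨(nat_lit 11804367341085429328258399844958208), [(nat_lit 92), (nat_lit 105), (nat_lit 106), (nat_lit 110), (nat_lit 113)], .dbl 52 59 105 104 [(nat_lit 104), (nat_lit 107), (nat_lit 125)] [(nat_lit 111)] 1809⟩)))) (.node (.node (.node (.leaf ⟨(nat_lit 18942147977042368042332816921036062720), [(nat_lit 109), (nat_lit 118)], .kill 78 122 [] 145⟩) (.leaf ⟨(nat_lit 42555050937177767321966944185682493440), [(nat_lit 87), (nat_lit 92)], .w 5 1169⟩)) (.node (.leaf ⟨(nat_lit 85070591720330113299332172772544610304), [(nat_lit 76)], .sq 76 80 90 1 657⟩) (.leaf ⟨(nat_lit 7950709516391611947708422100615168), [(nat_lit 92), (nat_lit 111), (nat_lit 112)], .w 3 1681⟩))) (.node (.node (.leaf ⟨(nat_lit 103927066809111159252305715589545984), [(nat_lit 106), (nat_lit 114), (nat_lit 116)], .w 2 401⟩) (.leaf ⟨(nat_lit 42974139389947538583722867958602530816), [(nat_lit 82), (nat_lit 88)], .w 2 1425⟩)) (.leaf ⟨(nat_lit 25537744191234647444155375672233033728), [(nat_lit 106), (nat_lit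 109)], .kill 64 110 [] 913⟩)))) (.node (.node (.node (.node (.leaf ⟨(nat_lit 84987514980498058623787163916674531328), [(nat_lit 116)], .kill 64 117 [] 81⟩) (.leaf ⟨(nat_lit 44460311977684768369454421320400896), [(nat_lit 91), (nat_lit 100), (nat_lit 108), (nat_lit 115)], .w 5 1105⟩)) (.node (.leaf ⟨(nat_lit 21772614016336666622298311501088292864), [(nat_lit 81), (nat_lit 91), (nat_lit 102), (nat_lit 103)], .w 6 1586⟩) (.leaf ⟨(nat_lit 11132976602003766301277937596979216384), [(nat_lit 86), (nat_lit 101), (nat_lit 105)], .w 4 1617⟩))) (.node (.node (.leaf ⟨(nat_lit 21265700831140223720383256227555049472), [(nat_lit 93), (nat_lit 109)], .w 5 337⟩) (.leaf ⟨(nat_lit 58190143079257472949881162852194058240), [(nat_lit 70), (nat_lit 74)], .w 5 1361⟩)) (.leaf ⟨(nat_lit 49626485984276405941774016586058825728), [(nat_lit 88)], .w 4 849⟩))) (.node (.node (.node (.leaf ⟨(nat_lit 84069046977831596494423837337790185472), [(nat_lit 99)], .kill 91 120 [] 209⟩) (.leaf ⟨(nat_lit 31860572439824857988247401114124681216),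 [(nat_lit 78), (nat_lit 94)], .w 2 1233⟩)) (.node (.leaf ⟨(nat_lit 85070587866642152186284884394233561088), [(nat_lit 69)], .w 1 721⟩) (.leaf ⟨(nat_lit 44299322827335861806224889811566592), [(nat_lit 92), (nat_lit 101), (nat_lit 107), (nat_lit 111)], .br 115 1745 1768⟩))) (.node (.node (.leaf ⟨(nat_lit 44673536419142157101040245176738512896), [(nat_lit 87), (nat_lit 92)], .sq 87 97 115 1 465⟩) (.leaf ⟨(nat_lit 332309573861510681816923555248472064), [(nat_lit 95), (nat_lit 101), (nat_lit 118)], .w 6 1489⟩)) (.leaf ⟨(nat_lit 84699343742789414975783996269527040), [(nat_lit 90), (nat_lit 108), (nat_lit 110), (nat_lit 116)], .w 6 977⟩))))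

def nodes3 : Tr (Node) :=
  .node (.node (.node (.node (.node (.leaf ⟨(nat_lit 85067995581805348452029386609777442816), [], .br 111 49 118⟩) (.leaf ⟨(nat_lit 5369159470897640214270006497883717632), [(nat_lit 89), (nat_lit 113), (nat_lit 115)], .kill 81 122 [] 1073⟩)) (.node (.leaf ⟨(nat_lit 74478296006903618203901483091744522240), [(nat_lit 78), (nat_lit 89)], .kill 66 91 [] 561⟩) (.leaf ⟨(nat_lit 43046757388290855940419302949302304768), [(nat_lit 82), (nat_lit 85), (nat_lit 87), (nat_lit 104)], .w 0 1585⟩))) (.node (.node (.leaf ⟨(nat_lit 14875930509605801470022914182408568832), [(nat_lit 93), (nat_lit 112), (nat_lit 116)], .kill 64 117 [] 305⟩) (.leaf ⟨(nat_lit 830767579069615013399977556017414144), [(nat_lit 91), (nat_lit 96), (nat_lit 117)], .w 1 1329⟩)) (.leaf ⟨(nat_lit 85069200578839746515010608814245281792), [(nat_lit 80)], .kill 98 107 [] 817⟩))) (.node (.node (.node (.leaf ⟨(nat_lit 85070064387584920922412629229408616448), [(nat_lit 105)], .kill 73 111 [] 177⟩) (.leaf ⟨(nat_lit 10633829076495809153280231265827553280),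 [(nat_lit 95), (nat_lit 102), (nat_lit 123)], .w 4 1201⟩)) (.node (.leaf ⟨(nat_lit 85049832654140286609592812110893547520), [(nat_lit 73)], .kill 108 114 [] 689⟩) (.leaf ⟨(nat_lit 53506619761026698826121465420964691968), [(nat_lit 99), (nat_lit 112), (nat_lit 123)], .w 3 1713⟩))) (.node (.node (.leaf ⟨(nat_lit 81891920300965059037436170330225770496), [(nat_lit 92)], .kill 100 122 [] 433⟩) (.leaf ⟨(nat_lit 841152091082642075821940405333655552), [(nat_lit 113), (nat_lit 119)], .br 117 1457 1463⟩)) (.leaf ⟨(nat_lit 5399988732876220733671716182388899840), [(nat_lit 116), (nat_lit 122)], .w 5 945⟩)))) (.node (.node (.node (.node (.leaf ⟨(nat_lit 78678874297378243055122610876672114688), [(nat_lit 112)], .kill 89 124 [] 113⟩) (.leaf ⟨(nat_lit 58813226386049118569086424896170360832), [(nat_lit 83), (nat_lit 91)], .kill 64 92 [] 1137⟩)) (.node (.leaf ⟨(nat_lit 171508689590938995769500497937956864), [(nat_lit 81), (nat_lit 87), (nat_lit 99), (nat_lit 107), (nat_lit 112), (nat_lit 117)], .w 2 625⟩) (.leaf ⟨(nat_lit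 21600768084799087929574234968293376), [(nat_lit 89), (nat_lit 90), (nat_lit 104), (nat_lit 107), (nat_lit 109), (nat_lit 114)], .dbl 31 58 89 87 [(nat_lit 87), (nat_lit 92), (nat_lit 124)] [(nat_lit 111)] 1649⟩))) (.node (.node (.leaf ⟨(nat_lit 21267688497377861269801760858988085248), [(nat_lit 105), (nat_lit 124)], .w 4 369⟩) (.leaf ⟨(nat_lit 68792661156099453913971176747355340800), [(nat_lit 65), (nat_lit 69)], .sq 65 75 77 1 1393⟩)) (.leaf ⟨(nat_lit 42535295865117307932921825928971026432), [(nat_lit 125)], .rep 0⟩))) (.node (.node (.node (.leaf ⟨(nat_lit 63802294770472165360212214780608380928), [(nat_lit 93)], .kill 124 125 [] 241⟩) (.leaf ⟨(nat_lit 2659267287953977812624572010612129792), [(nat_lit 107), (nat_lit 109)], .w 5 1265⟩)) (.node (.leaf ⟨(nat_lit 85070591690619871190007616170855759872), [(nat_lit 66)], .kill 79 80 [] 753⟩) (.leaf ⟨(nat_lit 171361008150941308690470631049789440), [(nat_lit 81), (nat_lit 83), (nat_lit 102), (nat_lit 103), (nat_lit 112), (nat_lit 117)], .w 6 1777⟩))) (.node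 (.node (.leaf ⟨(nat_lit 85070402417422367185170248037172248576), [(nat_lit 88)], .w 4 497⟩) (.leaf ⟨(nat_lit 1329230852950526543561481527459053568), [(nat_lit 92), (nat_lit 98), (nat_lit 101)], .w 3 1521⟩)) (.leaf ⟨(nat_lit 7970991925995263618132369351901184), [(nat_lit 92), (nat_lit 104), (nat_lit 107)], .br 111 1009 1013⟩))))

def nodes4 : Tr (Node) :=
  .node (.node (.node (.node (.node (.leaf ⟨(nat_lit 85070591730234613504660410423119446016), [], .br 71 9 693⟩) (.leaf ⟨(nat_lit 55049137576242301291431169909359378432), [(nat_lit 85), (nat_lit 99)], .w 2 1033⟩)) (.node (.leaf ⟨(nat_lit 85070591730227362310925964082893815808), [(nat_lit 81)], .w 6 521⟩) (.leaf ⟨(nat_lit 1370769227818805164589725498092814336), [(nat_lit 92), (nat_lit 98), (nat_lit 101), (nat_lit 115), (nat_lit 120)], .dbl 38 47 98 97 [(nat_lit 97), (nat_lit 102), (nat_lit 125)] [(nat_lit 116)] 1545⟩))) (.node (.node (.leaf ⟨(nat_lit 41206068186245042117075369242866483200), [(nat_lit 98), (nat_lit 120)], .kill 64 121 [] 265⟩) (.leaf ⟨(nat_lit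 675039161380495052191333516897681408), [(nat_lit 92), (nat_lit 105), (nat_lit 113)], .br 119 1289 1314⟩)) (.node (.leaf ⟨(nat_lit 85050814355879749661925286002013765632), [(nat_lit 66)], .sq 66 117 118 1 777⟩) (.leaf ⟨(nat_lit 21282261412391905112857507783734460416), [(nat_lit 90), (nat_lit 91), (nat_lit 103), (nat_lit 108), (nat_lit 110), (nat_lit 111), (nat_lit 113)], .w 0 1801⟩)))) (.node (.node (.node (.leaf ⟨(nat_lit 13292928994956475582491636914844598272), [(nat_lit 109), (nat_lit 121)], .w 4 137⟩) (.leaf ⟨(nat_lit 52629129044488101404532704707707142144), [(nat_lit 73), (nat_lit 92)], .kill 99 121 [] 1161⟩)) (.node (.leaf ⟨(nat_lit 85070591720331086106827643919458631680), [(nat_lit 73)], .kill 69 74 [] 649⟩) (.leaf ⟨(nat_lit 12017329547073673654259158735650816), [(nat_lit 89), (nat_lit 90), (nat_lit 103)], .br 108 1673 1696⟩))) (.node (.node (.leaf ⟨(nat_lit 8058444744253093108045414701335576576), [(nat_lit 94), (nat_lit 116), (nat_lit 121)], .kill 66 122 [] 393⟩) (.leaf ⟨(nat_lit 54667180051295218185942169944928026624),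 [(nat_lit 68), (nat_lit 75)], .br 71 1417 1650⟩)) (.leaf ⟨(nat_lit 1391535558087333804446173016230985728), [(nat_lit 114), (nat_lit 115), (nat_lit 120)], .w 1 905⟩)))) (.node (.node (.node (.node (.leaf ⟨(nat_lit 69119855780815625390997967134577917952), [(nat_lit 122)], .w 3 73⟩) (.leaf ⟨(nat_lit 2720764823998729984150142123012784128), [(nat_lit 91), (nat_lit 100), (nat_lit 114), (nat_lit 115)], .w 3 1291⟩)) (.node (.leaf ⟨(nat_lit 21518911498283456392641705914413350912), [(nat_lit 79), (nat_lit 102), (nat_lit 106)], .w 4 585⟩) (.leaf ⟨(nat_lit 21779102166547822530500990710820372480), [(nat_lit 82), (nat_lit 98), (nat_lit 101)], .kill 83 111 [] 1609⟩))) (.node (.node (.leaf ⟨(nat_lit 45282064003402639508214109375037440000), [(nat_lit 101), (nat_lit 105), (nat_lit 112), (nat_lit 116), (nat_lit 121)], .w 4 329⟩) (.leaf ⟨(nat_lit 58190143099064514759038867967991349248), [(nat_lit 71), (nat_lit 74)], .sq 71 84 90 1 1353⟩)) (.leaf ⟨(nat_lit 53127591566784666583557709281017987072), [(nat_lit 73)], .w 3 841⟩)))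 (.node (.node (.node (.leaf ⟨(nat_lit 85070482712282996238115123141466390528), [(nat_lit 101)], .kill 72 108 [] 201⟩) (.leaf ⟨(nat_lit 5401286807090854440578848806471204864), [(nat_lit 110), (nat_lit 116), (nat_lit 122)], .w 4 1225⟩)) (.node (.leaf ⟨(nat_lit 85070591710407288541162969822423678976), [(nat_lit 69)], .sq 69 85 88 1 713⟩) (.leaf ⟨(nat_lit 21438507570332066735706039352557568), [(nat_lit 78), (nat_lit 89), (nat_lit 104), (nat_lit 109)], .w 4 1737⟩))) (.node (.node (.leaf ⟨(nat_lit 85049485828216293593946950944795131904), [(nat_lit 92)], .sq 92 109 124 1 457⟩) (.leaf ⟨(nat_lit 768459935063154489022513456724574208), [(nat_lit 114), (nat_lit 116), (nat_lit 119)], .rep 3⟩)) (.leaf ⟨(nat_lit 2920669458805919111808953983434752), [(nat_lit 91), (nat_lit 108), (nat_lit 111)], .w 0 969⟩))))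

def nodes5 : Tr (Node) :=
  .node (.node (.node (.node (.node (.leaf ⟨(nat_lit 85070581589029814040008439884316409856), [], .br 103 41 170⟩) (.leaf ⟨(nat_lit 21527263409315531165280597045996945408), [(nat_lit 82), (nat_lit 99), (nat_lit 113)], .w 5 1065⟩)) (.node (.leaf ⟨(nat_lit 74478296036923664156571954758048284672), [(nat_lit 78), (nat_lit 88)], .sq 88 93 104 1 553⟩) (.leaf ⟨(nat_lit 21779101849635172473443640336644571136), [(nat_lit 82), (nat_lit 101), (nat_lit 103), (nat_lit 111)], .kill 66 113 [] 1577⟩))) (.node (.node (.leaf ⟨(nat_lit 20192842492745464961638142423529947136), [(nat_lit 93), (nat_lit 112)], .kill 82 122 [] 297⟩) (.leaf ⟨(nat_lit 1266920443390853958922941820221521920), [(nat_lit 82), (nat_lit 93), (nat_lit 114)], .kill 69 117 [] 1321⟩)) (.leaf ⟨(nat_lit 85070590993378255507756332125515677696), [(nat_lit 70)], .kill 99 103 [] 809⟩))) (.node (.node (.node (.leaf ⟨(nat_lit 78706864022631282360307658083446816768), [(nat_lit 106)], .kill 89 123 [] 169⟩) (.leaf ⟨(nat_lit 18942147986945888356615859120229056512),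 [(nat_lit 93), (nat_lit 109), (nat_lit 118)], .kill 78 122 [] 1193⟩)) (.node (.leaf ⟨(nat_lit 85067879256830591102337442345987866624), [(nat_lit 77)], .kill 100 113 [] 681⟩) (.leaf ⟨(nat_lit 43868661472461368746592118228513718272), [(nat_lit 106), (nat_lit 107), (nat_lit 110), (nat_lit 111), (nat_lit 120)], .w 5 1705⟩))) (.node (.node (.leaf ⟨(nat_lit 85070590942904750880341797022099046400), [(nat_lit 92)], .sq 92 100 122 1 425⟩) (.leaf ⟨(nat_lit 15951385303438957385356601409581088768), [(nat_lit 98), (nat_lit 109)], .w 5 1449⟩)) (.leaf ⟨(nat_lit 2668921714925316007746370902224273408), [(nat_lit 106), (nat_lit 113)], .w 3 937⟩)))) (.node (.node (.node (.node (.leaf ⟨(nat_lit 85060207136517546210586590865283612672), [(nat_lit 113)], .kill 64 114 [] 105⟩) (.leaf ⟨(nat_lit 51028901673420272520007577980819734528), [(nat_lit 87), (nat_lit 92)], .sq 92 96 118 1 1129⟩)) (.node (.leaf ⟨(nat_lit 84700611470760895660521760153927680), [(nat_lit 86), (nat_lit 90), (nat_lit 100), (nat_lit 110), (nat_lit 116)], .w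 3 617⟩) (.leaf ⟨(nat_lit 21438508807969874566182656958005248), [(nat_lit 89), (nat_lit 90), (nat_lit 104)], .w 0 1675⟩))) (.node (.node (.leaf ⟨(nat_lit 2658456011376872374373698518946676736), [(nat_lit 94), (nat_lit 121)], .w 3 361⟩) (.leaf ⟨(nat_lit 56309423231386762048249665504476659712), [(nat_lit 67), (nat_lit 84)], .w 3 1385⟩)) (.leaf ⟨(nat_lit 8058444724446052479479330302949588992), [(nat_lit 116)], .br 121 873 886⟩))) (.node (.node (.node (.leaf ⟨(nat_lit 85070581608836854668574524282702397440), [(nat_lit 94)], .kill 87 109 [] 233⟩) (.leaf ⟨(nat_lit 1163074516196213269812251843312484352), [(nat_lit 86), (nat_lit 94)], .w 3 1257⟩)) (.node (.leaf ⟨(nat_lit 85070591730234614832825983730207162368), [(nat_lit 67)], .w 6 745⟩) (.leaf ⟨(nat_lit 44299322827335861806224889811566592), [(nat_lit 92), (nat_lit 101), (nat_lit 107), (nat_lit 111), (nat_lit 115)], .dbl 51 55 101 102 [(nat_lit 102), (nat_lit 106), (nat_lit 125)] [(nat_lit 110)] 1769⟩))) (.node (.node (.leaf ⟨(nat_lit 85070588742659759181716699056858726400),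 [(nat_lit 85)], .w 5 489⟩) (.leaf ⟨(nat_lit 21518911495806971851161138050027749376), [(nat_lit 91), (nat_lit 102), (nat_lit 106)], .w 1 1513⟩)) (.leaf ⟨(nat_lit 664776262121047306956816207746957312), [(nat_lit 92), (nat_lit 107), (nat_lit 119)], .w 2 1001⟩))))

def nodes6 : Tr (Node) :=
  .node (.node (.node (.node (.node (.leaf ⟨(nat_lit 85070591730079873360932979323579662336), [], .br 87 25 439⟩) (.leaf ⟨(nat_lit 9346134662275339788412243766771974144), [(nat_lit 98), (nat_lit 115)], .br 120 1451 1049⟩)) (.node (.leaf ⟨(nat_lit 85070586699091855936602445790832492544), [(nat_lit 78)], .sq 78 115 119 1 537⟩) (.leaf ⟨(nat_lit 11133098296461388211300481280486932480), [(nat_lit 86), (nat_lit 101), (nat_lit 109)], .w 3 1561⟩))) (.node (.node (.leaf ⟨(nat_lit 31403011420225678125918526197509128192), [(nat_lit 94), (nat_lit 117)], .w 4 281⟩) (.leaf ⟨(nat_lit 171355940012331216147478902288154624), [(nat_lit 91), (nat_lit 103), (nat_lit 117)], .w 1 1305⟩)) (.node (.leaf ⟨(nat_lit 85070591730234610276480197523947913216),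 [(nat_lit 68)], .w 6 793⟩) (.leaf ⟨(nat_lit 43282991688300484181489344486788038656), [(nat_lit 92), (nat_lit 102), (nat_lit 116), (nat_lit 119)], .kill 98 125 [] 1817⟩)))) (.node (.node (.node (.leaf ⟨(nat_lit 10644208559996396638487517474901196800), [(nat_lit 113), (nat_lit 123)], .w 5 153⟩) (.leaf ⟨(nat_lit 42564624232189553336746959272853635072), [(nat_lit 88), (nat_lit 91), (nat_lit 105)], .kill 73 111 [] 1177⟩)) (.node (.leaf ⟨(nat_lit 85070591718737806879172254320809738240), [(nat_lit 76)], .kill 82 92 [] 665⟩) (.leaf ⟨(nat_lit 667372410550314720771081455911567360), [(nat_lit 92), (nat_lit 107), (nat_lit 111), (nat_lit 119)], .rep 4⟩))) (.node (.node (.leaf ⟨(nat_lit 85070591695572294765853004160766574592), [(nat_lit 92)], .sq 92 95 117 1 409⟩) (.leaf ⟨(nat_lit 21518911498282851929731898599825997824), [(nat_lit 102), (nat_lit 106)], .w 1 1433⟩)) (.leaf ⟨(nat_lit 2846189974861231607251669878464053248), [(nat_lit 107), (nat_lit 109)], .br 114 1263 921⟩)))) (.node (.node (.node (.node (.leaf ⟨(nat_lit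 4984604984193434523389276476051292160), [(nat_lit 118)], .br 119 89 97⟩) (.leaf ⟨(nat_lit 44673536418987414596129572642376122368), [(nat_lit 92), (nat_lit 97)], .kill 63 98 [] 1113⟩)) (.node (.leaf ⟨(nat_lit 42785339947328241937017574492899115008), [(nat_lit 79), (nat_lit 86), (nat_lit 90), (nat_lit 101)], .w 5 601⟩) (.leaf ⟨(nat_lit 29256012021227861663349012186135527424), [(nat_lit 72), (nat_lit 81), (nat_lit 97)], .w 2 1625⟩))) (.node (.node (.leaf ⟨(nat_lit 21030100361184205916738684956616687616), [(nat_lit 93), (nat_lit 110)], .w 5 345⟩) (.leaf ⟨(nat_lit 68792661146192193448540213641733996544), [(nat_lit 69), (nat_lit 77)], .kill 80 91 [] 1369⟩)) (.leaf ⟨(nat_lit 46095720755442211366888346837644738560), [(nat_lit 91)], .w 6 857⟩))) (.node (.node (.node (.leaf ⟨(nat_lit 85070591710427575237277567459556065280), [(nat_lit 94)], .kill 69 95 [] 217⟩) (.leaf ⟨(nat_lit 21266998905360902056388461997510885376), [(nat_lit 80), (nat_lit 93)], .w 5 1241⟩)) (.node (.leaf ⟨(nat_lit 85065327235611081183866031252403388416),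 [(nat_lit 79)], .sq 79 113 120 1 729⟩) (.leaf ⟨(nat_lit 166235263135093039326171604543602688), [(nat_lit 82), (nat_lit 85), (nat_lit 87), (nat_lit 99), (nat_lit 106)], .w 2 1753⟩))) (.node (.node (.leaf ⟨(nat_lit 85070591730215273052729817791146754048), [(nat_lit 84)], .sq 84 93 100 1 476⟩) (.leaf ⟨(nat_lit 20951729120572175547937510578454528), [(nat_lit 104), (nat_lit 107), (nat_lit 114)], .w 2 1497⟩)) (.leaf ⟨(nat_lit 46804195462864626001346656023791796224), [(nat_lit 90), (nat_lit 104)], .w 5 985⟩))))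

def nodes7 : Tr (Node) :=
  .node (.node (.node (.node (.node (.leaf ⟨(nat_lit 84405977732342157929391748327801880576), [], .br 119 57 65⟩) (.leaf ⟨(nat_lit 748015266182673605235174627428270080), [(nat_lit 108), (nat_lit 116), (nat_lit 119)], .w 2 1081⟩)) (.node (.leaf ⟨(nat_lit 74456543118425654154783641236955725824), [(nat_lit 78), (nat_lit 87)], .kill 108 123 [] 569⟩) (.leaf ⟨(nat_lit 21438508807969874566182656958005248), [(nat_lit 89), (nat_lit 90), (nat_lit 104), (nat_lit 109)], .w 0 1593⟩))) (.node (.node (.leaf ⟨(nat_lit 2658618270653701587737090096956964864), [(nat_lit 94), (nat_lit 107), (nat_lit 121)], .w 3 313⟩) (.leaf ⟨(nat_lit 2758571114181812847853112859295744), [(nat_lit 92), (nat_lit 97), (nat_lit 107), (nat_lit 111)], .w 1 1337⟩)) (.leaf ⟨(nat_lit 84921051322671732198179372035190292480), [(nat_lit 70)], .kill 114 118 [] 825⟩))) (.node (.node (.node (.leaf ⟨(nat_lit 82930402010062093428543949875867287552), [(nat_lit 103)], .kill 92 123 [] 185⟩) (.leaf ⟨(nat_lit 103927066809111159252305715589545984),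 [(nat_lit 106), (nat_lit 114), (nat_lit 116)], .w 2 1209⟩)) (.node (.leaf ⟨(nat_lit 85070591730234605240519065401240322048), [(nat_lit 70)], .sq 70 78 80 1 701⟩) (.leaf ⟨(nat_lit 2991412027623377567487132197671927808), [(nat_lit 109), (nat_lit 118), (nat_lit 121)], .w 5 1721⟩))) (.node (.node (.leaf ⟨(nat_lit 85070591720176353046649937124386668544), [(nat_lit 87)], .sq 87 94 109 1 441⟩) (.leaf ⟨(nat_lit 768459935063154489022513456724574208), [(nat_lit 114), (nat_lit 116), (nat_lit 119)], .rep 3⟩)) (.leaf ⟨(nat_lit 2679387439518740308970507958786981888), [(nat_lit 90), (nat_lit 107), (nat_lit 114)], .w 3 953⟩)))) (.node (.node (.node (.node (.leaf ⟨(nat_lit 85036841800654139486258203631802122240), [(nat_lit 111)], .kill 70 116 [] 121⟩) (.leaf ⟨(nat_lit 50530439194296866211060210494615846912), [(nat_lit 87), (nat_lit 92)], .kill 99 121 [] 1145⟩)) (.node (.leaf ⟨(nat_lit 42649556820871926767375888594086395904), [(nat_lit 82), (nat_lit 83), (nat_lit 90), (nat_lit 103), (nat_lit 104), (nat_lit 113), (nat_lit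 114), (nat_lit 116)], .w 5 1791⟩) (.leaf ⟨(nat_lit 49204892609592943172209473205460533248), [(nat_lit 72), (nat_lit 75), (nat_lit 97)], .w 5 1657⟩))) (.node (.node (.leaf ⟨(nat_lit 10654593232941628808008916061103587328), [(nat_lit 96), (nat_lit 114), (nat_lit 123)], .w 5 377⟩) (.leaf ⟨(nat_lit 66934941541042983680532587650972909568), [(nat_lit 68), (nat_lit 80)], .w 6 1401⟩)) (.leaf ⟨(nat_lit 5399988732876220733671716182388899840), [(nat_lit 116), (nat_lit 122)], .w 5 889⟩))) (.node (.node (.node (.leaf ⟨(nat_lit 31859933543776742957229209874480496640), [(nat_lit 94)], .br 115 249 275⟩) (.leaf ⟨(nat_lit 1495381495258030357016782942815387648), [(nat_lit 117), (nat_lit 120)], .w 4 1273⟩)) (.node (.leaf ⟨(nat_lit 85070591706431718126911998430556454912), [(nat_lit 70)], .kill 94 96 [] 761⟩) (.leaf ⟨(nat_lit 42743966368236642935959429920403226624), [(nat_lit 85), (nat_lit 91), (nat_lit 102), (nat_lit 108), (nat_lit 109), (nat_lit 115), (nat_lit 117)], .kill 71 108 [] 1785⟩))) (.node (.node (.leaf ⟨(nat_lit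 85057494068906987177648856089801785344), [(nat_lit 86)], .w 6 505⟩) (.leaf ⟨(nat_lit 664776262121047306956816207746957312), [(nat_lit 92), (nat_lit 107), (nat_lit 119)], .w 2 1529⟩)) (.leaf ⟨(nat_lit 7950709516391611947708422100615168), [(nat_lit 92), (nat_lit 107), (nat_lit 111), (nat_lit 112)], .w 3 1017⟩))))

def nodes8 : Tr (Node) :=
  .node (.node (.node (.node (.node (.leaf ⟨(nat_lit 85070591730234615718269699268265639936), [], .br 67 5 739⟩) (.leaf ⟨(nat_lit 46805657064006689149846581722587594752), [(nat_lit 90), (nat_lit 100)], .w 4 1029⟩)) (.node (.leaf ⟨(nat_lit 85070591730232802477114229914179993600), [(nat_lit 79)], .w 4 517⟩) (.leaf ⟨(nat_lit 88274122149253139744145524006060032), [(nat_lit 92), (nat_lit 102), (nat_lit 112), (nat_lit 116)], .w 3 1541⟩))) (.node (.node (.leaf ⟨(nat_lit 31901476969440381862608975433541091328), [(nat_lit 102)], .w 3 261⟩) (.leaf ⟨(nat_lit 768459935063154489022513456724574208), [(nat_lit 114), (nat_lit 116), (nat_lit 119)], .rep 3⟩)) (.node (.leaf ⟨(nat_lit 85066442171133649878609579951215607808),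 [(nat_lit 80)], .kill 110 119 [] 773⟩) (.leaf ⟨(nat_lit 10722418165640233856033640160117653504), [(nat_lit 86), (nat_lit 88), (nat_lit 99), (nat_lit 108), (nat_lit 112), (nat_lit 116)], .w 4 1797⟩)))) (.node (.node (.node (.leaf ⟨(nat_lit 15951384986526307328299251035405287424), [(nat_lit 109)], .w 5 133⟩) (.leaf ⟨(nat_lit 53127590729008744997176608243035668480), [(nat_lit 73), (nat_lit 91)], .w 5 1157⟩)) (.node (.leaf ⟨(nat_lit 85070591730233671392547077928899313664), [(nat_lit 75)], .sq 75 93 96 1 654⟩) (.leaf ⟨(nat_lit 176619856697420189672560062839652352), [(nat_lit 82), (nat_lit 85), (nat_lit 99)], .w 3 1669⟩))) (.node (.node (.leaf ⟨(nat_lit 15952034033537144496035859546639433728), [(nat_lit 93), (nat_lit 110), (nat_lit 122)], .w 4 389⟩) (.leaf ⟨(nat_lit 78681553022018795967895715467570970624), [(nat_lit 68), (nat_lit 75)], .kill 101 112 [] 1413⟩)) (.leaf ⟨(nat_lit 5399988732876220733671716182388899840), [(nat_lit 116), (nat_lit 122)], .w 5 901⟩)))) (.node (.node (.node (.node (.leaf ⟨(nat_lit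 81082907742879868247132230677101019136), [(nat_lit 120)], .w 5 69⟩) (.leaf ⟨(nat_lit 10888247146250204903598487817907339264), [(nat_lit 86), (nat_lit 99), (nat_lit 112), (nat_lit 116)], .kill 64 117 [] 1093⟩)) (.node (.leaf ⟨(nat_lit 42746643646304929419365198272160333824), [(nat_lit 79), (nat_lit 85), (nat_lit 91)], .br 102 581 597⟩) (.leaf ⟨(nat_lit 43046839785580021891057852063657492480), [(nat_lit 77), (nat_lit 82), (nat_lit 85)], .w 0 1605⟩))) (.node (.node (.leaf ⟨(nat_lit 1391535558087333804446173016230985728), [(nat_lit 114), (nat_lit 115), (nat_lit 120)], .w 1 325⟩) (.leaf ⟨(nat_lit 53127591567868166644535225858201223168), [(nat_lit 68), (nat_lit 73)], .sq 68 87 91 1 1349⟩)) (.leaf ⟨(nat_lit 53127591567868166349387320678848397312), [(nat_lit 73)], .br 78 837 1229⟩))) (.node (.node (.node (.leaf ⟨(nat_lit 85070584124331014496467242877722820608), [(nat_lit 101)], .w 6 197⟩) (.leaf ⟨(nat_lit 53190862574491749506846753864592392192), [(nat_lit 109), (nat_lit 114), (nat_lit 123)], .w 3 1221⟩)) (.node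 (.leaf ⟨(nat_lit 85070591710422272019717304847981084672), [(nat_lit 72)], .w 6 709⟩) (.leaf ⟨(nat_lit 176538727213748087901536808196898816), [(nat_lit 82), (nat_lit 85), (nat_lit 87), (nat_lit 99)], .w 0 1733⟩))) (.node (.node (.leaf ⟨(nat_lit 85070590943059493385252469556461436928), [(nat_lit 92)], .sq 92 100 122 1 453⟩) (.leaf ⟨(nat_lit 685423750145804550306873409959624704), [(nat_lit 105), (nat_lit 114), (nat_lit 119)], .w 4 1477⟩)) (.leaf ⟨(nat_lit 2825420788665032336022928168046297088), [(nat_lit 90), (nat_lit 107), (nat_lit 109)], .br 117 965 974⟩))))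

def nodes9 : Tr (Node) :=
  .node (.node (.node (.node (.node (.leaf ⟨(nat_lit 85070591096409315751728951109590450176), [], .br 99 37 191⟩) (.leaf ⟨(nat_lit 747690752580775335649912571004190720), [(nat_lit 92), (nat_lit 116), (nat_lit 119)], .w 0 1061⟩)) (.node (.leaf ⟨(nat_lit 74478296035995209127107919551873941504), [(nat_lit 78)], .w 3 549⟩) (.leaf ⟨(nat_lit 166883668694726022818998533379588096), [(nat_lit 91), (nat_lit 106), (nat_lit 109), (nat_lit 117)], .w 5 1573⟩))) (.node (.node (.leaf ⟨(nat_lit 21080725255554920486116857295826583552), [(nat_lit 93), (nat_lit 114)], .kill 70 118 [] 293⟩) (.leaf ⟨(nat_lit 1279901185537191027994268061044572160), [(nat_lit 82), (nat_lit 93), (nat_lit 111)], .kill 66 113 [] 1317⟩)) (.leaf ⟨(nat_lit 85070591688423252984991206997269413888), [(nat_lit 66)], .w 3 805⟩))) (.node (.node (.node (.leaf ⟨(nat_lit 84550388488720157822810252756958314496), [(nat_lit 108)], .kill 83 121 [] 165⟩) (.leaf ⟨(nat_lit 19129070673853142151242956988080979968), [(nat_lit 93), (nat_lit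 109), (nat_lit 114)], .kill 69 117 [] 1189⟩)) (.node (.leaf ⟨(nat_lit 85070522550248890461107803621964120064), [(nat_lit 75)], .sq 75 108 118 1 677⟩) (.leaf ⟨(nat_lit 11804367341085429328258399844958208), [(nat_lit 105), (nat_lit 106), (nat_lit 110), (nat_lit 113)], .br 92 1701 1808⟩))) (.node (.node (.leaf ⟨(nat_lit 85070591023370853433891514890542120960), [(nat_lit 90)], .w 6 421⟩) (.leaf ⟨(nat_lit 37218384832715594612478648810377052160), [(nat_lit 98), (nat_lit 99)], .br 122 1445 1465⟩)) (.leaf ⟨(nat_lit 2845540938991854793083483841322024960), [(nat_lit 90), (nat_lit 107)], .br 114 933 951⟩)))) (.node (.node (.node (.node (.leaf ⟨(nat_lit 1661534994731144841129758825350430720), [(nat_lit 118), (nat_lit 120)], .w 5 101⟩) (.leaf ⟨(nat_lit 65082926112851567534058702743506255872), [(nat_lit 82), (nat_lit 93)], .kill 90 106 [] 1125⟩)) (.node (.leaf ⟨(nat_lit 103927700658589789759299047435272192), [(nat_lit 82), (nat_lit 84), (nat_lit 99), (nat_lit 106), (nat_lit 114)], .w 3 613⟩) (.leaf ⟨(nat_lit 11133098297699328250585861555386056704),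 [(nat_lit 86), (nat_lit 90), (nat_lit 101)], .w 3 1637⟩))) (.node (.node (.leaf ⟨(nat_lit 8058444744253093108045414701335576576), [(nat_lit 94), (nat_lit 116)], .br 121 357 392⟩) (.leaf ⟨(nat_lit 71296464365876344491691977630461984768), [(nat_lit 67), (nat_lit 70)], .sq 67 74 76 1 1381⟩)) (.leaf ⟨(nat_lit 14792853749965723913683384041948053504), [(nat_lit 112)], .br 117 869 893⟩))) (.node (.node (.node (.leaf ⟨(nat_lit 85070579766782076211928675232805552128), [(nat_lit 96)], .kill 81 106 [] 229⟩) (.leaf ⟨(nat_lit 1277305037107923614180002812879962112), [(nat_lit 82), (nat_lit 93)], .br 113 1253 1318⟩)) (.node (.leaf ⟨(nat_lit 85070591730234615792056675563103846400), [(nat_lit 66)], .sq 66 69 70 1 741⟩) (.leaf ⟨(nat_lit 88289333966127285053880517842173952), [(nat_lit 83), (nat_lit 92), (nat_lit 104), (nat_lit 112), (nat_lit 116)], .w 0 1765⟩))) (.node (.node (.leaf ⟨(nat_lit 85070591679053532366638711117581385728), [(nat_lit 85)], .sq 85 96 112 1 485⟩) (.leaf ⟨(nat_lit 64135575949001149408450174562898804736),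 [(nat_lit 99), (nat_lit 108), (nat_lit 124)], .w 2 1509⟩)) (.leaf ⟨(nat_lit 1413683954326281585690644514231812096), [(nat_lit 92), (nat_lit 106), (nat_lit 116)], .kill 78 120 [] 997⟩))))

def nodes10 : Tr (Node) :=
  .node (.node (.node (.node (.node (.leaf ⟨(nat_lit 85070591730224944459286734824544403456), [], .br 83 21 473⟩) (.leaf ⟨(nat_lit 10888571030978563216210570225576312832), [(nat_lit 86), (nat_lit 112)], .br 108 1045 1051⟩)) (.node (.leaf ⟨(nat_lit 85070591452781606792462701403469512704), [(nat_lit 78)], .sq 78 98 102 1 533⟩) (.leaf ⟨(nat_lit 43046818235519666895430574791056162816), [(nat_lit 82), (nat_lit 85), (nat_lit 87)], .w 0 1557⟩))) (.node (.node (.leaf ⟨(nat_lit 31776856794040185715172721933212975104), [(nat_lit 94), (nat_lit 115)], .w 6 277⟩) (.leaf ⟨(nat_lit 5368835586169281901657924090214744064), [(nat_lit 89), (nat_lit 99), (nat_lit 113)], .w 5 1301⟩)) (.node (.leaf ⟨(nat_lit 85070591730234615755163187415684743168), [(nat_lit 65)], .kill 66 68 [] 789⟩) (.leaf ⟨(nat_lit 43868499218136299690370247750099927040),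 [(nat_lit 92), (nat_lit 106), (nat_lit 110), (nat_lit 120)], .w 4 1813⟩)))) (.node (.node (.node (.leaf ⟨(nat_lit 333605073160862675133084389152391168), [(nat_lit 110), (nat_lit 118)], .w 6 149⟩) (.leaf ⟨(nat_lit 42555071219587370973637368132933779456), [(nat_lit 87), (nat_lit 92), (nat_lit 104)], .kill 63 105 [] 1173⟩)) (.node (.leaf ⟨(nat_lit 85070591720326410964009602970697072640), [(nat_lit 77)], .kill 78 86 [] 661⟩) (.leaf ⟨(nat_lit 674998596561287748850485622395109376), [(nat_lit 92), (nat_lit 113), (nat_lit 119)], .w 3 1685⟩))) (.node (.node (.leaf ⟨(nat_lit 1391535558087333804446173016230985728), [(nat_lit 114), (nat_lit 115), (nat_lit 120)], .w 1 405⟩) (.leaf ⟨(nat_lit 42568903819687468809742376936700641280), [(nat_lit 89), (nat_lit 90)], .br 104 1429 1548⟩)) (.leaf ⟨(nat_lit 25350172467220076796074711492339957760), [(nat_lit 106), (nat_lit 110)], .w 5 917⟩)))) (.node (.node (.node (.node (.leaf ⟨(nat_lit 84738284731288386897617700092871966720), [(nat_lit 118)], .kill 78 122 [] 85⟩) (.leaf ⟨(nat_lit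 88274122149253139744145524006060032), [(nat_lit 92), (nat_lit 102), (nat_lit 112), (nat_lit 116)], .w 3 1109⟩)) (.node (.leaf ⟨(nat_lit 42664053676855397082855811547926626304), [(nat_lit 79), (nat_lit 84), (nat_lit 92), (nat_lit 102)], .w 5 597⟩) (.leaf ⟨(nat_lit 2679995913044789898368606651224686592), [(nat_lit 91), (nat_lit 105), (nat_lit 106)], .kill 85 121 [] 1677⟩))) (.node (.node (.leaf ⟨(nat_lit 21254667200315837211672628922855456768), [(nat_lit 93), (nat_lit 111)], .kill 67 114 [] 341⟩) (.leaf ⟨(nat_lit 68792661146194535742315716985759989760), [(nat_lit 69), (nat_lit 76)], .w 2 1365⟩)) (.leaf ⟨(nat_lit 44673536260531089567600897455288221696), [(nat_lit 92)], .br 98 853 1114⟩))) (.node (.node (.node (.leaf ⟨(nat_lit 74395797316362953136922906326487531520), [(nat_lit 94)], .w 2 213⟩) (.leaf ⟨(nat_lit 21266998905363622139482594913153974272), [(nat_lit 78), (nat_lit 93)], .w 3 1237⟩)) (.node (.leaf ⟨(nat_lit 85069941493581799874969669665107738624), [(nat_lit 83)], .w 2 725⟩) (.leaf ⟨(nat_lit 7950709516391611947708422100615168),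 [(nat_lit 92), (nat_lit 107), (nat_lit 111), (nat_lit 112)], .w 3 1749⟩))) (.node (.node (.leaf ⟨(nat_lit 48924291020166600679931223152456105984), [(nat_lit 89), (nat_lit 90)], .w 6 469⟩) (.leaf ⟨(nat_lit 2920746211088354805385997729136640), [(nat_lit 96), (nat_lit 108), (nat_lit 111)], .w 1 1493⟩)) (.leaf ⟨(nat_lit 46805828196837719960815783777520320512), [(nat_lit 90), (nat_lit 103)], .kill 64 104 [] 981⟩))))

def nodes11 : Tr (Node) :=
  .node (.node (.node (.node (.node (.leaf ⟨(nat_lit 85029053355366337244815407887308292096), [], .br 115 53 78⟩) (.leaf ⟨(nat_lit 667210148797605428836929328103030784), [(nat_lit 91), (nat_lit 111), (nat_lit 119)], .w 5 1077⟩)) (.node (.leaf ⟨(nat_lit 74478275717994829345982812701272834048), [(nat_lit 78), (nat_lit 88)], .w 5 565⟩) (.leaf ⟨(nat_lit 11133098297699328250585861555386056704), [(nat_lit 86), (nat_lit 90), (nat_lit 101), (nat_lit 109)], .w 3 1589⟩))) (.node (.node (.leaf ⟨(nat_lit 1500573802020085498928355638337601536), [(nat_lit 93), (nat_lit 112), (nat_lit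 117)], .br 120 309 326⟩) (.leaf ⟨(nat_lit 103845947079052570132110642476220416), [(nat_lit 82), (nat_lit 93), (nat_lit 114), (nat_lit 116)], .w 2 1333⟩)) (.leaf ⟨(nat_lit 83072600177456276078477241397649866752), [(nat_lit 80)], .w 1 821⟩))) (.node (.node (.node (.leaf ⟨(nat_lit 85048859128344303100984392378189086720), [(nat_lit 103)], .kill 76 115 [] 181⟩) (.leaf ⟨(nat_lit 5319508290025255933958168676373889024), [(nat_lit 97), (nat_lit 111), (nat_lit 122)], .w 1 1205⟩)) (.node (.leaf ⟨(nat_lit 85070591730234601698744203249006411776), [(nat_lit 72)], .sq 72 78 82 1 705⟩) (.leaf ⟨(nat_lit 48018361981555386022764730800979050496), [(nat_lit 99), (nat_lit 117), (nat_lit 122)], .w 4 1717⟩))) (.node (.node (.leaf ⟨(nat_lit 85070591719712125531917919521299496960), [(nat_lit 89)], .sq 89 94 111 1 445⟩) (.leaf ⟨(nat_lit 1495381495258030357016782942815387648), [(nat_lit 117), (nat_lit 120)], .w 4 1461⟩)) (.leaf ⟨(nat_lit 1500573792116565184645313439144607744), [(nat_lit 112), (nat_lit 117), (nat_lit 120)], .w 3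 949⟩)))) (.node (.node (.node (.node (.leaf ⟨(nat_lit 85069293656019982158936519233859747840), [(nat_lit 110)], .kill 63 111 [] 117⟩) (.leaf ⟨(nat_lit 56309422497590321910018163553561739264), [(nat_lit 84), (nat_lit 92)], .w 3 1141⟩)) (.node (.leaf ⟨(nat_lit 84700611470760895660521760153927680), [(nat_lit 86), (nat_lit 90), (nat_lit 100), (nat_lit 108), (nat_lit 110), (nat_lit 116)], .w 3 1799⟩) (.leaf ⟨(nat_lit 65303559581359467362125982184576647168), [(nat_lit 68), (nat_lit 70), (nat_lit 76)], .kill 93 97 [] 1653⟩))) (.node (.node (.leaf ⟨(nat_lit 5483065482612777975728204123656421376), [(nat_lit 117), (nat_lit 122)], .w 1 373⟩) (.leaf ⟨(nat_lit 58813226446715661349768222390370697216), [(nat_lit 65), (nat_lit 83)], .w 4 1397⟩)) (.leaf ⟨(nat_lit 6687678353792857985547279272035483648), [(nat_lit 115), (nat_lit 120)], .w 5 885⟩))) (.node (.node (.node (.leaf ⟨(nat_lit 21262455645603639453115424667349286912), [(nat_lit 93)], .br 112 245 287⟩) (.leaf ⟨(nat_lit 1391535558087333804446173016230985728), [(nat_lit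 114), (nat_lit 115)], .br 120 1269 1275⟩)) (.node (.leaf ⟨(nat_lit 85070591690280163034695905372763324416), [(nat_lit 66)], .sq 66 89 91 1 757⟩) (.leaf ⟨(nat_lit 11010287041064021648047961976562778112), [(nat_lit 82), (nat_lit 91), (nat_lit 100), (nat_lit 104), (nat_lit 111), (nat_lit 115), (nat_lit 118)], .w 2 1781⟩))) (.node (.node (.leaf ⟨(nat_lit 85049485828245307813617702044988080128), [(nat_lit 92)], .kill 95 117 [] 501⟩) (.leaf ⟨(nat_lit 1370766692517604708130922504686403584), [(nat_lit 92), (nat_lit 98), (nat_lit 115)], .w 1 1525⟩)) (.leaf ⟨(nat_lit 1330607204589724343634156572964290560), [(nat_lit 92), (nat_lit 110), (nat_lit 120)], .w 6 1682⟩))))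

def nodes12 : Tr (Node) :=
  .node (.node (.node (.node (.node (.leaf ⟨(nat_lit 85070591730234578086911788900780343296), [], .br 75 13 642⟩) (.leaf ⟨(nat_lit 64083409591505393015398240749289996288), [(nat_lit 82), (nat_lit 99)], .kill 118 125 [] 1037⟩)) (.node (.leaf ⟨(nat_lit 85070591709726398261901082538226483200), [(nat_lit 82)], .w 6 525⟩) (.leaf ⟨(nat_lit 42568903819687468809742376936700641280), [(nat_lit 89), (nat_lit 90), (nat_lit 104)], .kill 68 108 [] 1549⟩))) (.node (.node (.leaf ⟨(nat_lit 37218384198890294498363948062025449472), [(nat_lit 98), (nat_lit 122)], .kill 69 123 [] 269⟩) (.leaf ⟨(nat_lit 171355940012331216147478902288154624), [(nat_lit 91), (nat_lit 103), (nat_lit 112), (nat_lit 117)], .w 5 1293⟩)) (.node (.leaf ⟨(nat_lit 81930288332155671474922434112704741376), [(nat_lit 70)], .kill 121 123 [] 828⟩) (.leaf ⟨(nat_lit 21291844848453750448562062310168854528), [(nat_lit 90), (nat_lit 104), (nat_lit 107), (nat_lit 109), (nat_lit 114)], .sq 90 111 124 1 1805⟩)))) (.node (.node (.node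 (.leaf ⟨(nat_lit 19129070663949621836959914788887986176), [(nat_lit 109), (nat_lit 114)], .kill 69 117 [] 141⟩) (.leaf ⟨(nat_lit 44544776076919851312367877989574115328), [(nat_lit 74), (nat_lit 92)], .w 1 1165⟩)) (.node (.leaf ⟨(nat_lit 85070591720330736651707911565712818176), [(nat_lit 74)], .w 4 653⟩) (.leaf ⟨(nat_lit 21600767465829068286884097518731264), [(nat_lit 90), (nat_lit 104), (nat_lit 107)], .w 6 1677⟩))) (.node (.node (.leaf ⟨(nat_lit 5319508290025255933958168676373889024), [(nat_lit 97), (nat_lit 111), (nat_lit 122)], .w 1 397⟩) (.leaf ⟨(nat_lit 50523746113095596306760838243560718336), [(nat_lit 72), (nat_lit 76)], .w 1 1421⟩)) (.leaf ⟨(nat_lit 25525412486195627228537615743451136000), [(nat_lit 106), (nat_lit 114)], .kill 69 117 [] 909⟩)))) (.node (.node (.node (.node (.leaf ⟨(nat_lit 21267647932558653966460912964485513216), [(nat_lit 124)], .w 0 77⟩) (.leaf ⟨(nat_lit 10888571664803863330325270973927915520), [(nat_lit 86), (nat_lit 99), (nat_lit 108), (nat_lit 112)], .kill 74 117 [] 1101⟩))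 (.node (.leaf ⟨(nat_lit 42786635486241675187465904123575009280), [(nat_lit 79), (nat_lit 86), (nat_lit 90), (nat_lit 107)], .w 0 589⟩) (.leaf ⟨(nat_lit 5670824819535152421402979953073455104), [(nat_lit 89), (nat_lit 102), (nat_lit 104)], .w 3 1613⟩))) (.node (.node (.leaf ⟨(nat_lit 63813510933079464419673615411376553984), [(nat_lit 104), (nat_lit 107), (nat_lit 124)], .w 2 333⟩) (.leaf ⟨(nat_lit 58813226426903784981030191327866781696), [(nat_lit 81), (nat_lit 83)], .w 1 1365⟩)) (.leaf ⟨(nat_lit 58813226442994360376213917541530075136), [(nat_lit 83)], .w 4 845⟩))) (.node (.node (.node (.leaf ⟨(nat_lit 85069862197314184519823090505247358976), [(nat_lit 99)], .kill 76 110 [] 205⟩) (.leaf ⟨(nat_lit 768459935063154489022513456724574208), [(nat_lit 114), (nat_lit 116), (nat_lit 119)], .rep 3⟩)) (.node (.leaf ⟨(nat_lit 85070591709827004147747947818564714496), [(nat_lit 69)], .kill 86 89 [] 717⟩) (.leaf ⟨(nat_lit 171508689588521144130271239588544512), [(nat_lit 87), (nat_lit 99), (nat_lit 107), (nat_lit 112)],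 .w 5 1741⟩))) (.node (.node (.leaf ⟨(nat_lit 81891920301119801542346842864588161024), [(nat_lit 92)], .kill 100 122 [] 461⟩) (.leaf ⟨(nat_lit 26750714128224894570568155430037487616), [(nat_lit 96), (nat_lit 99), (nat_lit 117)], .kill 84 124 [] 1485⟩)) (.leaf ⟨(nat_lit 2846189976099171646537050153363177472), [(nat_lit 90), (nat_lit 107), (nat_lit 109), (nat_lit 114)], .kill 69 117 [] 973⟩))))

def nodes13 : Tr (Node) :=
  .node (.node (.node (.node (.node (.leaf ⟨(nat_lit 85070429470957786652480260279931764736), [], .br 107 45 158⟩) (.leaf ⟨(nat_lit 11133095761160187754841678287080521728), [(nat_lit 86), (nat_lit 109), (nat_lit 117)], .w 5 1069⟩)) (.node (.leaf ⟨(nat_lit 74478296007367845718633500694831693824), [(nat_lit 78), (nat_lit 87)], .kill 64 88 [] 557⟩) (.leaf ⟨(nat_lit 5670819748932751508485373966260633600), [(nat_lit 89), (nat_lit 104), (nat_lit 107), (nat_lit 109)], .kill 76 118 [] 1581⟩))) (.node (.node (.leaf ⟨(nat_lit 9346134355266210045637935591789166592), [(nat_lit 93), (nat_lit 115)],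 .w 2 301⟩) (.leaf ⟨(nat_lit 830767507273928438126380128567033856), [(nat_lit 82), (nat_lit 93), (nat_lit 117)], .w 2 1325⟩)) (.leaf ⟨(nat_lit 85070578316872253225462317158483623936), [(nat_lit 70)], .w 1 813⟩))) (.node (.node (.node (.leaf ⟨(nat_lit 85070571447825012214173227910690766848), [(nat_lit 104)], .kill 63 105 [] 173⟩) (.leaf ⟨(nat_lit 333605083064382989416126588345384960), [(nat_lit 93), (nat_lit 110), (nat_lit 118)], .w 6 1197⟩)) (.node (.leaf ⟨(nat_lit 85053972104012310698041862664914731008), [(nat_lit 75)], .w 4 685⟩) (.leaf ⟨(nat_lit 63906802411352660734247363787072995328), [(nat_lit 101), (nat_lit 103), (nat_lit 114), (nat_lit 116), (nat_lit 124)], .kill 77 114 [] 1709⟩))) (.node (.node (.leaf ⟨(nat_lit 85069605978388373546096834083708469248), [(nat_lit 92)], .kill 94 114 [] 429⟩) (.leaf ⟨(nat_lit 5358450674920592169700822585930940416), [(nat_lit 98), (nat_lit 115)], .w 1 1453⟩)) (.leaf ⟨(nat_lit 171345796331649311741506378864263168), [(nat_lit 112), (nat_lit 117)], .w 6 941⟩)))) (.node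 (.node (.node (.node (.leaf ⟨(nat_lit 84551362044381133102990602225020043264), [(nat_lit 114)], .kill 79 121 [] 109⟩) (.leaf ⟨(nat_lit 58813226446708180494070058366227447808), [(nat_lit 83), (nat_lit 90)], .sq 90 94 112 1 1133⟩)) (.node (.leaf ⟨(nat_lit 41863527906101733559700775220805632), [(nat_lit 80), (nat_lit 85), (nat_lit 89), (nat_lit 99), (nat_lit 108), (nat_lit 115)], .w 2 621⟩) (.leaf ⟨(nat_lit 21600768084799087929574234968293376), [(nat_lit 89), (nat_lit 90), (nat_lit 104), (nat_lit 107), (nat_lit 109)], .br 114 1645 1648⟩))) (.node (.node (.leaf ⟨(nat_lit 5316912300052313548672578615297179648), [(nat_lit 98), (nat_lit 122)], .w 3 365⟩) (.leaf ⟨(nat_lit 71296464365876344500915349667316760576), [(nat_lit 63), (nat_lit 70)], .sq 63 67 68 1 1389⟩)) (.leaf ⟨(nat_lit 332306998946228968225951765070086144), [(nat_lit 118)], .w 1 877⟩))) (.node (.node (.node (.leaf ⟨(nat_lit 85070510610499721573444998268129902592), [(nat_lit 93)], .kill 90 106 [] 237⟩) (.leaf ⟨(nat_lit 2829811931582162961955093022848843776),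 [(nat_lit 91), (nat_lit 103)], .br 112 1261 1285⟩)) (.node (.leaf ⟨(nat_lit 85070591730233986905657714657070153728), [(nat_lit 68)], .kill 74 77 [] 749⟩) (.leaf ⟨(nat_lit 10466357379048210470256714666999808), [(nat_lit 82), (nat_lit 85), (nat_lit 87), (nat_lit 99), (nat_lit 106), (nat_lit 113)], .w 3 1773⟩))) (.node (.node (.leaf ⟨(nat_lit 85070347141765145384821995147072897024), [(nat_lit 83)], .w 4 493⟩) (.leaf ⟨(nat_lit 33272890163764102967734661256862236672), [(nat_lit 92), (nat_lit 98), (nat_lit 101)], .sq 92 109 124 1 1517⟩)) (.leaf ⟨(nat_lit 768459935063154489022513456724574208), [(nat_lit 114), (nat_lit 116), (nat_lit 119)], .rep 3⟩))))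

def nodes14 : Tr (Node) :=
  .node (.node (.node (.node (.node (.leaf ⟨(nat_lit 85070591727758735787272891308143804416), [], .br 91 29 411⟩) (.leaf ⟨(nat_lit 10722417531505448732097594343041269760), [(nat_lit 86), (nat_lit 108), (nat_lit 112)], .w 3 1053⟩)) (.node (.leaf ⟨(nat_lit 84779813004411504676487132009583345664), [(nat_lit 78)], .sq 78 118 122 1 541⟩) (.leaf ⟨(nat_lit 2825339660264557768626612653940277248), [(nat_lit 91), (nat_lit 106), (nat_lit 109)], .br 117 1565 1571⟩))) (.node (.node (.leaf ⟨(nat_lit 40624530779632816394151278466905931776), [(nat_lit 97), (nat_lit 116)], .w 6 285⟩) (.leaf ⟨(nat_lit 664654567663425396934272524239241216), [(nat_lit 92), (nat_lit 105), (nat_lit 119)], .w 4 1309⟩)) (.leaf ⟨(nat_lit 85070591730233913598296765735312031744), [(nat_lit 67)], .sq 67 95 97 1 797⟩))) (.node (.node (.node (.leaf ⟨(nat_lit 85070510600596201259161956068936908800), [(nat_lit 106)], .kill 63 107 [] 157⟩) (.leaf ⟨(nat_lit 46066064386872016451651992648345976832), [(nat_lit 73), (nat_lit 88),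 (nat_lit 91)], .w 4 1181⟩)) (.node (.leaf ⟨(nat_lit 85070591720176664722837806520970772480), [(nat_lit 73)], .kill 93 94 [] 669⟩) (.leaf ⟨(nat_lit 10506293126451722421125775762653184), [(nat_lit 92), (nat_lit 105), (nat_lit 106), (nat_lit 113)], .w 2 1693⟩))) (.node (.node (.leaf ⟨(nat_lit 85070591717855215472989849108950810624), [(nat_lit 91)], .sq 91 94 113 1 413⟩) (.leaf ⟨(nat_lit 33272890158812342810593140157265739776), [(nat_lit 98), (nat_lit 101)], .w 5 1437⟩)) (.leaf ⟨(nat_lit 46805473254669656056583364700622815232), [(nat_lit 90), (nat_lit 107)], .w 5 925⟩)))) (.node (.node (.node (.node (.leaf ⟨(nat_lit 5316911983139663491615228241121378304), [(nat_lit 122)], .w 3 93⟩) (.leaf ⟨(nat_lit 44673490625109481351342443573972828160), [(nat_lit 92), (nat_lit 98)], .w 6 1117⟩)) (.node (.leaf ⟨(nat_lit 88594199362115798622798307049603072), [(nat_lit 80), (nat_lit 86), (nat_lit 88), (nat_lit 99)], .br 108 605 608⟩) (.leaf ⟨(nat_lit 29256012021225443811709782927786115072), [(nat_lit 72), (nat_lit 88), (nat_lit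 97)], .w 1 1629⟩))) (.node (.node (.leaf ⟨(nat_lit 19108301486419002840728835002764099584), [(nat_lit 93), (nat_lit 109)], .br 117 349 1190⟩) (.leaf ⟨(nat_lit 68792660188026603041655880869811847168), [(nat_lit 69), (nat_lit 77)], .sq 77 106 118 1 1373⟩)) (.leaf ⟨(nat_lit 46805635513946485269946756278633103360), [(nat_lit 90)], .br 108 861 925⟩))) (.node (.node (.node (.leaf ⟨(nat_lit 85070591651006453351579314264398102528), [(nat_lit 96)], .kill 64 97 [] 221⟩) (.leaf ⟨(nat_lit 21266349868252376277115281056295026688), [(nat_lit 82), (nat_lit 93)], .sq 82 110 121 1 1245⟩)) (.node (.leaf ⟨(nat_lit 84400865365576538571024497739684642816), [(nat_lit 83)], .kill 107 120 [] 733⟩) (.leaf ⟨(nat_lit 10397270237579047386451509786968064), [(nat_lit 82), (nat_lit 83), (nat_lit 101), (nat_lit 103), (nat_lit 113)], .w 3 1757⟩))) (.node (.node (.leaf ⟨(nat_lit 85070591720311752738446775591953760256), [(nat_lit 84)], .kill 64 85 [] 477⟩) (.leaf ⟨(nat_lit 1334744811197109127259120712630140928), [(nat_lit 108), (nat_lit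 112), (nat_lit 120)], .w 3 1501⟩)) (.leaf ⟨(nat_lit 45371922685088357816853984953352847360), [(nat_lit 90), (nat_lit 103)], .w 6 989⟩))))

def nodes15 : Tr (Node) :=
  .node (.node (.node (.node (.node (.leaf ⟨(nat_lit 74436767763955288882613195375699296256), [], .br 123 61 73⟩) (.leaf ⟨(nat_lit 667372410550314720771081455911567360), [(nat_lit 92), (nat_lit 107), (nat_lit 111), (nat_lit 119)], .rep 4⟩)) (.node (.leaf ⟨(nat_lit 42564958889472435742193097509995282432), [(nat_lit 78), (nat_lit 88)], .w 4 573⟩) (.leaf ⟨(nat_lit 43046840419405170889445100983362256896), [(nat_lit 82), (nat_lit 85), (nat_lit 87), (nat_lit 99)], .kill 66 100 [] 1597⟩))) (.node (.node (.leaf ⟨(nat_lit 5319508290025255933958168676373889024), [(nat_lit 97), (nat_lit 111), (nat_lit 122)], .w 1 317⟩) (.leaf ⟨(nat_lit 7950709516391611947708422100615168), [(nat_lit 92), (nat_lit 107), (nat_lit 111), (nat_lit 112)], .w 3 1341⟩)) (.leaf ⟨(nat_lit 71296464365876344491691977630461984768), [(nat_lit 70)], .br 67 829 1380⟩))) (.node (.node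 (.node (.leaf ⟨(nat_lit 79458043384326206883261137278847680512), [(nat_lit 95)], .w 3 189⟩) (.leaf ⟨(nat_lit 1391535558087333804446173016230985728), [(nat_lit 114), (nat_lit 115), (nat_lit 120)], .w 1 1213⟩)) (.node (.leaf ⟨(nat_lit 85070591730234302418768351385240993792), [(nat_lit 69)], .w 4 701⟩) (.leaf ⟨(nat_lit 768459935063154489022513456724574208), [(nat_lit 114), (nat_lit 116), (nat_lit 119)], .rep 3⟩))) (.node (.node (.leaf ⟨(nat_lit 85070591699595599893530490054188728320), [(nat_lit 88)], .w 6 445⟩) (.leaf ⟨(nat_lit 31901473483401231234978121317607276544), [(nat_lit 98), (nat_lit 100), (nat_lit 123)], .w 3 1469⟩)) (.leaf ⟨(nat_lit 176619222828598746051732664198627328), [(nat_lit 106), (nat_lit 113), (nat_lit 117)], .w 3 957⟩)))) (.node (.node (.node (.node (.leaf ⟨(nat_lit 84925856455302957545698364272765042688), [(nat_lit 109)], .kill 81 119 [] 125⟩) (.leaf ⟨(nat_lit 53127591567713121613021744487192330240), [(nat_lit 73), (nat_lit 88)], .kill 63 89 [] 1149⟩)) (.node (.leaf ⟨(nat_lit 85070591730232349129931874428239478784),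 [(nat_lit 77)], .sq 77 81 92 1 637⟩) (.leaf ⟨(nat_lit 21779102168114590392721550121239576576), [(nat_lit 82), (nat_lit 84), (nat_lit 101)], .sq 84 98 113 1 1661⟩))) (.node (.node (.leaf ⟨(nat_lit 5358490922827149415984320106257711104), [(nat_lit 105), (nat_lit 115), (nat_lit 122)], .w 4 381⟩) (.leaf ⟨(nat_lit 71296464325640176157890519551046582272), [(nat_lit 67), (nat_lit 70)], .w 3 1405⟩)) (.leaf ⟨(nat_lit 14709777000229166671626896100680531968), [(nat_lit 112), (nat_lit 116)], .w 5 893⟩))) (.node (.node (.node (.leaf ⟨(nat_lit 36886076922645496730212814719551537152), [(nat_lit 95)], .w 4 253⟩) (.leaf ⟨(nat_lit 768459935063154489022513456724574208), [(nat_lit 114), (nat_lit 116), (nat_lit 119)], .rep 3⟩)) (.node (.leaf ⟨(nat_lit 85070589705243310040588634572017631232), [(nat_lit 66)], .sq 66 104 106 1 765⟩) (.leaf ⟨(nat_lit 21289248699405513015105106924554682368), [(nat_lit 89), (nat_lit 104), (nat_lit 107), (nat_lit 109), (nat_lit 114)], .w 4 1806⟩))) (.node (.node (.leaf ⟨(nat_lit 85065479363460268983920247806764253184),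 [(nat_lit 83)], .sq 83 118 124 1 509⟩) (.leaf ⟨(nat_lit 768459935063154489022513456724574208), [(nat_lit 114), (nat_lit 116), (nat_lit 119)], .rep 3⟩)) (.leaf ⟨(nat_lit 42544625778486747858458362764159090688), [(nat_lit 92), (nat_lit 106), (nat_lit 107), (nat_lit 110), (nat_lit 111), (nat_lit 112)], .w 3 1769⟩))))

def nodes16 : Tr (Node) :=
  .node (.node (.node (.node (.node (.leaf ⟨(nat_lit 85070591730234615828950163710522949632), [], .br 65 3 787⟩) (.leaf ⟨(nat_lit 46805810449729316765604162823675445248), [(nat_lit 90), (nat_lit 101)], .kill 72 108 [] 1027⟩)) (.node (.leaf ⟨(nat_lit 85070591730233709171478940886061023232), [(nat_lit 78)], .w 3 515⟩) (.leaf ⟨(nat_lit 1329309447287740693784374323057786880), [(nat_lit 92), (nat_lit 98), (nat_lit 106), (nat_lit 120)], .w 2 1539⟩))) (.node (.node (.leaf ⟨(nat_lit 37218384198890294498363948062025449472), [(nat_lit 98)], .br 122 259 268⟩) (.leaf ⟨(nat_lit 1371090889206852920658834186934681600), [(nat_lit 108), (nat_lit 115), (nat_lit 120)], .w 2 1283⟩))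 (.node (.leaf ⟨(nat_lit 85069200578839746505787236777390505984), [(nat_lit 80)], .kill 98 107 [] 771⟩) (.leaf ⟨(nat_lit 21444267789372131034816477428096958464), [(nat_lit 82), (nat_lit 87), (nat_lit 99), (nat_lit 106), (nat_lit 113), (nat_lit 117)], .w 2 1795⟩)))) (.node (.node (.node (.leaf ⟨(nat_lit 18942147977042368042332816921036062720), [(nat_lit 109)], .br 118 131 144⟩) (.leaf ⟨(nat_lit 53127590892416830182846804529720066048), [(nat_lit 73), (nat_lit 91)], .kill 64 92 [] 1155⟩)) (.node (.leaf ⟨(nat_lit 85070591730234578086911788900780343296), [(nat_lit 75)], .sq 75 78 84 1 643⟩) (.leaf ⟨(nat_lit 42711915721969470627505058526173069312), [(nat_lit 82), (nat_lit 85), (nat_lit 99)], .kill 118 125 [] 1667⟩))) (.node (.node (.leaf ⟨(nat_lit 13292929004859995896774679114037592064), [(nat_lit 93), (nat_lit 109), (nat_lit 121)], .w 4 387⟩) (.leaf ⟨(nat_lit 77979396442135506648033372672400293888), [(nat_lit 67), (nat_lit 75)], .w 6 1411⟩)) (.leaf ⟨(nat_lit 2668840585286901401064675113219129344), [(nat_lit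 113), (nat_lit 121)], .w 3 899⟩)))) (.node (.node (.node (.node (.leaf ⟨(nat_lit 83076749736557242056487941267521536000), [(nat_lit 119)], .w 6 67⟩) (.leaf ⟨(nat_lit 5379220179886351556914985082873184256), [(nat_lit 89), (nat_lit 99), (nat_lit 115)], .w 4 1091⟩)) (.node (.leaf ⟨(nat_lit 42555050937178069553421847842976169984), [(nat_lit 78), (nat_lit 87), (nat_lit 92)], .w 3 579⟩) (.leaf ⟨(nat_lit 42711915721969470627505058526173069312), [(nat_lit 82), (nat_lit 85), (nat_lit 87), (nat_lit 99)], .kill 118 125 [] 1731⟩))) (.node (.node (.leaf ⟨(nat_lit 1334744811197109127259120712630140928), [(nat_lit 108), (nat_lit 112), (nat_lit 120)], .w 3 323⟩) (.leaf ⟨(nat_lit 43211288295416384476124254004532215808), [(nat_lit 89), (nat_lit 104), (nat_lit 108), (nat_lit 109), (nat_lit 113), (nat_lit 119)], .w 4 1347⟩)) (.leaf ⟨(nat_lit 58190143099064512397855626533168742400), [(nat_lit 74)], .w 3 835⟩))) (.node (.node (.node (.leaf ⟨(nat_lit 85070587927282815181155447367832436736), [(nat_lit 100)], .w 5 195⟩) (.leaf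 ⟨(nat_lit 63824696681975878315912422320460791808), [(nat_lit 103), (nat_lit 108), (nat_lit 109), (nat_lit 114), (nat_lit 124)], .kill 73 109 [] 1219⟩)) (.node (.leaf ⟨(nat_lit 85070591730234148351561847763065896960), [(nat_lit 72)], .sq 72 94 98 1 707⟩) (.leaf ⟨(nat_lit 21539921474958152560992530663997440), [(nat_lit 91), (nat_lit 105), (nat_lit 106), (nat_lit 109), (nat_lit 114)], .w 5 1808⟩))) (.node (.node (.leaf ⟨(nat_lit 85070591019966518325856719134569529344), [(nat_lit 91)], .sq 91 97 118 1 451⟩) (.leaf ⟨(nat_lit 2699994683350760423893208465370251264), [(nat_lit 98), (nat_lit 115), (nat_lit 121)], .w 1 1475⟩)) (.leaf ⟨(nat_lit 768459935063154489022513456724574208), [(nat_lit 114), (nat_lit 116), (nat_lit 119)], .rep 3⟩))))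

def nodes17 : Tr (Node) :=
  .node (.node (.node (.node (.node (.leaf ⟨(nat_lit 85070591571778290837314976670854152192), [], .br 97 35 222⟩) (.leaf ⟨(nat_lit 664776262121047306956816207746957312), [(nat_lit 92), (nat_lit 107), (nat_lit 119)], .w 2 1059⟩)) (.node (.leaf ⟨(nat_lit 74478296036923664156571954758048284672), [(nat_lit 78)], .br 88 547 552⟩) (.leaf ⟨(nat_lit 2679955348225582595027758756722114560), [(nat_lit 91), (nat_lit 106), (nat_lit 109), (nat_lit 114)], .w 3 1571⟩))) (.node (.node (.leaf ⟨(nat_lit 21236494161310965314972772185703186432), [(nat_lit 93), (nat_lit 113)], .w 5 291⟩) (.leaf ⟨(nat_lit 675039161380495052191333516897681408), [(nat_lit 92), (nat_lit 105), (nat_lit 113), (nat_lit 119)], .w 2 1315⟩)) (.leaf ⟨(nat_lit 85070591690280163043919277409618100224), [(nat_lit 66)], .kill 88 90 [] 803⟩))) (.node (.node (.node (.leaf ⟨(nat_lit 85048848987139501275149180404563443712), [(nat_lit 108)], .kill 74 117 [] 163⟩) (.leaf ⟨(nat_lit 19129070673854955539972378931843039232), [(nat_lit 93),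 (nat_lit 109), (nat_lit 114)], .sq 79 114 121 2 1187⟩)) (.node (.leaf ⟨(nat_lit 85070501676422481095028131581885677568), [(nat_lit 74)], .sq 74 107 116 1 675⟩) (.leaf ⟨(nat_lit 21580485675195436259150287717007360), [(nat_lit 89), (nat_lit 90), (nat_lit 109), (nat_lit 114)], .w 0 1699⟩))) (.node (.node (.leaf ⟨(nat_lit 85070591659672033626576976188691972096), [(nat_lit 90)], .sq 90 99 119 1 419⟩) (.leaf ⟨(nat_lit 37218384595031107069685636029745201152), [(nat_lit 96), (nat_lit 99)], .w 5 1443⟩)) (.leaf ⟨(nat_lit 45381485841216479579458876082334203904), [(nat_lit 90), (nat_lit 107)], .kill 110 125 [] 931⟩)))) (.node (.node (.node (.node (.leaf ⟨(nat_lit 3655376988408518650485469415770947584), [(nat_lit 118), (nat_lit 119)], .w 6 99⟩) (.leaf ⟨(nat_lit 54422288811052268905987707944738750464), [(nat_lit 86), (nat_lit 94)], .w 2 1123⟩)) (.node (.leaf ⟨(nat_lit 103846571329660192898948327154909184), [(nat_lit 82), (nat_lit 84), (nat_lit 88), (nat_lit 99), (nat_lit 114)], .w 0 611⟩) (.leaf ⟨(nat_lit 21779101850873112512729020611543695360),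 [(nat_lit 82), (nat_lit 90), (nat_lit 101)], .sq 90 111 124 1 1635⟩))) (.node (.node (.leaf ⟨(nat_lit 8016906359481294172734128531508822016), [(nat_lit 93), (nat_lit 115)], .w 2 355⟩) (.leaf ⟨(nat_lit 73120622041441583997764787526675988480), [(nat_lit 72), (nat_lit 76)], .sq 76 120 124 1 1379⟩)) (.leaf ⟨(nat_lit 25504643298761487918023493758134255616), [(nat_lit 106)], .w 2 867⟩))) (.node (.node (.node (.leaf ⟨(nat_lit 85070545777900357592527847602450857984), [(nat_lit 98)], .w 6 227⟩) (.leaf ⟨(nat_lit 11913725151816518011224724543287328768), [(nat_lit 82), (nat_lit 93)], .kill 115 123 [] 1251⟩)) (.node (.leaf ⟨(nat_lit 85070591730234615570695746678589227008), [(nat_lit 68)], .sq 68 69 72 1 745⟩) (.leaf ⟨(nat_lit 11763802522180357442314162636062720), [(nat_lit 78), (nat_lit 92), (nat_lit 106), (nat_lit 110), (nat_lit 113)], .w 3 1763⟩))) (.node (.node (.leaf ⟨(nat_lit 85070591680020673022330414457346326528), [(nat_lit 86)], .kill 70 91 [] 483⟩) (.leaf ⟨(nat_lit 53522206792807105134842268883577995264),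 [(nat_lit 99), (nat_lit 103), (nat_lit 114), (nat_lit 118), (nat_lit 123)], .w 2 1507⟩)) (.leaf ⟨(nat_lit 1337036728434081923158547851621957632), [(nat_lit 92), (nat_lit 104), (nat_lit 111)], .w 4 995⟩))))

def nodes18 : Tr (Node) :=
  .node (.node (.node (.node (.node (.leaf ⟨(nat_lit 85070591730232198014204422599592640512), [], .br 81 19 519⟩) (.leaf ⟨(nat_lit 11133095761160187754841678287080521728), [(nat_lit 86), (nat_lit 109)], .w 5 1043⟩)) (.node (.leaf ⟨(nat_lit 85070591611315303073446712857738608640), [(nat_lit 78)], .sq 78 97 101 1 531⟩) (.leaf ⟨(nat_lit 43046839785579870775330400235010654208), [(nat_lit 82), (nat_lit 85), (nat_lit 87)], .br 100 1555 1598⟩))) (.node (.node (.leaf ⟨(nat_lit 13302664551566228384295131595461885952), [(nat_lit 113), (nat_lit 121)], .w 3 886⟩) (.leaf ⟨(nat_lit 1079997766459656027755763902044962816), [(nat_lit 86), (nat_lit 94), (nat_lit 116)], .w 3 1299⟩)) (.node (.leaf ⟨(nat_lit 85070591730234615801280047599958622208), [(nat_lit 63)], .w 5 787⟩) (.leaf ⟨(nat_lit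 42622510231364770272886320209097392128), [(nat_lit 92), (nat_lit 106), (nat_lit 107), (nat_lit 110), (nat_lit 111), (nat_lit 116)], .w 1 1811⟩)))) (.node (.node (.node (.leaf ⟨(nat_lit 2991412027623377567487132197671927808), [(nat_lit 109), (nat_lit 118)], .br 121 147 1720⟩) (.leaf ⟨(nat_lit 42564908185924004460132894534371639296), [(nat_lit 88), (nat_lit 91)], .w 3 1171⟩)) (.node (.leaf ⟨(nat_lit 85070591720328753257785106314723065856), [(nat_lit 76)], .w 6 659⟩) (.leaf ⟨(nat_lit 667372410550314720771081455911567360), [(nat_lit 92), (nat_lit 111), (nat_lit 119)], .br 107 1683 1688⟩))) (.node (.node (.leaf ⟨(nat_lit 1334744811197109127259120712630140928), [(nat_lit 108), (nat_lit 112), (nat_lit 120)], .w 3 403⟩) (.leaf ⟨(nat_lit 42786963807746529835971084455117848576), [(nat_lit 86), (nat_lit 90)], .w 3 1427⟩)) (.leaf ⟨(nat_lit 25537095154127330590701809360191881216), [(nat_lit 106), (nat_lit 110)], .kill 68 114 [] 915⟩)))) (.node (.node (.node (.node (.leaf ⟨(nat_lit 84904438230761501381730675975407009792),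 [(nat_lit 117)], .kill 66 118 [] 83⟩) (.leaf ⟨(nat_lit 41703174398068447991959641646956544), [(nat_lit 92), (nat_lit 101), (nat_lit 107), (nat_lit 115)], .w 6 1107⟩)) (.node (.leaf ⟨(nat_lit 42555030654768465901751423895724883968), [(nat_lit 78), (nat_lit 87), (nat_lit 92), (nat_lit 104)], .w 3 595⟩) (.leaf ⟨(nat_lit 5670819748932751508485373966260633600), [(nat_lit 89), (nat_lit 104), (nat_lit 107)], .kill 76 118 [] 1619⟩))) (.node (.node (.leaf ⟨(nat_lit 21263753719818273160022557291431591936), [(nat_lit 93), (nat_lit 110)], .w 6 339⟩) (.leaf ⟨(nat_lit 58190143079238131317358949502810062848), [(nat_lit 71), (nat_lit 74)], .w 2 1363⟩)) (.leaf ⟨(nat_lit 46095727489836025079357042288880517120), [(nat_lit 91)], .w 5 851⟩))) (.node (.node (.node (.leaf ⟨(nat_lit 80081362990476848875712416156949151744), [(nat_lit 99)], .w 1 211⟩) (.leaf ⟨(nat_lit 21266998905364231324758885097386541056), [(nat_lit 78), (nat_lit 93)], .sq 72 78 82 2 1235⟩)) (.node (.leaf ⟨(nat_lit 85070590847601766785480586351324692480), [(nat_lit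 83)], .sq 83 98 111 1 723⟩) (.leaf ⟨(nat_lit 2778695067460435989601873022681088), [(nat_lit 92), (nat_lit 104), (nat_lit 107), (nat_lit 111)], .w 4 1747⟩))) (.node (.node (.leaf ⟨(nat_lit 46095727410917347574914049764061347840), [(nat_lit 88), (nat_lit 91)], .w 4 467⟩) (.leaf ⟨(nat_lit 166158649303677911294919462891814912), [(nat_lit 96), (nat_lit 102), (nat_lit 117)], .w 3 1491⟩)) (.leaf ⟨(nat_lit 667534667351263855563712484123607040), [(nat_lit 91), (nat_lit 108), (nat_lit 111), (nat_lit 119)], .w 0 979⟩))))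

def nodes19 : Tr (Node) :=
  .node (.node (.node (.node (.node (.leaf ⟨(nat_lit 85060207136517546210586590865283612672), [], .br 113 51 104⟩) (.leaf ⟨(nat_lit 675323110782156038078437816268750848), [(nat_lit 89), (nat_lit 113), (nat_lit 119)], .br 108 1075 1082⟩)) (.node (.leaf ⟨(nat_lit 74478295999475977968189201442349776896), [(nat_lit 78), (nat_lit 89)], .kill 93 105 [] 563⟩) (.leaf ⟨(nat_lit 21779101850873112512729020611543695360), [(nat_lit 82), (nat_lit 90), (nat_lit 101), (nat_lit 103)], .sq 90 111 124 1 1587⟩))) (.node (.node (.leaf ⟨(nat_lit 14792853759869244227966426241141047296), [(nat_lit 93), (nat_lit 112), (nat_lit 117)], .kill 78 121 [] 307⟩) (.leaf ⟨(nat_lit 1370768910906155107532375123917012992), [(nat_lit 92), (nat_lit 101), (nat_lit 120)], .w 6 1525⟩)) (.leaf ⟨(nat_lit 84404424321670459365195313706094821376), [(nat_lit 80)], .sq 80 111 120 1 819⟩))) (.node (.node (.node (.leaf ⟨(nat_lit 85068827160599098170516768447080169472), [(nat_lit 104)], .w 5 179⟩) (.leaf ⟨(nat_lit 10633829195338052924676737656143478784),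 [(nat_lit 97), (nat_lit 102), (nat_lit 123)], .w 3 1203⟩)) (.node (.leaf ⟨(nat_lit 74395239500426820315848233643333910528), [(nat_lit 73)], .kill 123 124 [] 836⟩) (.leaf ⟨(nat_lit 48267592230765057748934194624781615104), [(nat_lit 99), (nat_lit 116), (nat_lit 122)], .w 5 1715⟩))) (.node (.node (.leaf ⟨(nat_lit 65941184351546068562590485606861635584), [(nat_lit 92)], .kill 109 124 [] 851⟩) (.leaf ⟨(nat_lit 685383185326597246966025515457052672), [(nat_lit 114), (nat_lit 119)], .w 6 1459⟩)) (.leaf ⟨(nat_lit 2990762990516060714033565885630775296), [(nat_lit 118), (nat_lit 121)], .rep 1⟩)))) (.node (.node (.node (.node (.leaf ⟨(nat_lit 85069942693127299012390085545900900352), [(nat_lit 109)], .kill 64 110 [] 115⟩) (.leaf ⟨(nat_lit 58813226383573238490515664346372112384), [(nat_lit 83), (nat_lit 92)], .sq 92 100 122 1 1139⟩)) (.node (.leaf ⟨(nat_lit 171508689665892396585607506769739776), [(nat_lit 86), (nat_lit 87), (nat_lit 99), (nat_lit 107), (nat_lit 112), (nat_lit 117)], .w 5 627⟩) (.leaf ⟨(nat_lit 54667180051295218185942169944928026624),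 [(nat_lit 68), (nat_lit 71), (nat_lit 75)], .sq 71 94 97 1 1651⟩))) (.node (.node (.leaf ⟨(nat_lit 21267972451112312393187696120506089472), [(nat_lit 108), (nat_lit 124)], .w 2 371⟩) (.leaf ⟨(nat_lit 58190143099064514795932356115410452480), [(nat_lit 65), (nat_lit 74)], .sq 65 84 86 1 1395⟩)) (.leaf ⟨(nat_lit 2990762990516060714033565885630775296), [(nat_lit 118), (nat_lit 121)], .rep 1⟩))) (.node (.node (.node (.leaf ⟨(nat_lit 21266349868247540573836822539596201984), [(nat_lit 93)], .br 110 243 337⟩) (.leaf ⟨(nat_lit 1334744811197109127259120712630140928), [(nat_lit 108), (nat_lit 112)], .w 3 1267⟩)) (.node (.leaf ⟨(nat_lit 85070591690608990857631084508283404288), [(nat_lit 66)], .kill 83 84 [] 755⟩) (.leaf ⟨(nat_lit 2836304836104457597299947241016918016), [(nat_lit 82), (nat_lit 89), (nat_lit 101), (nat_lit 103), (nat_lit 110), (nat_lit 113), (nat_lit 117)], .w 4 1779⟩))) (.node (.node (.leaf ⟨(nat_lit 85070405784570917008620010595801890816), [(nat_lit 91)], .w 5 499⟩) (.leaf ⟨(nat_lit 1330526391863959794009811158134947840),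 [(nat_lit 92), (nat_lit 98), (nat_lit 110)], .w 4 1523⟩)) (.leaf ⟨(nat_lit 11763802521878125987410505342386176), [(nat_lit 92), (nat_lit 110), (nat_lit 113)], .w 3 1011⟩))))

def nodes20 : Tr (Node) :=
  .node (.node (.node (.node (.node (.leaf ⟨(nat_lit 85070591730234606421110686118651625472), [], .br 73 11 647⟩) (.leaf ⟨(nat_lit 65080330588344079920076096044500254720), [(nat_lit 82), (nat_lit 99)], .sq 99 118 125 1 1035⟩)) (.node (.leaf ⟨(nat_lit 85070591730152408910109857074062032896), [(nat_lit 82)], .sq 82 94 102 1 523⟩) (.leaf ⟨(nat_lit 42568913960892270635577588910326284288), [(nat_lit 89), (nat_lit 90), (nat_lit 103)], .kill 64 104 [] 1547⟩))) (.node (.node (.leaf ⟨(nat_lit 39876840190460126244171562182586138624), [(nat_lit 98), (nat_lit 121)], .kill 66 122 [] 267⟩) (.leaf ⟨(nat_lit 2758412657856784319177925771395072), [(nat_lit 92), (nat_lit 107), (nat_lit 111)], .rep 2⟩)) (.node (.leaf ⟨(nat_lit 84921051322671732188955999998335516672), [(nat_lit 70)], .kill 114 118 [] 779⟩) (.leaf ⟨(nat_lit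 42559715889065469632504364038042419200), [(nat_lit 88), (nat_lit 91), (nat_lit 106), (nat_lit 108), (nat_lit 109), (nat_lit 111), (nat_lit 114)], .kill 65 108 [] 1803⟩)))) (.node (.node (.node (.leaf ⟨(nat_lit 15952034023633624181752817347446439936), [(nat_lit 110), (nat_lit 122)], .w 4 139⟩) (.leaf ⟨(nat_lit 44653761069778606167109862346025074688), [(nat_lit 73), (nat_lit 92)], .br 87 1163 1178⟩)) (.node (.leaf ⟨(nat_lit 85070591720331076662094678180168204288), [(nat_lit 74)], .sq 74 78 83 1 651⟩) (.leaf ⟨(nat_lit 11804362544067777097409834610851840), [(nat_lit 87), (nat_lit 105), (nat_lit 106)], .w 5 1675⟩))) (.node (.node (.leaf ⟨(nat_lit 2668840624900982658196843909991104512), [(nat_lit 95), (nat_lit 113), (nat_lit 121)], .w 4 395⟩) (.leaf ⟨(nat_lit 49204892649207024429341642002232508416), [(nat_lit 72), (nat_lit 75)], .w 5 1419⟩)) (.leaf ⟨(nat_lit 25535797079912696883794676736109576192), [(nat_lit 106), (nat_lit 113)], .kill 64 114 [] 907⟩)))) (.node (.node (.node (.node (.leaf ⟨(nat_lit 53169119831396634916152282411213783040),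 [(nat_lit 123)], .w 2 75⟩) (.leaf ⟨(nat_lit 21527344538953945771962292835002089472), [(nat_lit 82), (nat_lit 99), (nat_lit 106), (nat_lit 113)], .w 2 1099⟩)) (.node (.leaf ⟨(nat_lit 21772614016336666622298311501088292864), [(nat_lit 81), (nat_lit 102), (nat_lit 103)], .w 6 1557⟩) (.leaf ⟨(nat_lit 11133098613374038268357831654662733824), [(nat_lit 86), (nat_lit 98), (nat_lit 101)], .w 3 1611⟩))) (.node (.node (.leaf ⟨(nat_lit 53180985041014771143350291553216102400), [(nat_lit 104), (nat_lit 107), (nat_lit 110), (nat_lit 113), (nat_lit 123)], .w 2 331⟩) (.leaf ⟨(nat_lit 58813226446715661312874734242951593984), [(nat_lit 81), (nat_lit 83)], .sq 81 94 101 1 1355⟩)) (.leaf ⟨(nat_lit 58813226446708180494070058366227447808), [(nat_lit 83)], .br 90 843 1132⟩))) (.node (.node (.node (.leaf ⟨(nat_lit 85070329326560368622357542040378540032), [(nat_lit 100)], .w 4 203⟩) (.leaf ⟨(nat_lit 1500573792116565184645313439144607744), [(nat_lit 112), (nat_lit 117), (nat_lit 120)], .w 3 1227⟩)) (.node (.leaf ⟨(nat_lit 85070591710291231662479965421651886080),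 [(nat_lit 69)], .kill 84 87 [] 715⟩) (.leaf ⟨(nat_lit 166883668695330485728805847966941184), [(nat_lit 79), (nat_lit 91), (nat_lit 106), (nat_lit 109)], .w 2 1739⟩))) (.node (.node (.leaf ⟨(nat_lit 84882683291635862256380408750218936320), [(nat_lit 92)], .kill 96 118 [] 459⟩) (.leaf ⟨(nat_lit 37239153782465246380199758015062081536), [(nat_lit 96), (nat_lit 99), (nat_lit 114)], .w 3 1483⟩)) (.leaf ⟨(nat_lit 667534667351263855563712484123607040), [(nat_lit 91), (nat_lit 108), (nat_lit 111), (nat_lit 119)], .w 0 971⟩))))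

def nodes21 : Tr (Node) :=
  .node (.node (.node (.node (.node (.leaf ⟨(nat_lit 85070551165415408562502803963439480832), [], .br 105 43 174⟩) (.leaf ⟨(nat_lit 21703802136331015418765334669542031360), [(nat_lit 82), (nat_lit 100), (nat_lit 114)], .w 3 1067⟩)) (.node (.leaf ⟨(nat_lit 74478296037078406661482627292410675200), [(nat_lit 78), (nat_lit 87)], .sq 87 93 103 1 555⟩) (.leaf ⟨(nat_lit 11132976602003766301277937596979216384), [(nat_lit 86), (nat_lit 101), (nat_lit 105), (nat_lit 109)], .w 4 1579⟩))) (.node (.node (.leaf ⟨(nat_lit 14792853759869244227966426241141047296), [(nat_lit 93), (nat_lit 112)], .br 117 299 306⟩) (.leaf ⟨(nat_lit 768459944971510506584014172616392704), [(nat_lit 82), (nat_lit 93), (nat_lit 114)], .br 116 1323 1331⟩)) (.leaf ⟨(nat_lit 85070589705243310049812006608872407040), [(nat_lit 66)], .sq 66 104 106 1 811⟩))) (.node (.node (.node (.leaf ⟨(nat_lit 85070581589029814040008439884316409856), [(nat_lit 103)], .kill 64 104 [] 171⟩) (.leaf ⟨(nat_lit 2991412037526897881770174396864921600),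 [(nat_lit 93), (nat_lit 109), (nat_lit 118)], .br 121 1195 1214⟩)) (.node (.leaf ⟨(nat_lit 85063881246877413561165235235707682816), [(nat_lit 76)], .kill 102 114 [] 683⟩) (.leaf ⟨(nat_lit 47863586280044620011644888578063859712), [(nat_lit 104), (nat_lit 108), (nat_lit 109), (nat_lit 113), (nat_lit 122)], .w 3 1707⟩))) (.node (.node (.leaf ⟨(nat_lit 85070579534049348826277183551770198016), [(nat_lit 92)], .sq 92 109 124 1 427⟩) (.leaf ⟨(nat_lit 13297472571620343613723951473308467200), [(nat_lit 98), (nat_lit 112)], .w 3 1451⟩)) (.leaf ⟨(nat_lit 2746725038164923815492632558157430784), [(nat_lit 112), (nat_lit 116)], .br 121 939 947⟩)))) (.node (.node (.node (.node (.leaf ⟨(nat_lit 85049822542800476555329529872625172480), [(nat_lit 114)], .kill 69 117 [] 107⟩) (.leaf ⟨(nat_lit 58813226445470240454784678091328323584), [(nat_lit 83), (nat_lit 91)], .sq 91 94 113 1 1131⟩)) (.node (.leaf ⟨(nat_lit 88594199362115798622798307049603072), [(nat_lit 80), (nat_lit 86), (nat_lit 88), (nat_lit 99), (nat_lit 108), (nat_lit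 112)], .br 116 619 629⟩) (.leaf ⟨(nat_lit 20951730977482234476007922927140864), [(nat_lit 89), (nat_lit 90), (nat_lit 104), (nat_lit 107)], .w 2 1643⟩))) (.node (.node (.leaf ⟨(nat_lit 5316912062367826005879565834665328640), [(nat_lit 96), (nat_lit 122)], .w 5 363⟩) (.leaf ⟨(nat_lit 51028901713157893319301834426042810368), [(nat_lit 71), (nat_lit 87)], .w 3 1387⟩)) (.leaf ⟨(nat_lit 5483065482612777975728204123656421376), [(nat_lit 117)], .br 122 875 881⟩))) (.node (.node (.node (.leaf ⟨(nat_lit 85070571457728532528456270109883760640), [(nat_lit 93)], .kill 88 104 [] 235⟩) (.leaf ⟨(nat_lit 5379220179886351556914985082873184256), [(nat_lit 89), (nat_lit 99)], .w 4 1259⟩)) (.node (.leaf ⟨(nat_lit 85070591730234610258033453450238361600), [(nat_lit 68)], .sq 68 74 77 1 747⟩) (.leaf ⟨(nat_lit 43204047479520670967281735797970042880), [(nat_lit 92), (nat_lit 106), (nat_lit 107), (nat_lit 110), (nat_lit 111), (nat_lit 119)], .w 6 1811⟩))) (.node (.node (.leaf ⟨(nat_lit 85070590530680389204867082514088329216),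 [(nat_lit 83)], .sq 83 106 119 1 491⟩) (.leaf ⟨(nat_lit 25257360482738176966413600344227446784), [(nat_lit 92), (nat_lit 98), (nat_lit 106)], .w 4 1515⟩)) (.leaf ⟨(nat_lit 747690752580775335649912571004190720), [(nat_lit 92), (nat_lit 116), (nat_lit 119)], .w 0 1003⟩))))

def nodes22 : Tr (Node) :=
  .node (.node (.node (.node (.node (.leaf ⟨(nat_lit 85070591729615645846200961720492490752), [], .br 89 27 435⟩) (.leaf ⟨(nat_lit 6687678670705508042604629646211284992), [(nat_lit 98), (nat_lit 115), (nat_lit 120)], .w 5 1473⟩)) (.node (.leaf ⟨(nat_lit 85029043253621176402656595833385910272), [(nat_lit 78)], .sq 78 116 120 1 539⟩) (.leaf ⟨(nat_lit 5670657489655922295121982388250345472), [(nat_lit 89), (nat_lit 104), (nat_lit 109)], .w 4 1563⟩))) (.node (.node (.leaf ⟨(nat_lit 36886076922645496730212814719551537152), [(nat_lit 95), (nat_lit 118)], .w 4 283⟩) (.leaf ⟨(nat_lit 1334440580004814509344282603457347584), [(nat_lit 92), (nat_lit 104), (nat_lit 120)], .w 6 1307⟩)) (.node (.leaf ⟨(nat_lit 85070591730234593619070298964222803968),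 [(nat_lit 67)], .sq 67 79 81 1 795⟩) (.leaf ⟨(nat_lit 675039161380495052191333516897681408), [(nat_lit 92), (nat_lit 105), (nat_lit 113), (nat_lit 119)], .w 2 1819⟩)))) (.node (.node (.node (.leaf ⟨(nat_lit 5483065482612777975728204123656421376), [(nat_lit 117), (nat_lit 122)], .w 1 155⟩) (.leaf ⟨(nat_lit 44653761069778606167109862346025074688), [(nat_lit 73), (nat_lit 87), (nat_lit 92)], .sq 87 97 115 1 1179⟩)) (.node (.leaf ⟨(nat_lit 85070591716434765413874522785832763392), [(nat_lit 75)], .w 4 667⟩) (.leaf ⟨(nat_lit 1419773624015774071197407186518016), [(nat_lit 92), (nat_lit 105), (nat_lit 106), (nat_lit 110)], .w 6 1691⟩))) (.node (.node (.leaf ⟨(nat_lit 85070591576730050994456497770450649088), [(nat_lit 92)], .sq 92 99 121 1 424⟩) (.leaf ⟨(nat_lit 27919649849723098877931340495281192960), [(nat_lit 98), (nat_lit 104)], .w 3 1435⟩)) (.leaf ⟨(nat_lit 2680036475388117123138693995929010176), [(nat_lit 107), (nat_lit 109), (nat_lit 114)], .w 3 1277⟩)))) (.node (.node (.node (.node (.leaf ⟨(nat_lit 2990762990516060714033565885630775296),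 [(nat_lit 118)], .br 121 91 96⟩) (.leaf ⟨(nat_lit 44673536260531089567600897455288221696), [(nat_lit 92), (nat_lit 98)], .kill 78 102 [] 1115⟩)) (.node (.leaf ⟨(nat_lit 42956197063425652699770576001090715648), [(nat_lit 80), (nat_lit 86), (nat_lit 88), (nat_lit 99)], .sq 99 118 125 1 603⟩) (.leaf ⟨(nat_lit 18610049032527678313497886039516119040), [(nat_lit 77), (nat_lit 85), (nat_lit 97)], .w 3 1627⟩))) (.node (.node (.leaf ⟨(nat_lit 20458298669638058024146764048361324544), [(nat_lit 93), (nat_lit 109)], .kill 82 120 [] 347⟩) (.leaf ⟨(nat_lit 68792661138764553212827931992339251200), [(nat_lit 69), (nat_lit 77)], .kill 93 98 [] 1371⟩)) (.leaf ⟨(nat_lit 46805818055632918134980571803894677504), [(nat_lit 90)], .br 104 859 982⟩))) (.node (.node (.node (.leaf ⟨(nat_lit 85070591690620534608711483061170077696), [(nat_lit 95)], .kill 66 96 [] 219⟩) (.leaf ⟨(nat_lit 21266349868254794128754510314644439040), [(nat_lit 81), (nat_lit 93)], .kill 63 82 [] 1243⟩)) (.node (.leaf ⟨(nat_lit 85034173454459872218094848274428067840),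 [(nat_lit 79)], .w 2 731⟩) (.leaf ⟨(nat_lit 171361008150941308690470631049789440), [(nat_lit 81), (nat_lit 83), (nat_lit 102), (nat_lit 103), (nat_lit 112)], .w 6 1755⟩))) (.node (.node (.leaf ⟨(nat_lit 85070591720321424145003692625351409664), [(nat_lit 83)], .kill 66 84 [] 475⟩) (.leaf ⟨(nat_lit 84699342504849375690403721370402816), [(nat_lit 108), (nat_lit 110), (nat_lit 116)], .w 4 1499⟩)) (.leaf ⟨(nat_lit 46784227430609830931814279954900713472), [(nat_lit 90), (nat_lit 103)], .kill 77 116 [] 987⟩))))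

def nodes23 : Tr (Node) :=
  .node (.node (.node (.node (.node (.leaf ⟨(nat_lit 82412135738664784120036037737381363712), [], .br 121 59 69⟩) (.leaf ⟨(nat_lit 675323110782156038078437816268750848), [(nat_lit 89), (nat_lit 108), (nat_lit 113), (nat_lit 119)], .w 4 1083⟩)) (.node (.leaf ⟨(nat_lit 42555071219587673205092271790227456000), [(nat_lit 78), (nat_lit 87)], .br 92 571 577⟩) (.leaf ⟨(nat_lit 21600767465829068286884097518731264), [(nat_lit 90), (nat_lit 104), (nat_lit 107), (nat_lit 109)], .w 6 1595⟩))) (.node (.node (.leaf ⟨(nat_lit 5316952627187033309220413729167900672), [(nat_lit 96), (nat_lit 105), (nat_lit 122)], .w 5 315⟩) (.leaf ⟨(nat_lit 2778695067460435989601873022681088), [(nat_lit 92), (nat_lit 104), (nat_lit 107), (nat_lit 111)], .w 4 1339⟩)) (.leaf ⟨(nat_lit 81930288332155671484145806149559517184), [(nat_lit 70)], .kill 121 123 [] 827⟩))) (.node (.node (.node (.leaf ⟨(nat_lit 77577135075358484545923197683518930944), [(nat_lit 100)], .w 1 187⟩) (.leaf ⟨(nat_lit 1334744811197109127259120712630140928),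 [(nat_lit 108), (nat_lit 112), (nat_lit 120)], .w 3 1211⟩)) (.node (.leaf ⟨(nat_lit 85070591730234605830814875759945973760), [(nat_lit 69)], .sq 69 78 79 1 699⟩) (.leaf ⟨(nat_lit 1500573792116565184645313439144607744), [(nat_lit 112), (nat_lit 117), (nat_lit 120)], .w 3 1723⟩))) (.node (.node (.leaf ⟨(nat_lit 85070591700059827408262507657275899904), [(nat_lit 87)], .w 5 443⟩) (.leaf ⟨(nat_lit 26584560866436267629248192328134295552), [(nat_lit 98), (nat_lit 99), (nat_lit 122)], .w 3 1467⟩)) (.leaf ⟨(nat_lit 2834994085997955924463031270653296640), [(nat_lit 90), (nat_lit 113), (nat_lit 117)], .w 0 955⟩)))) (.node (.node (.node (.node (.leaf ⟨(nat_lit 84999197648429761985951357533415276544), [(nat_lit 110)], .kill 72 117 [] 123⟩) (.leaf ⟨(nat_lit 53127591567867864117932417021554720768), [(nat_lit 73), (nat_lit 87)], .kill 64 88 [] 1147⟩)) (.node (.leaf ⟨(nat_lit 85070591730234162518661296372001538048), [(nat_lit 77)], .sq 77 79 89 1 635⟩) (.leaf ⟨(nat_lit 50523746073481515049628669446788743168), [(nat_lit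 72), (nat_lit 76), (nat_lit 96)], .w 1 1659⟩))) (.node (.node (.leaf ⟨(nat_lit 10639016580050511867916337352747778048), [(nat_lit 98), (nat_lit 112), (nat_lit 123)], .w 1 379⟩) (.leaf ⟨(nat_lit 66934941540462701500726854492260139008), [(nat_lit 67), (nat_lit 80)], .sq 67 99 101 1 1403⟩)) (.leaf ⟨(nat_lit 2990762990516060714033565885630775296), [(nat_lit 118), (nat_lit 121)], .rep 1⟩))) (.node (.node (.node (.leaf ⟨(nat_lit 31735318419171907094144477962579214336), [(nat_lit 94)], .br 117 251 279⟩) (.leaf ⟨(nat_lit 2990762990516060714033565885630775296), [(nat_lit 118), (nat_lit 121)], .rep 1⟩)) (.node (.leaf ⟨(nat_lit 85070590993378255498532960088660901888), [(nat_lit 70)], .kill 99 103 [] 763⟩) (.leaf ⟨(nat_lit 21476153638662764847333229968293363712), [(nat_lit 86), (nat_lit 101), (nat_lit 107), (nat_lit 109), (nat_lit 117)], .sq 86 115 124 1 1787⟩))) (.node (.node (.leaf ⟨(nat_lit 85043116218851612994127462504991817728), [(nat_lit 85)], .w 5 507⟩) (.leaf ⟨(nat_lit 747690752580775335649912571004190720),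 [(nat_lit 92), (nat_lit 116), (nat_lit 119)], .w 0 1531⟩)) (.leaf ⟨(nat_lit 667372410550314720771081455911567360), [(nat_lit 92), (nat_lit 107), (nat_lit 111), (nat_lit 119)], .rep 4⟩))))

def nodes24 : Tr (Node) :=
  .node (.node (.node (.node (.node (.leaf ⟨(nat_lit 85070591730234615275547841499236401152), [], .br 69 7 697⟩) (.leaf ⟨(nat_lit 55052382761778885558699001469565140992), [(nat_lit 85), (nat_lit 99)], .kill 75 109 [] 1031⟩)) (.node (.leaf ⟨(nat_lit 85070591730230989088384807970417934336), [(nat_lit 80)], .w 5 519⟩) (.leaf ⟨(nat_lit 44296787526135405347421896405155840), [(nat_lit 92), (nat_lit 107), (nat_lit 111), (nat_lit 115)], .w 1 1543⟩))) (.node (.node (.leaf ⟨(nat_lit 15953332097848257888659949971528744960), [(nat_lit 111)], .w 4 263⟩) (.leaf ⟨(nat_lit 2663658432109048477842117140313800704), [(nat_lit 91), (nat_lit 103), (nat_lit 112)], .w 5 1287⟩)) (.node (.leaf ⟨(nat_lit 83072600177456276069253869360795090944), [(nat_lit 80)], .w 1 775⟩) (.leaf ⟨(nat_lit 5328929312686737165269487399857029120),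 [(nat_lit 89), (nat_lit 90), (nat_lit 103), (nat_lit 108), (nat_lit 110), (nat_lit 113)], .kill 81 122 [] 1799⟩)))) (.node (.node (.node (.leaf ⟨(nat_lit 13297472254707693556666601099132665856), [(nat_lit 112)], .w 3 871⟩) (.leaf ⟨(nat_lit 53127589542907444856871632355312271360), [(nat_lit 73), (nat_lit 92)], .kill 95 117 [] 1159⟩)) (.node (.leaf ⟨(nat_lit 85070591730234294744922816722067521536), [(nat_lit 74)], .sq 74 93 95 1 651⟩) (.leaf ⟨(nat_lit 88594199360906872803183677874896896), [(nat_lit 86), (nat_lit 88), (nat_lit 99)], .w 4 1671⟩))) (.node (.node (.leaf ⟨(nat_lit 8016906359481294172734128531508822016), [(nat_lit 93), (nat_lit 115), (nat_lit 121)], .w 2 391⟩) (.leaf ⟨(nat_lit 78593283975423703898210697029974228992), [(nat_lit 68), (nat_lit 75)], .sq 75 121 124 1 1415⟩)) (.leaf ⟨(nat_lit 2990762990516060714033565885630775296), [(nat_lit 118), (nat_lit 121)], .rep 1⟩)))) (.node (.node (.node (.node (.leaf ⟨(nat_lit 77095223755525120628420809496259985408), [(nat_lit 121)], .w 4 71⟩) (.leaf ⟨(nat_lit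 5368835586169281901657924090214744064), [(nat_lit 89), (nat_lit 99), (nat_lit 113), (nat_lit 115)], .w 5 1095⟩)) (.node (.leaf ⟨(nat_lit 42786960004795333614192687279595585536), [(nat_lit 79), (nat_lit 86), (nat_lit 90)], .br 107 583 587⟩) (.leaf ⟨(nat_lit 21779102168095247579607716054444277760), [(nat_lit 82), (nat_lit 98), (nat_lit 101)], .sq 88 98 117 2 1607⟩))) (.node (.node (.leaf ⟨(nat_lit 1500573802020085498928355638337601536), [(nat_lit 93), (nat_lit 112), (nat_lit 117), (nat_lit 120)], .dbl 36 41 93 97 [(nat_lit 97), (nat_lit 100), (nat_lit 125)] [(nat_lit 105)] 327⟩) (.leaf ⟨(nat_lit 53127591567403939129803208255114051584), [(nat_lit 68), (nat_lit 73)], .w 3 1351⟩)) (.leaf ⟨(nat_lit 53127591567713121613021744487192330240), [(nat_lit 73)], .br 88 839 1148⟩))) (.node (.node (.node (.leaf ⟨(nat_lit 85070546094813007649585197976626659328), [(nat_lit 102)], .kill 70 107 [] 199⟩) (.leaf ⟨(nat_lit 48019010384837402762103596364668600320), [(nat_lit 109), (nat_lit 117), (nat_lit 122)], .kill 95 125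 [] 1223⟩)) (.node (.leaf ⟨(nat_lit 85070591710426008592196875454756421632), [(nat_lit 70)], .w 4 711⟩) (.leaf ⟨(nat_lit 166166175993623876242366399663570944), [(nat_lit 82), (nat_lit 83), (nat_lit 101), (nat_lit 103)], .w 2 1735⟩))) (.node (.node (.leaf ⟨(nat_lit 85070265156855234730296284903737655296), [(nat_lit 92)], .sq 92 103 123 1 455⟩) (.leaf ⟨(nat_lit 675323110163186018435747678819188736), [(nat_lit 108), (nat_lit 113), (nat_lit 119)], .w 3 1479⟩)) (.leaf ⟨(nat_lit 1330850589791148045823103115282350080), [(nat_lit 90), (nat_lit 108), (nat_lit 110)], .w 6 967⟩))))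

def nodes25 : Tr (Node) :=
  .node (.node (.node (.node (.node (.leaf ⟨(nat_lit 85070589194933415409384848864535642112), [], .br 101 39 195⟩) (.leaf ⟨(nat_lit 768459935063154489022513456724574208), [(nat_lit 114), (nat_lit 116), (nat_lit 119)], .rep 3⟩)) (.node (.leaf ⟨(nat_lit 74478296036614179146750609689323503616), [(nat_lit 78), (nat_lit 89)], .sq 89 93 105 1 551⟩) (.leaf ⟨(nat_lit 44296787526135405347421896405155840), [(nat_lit 92), (nat_lit 107), (nat_lit 111), (nat_lit 115)], .w 1 1575⟩))) (.node (.node (.leaf ⟨(nat_lit 18089962265038859772083291410195808256), [(nat_lit 93), (nat_lit 114)], .w 5 295⟩) (.leaf ⟨(nat_lit 1277305037107923614180002812879962112), [(nat_lit 82), (nat_lit 93), (nat_lit 113)], .kill 64 114 [] 1319⟩)) (.leaf ⟨(nat_lit 85070591706431718136135370467411230720), [(nat_lit 70)], .kill 94 96 [] 807⟩))) (.node (.node (.node (.leaf ⟨(nat_lit 83313810540004722780403036740552491008), [(nat_lit 107)], .w 6 167⟩) (.leaf ⟨(nat_lit 19108301486419002840728835002764099584), [(nat_lit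 93), (nat_lit 109), (nat_lit 117)], .kill 66 118 [] 1191⟩)) (.node (.leaf ⟨(nat_lit 85070371617950582095700898356119207936), [(nat_lit 76)], .w 6 679⟩) (.leaf ⟨(nat_lit 42549818070393522528945372160891813888), [(nat_lit 106), (nat_lit 107), (nat_lit 110), (nat_lit 111), (nat_lit 113)], .w 3 1703⟩))) (.node (.node (.leaf ⟨(nat_lit 85070591019657033316035374065844748288), [(nat_lit 91)], .w 5 423⟩) (.leaf ⟨(nat_lit 31901473483401231234978121317607276544), [(nat_lit 98), (nat_lit 100)], .w 3 1447⟩)) (.leaf ⟨(nat_lit 2834994085997955924463031270653296640), [(nat_lit 90), (nat_lit 113)], .w 0 935⟩)))) (.node (.node (.node (.node (.leaf ⟨(nat_lit 85065399433376081038215121361612832768), [(nat_lit 112)], .kill 63 113 [] 103⟩) (.leaf ⟨(nat_lit 43815197050654498960916093990015598592), [(nat_lit 82), (nat_lit 93)], .kill 124 125 [] 1251⟩)) (.node (.leaf ⟨(nat_lit 171508689665892396585607506769739776), [(nat_lit 86), (nat_lit 87), (nat_lit 99), (nat_lit 112), (nat_lit 117)], .w 5 615⟩) (.leaf ⟨(nat_lit 5338512751224462579544802476089671680),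 [(nat_lit 89), (nat_lit 90), (nat_lit 104)], .kill 102 122 [] 1639⟩))) (.node (.node (.leaf ⟨(nat_lit 5483065502419818604294288522042408960), [(nat_lit 94), (nat_lit 117)], .br 122 359 374⟩) (.leaf ⟨(nat_lit 60670946056332767680734233976394219520), [(nat_lit 67), (nat_lit 75)], .sq 67 83 85 1 1383⟩)) (.leaf ⟨(nat_lit 9346134345362689731354893392596172800), [(nat_lit 115)], .br 120 871 883⟩))) (.node (.node (.node (.leaf ⟨(nat_lit 85070560078583691417240783237133893632), [(nat_lit 95)], .w 3 231⟩) (.leaf ⟨(nat_lit 1246151255956714648408819834904641536), [(nat_lit 82), (nat_lit 93)], .w 2 1255⟩)) (.node (.leaf ⟨(nat_lit 85070591730234615054186912614721781760), [(nat_lit 66)], .w 5 743⟩) (.leaf ⟨(nat_lit 84700611393389643205185492972732416), [(nat_lit 90), (nat_lit 100), (nat_lit 108), (nat_lit 110), (nat_lit 116)], .w 6 1767⟩))) (.node (.node (.leaf ⟨(nat_lit 85070591594873609695232852424440938496), [(nat_lit 85)], .sq 85 98 114 1 487⟩) (.leaf ⟨(nat_lit 42786960004794729151282879965008232448), [(nat_lit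 86), (nat_lit 90), (nat_lit 107)], .kill 64 108 [] 1511⟩)) (.leaf ⟨(nat_lit 1330607204589724343634156572964290560), [(nat_lit 92), (nat_lit 106), (nat_lit 120)], .w 6 999⟩))))

def nodes26 : Tr (Node) :=
  .node (.node (.node (.node (.node (.leaf ⟨(nat_lit 85070591730195930239615983724351455232), [], .br 85 23 471⟩) (.leaf ⟨(nat_lit 10888251582949934449946056789187362816), [(nat_lit 102), (nat_lit 112)], .w 1 1047⟩)) (.node (.leaf ⟨(nat_lit 85070590502043656621290650280942108672), [(nat_lit 78)], .kill 96 100 [] 535⟩) (.leaf ⟨(nat_lit 21779101849635172473443640336644571136), [(nat_lit 82), (nat_lit 101), (nat_lit 103)], .br 111 1559 1576⟩))) (.node (.node (.leaf ⟨(nat_lit 31652241669435349852087990021311692800), [(nat_lit 94), (nat_lit 116)], .w 5 279⟩) (.leaf ⟨(nat_lit 2720764823998729984150142123012784128), [(nat_lit 91), (nat_lit 100), (nat_lit 114)], .w 3 1303⟩)) (.node (.leaf ⟨(nat_lit 85070591730234614279423661518920613888), [(nat_lit 65)], .w 4 791⟩) (.leaf ⟨(nat_lit 43989141525760020282510688994155560960),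 [(nat_lit 92), (nat_lit 101), (nat_lit 115), (nat_lit 120)], .sq 101 116 125 1 1815⟩)))) (.node (.node (.node (.leaf ⟨(nat_lit 5319508131568930905429493489285988352), [(nat_lit 111), (nat_lit 122)], .w 3 151⟩) (.leaf ⟨(nat_lit 42555050937177767321966944185682493440), [(nat_lit 87), (nat_lit 92), (nat_lit 105)], .w 5 1175⟩)) (.node (.leaf ⟨(nat_lit 85070591719630069691911576566066315264), [(nat_lit 77)], .kill 80 91 [] 663⟩) (.leaf ⟨(nat_lit 748015266182673605235174627428270080), [(nat_lit 108), (nat_lit 116), (nat_lit 119)], .w 2 1687⟩))) (.node (.node (.leaf ⟨(nat_lit 85070591725282855708702130758345555968), [(nat_lit 92)], .sq 92 93 108 1 407⟩) (.leaf ⟨(nat_lit 42786960004794729151282879965008232448), [(nat_lit 86), (nat_lit 90)], .br 107 1431 1510⟩)) (.leaf ⟨(nat_lit 24113756777781470967030887053944422400), [(nat_lit 106), (nat_lit 109)], .w 6 919⟩)))) (.node (.node (.node (.node (.leaf ⟨(nat_lit 68787548781869396422772015369507831808), [(nat_lit 118)], .kill 83 124 [] 87⟩) (.leaf ⟨(nat_lit 44296787526135405347421896405155840),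 [(nat_lit 92), (nat_lit 107), (nat_lit 111), (nat_lit 115)], .w 1 1111⟩)) (.node (.leaf ⟨(nat_lit 42746319127751270992638415116139757568), [(nat_lit 79), (nat_lit 85), (nat_lit 91), (nat_lit 102)], .kill 74 111 [] 599⟩) (.leaf ⟨(nat_lit 50523746073483932901267898705138155520), [(nat_lit 72), (nat_lit 76), (nat_lit 81)], .sq 81 96 106 1 1623⟩))) (.node (.node (.leaf ⟨(nat_lit 21150821263145140659102018996271054848), [(nat_lit 93), (nat_lit 111)], .w 6 343⟩) (.leaf ⟨(nat_lit 58190143079238128956175708067987456000), [(nat_lit 72), (nat_lit 74)], .sq 72 85 92 1 1367⟩)) (.leaf ⟨(nat_lit 44673533408317239054084744087706009600), [(nat_lit 92)], .w 5 855⟩))) (.node (.node (.node (.leaf ⟨(nat_lit 85070591720331095551560609658749059072), [(nat_lit 93)], .kill 73 94 [] 215⟩) (.leaf ⟨(nat_lit 21266998905362715445117883941272944640), [(nat_lit 79), (nat_lit 93)], .w 4 1239⟩)) (.node (.leaf ⟨(nat_lit 85070560097288823314835409643235180544), [(nat_lit 79)], .sq 79 112 119 1 727⟩) (.leaf ⟨(nat_lit 667372410550314720771081455911567360),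 [(nat_lit 92), (nat_lit 107), (nat_lit 111), (nat_lit 119)], .rep 4⟩))) (.node (.node (.leaf ⟨(nat_lit 85070591730157244613388315590760857600), [(nat_lit 86)], .sq 86 93 102 1 480⟩) (.leaf ⟨(nat_lit 2930808187727666376260377810829312), [(nat_lit 103), (nat_lit 108), (nat_lit 111)], .w 4 1495⟩)) (.leaf ⟨(nat_lit 46805818055632918134980571803894677504), [(nat_lit 90), (nat_lit 104)], .kill 68 108 [] 983⟩))))

def nodes27 : Tr (Node) :=
  .node (.node (.node (.node (.node (.leaf ⟨(nat_lit 84904438230761501381730675975407009792), [], .br 117 55 82⟩) (.leaf ⟨(nat_lit 674998596561287748850485622395109376), [(nat_lit 92), (nat_lit 113), (nat_lit 119)], .w 3 1079⟩)) (.node (.leaf ⟨(nat_lit 74477961342967110318751329534313758720), [(nat_lit 78), (nat_lit 87)], .kill 94 109 [] 567⟩) (.leaf ⟨(nat_lit 5338512751224462579544802476089671680), [(nat_lit 89), (nat_lit 90), (nat_lit 104), (nat_lit 109)], .kill 102 122 [] 1591⟩))) (.node (.node (.leaf ⟨(nat_lit 176538103093704453653079074386477056), [(nat_lit 93), (nat_lit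 113), (nat_lit 117)], .w 2 311⟩) (.leaf ⟨(nat_lit 10709152503779358758703082900553728), [(nat_lit 89), (nat_lit 95), (nat_lit 108), (nat_lit 113)], .w 4 1335⟩)) (.leaf ⟨(nat_lit 85050814355879749671148658038868541440), [(nat_lit 66)], .sq 66 117 118 1 823⟩))) (.node (.node (.node (.leaf ⟨(nat_lit 84924244003739467237899660466287804416), [(nat_lit 103)], .kill 85 119 [] 183⟩) (.leaf ⟨(nat_lit 334923429785100033710640960485982208), [(nat_lit 104), (nat_lit 111), (nat_lit 118)], .w 4 1207⟩)) (.node (.leaf ⟨(nat_lit 85070591730234604059927444683829018624), [(nat_lit 71)], .sq 71 78 81 1 703⟩) (.leaf ⟨(nat_lit 45526068996838170472790603788227444736), [(nat_lit 103), (nat_lit 118), (nat_lit 121)], .w 2 1719⟩))) (.node (.node (.leaf ⟨(nat_lit 85070591720021610541739264590024278016), [(nat_lit 88)], .sq 88 94 110 1 443⟩) (.leaf ⟨(nat_lit 2990762990516060714033565885630775296), [(nat_lit 118), (nat_lit 121)], .rep 1⟩)) (.leaf ⟨(nat_lit 768459935063154489022513456724574208), [(nat_lit 114), (nat_lit 116), (nat_lit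 119)], .rep 3⟩)))) (.node (.node (.node (.node (.leaf ⟨(nat_lit 85067995581805348452029386609777442816), [(nat_lit 111)], .kill 66 113 [] 119⟩) (.leaf ⟨(nat_lit 51028899692716209663399138142220976128), [(nat_lit 87), (nat_lit 92)], .kill 95 117 [] 1143⟩)) (.node (.leaf ⟨(nat_lit 10722580425071805574307704272490332160), [(nat_lit 86), (nat_lit 87), (nat_lit 88), (nat_lit 99), (nat_lit 107), (nat_lit 108), (nat_lit 112), (nat_lit 116)], .w 2 631⟩) (.leaf ⟨(nat_lit 65303559581359391804262256270253228032), [(nat_lit 68), (nat_lit 70), (nat_lit 97)], .w 2 1655⟩))) (.node (.node (.leaf ⟨(nat_lit 5483065502419818604294288522042408960), [(nat_lit 94), (nat_lit 117), (nat_lit 122)], .w 3 375⟩) (.leaf ⟨(nat_lit 56309423231386610784948261086153408512), [(nat_lit 68), (nat_lit 84)], .w 2 1399⟩)) (.leaf ⟨(nat_lit 8058444724446052479479330302949588992), [(nat_lit 116), (nat_lit 121)], .kill 66 122 [] 887⟩))) (.node (.node (.node (.leaf ⟨(nat_lit 21246878755028034970229833178361626624), [(nat_lit 93)], .br 114 247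 291⟩) (.leaf ⟨(nat_lit 103845937170696552570609926584401920), [(nat_lit 114), (nat_lit 116)], .w 1 1271⟩)) (.node (.leaf ⟨(nat_lit 85070591710145538244768139255253827584), [(nat_lit 70)], .kill 85 90 [] 759⟩) (.leaf ⟨(nat_lit 42910606643663992188120676057825148928), [(nat_lit 84), (nat_lit 89), (nat_lit 102), (nat_lit 107), (nat_lit 110), (nat_lit 115), (nat_lit 118)], .w 5 1783⟩))) (.node (.node (.leaf ⟨(nat_lit 84976944441117290111306461661875929088), [(nat_lit 91)], .w 4 503⟩) (.leaf ⟨(nat_lit 664619073446619006511030616549490688), [(nat_lit 92), (nat_lit 102), (nat_lit 119)], .w 3 1527⟩)) (.leaf ⟨(nat_lit 2778695067460435989601873022681088), [(nat_lit 92), (nat_lit 104), (nat_lit 107), (nat_lit 111)], .w 4 1015⟩))))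

def nodes28 : Tr (Node) :=
  .node (.node (.node (.node (.node (.leaf ⟨(nat_lit 85070591730234464750116200029295214592), [], .br 77 15 633⟩) (.leaf ⟨(nat_lit 21548032596749670475794719031313825792), [(nat_lit 82), (nat_lit 99)], .br 113 1039 1063⟩)) (.node (.leaf ⟨(nat_lit 85070591710245027438515758454175432704), [(nat_lit 80)], .sq 80 95 103 1 527⟩) (.leaf ⟨(nat_lit 42567281226919176676108461156597760000), [(nat_lit 89), (nat_lit 90), (nat_lit 104)], .w 5 1551⟩))) (.node (.node (.leaf ⟨(nat_lit 31901472215750631006748719820904071168), [(nat_lit 98), (nat_lit 123)], .w 1 271⟩) (.leaf ⟨(nat_lit 51963538356315736767673957391269888), [(nat_lit 92), (nat_lit 105), (nat_lit 113), (nat_lit 115)], .w 2 1295⟩)) (.node (.leaf ⟨(nat_lit 85070591730234615773609931489394294784), [(nat_lit 64)], .kill 63 65 [] 783⟩) (.leaf ⟨(nat_lit 21289187854033612119021905495149510656), [(nat_lit 91), (nat_lit 105), (nat_lit 106), (nat_lit 109), (nat_lit 114)], .w 5 1807⟩)))) (.node (.node (.node (.leaf ⟨(nat_lit 19108301476515482526445792803571105792),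 [(nat_lit 109), (nat_lit 117)], .kill 66 118 [] 143⟩) (.leaf ⟨(nat_lit 42664056212155993076404807226745683968), [(nat_lit 84), (nat_lit 92)], .w 3 1167⟩)) (.node (.leaf ⟨(nat_lit 85070591720330151078264035729706319872), [(nat_lit 75)], .kill 64 76 [] 655⟩) (.leaf ⟨(nat_lit 11804367341085429328258399844958208), [(nat_lit 92), (nat_lit 105), (nat_lit 106)], .br 110 1679 1689⟩))) (.node (.node (.leaf ⟨(nat_lit 334923429785100033710640960485982208), [(nat_lit 104), (nat_lit 111), (nat_lit 118)], .w 4 399⟩) (.leaf ⟨(nat_lit 43046840419405170889445100983362256896), [(nat_lit 82), (nat_lit 85)], .br 87 1423 1553⟩)) (.leaf ⟨(nat_lit 22700802995152680998617025740355403776), [(nat_lit 106), (nat_lit 114)], .w 5 911⟩)))) (.node (.node (.node (.node (.leaf ⟨(nat_lit 85029053355366337244815407887308292096), [(nat_lit 115)], .kill 63 116 [] 79⟩) (.leaf ⟨(nat_lit 5369160104722940328384707246235320320), [(nat_lit 89), (nat_lit 99), (nat_lit 108), (nat_lit 115)], .kill 84 122 [] 1103⟩)) (.node (.leaf ⟨(nat_lit 21518911498283456392641705914413350912),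 [(nat_lit 79), (nat_lit 92), (nat_lit 102), (nat_lit 106)], .w 4 591⟩) (.leaf ⟨(nat_lit 21779101849635172473443640336644571136), [(nat_lit 82), (nat_lit 101), (nat_lit 111)], .kill 66 113 [] 1615⟩))) (.node (.node (.leaf ⟨(nat_lit 47936744931484991586864066313452519424), [(nat_lit 110), (nat_lit 116), (nat_lit 122)], .w 5 1221⟩) (.leaf ⟨(nat_lit 68792661146195933562794646400743243776), [(nat_lit 69), (nat_lit 75)], .kill 64 76 [] 1359⟩)) (.leaf ⟨(nat_lit 51028901713034353777139746777591709696), [(nat_lit 87)], .br 92 847 1127⟩))) (.node (.node (.node (.leaf ⟨(nat_lit 85065967974670283399101692633000443904), [(nat_lit 99)], .sq 99 118 125 1 207⟩) (.leaf ⟨(nat_lit 53127591528254085092255151882076422144), [(nat_lit 73), (nat_lit 78)], .sq 78 96 100 1 1231⟩)) (.node (.leaf ⟨(nat_lit 85070591669593952870973088884343177216), [(nat_lit 69)], .sq 69 100 103 1 719⟩) (.leaf ⟨(nat_lit 84700611393389643205185492972732416), [(nat_lit 90), (nat_lit 100), (nat_lit 108), (nat_lit 110)], .w 6 1743⟩))) (.node (.node (.leaf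 ⟨(nat_lit 65941184351700811067501158141224026112), [(nat_lit 92)], .kill 109 124 [] 463⟩) (.leaf ⟨(nat_lit 166154212526577112492014224430596096), [(nat_lit 96), (nat_lit 99), (nat_lit 117)], .w 4 1487⟩)) (.leaf ⟨(nat_lit 2825420788665032336022928168046297088), [(nat_lit 90), (nat_lit 107), (nat_lit 109), (nat_lit 117)], .kill 78 121 [] 975⟩))))

def nodes29 : Tr (Node) :=
  .node (.node (.node (.node (.node (.leaf ⟨(nat_lit 85069942693127299012390085545900900352), [], .br 109 47 114⟩) (.leaf ⟨(nat_lit 10888571030978563216210570225576312832), [(nat_lit 86), (nat_lit 112), (nat_lit 116)], .kill 64 117 [] 1071⟩)) (.node (.leaf ⟨(nat_lit 74478296007213103213722828160469303296), [(nat_lit 78), (nat_lit 88)], .kill 63 89 [] 559⟩) (.leaf ⟨(nat_lit 2679995913044789898368606651224686592), [(nat_lit 91), (nat_lit 105), (nat_lit 106), (nat_lit 109)], .kill 85 121 [] 1595⟩))) (.node (.node (.leaf ⟨(nat_lit 9346134365169730359920977790982160384), [(nat_lit 94), (nat_lit 115), (nat_lit 120)], .kill 64 121 [] 303⟩)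 (.leaf ⟨(nat_lit 685383225559648523740884449678589952), [(nat_lit 89), (nat_lit 95), (nat_lit 114)], .w 4 1327⟩)) (.leaf ⟨(nat_lit 85070498969967030278975091812503388160), [(nat_lit 80)], .sq 80 98 107 1 815⟩))) (.node (.node (.node (.leaf ⟨(nat_lit 85070551165415408562502803963439480832), [(nat_lit 105)], .kill 66 107 [] 175⟩) (.leaf ⟨(nat_lit 332347583572476900132884057958645760), [(nat_lit 94), (nat_lit 105), (nat_lit 118)], .w 1 1199⟩)) (.node (.leaf ⟨(nat_lit 85023933263972496859734748692932984832), [(nat_lit 74)], .w 3 687⟩) (.leaf ⟨(nat_lit 53252848153541709468121139657928867840), [(nat_lit 101), (nat_lit 109), (nat_lit 123)], .w 5 1711⟩))) (.node (.node (.leaf ⟨(nat_lit 84882683291481119751469736215856545792), [(nat_lit 92)], .kill 96 118 [] 431⟩) (.leaf ⟨(nat_lit 996961561657894208018703189712830464), [(nat_lit 105), (nat_lit 119)], .w 2 1455⟩)) (.leaf ⟨(nat_lit 2668840585286901401064675113219129344), [(nat_lit 113), (nat_lit 121)], .w 3 943⟩)))) (.node (.node (.node (.node (.leaf ⟨(nat_lit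 83294826204615704816886222113348780032), [(nat_lit 113)], .w 6 111⟩) (.leaf ⟨(nat_lit 58813226387287058608371805171069485056), [(nat_lit 83), (nat_lit 90)], .kill 63 91 [] 1135⟩)) (.node (.leaf ⟨(nat_lit 62349394784314721308761638903480320), [(nat_lit 81), (nat_lit 83), (nat_lit 100), (nat_lit 105), (nat_lit 114), (nat_lit 115)], .w 4 623⟩) (.leaf ⟨(nat_lit 11692810993415246927476002715074560), [(nat_lit 89), (nat_lit 90), (nat_lit 103), (nat_lit 110), (nat_lit 113)], .w 0 1647⟩))) (.node (.node (.leaf ⟨(nat_lit 21267648249471304023518263338661314560), [(nat_lit 98), (nat_lit 124)], .w 1 367⟩) (.leaf ⟨(nat_lit 68792661156099453923194548784210116608), [(nat_lit 63), (nat_lit 69)], .kill 64 65 [] 1391⟩)) (.leaf ⟨(nat_lit 10633823966279326983230456482242756608), [(nat_lit 123)], .w 2 879⟩))) (.node (.node (.node (.leaf ⟨(nat_lit 85070267221584477753399910901114470400), [(nat_lit 93)], .kill 92 108 [] 239⟩) (.leaf ⟨(nat_lit 2825258530626143161944916864935133184), [(nat_lit 91), (nat_lit 109)], .w 0 1263⟩))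 (.node (.leaf ⟨(nat_lit 85070591730233913561403277587892928512), [(nat_lit 67)], .w 5 751⟩) (.leaf ⟨(nat_lit 88269680808457371896015151029026816), [(nat_lit 80), (nat_lit 86), (nat_lit 88), (nat_lit 99), (nat_lit 112), (nat_lit 116)], .w 0 1775⟩))) (.node (.node (.leaf ⟨(nat_lit 85070573473365715868649034580792180736), [(nat_lit 87)], .sq 87 108 123 1 495⟩) (.leaf ⟨(nat_lit 22638417160377459131050638462578327552), [(nat_lit 92), (nat_lit 98), (nat_lit 101)], .kill 109 124 [] 1519⟩)) (.leaf ⟨(nat_lit 2666579099091974318383165544498987008), [(nat_lit 91), (nat_lit 103), (nat_lit 108)], .kill 83 121 [] 1007⟩))))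

def nodes30 : Tr (Node) :=
  .node (.node (.node (.node (.node (.leaf ⟨(nat_lit 85070591720331095551560609658749059072), [], .br 93 31 214⟩) (.leaf ⟨(nat_lit 52247487757976722654778256762339328), [(nat_lit 89), (nat_lit 108), (nat_lit 115)], .w 1 1055⟩)) (.node (.leaf ⟨(nat_lit 83782892007572817771809276714373087232), [(nat_lit 78)], .kill 116 120 [] 543⟩) (.leaf ⟨(nat_lit 1330607204589724343634156572964290560), [(nat_lit 92), (nat_lit 106), (nat_lit 110)], .w 6 1567⟩))) (.node (.node (.leaf ⟨(nat_lit 30613782594833993754873156731257487360), [(nat_lit 98), (nat_lit 115)], .kill 86 124 [] 1048⟩) (.leaf ⟨(nat_lit 674998596561287748850485622395109376), [(nat_lit 92), (nat_lit 113), (nat_lit 119)], .w 3 1311⟩)) (.leaf ⟨(nat_lit 85070591690617414489525367680190644224), [(nat_lit 67)], .sq 67 83 85 1 799⟩))) (.node (.node (.node (.leaf ⟨(nat_lit 85070429470957786652480260279931764736), [(nat_lit 107)], .kill 64 108 [] 159⟩) (.leaf ⟨(nat_lit 48890672926248557480936496322739961856), [(nat_lit 73), (nat_lit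 89), (nat_lit 90)], .w 0 1183⟩)) (.node (.leaf ⟨(nat_lit 85070581559164822268436510148959141888), [(nat_lit 73)], .sq 73 104 110 1 671⟩) (.leaf ⟨(nat_lit 44296787526135405347421896405155840), [(nat_lit 92), (nat_lit 107), (nat_lit 111), (nat_lit 115)], .w 1 1695⟩))) (.node (.node (.leaf ⟨(nat_lit 85070591658434093587291595913792847872), [(nat_lit 91)], .sq 91 99 120 1 421⟩) (.leaf ⟨(nat_lit 37265115504442408061135423277340033024), [(nat_lit 98), (nat_lit 99)], .w 6 1439⟩)) (.leaf ⟨(nat_lit 46804986476839168416493189966591950848), [(nat_lit 90), (nat_lit 108)], .kill 73 114 [] 927⟩)))) (.node (.node (.node (.node (.leaf ⟨(nat_lit 21267647932558653966460912964485513216), [(nat_lit 124)], .w 0 95⟩) (.leaf ⟨(nat_lit 46095715764067972968235078444375867392), [(nat_lit 91), (nat_lit 96)], .kill 81 106 [] 1119⟩)) (.node (.leaf ⟨(nat_lit 88294399617976966649580034233204736), [(nat_lit 80), (nat_lit 83), (nat_lit 102), (nat_lit 104)], .w 5 607⟩) (.leaf ⟨(nat_lit 21779101851182597522550365680268476416), [(nat_lit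 82), (nat_lit 88), (nat_lit 101)], .w 0 1631⟩))) (.node (.node (.leaf ⟨(nat_lit 18609840987999659388389907355158970368), [(nat_lit 93), (nat_lit 109)], .br 121 351 385⟩) (.leaf ⟨(nat_lit 71296442483426122859066996641222361088), [(nat_lit 70), (nat_lit 77)], .w 5 1375⟩)) (.leaf ⟨(nat_lit 25537744191234647444155375672233033728), [(nat_lit 106)], .br 109 863 912⟩))) (.node (.node (.node (.leaf ⟨(nat_lit 85070591571778290837314976670854152192), [(nat_lit 97)], .kill 63 98 [] 223⟩) (.leaf ⟨(nat_lit 21259859497179207742579617935883501568), [(nat_lit 82), (nat_lit 93)], .sq 82 115 123 1 1247⟩)) (.node (.leaf ⟨(nat_lit 80413181378221790952313076558843609088), [(nat_lit 83)], .w 1 735⟩) (.leaf ⟨(nat_lit 84376091679766892558165643821580288), [(nat_lit 79), (nat_lit 86), (nat_lit 100), (nat_lit 110), (nat_lit 116)], .w 3 1759⟩))) (.node (.node (.leaf ⟨(nat_lit 85070591720292409925332941525158461440), [(nat_lit 85)], .kill 63 86 [] 479⟩) (.leaf ⟨(nat_lit 1391535558087333804446173016230985728), [(nat_lit 114), (nat_lit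 115), (nat_lit 120)], .w 1 1503⟩)) (.leaf ⟨(nat_lit 2832732598565088802496141427034030080), [(nat_lit 91), (nat_lit 103)], .br 108 991 1005⟩))))

def nodes31 : Tr (Node) :=
  .node (.node (.node (.node (.node (.leaf ⟨(nat_lit 42535295865117307932921825928971026432), [], .br 125 63 64⟩) (.leaf ⟨(nat_lit 21537729132671015427219353827660529664), [(nat_lit 82), (nat_lit 99), (nat_lit 106)], .w 2 1087⟩)) (.node (.leaf ⟨(nat_lit 42786963807669763046425555502524006400), [(nat_lit 79), (nat_lit 90)], .w 2 575⟩) (.leaf ⟨(nat_lit 43046839785579870775330400235010654208), [(nat_lit 82), (nat_lit 85), (nat_lit 87), (nat_lit 100)], .kill 71 106 [] 1599⟩))) (.node (.node (.leaf ⟨(nat_lit 334923429785100033710640960485982208), [(nat_lit 104), (nat_lit 111), (nat_lit 118)], .w 4 319⟩) (.leaf ⟨(nat_lit 667372410550314720771081455911567360), [(nat_lit 92), (nat_lit 107), (nat_lit 111), (nat_lit 119)], .rep 4⟩)) (.leaf ⟨(nat_lit 68792661156099453913971176747355340800), [(nat_lit 69)], .br 65 831 1392⟩))) (.node (.node (.node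 (.leaf ⟨(nat_lit 63782174620145342903151659107332653056), [(nat_lit 93)], .kill 124 125 [] 246⟩) (.leaf ⟨(nat_lit 2991412037526897881770174396864921600), [(nat_lit 93), (nat_lit 109), (nat_lit 118), (nat_lit 121)], .dbl 33 42 93 96 [(nat_lit 96), (nat_lit 99), (nat_lit 125)] [(nat_lit 108)] 1215⟩)) (.node (.leaf ⟨(nat_lit 85070591730234300647880920309124038656), [(nat_lit 70)], .w 5 703⟩) (.leaf ⟨(nat_lit 1632735830004018397198166077210624), [(nat_lit 89), (nat_lit 90), (nat_lit 103), (nat_lit 108), (nat_lit 110)], .w 2 1727⟩))) (.node (.node (.leaf ⟨(nat_lit 85070591697429204824781074573115260928), [(nat_lit 89)], .sq 89 96 116 1 447⟩) (.leaf ⟨(nat_lit 15951385303438957385356601409581088768), [(nat_lit 98), (nat_lit 109), (nat_lit 122)], .w 5 1471⟩)) (.leaf ⟨(nat_lit 88593565148750496411801593617317888), [(nat_lit 108), (nat_lit 112), (nat_lit 116)], .w 1 959⟩)))) (.node (.node (.node (.node (.leaf ⟨(nat_lit 82932014461625583736342653682344525824), [(nat_lit 109)], .kill 92 124 [] 127⟩) (.leaf ⟨(nat_lit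 53127591567403636603200399418467549184), [(nat_lit 73), (nat_lit 89)], .kill 66 91 [] 1151⟩)) (.node (.leaf ⟨(nat_lit 85070591730234540307979925943618633728), [(nat_lit 76)], .sq 76 78 85 1 639⟩) (.leaf ⟨(nat_lit 43046839785579870775330400235010654208), [(nat_lit 82), (nat_lit 85), (nat_lit 100)], .kill 71 106 [] 1663⟩))) (.node (.node (.leaf ⟨(nat_lit 1371090889206852920658834186934681600), [(nat_lit 108), (nat_lit 115), (nat_lit 120)], .w 2 383⟩) (.leaf ⟨(nat_lit 76576985872803404175275784483190603776), [(nat_lit 66), (nat_lit 76)], .kill 82 92 [] 1407⟩)) (.leaf ⟨(nat_lit 12134397758395892167875769921387364352), [(nat_lit 112), (nat_lit 117)], .kill 80 123 [] 895⟩))) (.node (.node (.node (.leaf ⟨(nat_lit 40624530779632816394151278466905931776), [(nat_lit 97)], .w 6 255⟩) (.leaf ⟨(nat_lit 166964795857260550929933772586483712), [(nat_lit 107), (nat_lit 109), (nat_lit 117)], .w 5 1279⟩)) (.node (.leaf ⟨(nat_lit 85070578316872253216238945121628848128), [(nat_lit 70)], .w 1 767⟩) (.leaf ⟨(nat_lit 21465036977115755355151944482138619904),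 [(nat_lit 82), (nat_lit 87), (nat_lit 88), (nat_lit 99), (nat_lit 106), (nat_lit 113), (nat_lit 114), (nat_lit 117)], .w 0 1791⟩))) (.node (.node (.leaf ⟨(nat_lit 84068558366621582079242392511553994752), [(nat_lit 83)], .kill 107 120 [] 511⟩) (.leaf ⟨(nat_lit 41541232033889291685918437812469760), [(nat_lit 92), (nat_lit 98), (nat_lit 101), (nat_lit 115)], .w 6 1535⟩)) (.leaf ⟨(nat_lit 44673530873016038597625941094299598848), [(nat_lit 92), (nat_lit 101)], .w 6 1023⟩))))

def nodes32 : Tr (Node) :=
  .node (.node (.node (.node (.node (.leaf ⟨(nat_lit 85070591730234615847396907784232501248), [], .br 64 2 781⟩) (.leaf ⟨(nat_lit 46095685261225404976465104929954988032), [(nat_lit 91), (nat_lit 102)], .w 6 1026⟩)) (.node (.leaf ⟨(nat_lit 85070591730234313634388748200648376320), [(nat_lit 78)], .kill 69 79 [] 514⟩) (.leaf ⟨(nat_lit 1329248600058929738773102481303928832), [(nat_lit 92), (nat_lit 98), (nat_lit 104), (nat_lit 120)], .w 4 1538⟩))) (.node (.node (.leaf ⟨(nat_lit 39876840190460126244171562182586138624),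 [(nat_lit 98)], .br 121 258 266⟩) (.leaf ⟨(nat_lit 1334744811197109127259120712630140928), [(nat_lit 108), (nat_lit 112), (nat_lit 120)], .w 3 1282⟩)) (.node (.leaf ⟨(nat_lit 85070498653054380212694369401472811008), [(nat_lit 80)], .sq 80 110 119 1 770⟩) (.leaf ⟨(nat_lit 21465036976806270345330599413413838848), [(nat_lit 82), (nat_lit 87), (nat_lit 99), (nat_lit 106), (nat_lit 113), (nat_lit 117)], .sq 87 114 124 1 1794⟩)))) (.node (.node (.node (.leaf ⟨(nat_lit 19108301476515482526445792803571105792), [(nat_lit 109)], .br 117 130 142⟩) (.leaf ⟨(nat_lit 53127591526242130296961505278071668736), [(nat_lit 73), (nat_lit 91)], .sq 91 99 120 1 1154⟩)) (.node (.leaf ⟨(nat_lit 85070591730232424687795600342562897920), [(nat_lit 76)], .sq 76 93 97 1 657⟩) (.leaf ⟨(nat_lit 43044222720915699595731010291243155456), [(nat_lit 82), (nat_lit 85), (nat_lit 99)], .sq 99 118 125 1 1666⟩))) (.node (.node (.leaf ⟨(nat_lit 18609840987999659388389907355158970368), [(nat_lit 93), (nat_lit 109), (nat_lit 121)], .kill 66 122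 [] 386⟩) (.leaf ⟨(nat_lit 77979401512737907560950978659213115392), [(nat_lit 67), (nat_lit 75)], .sq 75 102 113 1 1410⟩)) (.leaf ⟨(nat_lit 176538093190184139370036875193483264), [(nat_lit 113), (nat_lit 117)], .w 1 898⟩)))) (.node (.node (.node (.node (.leaf ⟨(nat_lit 84405977732342157929391748327801880576), [(nat_lit 119)], .kill 63 120 [] 66⟩) (.leaf ⟨(nat_lit 10805170396513647661541999876639817728), [(nat_lit 86), (nat_lit 99), (nat_lit 112)], .w 3 1090⟩)) (.node (.leaf ⟨(nat_lit 42555071219587673205092271790227456000), [(nat_lit 78), (nat_lit 87), (nat_lit 92)], .br 104 578 593⟩) (.leaf ⟨(nat_lit 43044222720915699595731010291243155456), [(nat_lit 82), (nat_lit 85), (nat_lit 87), (nat_lit 99)], .sq 99 118 125 1 1602⟩))) (.node (.node (.leaf ⟨(nat_lit 88593565148750496411801593617317888), [(nat_lit 108), (nat_lit 112), (nat_lit 116)], .w 1 322⟩) (.leaf ⟨(nat_lit 43283962703785870100524706129028055040), [(nat_lit 86), (nat_lit 101), (nat_lit 108), (nat_lit 109), (nat_lit 116), (nat_lit 119)], .w 3 1346⟩))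 (.leaf ⟨(nat_lit 58190143099064514759038867967991349248), [(nat_lit 74)], .br 71 834 1352⟩))) (.node (.node (.node (.leaf ⟨(nat_lit 85070590462584015637614250361238847488), [(nat_lit 100)], .kill 64 101 [] 194⟩) (.leaf ⟨(nat_lit 53190872715696551332681965838218035200), [(nat_lit 103), (nat_lit 108), (nat_lit 109), (nat_lit 114), (nat_lit 123)], .w 2 1218⟩)) (.node (.leaf ⟨(nat_lit 85070591730234299467289299591712735232), [(nat_lit 72)], .kill 73 77 [] 706⟩) (.leaf ⟨(nat_lit 21600767465829068286884097518731264), [(nat_lit 90), (nat_lit 104), (nat_lit 107), (nat_lit 109), (nat_lit 114)], .w 6 1730⟩))) (.node (.node (.leaf ⟨(nat_lit 85070591024918278482998240234166026240), [(nat_lit 91)], .kill 64 92 [] 450⟩) (.leaf ⟨(nat_lit 8016906666490423915508436706491629568), [(nat_lit 98), (nat_lit 115), (nat_lit 121)], .kill 66 122 [] 1474⟩)) (.leaf ⟨(nat_lit 1391535558087333804446173016230985728), [(nat_lit 114), (nat_lit 115), (nat_lit 120)], .w 1 962⟩))))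

def nodes33 : Tr (Node) :=
  .node (.node (.node (.node (.node (.leaf ⟨(nat_lit 85070591651006453351579314264398102528), [], .br 96 34 220⟩) (.leaf ⟨(nat_lit 664938518921996441749447235958996992), [(nat_lit 91), (nat_lit 108), (nat_lit 119)], .w 0 1058⟩)) (.node (.leaf ⟨(nat_lit 74478296037078406661482627292410675200), [(nat_lit 78)], .br 87 546 554⟩) (.leaf ⟨(nat_lit 2846108847698697079140734639257157632), [(nat_lit 91), (nat_lit 106), (nat_lit 109), (nat_lit 114)], .kill 69 117 [] 1570⟩))) (.node (.node (.leaf ⟨(nat_lit 21257263348745104625486894171020066816), [(nat_lit 93), (nat_lit 113)], .kill 64 114 [] 290⟩) (.leaf ⟨(nat_lit 768459935063154489022513456724574208), [(nat_lit 114), (nat_lit 116), (nat_lit 119)], .rep 3⟩)) (.leaf ⟨(nat_lit 85070591690589648053740622478342881280), [(nat_lit 66)], .sq 66 88 90 1 802⟩))) (.node (.node (.node (.leaf ⟨(nat_lit 85069618174573640585663302389880324096), [(nat_lit 108)], .kill 73 114 [] 162⟩) (.leaf ⟨(nat_lit 17707030371724938549028203878852591616), [(nat_lit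 93), (nat_lit 110), (nat_lit 113)], .w 5 1186⟩)) (.node (.leaf ⟨(nat_lit 85070582806060895701709827370890821632), [(nat_lit 74)], .sq 74 106 115 1 674⟩) (.leaf ⟨(nat_lit 10719255332439966747126534653345792), [(nat_lit 89), (nat_lit 90), (nat_lit 103), (nat_lit 108)], .w 2 1698⟩))) (.node (.node (.leaf ⟨(nat_lit 85070591699286114883709144985463947264), [(nat_lit 90)], .sq 90 95 115 1 418⟩) (.leaf ⟨(nat_lit 37384538094504221553798611912280244224), [(nat_lit 96), (nat_lit 99)], .br 117 1442 1483⟩)) (.leaf ⟨(nat_lit 43959607798362082876058477978179338240), [(nat_lit 90), (nat_lit 108)], .w 5 930⟩)))) (.node (.node (.node (.node (.leaf ⟨(nat_lit 4984604984193434523389276476051292160), [(nat_lit 118), (nat_lit 119)], .kill 63 120 [] 98⟩) (.leaf ⟨(nat_lit 54422937848159585759441274256779902976), [(nat_lit 86), (nat_lit 94)], .kill 87 109 [] 1122⟩)) (.node (.leaf ⟨(nat_lit 83401902503580970994267810720382976), [(nat_lit 80), (nat_lit 86), (nat_lit 88), (nat_lit 99), (nat_lit 108)], .w 2 610⟩) (.leaf ⟨(nat_lit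 21779101849944657483264985405369352192), [(nat_lit 82), (nat_lit 88), (nat_lit 101)], .w 4 1634⟩))) (.node (.node (.leaf ⟨(nat_lit 13297472264611213870949643298325659648), [(nat_lit 93), (nat_lit 112)], .w 3 354⟩) (.leaf ⟨(nat_lit 72449619084487781207221386216640348160), [(nat_lit 71), (nat_lit 77)], .w 6 1378⟩)) (.leaf ⟨(nat_lit 25525412486195627228537615743451136000), [(nat_lit 106)], .br 114 866 908⟩))) (.node (.node (.node (.leaf ⟨(nat_lit 85070586342719564895868695496953430016), [(nat_lit 98)], .kill 79 105 [] 226⟩) (.leaf ⟨(nat_lit 17230637134956181502839952784408707072), [(nat_lit 82), (nat_lit 93)], .kill 112 122 [] 1250⟩)) (.node (.leaf ⟨(nat_lit 79426485122378780860308145082178994176), [(nat_lit 69)], .kill 122 123 [] 831⟩) (.leaf ⟨(nat_lit 7808732649468281709644448635289600), [(nat_lit 78), (nat_lit 92), (nat_lit 104), (nat_lit 111), (nat_lit 112)], .w 4 1762⟩))) (.node (.node (.leaf ⟨(nat_lit 85070591719634754279462583254118301696), [(nat_lit 86)], .sq 86 95 111 1 482⟩) (.leaf ⟨(nat_lit 48350670248152215219220084062752342016),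 [(nat_lit 99), (nat_lit 100), (nat_lit 117), (nat_lit 118), (nat_lit 122)], .w 3 1506⟩)) (.leaf ⟨(nat_lit 2666254580538315891656382388478410752), [(nat_lit 91), (nat_lit 103), (nat_lit 111)], .w 5 994⟩))))

def nodes34 : Tr (Node) :=
  .node (.node (.node (.node (.node (.leaf ⟨(nat_lit 85070591730233406940024037228767346688), [], .br 80 18 517⟩) (.leaf ⟨(nat_lit 21776503165904704603170572095073550336), [(nat_lit 82), (nat_lit 103)], .w 2 1042⟩)) (.node (.leaf ⟨(nat_lit 85070591630716446858077185510716997632), [(nat_lit 79)], .w 3 530⟩) (.leaf ⟨(nat_lit 43046840419405170889445100983362256896), [(nat_lit 82), (nat_lit 85), (nat_lit 87)], .br 99 1554 1596⟩))) (.node (.node (.leaf ⟨(nat_lit 15953332097848257888659949971528744960), [(nat_lit 111), (nat_lit 122)], .w 4 274⟩) (.leaf ⟨(nat_lit 1246151265932770511868739784580005888), [(nat_lit 86), (nat_lit 94), (nat_lit 116)], .kill 64 117 [] 1298⟩)) (.node (.leaf ⟨(nat_lit 85070591730234615838173535747377725440), [(nat_lit 63)], .kill 64 65 [] 786⟩) (.leaf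 ⟨(nat_lit 42549818075345282686086893260488310784), [(nat_lit 92), (nat_lit 106), (nat_lit 107), (nat_lit 110), (nat_lit 111), (nat_lit 113)], .w 3 1810⟩)))) (.node (.node (.node (.leaf ⟨(nat_lit 13625235993902704550717588679914684416), [(nat_lit 109), (nat_lit 118)], .kill 79 123 [] 146⟩) (.leaf ⟨(nat_lit 42564948750743211763473742428874211328), [(nat_lit 88), (nat_lit 91)], .br 105 1170 1175⟩)) (.node (.leaf ⟨(nat_lit 85070591720328904373512558143369904128), [(nat_lit 76)], .kill 63 77 [] 658⟩) (.leaf ⟨(nat_lit 44296787526135405347421896405155840), [(nat_lit 92), (nat_lit 111), (nat_lit 115)], .w 1 1682⟩))) (.node (.node (.leaf ⟨(nat_lit 88593565148750496411801593617317888), [(nat_lit 108), (nat_lit 112), (nat_lit 116)], .w 1 402⟩) (.leaf ⟨(nat_lit 42956889200652168387204178571866144768), [(nat_lit 86), (nat_lit 88)], .w 4 1426⟩)) (.leaf ⟨(nat_lit 25536446117020013737248243048150728704), [(nat_lit 106), (nat_lit 109)], .w 5 914⟩)))) (.node (.node (.node (.node (.leaf ⟨(nat_lit 84821361481024944139674188034139488256),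 [(nat_lit 116)], .w 5 82⟩) (.leaf ⟨(nat_lit 44299322827335861806224889811566592), [(nat_lit 92), (nat_lit 101), (nat_lit 107), (nat_lit 115)], .br 111 1106 1768⟩)) (.node (.leaf ⟨(nat_lit 42555071219587673205092271790227456000), [(nat_lit 78), (nat_lit 87), (nat_lit 92), (nat_lit 104)], .kill 63 105 [] 594⟩) (.leaf ⟨(nat_lit 11133098296461388211300481280486932480), [(nat_lit 86), (nat_lit 101), (nat_lit 107)], .w 3 1618⟩))) (.node (.node (.leaf ⟨(nat_lit 21266349868247540573836822539596201984), [(nat_lit 93), (nat_lit 110)], .kill 63 111 [] 338⟩) (.leaf ⟨(nat_lit 58190143079257474130472783569605361664), [(nat_lit 71), (nat_lit 74)], .sq 71 84 90 1 1362⟩)) (.leaf ⟨(nat_lit 46805832237474008188297001048261787648), [(nat_lit 90)], .w 6 850⟩))) (.node (.node (.node (.leaf ⟨(nat_lit 82739818982046680621520030277509840896), [(nat_lit 99)], .kill 92 121 [] 210⟩) (.leaf ⟨(nat_lit 21266998905364233685942126532209147904), [(nat_lit 78), (nat_lit 93)], .sq 71 78 81 2 1234⟩)) (.node (.leaf ⟨(nat_lit 85070590837815878849398395938287910912),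 [(nat_lit 79)], .w 2 722⟩) (.leaf ⟨(nat_lit 2760947959057240777980919177805824), [(nat_lit 92), (nat_lit 101), (nat_lit 107), (nat_lit 111)], .w 3 1746⟩))) (.node (.node (.leaf ⟨(nat_lit 44673536260685832072511569989650612224), [(nat_lit 87), (nat_lit 92)], .w 5 466⟩) (.leaf ⟨(nat_lit 332312109162711138275726548654882816), [(nat_lit 95), (nat_lit 102), (nat_lit 118)], .w 4 1490⟩)) (.leaf ⟨(nat_lit 44459044327084540140052924617195520), [(nat_lit 91), (nat_lit 108), (nat_lit 111), (nat_lit 115)], .w 1 978⟩))))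

def nodes35 : Tr (Node) :=
  .node (.node (.node (.node (.node (.leaf ⟨(nat_lit 85065399433376081038215121361612832768), [], .br 112 50 102⟩) (.leaf ⟨(nat_lit 52247487757976722654778256762339328), [(nat_lit 89), (nat_lit 113), (nat_lit 115)], .w 1 1074⟩)) (.node (.leaf ⟨(nat_lit 74478296004427738125330722541946273792), [(nat_lit 78), (nat_lit 89)], .kill 67 92 [] 562⟩) (.leaf ⟨(nat_lit 21779101849944657483264985405369352192), [(nat_lit 82), (nat_lit 88), (nat_lit 101), (nat_lit 103)], .w 4 1586⟩))) (.node (.node (.leaf ⟨(nat_lit 14709777010132686985909938299873525760), [(nat_lit 93), (nat_lit 112), (nat_lit 116)], .w 5 306⟩) (.leaf ⟨(nat_lit 2699995636564590673636020137695903744), [(nat_lit 91), (nat_lit 100), (nat_lit 121)], .w 5 1330⟩)) (.leaf ⟨(nat_lit 85069038319562917301647217236234993664), [(nat_lit 80)], .kill 110 119 [] 818⟩))) (.node (.node (.node (.leaf ⟨(nat_lit 85067468239155653508598363981244006400), [(nat_lit 105)], .w 6 178⟩) (.leaf ⟨(nat_lit 10633829116109890410412400062599528448), [(nat_lit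 96), (nat_lit 102), (nat_lit 123)], .w 5 1202⟩)) (.node (.leaf ⟨(nat_lit 85029063466706147299078690125576667136), [(nat_lit 73)], .sq 73 123 124 1 690⟩) (.leaf ⟨(nat_lit 48226053855896779127905950654147854336), [(nat_lit 99), (nat_lit 115), (nat_lit 122)], .w 6 1714⟩))) (.node (.node (.leaf ⟨(nat_lit 76575008317825395545820942089104392192), [(nat_lit 92)], .kill 103 123 [] 434⟩) (.leaf ⟨(nat_lit 674998591609527591708964522798612480), [(nat_lit 113), (nat_lit 119)], .w 5 1458⟩)) (.leaf ⟨(nat_lit 5483065482612777975728204123656421376), [(nat_lit 117), (nat_lit 122)], .w 1 946⟩)))) (.node (.node (.node (.node (.leaf ⟨(nat_lit 57411226364819589088661697912186601472), [(nat_lit 112)], .kill 105 125 [] 867⟩) (.leaf ⟨(nat_lit 58813226381097358411944903796573863936), [(nat_lit 83), (nat_lit 91)], .w 5 1138⟩)) (.node (.leaf ⟨(nat_lit 176619856847326991304774080503218176), [(nat_lit 85), (nat_lit 87), (nat_lit 99), (nat_lit 106), (nat_lit 113), (nat_lit 117)], .w 6 626⟩) (.leaf ⟨(nat_lit 21291844853405510605703583409765351424),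 [(nat_lit 90), (nat_lit 92), (nat_lit 104), (nat_lit 107), (nat_lit 109), (nat_lit 111), (nat_lit 114)], .w 0 1802⟩))) (.node (.node (.leaf ⟨(nat_lit 21267810191835483179824304542495801344), [(nat_lit 107), (nat_lit 124)], .w 5 370⟩) (.leaf ⟨(nat_lit 68792661156099416135039313790193631232), [(nat_lit 65), (nat_lit 69)], .w 2 1394⟩)) (.leaf ⟨(nat_lit 5483065482612777975728204123656421376), [(nat_lit 117), (nat_lit 122)], .w 1 882⟩))) (.node (.node (.node (.leaf ⟨(nat_lit 21266998905354857427290388851637354496), [(nat_lit 93)], .br 109 242 335⟩) (.leaf ⟨(nat_lit 1330850588553208006537722840383225856), [(nat_lit 108), (nat_lit 110)], .w 4 1266⟩)) (.node (.leaf ⟨(nat_lit 85070591690618662264188001541681053696), [(nat_lit 66)], .sq 66 83 84 1 754⟩) (.leaf ⟨(nat_lit 176550769710693531499427392322011136), [(nat_lit 82), (nat_lit 83), (nat_lit 101), (nat_lit 103), (nat_lit 113), (nat_lit 117)], .dbl 28 53 83 78 [(nat_lit 78), (nat_lit 89), (nat_lit 121)] [(nat_lit 110)] 1778⟩))) (.node (.node (.leaf ⟨(nat_lit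 85070463937152433075407437184477691904), [(nat_lit 90)], .w 6 498⟩) (.leaf ⟨(nat_lit 1329248600058929738773102481303928832), [(nat_lit 92), (nat_lit 98), (nat_lit 104)], .w 2 1522⟩)) (.leaf ⟨(nat_lit 5374843496727849803867121187291136), [(nat_lit 92), (nat_lit 104), (nat_lit 107)], .w 2 1010⟩))))

def nodes36 : Tr (Node) :=
  .node (.node (.node (.node (.node (.leaf ⟨(nat_lit 85070591730234611143477168988296839168), [], .br 72 10 691⟩) (.leaf ⟨(nat_lit 65698295044145721162913691638333177856), [(nat_lit 81), (nat_lit 99)], .w 6 1034⟩)) (.node (.leaf ⟨(nat_lit 85070591730229780162565193341243228160), [(nat_lit 82)], .kill 73 86 [] 522⟩) (.leaf ⟨(nat_lit 43989146596362421195428294980968382464), [(nat_lit 92), (nat_lit 101), (nat_lit 102), (nat_lit 115), (nat_lit 116), (nat_lit 120)], .kill 63 102 [] 1814⟩))) (.node (.node (.leaf ⟨(nat_lit 38547612194675210371267755122305794048), [(nat_lit 98), (nat_lit 120)], .w 5 266⟩) (.leaf ⟨(nat_lit 10425163488037115739429986757509120), [(nat_lit 92), (nat_lit 105),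 (nat_lit 113)], .w 2 1290⟩)) (.node (.leaf ⟨(nat_lit 84884660856406635177812310119478722560), [(nat_lit 66)], .w 3 778⟩) (.leaf ⟨(nat_lit 42549818075500025190997565794850701312), [(nat_lit 87), (nat_lit 92), (nat_lit 106), (nat_lit 107), (nat_lit 110), (nat_lit 111), (nat_lit 113)], .w 5 1802⟩)))) (.node (.node (.node (.leaf ⟨(nat_lit 15951384986526307328299251035405287424), [(nat_lit 109), (nat_lit 122)], .w 5 138⟩) (.leaf ⟨(nat_lit 49970673052918269658725090587146452992), [(nat_lit 73), (nat_lit 92)], .kill 100 122 [] 1162⟩)) (.node (.leaf ⟨(nat_lit 85070591720331067217361712440877776896), [(nat_lit 73)], .w 3 650⟩) (.leaf ⟨(nat_lit 11692810993415246927476002715074560), [(nat_lit 89), (nat_lit 90), (nat_lit 103)], .w 0 1674⟩))) (.node (.node (.leaf ⟨(nat_lit 2741532761113429616430186460214198272), [(nat_lit 94), (nat_lit 116), (nat_lit 121)], .w 3 394⟩) (.leaf ⟨(nat_lit 54667180051295215824758928510105419776), [(nat_lit 68), (nat_lit 75)], .w 3 1418⟩)) (.leaf ⟨(nat_lit 768459935063154489022513456724574208),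 [(nat_lit 114), (nat_lit 116), (nat_lit 119)], .rep 3⟩)))) (.node (.node (.node (.node (.leaf ⟨(nat_lit 74436767763955288882613195375699296256), [(nat_lit 123)], .kill 73 124 [] 74⟩) (.leaf ⟨(nat_lit 21548113726388085082476414820318969856), [(nat_lit 82), (nat_lit 99), (nat_lit 106), (nat_lit 113)], .kill 64 114 [] 1098⟩)) (.node (.leaf ⟨(nat_lit 21688898373172265505374615142028804096), [(nat_lit 80), (nat_lit 102), (nat_lit 104)], .w 5 586⟩) (.leaf ⟨(nat_lit 21776506018118555116686725462655762432), [(nat_lit 82), (nat_lit 98), (nat_lit 101)], .w 2 1610⟩))) (.node (.node (.leaf ⟨(nat_lit 47936747466786192043322869306858930176), [(nat_lit 101), (nat_lit 107), (nat_lit 110), (nat_lit 116), (nat_lit 122)], .w 3 330⟩) (.leaf ⟨(nat_lit 58190143099045171945925033901196050432), [(nat_lit 71), (nat_lit 74)], .w 1 1354⟩)) (.leaf ⟨(nat_lit 58190143098928503520782497881369083904), [(nat_lit 74)], .w 1 842⟩))) (.node (.node (.node (.leaf ⟨(nat_lit 85070158193729337811388339985445814272), [(nat_lit 101)], .w 5 202⟩)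 (.leaf ⟨(nat_lit 2746725038164923815492632558157430784), [(nat_lit 112), (nat_lit 116), (nat_lit 121)], .w 1 1226⟩)) (.node (.leaf ⟨(nat_lit 85070591710368602914935301688833081344), [(nat_lit 69)], .sq 69 86 89 1 714⟩) (.leaf ⟨(nat_lit 21499356656053080675048293455101952), [(nat_lit 78), (nat_lit 91), (nat_lit 106), (nat_lit 109)], .w 3 1738⟩))) (.node (.node (.leaf ⟨(nat_lit 85048836791108976740493384632753979392), [(nat_lit 92)], .kill 95 117 [] 458⟩) (.leaf ⟨(nat_lit 37405307281938360864312733897597124608), [(nat_lit 96), (nat_lit 99), (nat_lit 114)], .kill 69 117 [] 1482⟩)) (.leaf ⟨(nat_lit 2758412657856784319177925771395072), [(nat_lit 92), (nat_lit 107), (nat_lit 111)], .rep 2⟩))))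

def nodes37 : Tr (Node) :=
  .node (.node (.node (.node (.node (.leaf ⟨(nat_lit 85070571447825012214173227910690766848), [], .br 104 42 172⟩) (.leaf ⟨(nat_lit 21537648003032600820537658038655385600), [(nat_lit 82), (nat_lit 99), (nat_lit 114)], .w 4 1066⟩)) (.node (.leaf ⟨(nat_lit 74478296027020143842288912558855290880), [(nat_lit 78), (nat_lit 88)], .sq 88 94 110 1 558⟩) (.leaf ⟨(nat_lit 21768717255918102818186579343986130944), [(nat_lit 82), (nat_lit 101), (nat_lit 103), (nat_lit 111)], .w 2 1578⟩))) (.node (.node (.leaf ⟨(nat_lit 14875930509605801470022914182408568832), [(nat_lit 93), (nat_lit 112)], .br 116 298 304⟩) (.leaf ⟨(nat_lit 1100766943917739474809965937686478848), [(nat_lit 82), (nat_lit 93), (nat_lit 114)], .kill 70 118 [] 1322⟩)) (.leaf ⟨(nat_lit 85070580852173453681921120151890034688), [(nat_lit 70)], .w 3 810⟩))) (.node (.node (.node (.leaf ⟨(nat_lit 68073040056351955377077201601204060160), [(nat_lit 106)], .kill 111 125 [] 862⟩) (.leaf ⟨(nat_lit 13625236003806224865000630879107678208),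 [(nat_lit 93), (nat_lit 109), (nat_lit 118)], .kill 79 123 [] 1194⟩)) (.node (.leaf ⟨(nat_lit 85057494663113521447080381353329426432), [(nat_lit 77)], .w 6 682⟩) (.leaf ⟨(nat_lit 45197402690415796979405750554763198464), [(nat_lit 106), (nat_lit 108), (nat_lit 109), (nat_lit 111), (nat_lit 121)], .w 4 1706⟩))) (.node (.node (.leaf ⟨(nat_lit 85070589675254150652112395525395841024), [(nat_lit 92)], .sq 92 103 123 1 426⟩) (.leaf ⟨(nat_lit 15952034340546274238810167721622241280), [(nat_lit 98), (nat_lit 110)], .w 4 1450⟩)) (.leaf ⟨(nat_lit 2741613870944803594545797850833354752), [(nat_lit 106), (nat_lit 116)], .w 2 938⟩)))) (.node (.node (.node (.node (.leaf ⟨(nat_lit 85039437949083406900072468879966732288), [(nat_lit 113)], .w 5 106⟩) (.leaf ⟨(nat_lit 51028901594192110005743240387275784192), [(nat_lit 87), (nat_lit 92)], .sq 92 99 121 1 1141⟩)) (.node (.leaf ⟨(nat_lit 12017329547073673654259158735650816), [(nat_lit 89), (nat_lit 90), (nat_lit 103), (nat_lit 110), (nat_lit 113)], .br 108 1646 1799⟩) (.leaf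 ⟨(nat_lit 21600768084799087929574234968293376), [(nat_lit 89), (nat_lit 90), (nat_lit 104), (nat_lit 107)], .br 109 1642 1644⟩))) (.node (.node (.leaf ⟨(nat_lit 2658456031183913002939782917332664320), [(nat_lit 95), (nat_lit 121)], .w 4 362⟩) (.leaf ⟨(nat_lit 51028901713157898041668317295688024064), [(nat_lit 71), (nat_lit 87)], .kill 63 72 [] 1386⟩)) (.leaf ⟨(nat_lit 5399988732876220733671716182388899840), [(nat_lit 116)], .w 5 874⟩))) (.node (.node (.node (.leaf ⟨(nat_lit 85069932571729537815120957970661244928), [(nat_lit 94)], .w 2 234⟩) (.leaf ⟨(nat_lit 1017690224505877491966836214748676096), [(nat_lit 89), (nat_lit 95)], .w 1 1258⟩)) (.node (.leaf ⟨(nat_lit 85070591730234614980399936319883575296), [(nat_lit 68)], .kill 69 72 [] 746⟩) (.leaf ⟨(nat_lit 42580971856496491651858076238463631360), [(nat_lit 92), (nat_lit 106), (nat_lit 107), (nat_lit 110), (nat_lit 111), (nat_lit 115)], .w 1 1770⟩))) (.node (.node (.leaf ⟨(nat_lit 85070589933693476666049361977383321600), [(nat_lit 84)], .w 4 490⟩) (.leaf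 ⟨(nat_lit 25257360480262296887842839794429198336), [(nat_lit 91), (nat_lit 98), (nat_lit 106)], .w 5 1514⟩)) (.leaf ⟨(nat_lit 674998596561287748850485622395109376), [(nat_lit 92), (nat_lit 113), (nat_lit 119)], .w 3 1002⟩))))

def nodes38 : Tr (Node) :=
  .node (.node (.node (.node (.node (.leaf ⟨(nat_lit 85070591729925130856022306789217271808), [], .br 88 26 437⟩) (.leaf ⟨(nat_lit 9346134662275339788412243766771974144), [(nat_lit 98), (nat_lit 115), (nat_lit 120)], .kill 64 121 [] 1050⟩)) (.node (.leaf ⟨(nat_lit 85029048324223577315574201820198731776), [(nat_lit 78)], .kill 98 102 [] 538⟩) (.leaf ⟨(nat_lit 5670819748932751508485373966260633600), [(nat_lit 89), (nat_lit 104), (nat_lit 109)], .br 107 1562 1580⟩))) (.node (.node (.leaf ⟨(nat_lit 31569164919698792610031502080044171264), [(nat_lit 94), (nat_lit 118)], .w 3 282⟩) (.leaf ⟨(nat_lit 2663658432109048477842117140313800704), [(nat_lit 91), (nat_lit 103), (nat_lit 121)], .w 5 1306⟩)) (.node (.leaf ⟨(nat_lit 85070591730234612508536230442803658752),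 [(nat_lit 67)], .sq 67 74 76 1 794⟩) (.leaf ⟨(nat_lit 747695823183176248567518557817012224), [(nat_lit 92), (nat_lit 102), (nat_lit 116), (nat_lit 119)], .w 3 1818⟩)))) (.node (.node (.node (.leaf ⟨(nat_lit 10654593153713466293744578467559636992), [(nat_lit 114), (nat_lit 123)], .w 3 154⟩) (.leaf ⟨(nat_lit 42562028083760285922932694024689025024), [(nat_lit 88), (nat_lit 91), (nat_lit 105)], .w 6 1550⟩)) (.node (.leaf ⟨(nat_lit 85070591713786046722030733221213241344), [(nat_lit 76)], .w 5 666⟩) (.leaf ⟨(nat_lit 11804367341085429328258399844958208), [(nat_lit 92), (nat_lit 105), (nat_lit 106), (nat_lit 110)], .br 113 1690 1808⟩))) (.node (.node (.leaf ⟨(nat_lit 85070591655958213508720835363994599424), [(nat_lit 92)], .sq 92 96 118 1 410⟩) (.leaf ⟨(nat_lit 25257360482738176966413600344227446784), [(nat_lit 98), (nat_lit 106)], .w 4 1434⟩)) (.leaf ⟨(nat_lit 2846189974861231607251669878464053248), [(nat_lit 107), (nat_lit 109), (nat_lit 114)], .kill 69 117 [] 922⟩)))) (.node (.node (.node (.node (.leaf ⟨(nat_lit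 4319990986300976586937372945911119872), [(nat_lit 118)], .br 120 90 99⟩) (.leaf ⟨(nat_lit 44673536102074764539072222268200321024), [(nat_lit 92), (nat_lit 97)], .w 6 1114⟩)) (.node (.leaf ⟨(nat_lit 42786149976061787775605130886247350272), [(nat_lit 79), (nat_lit 86), (nat_lit 90), (nat_lit 100)], .w 4 602⟩) (.leaf ⟨(nat_lit 18610049032837163323319231108240900096), [(nat_lit 77), (nat_lit 85), (nat_lit 97)], .kill 69 88 [] 1626⟩))) (.node (.node (.leaf ⟨(nat_lit 21122912667530515960598667578501496832), [(nat_lit 93), (nat_lit 109)], .kill 81 119 [] 346⟩) (.leaf ⟨(nat_lit 68792661143716313369969453091935748096), [(nat_lit 69), (nat_lit 77)], .kill 81 92 [] 1370⟩)) (.leaf ⟨(nat_lit 46805828196837719960815783777520320512), [(nat_lit 90)], .br 103 858 980⟩))) (.node (.node (.node (.leaf ⟨(nat_lit 85070591670813493980145398662784090112), [(nat_lit 94)], .w 3 218⟩) (.leaf ⟨(nat_lit 21266998905362110982208076626685591552), [(nat_lit 81), (nat_lit 93)], .sq 81 109 119 1 1242⟩)) (.node (.leaf ⟨(nat_lit 85054942641894011528608970259744948224),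 [(nat_lit 79)], .sq 79 114 121 1 730⟩) (.leaf ⟨(nat_lit 171346430391481034861445187108864000), [(nat_lit 81), (nat_lit 86), (nat_lit 87), (nat_lit 99), (nat_lit 112)], .w 0 1754⟩))) (.node (.node (.leaf ⟨(nat_lit 85070591730224944459286734824544403456), [(nat_lit 83)], .sq 83 93 99 1 474⟩) (.leaf ⟨(nat_lit 12007186485361788890976772761321472), [(nat_lit 108), (nat_lit 110), (nat_lit 113)], .w 3 1498⟩)) (.leaf ⟨(nat_lit 46804996618043970242328401940217593856), [(nat_lit 90), (nat_lit 103)], .sq 103 114 125 1 986⟩))))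

def nodes39 : Tr (Node) :=
  .node (.node (.node (.node (.node (.leaf ⟨(nat_lit 83741363734449699992939844797661708288), [], .br 120 58 67⟩) (.leaf ⟨(nat_lit 768459935063154489022513456724574208), [(nat_lit 114), (nat_lit 116), (nat_lit 119)], .rep 3⟩)) (.node (.leaf ⟨(nat_lit 63822719152146327171553184754712969216), [(nat_lit 78), (nat_lit 87)], .kill 114 124 [] 570⟩) (.leaf ⟨(nat_lit 21539919308563083811577049590530048), [(nat_lit 88), (nat_lit 105), (nat_lit 106), (nat_lit 109)], .w 4 1594⟩))) (.node (.node (.leaf ⟨(nat_lit 2658618290460742216303174495342952448), [(nat_lit 95), (nat_lit 107), (nat_lit 121)], .w 4 314⟩) (.leaf ⟨(nat_lit 2760947959057240777980919177805824), [(nat_lit 92), (nat_lit 101), (nat_lit 107), (nat_lit 111)], .w 3 1338⟩)) (.leaf ⟨(nat_lit 84588744323725503229953420270120206336), [(nat_lit 70)], .sq 70 121 123 1 826⟩))) (.node (.node (.node (.leaf ⟨(nat_lit 72296578043782766445313493393624530944), [(nat_lit 103)], .w 3 186⟩) (.leaf ⟨(nat_lit 88593565148750496411801593617317888),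 [(nat_lit 108), (nat_lit 112), (nat_lit 116)], .w 1 1210⟩)) (.node (.leaf ⟨(nat_lit 85070591730234615275547841499236401152), [(nat_lit 69)], .sq 69 73 74 1 698⟩) (.leaf ⟨(nat_lit 1662833068945778548036891449432735744), [(nat_lit 110), (nat_lit 118), (nat_lit 120)], .w 4 1722⟩))) (.node (.node (.leaf ⟨(nat_lit 85070591700369312418083852726000680960), [(nat_lit 87)], .kill 64 88 [] 442⟩) (.leaf ⟨(nat_lit 37218384832715594612478648810377052160), [(nat_lit 98), (nat_lit 99), (nat_lit 122)], .kill 69 123 [] 1466⟩)) (.leaf ⟨(nat_lit 2824771751557715482569361856005144576), [(nat_lit 90), (nat_lit 107), (nat_lit 117)], .w 2 954⟩)))) (.node (.node (.node (.node (.leaf ⟨(nat_lit 84953765050917582244201715690534600704), [(nat_lit 111)], .w 6 122⟩) (.leaf ⟨(nat_lit 47871983202727034465252596374055157760), [(nat_lit 87), (nat_lit 92)], .kill 100 122 [] 1167⟩)) (.node (.leaf ⟨(nat_lit 85070591730234464750116200029295214592), [(nat_lit 77)], .sq 77 78 86 1 634⟩) (.leaf ⟨(nat_lit 50523746073483932901267898705138155520),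 [(nat_lit 72), (nat_lit 76), (nat_lit 96)], .sq 81 96 106 2 1658⟩))) (.node (.node (.leaf ⟨(nat_lit 10644208718452721667016192661989097472), [(nat_lit 97), (nat_lit 113), (nat_lit 123)], .w 6 378⟩) (.leaf ⟨(nat_lit 66934941541081671520369544629709701120), [(nat_lit 67), (nat_lit 80)], .sq 67 89 92 1 1402⟩)) (.leaf ⟨(nat_lit 5483065482612777975728204123656421376), [(nat_lit 117), (nat_lit 122)], .w 1 890⟩))) (.node (.node (.node (.leaf ⟨(nat_lit 31818395168908464336200965903846735872), [(nat_lit 94)], .br 116 250 277⟩) (.leaf ⟨(nat_lit 1661534994731144841129758825350430720), [(nat_lit 118), (nat_lit 120)], .w 5 1274⟩)) (.node (.leaf ⟨(nat_lit 85070591627203555612647660837012504576), [(nat_lit 70)], .sq 70 99 103 1 762⟩) (.leaf ⟨(nat_lit 42743641849682984509232646764382650368), [(nat_lit 85), (nat_lit 91), (nat_lit 102), (nat_lit 109), (nat_lit 117)], .w 0 1786⟩))) (.node (.node (.leaf ⟨(nat_lit 85063885406285752304641584490308698112), [(nat_lit 85)], .kill 98 114 [] 506⟩) (.leaf ⟨(nat_lit 674998596561287748850485622395109376),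 [(nat_lit 92), (nat_lit 113), (nat_lit 119)], .w 3 1530⟩)) (.leaf ⟨(nat_lit 44296787526135405347421896405155840), [(nat_lit 92), (nat_lit 107), (nat_lit 111), (nat_lit 115)], .w 1 1018⟩))))

def nodes40 : Tr (Node) :=
  .node (.node (.node (.node (.node (.leaf ⟨(nat_lit 85070591730234615570695746678589227008), [], .br 68 6 738⟩) (.leaf ⟨(nat_lit 49626432544880790070478309740664324096), [(nat_lit 88), (nat_lit 99)], .w 3 1030⟩)) (.node (.leaf ⟨(nat_lit 85070591730233406940024037228767346688), [(nat_lit 80)], .kill 64 81 [] 518⟩) (.leaf ⟨(nat_lit 51963538356315736767673957391269888), [(nat_lit 92), (nat_lit 105), (nat_lit 113), (nat_lit 115)], .w 2 1542⟩))) (.node (.node (.leaf ⟨(nat_lit 26584600480517524761416989100109463552), [(nat_lit 105)], .w 2 262⟩) (.leaf ⟨(nat_lit 2829811931582162961955093022848843776), [(nat_lit 91), (nat_lit 103), (nat_lit 112)], .br 117 1286 1291⟩)) (.node (.leaf ⟨(nat_lit 84401828173241191942157676421075435520), [(nat_lit 80)], .kill 111 120 [] 774⟩) (.leaf ⟨(nat_lit 10718524577750087878890978242396684288),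 [(nat_lit 86), (nat_lit 90), (nat_lit 100), (nat_lit 108), (nat_lit 110), (nat_lit 116)], .w 3 1798⟩)))) (.node (.node (.node (.leaf ⟨(nat_lit 15952034023633624181752817347446439936), [(nat_lit 110)], .w 4 134⟩) (.leaf ⟨(nat_lit 53127590810558045085101033852015476736), [(nat_lit 73), (nat_lit 92)], .sq 92 100 122 1 1158⟩)) (.node (.leaf ⟨(nat_lit 85070591730234596976377720379361198080), [(nat_lit 74)], .sq 74 78 83 1 646⟩) (.leaf ⟨(nat_lit 103927700948731986466810049364754432), [(nat_lit 82), (nat_lit 88), (nat_lit 99)], .w 2 1670⟩))) (.node (.node (.leaf ⟨(nat_lit 13297472264611213870949643298325659648), [(nat_lit 93), (nat_lit 112), (nat_lit 121)], .w 3 390⟩) (.leaf ⟨(nat_lit 78676360725160261140267184971241750528), [(nat_lit 68), (nat_lit 75)], .kill 105 116 [] 1414⟩)) (.leaf ⟨(nat_lit 5483065482612777975728204123656421376), [(nat_lit 117), (nat_lit 122)], .w 1 902⟩)))) (.node (.node (.node (.node (.leaf ⟨(nat_lit 82412135738664784120036037737381363712), [(nat_lit 121)], .kill 66 122 [] 70⟩) (.leaf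 ⟨(nat_lit 10722093646777090419485511935372296192), [(nat_lit 86), (nat_lit 99), (nat_lit 112), (nat_lit 116)], .w 3 1094⟩)) (.node (.leaf ⟨(nat_lit 42746638575702528506447592285347512320), [(nat_lit 79), (nat_lit 85), (nat_lit 91)], .w 6 582⟩) (.leaf ⟨(nat_lit 21779102168114590392721550121239576576), [(nat_lit 82), (nat_lit 98), (nat_lit 101)], .sq 84 98 113 2 1606⟩))) (.node (.node (.leaf ⟨(nat_lit 768459935063154489022513456724574208), [(nat_lit 114), (nat_lit 116), (nat_lit 119)], .rep 3⟩) (.leaf ⟨(nat_lit 53127591567713424139624553323838832640), [(nat_lit 68), (nat_lit 73)], .sq 68 88 92 1 1350⟩)) (.leaf ⟨(nat_lit 53127591567867864117932417021554720768), [(nat_lit 73)], .br 87 838 1146⟩))) (.node (.node (.node (.leaf ⟨(nat_lit 85070586659632214952926045871129231360), [(nat_lit 102)], .kill 69 105 [] 198⟩) (.leaf ⟨(nat_lit 48019334903391061188830379520689176576), [(nat_lit 109), (nat_lit 117), (nat_lit 122)], .sq 108 109 125 2 1222⟩)) (.node (.leaf ⟨(nat_lit 85070591710424763068037018585831309312),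 [(nat_lit 71)], .w 5 710⟩) (.leaf ⟨(nat_lit 176550769710693531499427392322011136), [(nat_lit 82), (nat_lit 83), (nat_lit 101), (nat_lit 103)], .br 113 1734 1755⟩))) (.node (.node (.leaf ⟨(nat_lit 85070589675408893157023068059758231552), [(nat_lit 92)], .kill 93 108 [] 454⟩) (.leaf ⟨(nat_lit 685545444603426460329417093467340800), [(nat_lit 107), (nat_lit 114), (nat_lit 119)], .w 2 1478⟩)) (.leaf ⟨(nat_lit 2659267289191917851909952285511254016), [(nat_lit 90), (nat_lit 107), (nat_lit 109)], .w 5 966⟩))))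

def nodes41 : Tr (Node) :=
  .node (.node (.node (.node (.node (.leaf ⟨(nat_lit 85070590462584015637614250361238847488), [], .br 100 38 193⟩) (.leaf ⟨(nat_lit 748015266182673605235174627428270080), [(nat_lit 108), (nat_lit 116), (nat_lit 119)], .w 2 1062⟩)) (.node (.leaf ⟨(nat_lit 69415744503851683866071000348106948608), [(nat_lit 79)], .w 2 842⟩) (.leaf ⟨(nat_lit 84455958541365712786837453951467520), [(nat_lit 92), (nat_lit 106), (nat_lit 110), (nat_lit 116)], .w 6 1574⟩))) (.node (.node (.leaf ⟨(nat_lit 20748418256608691517890905530756497408), [(nat_lit 93), (nat_lit 114)], .kill 79 121 [] 294⟩) (.leaf ⟨(nat_lit 1269516591820121372737207068386131968), [(nat_lit 82), (nat_lit 93), (nat_lit 111)], .w 4 1318⟩)) (.leaf ⟨(nat_lit 85070591708907598214706131017209479168), [(nat_lit 70)], .kill 86 91 [] 806⟩))) (.node (.node (.node (.leaf ⟨(nat_lit 81891932497150326077002638636397625344), [(nat_lit 108)], .w 5 166⟩) (.leaf ⟨(nat_lit 18962917174380027667129981105545936896), [(nat_lit 93), (nat_lit 109), (nat_lit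 114)], .w 3 1190⟩)) (.node (.leaf ⟨(nat_lit 85070198031695232034381020465943543808), [(nat_lit 75)], .w 5 678⟩) (.leaf ⟨(nat_lit 11804362389325272186737300248461312), [(nat_lit 105), (nat_lit 106), (nat_lit 110), (nat_lit 113)], .dbl 52 59 105 104 [(nat_lit 104), (nat_lit 107), (nat_lit 125)] [(nat_lit 111)] 1702⟩))) (.node (.node (.leaf ⟨(nat_lit 85070591024608793473176895165441245184), [(nat_lit 91)], .kill 64 92 [] 422⟩) (.leaf ⟨(nat_lit 31901472849575931120863420569255673856), [(nat_lit 98), (nat_lit 99)], .w 4 1446⟩)) (.leaf ⟨(nat_lit 2824771751557715482569361856005144576), [(nat_lit 90), (nat_lit 107)], .w 2 934⟩)))) (.node (.node (.node (.node (.leaf ⟨(nat_lit 2990762990516060714033565885630775296), [(nat_lit 118), (nat_lit 121)], .rep 1⟩) (.leaf ⟨(nat_lit 65082844983213152927377006954501111808), [(nat_lit 82), (nat_lit 93)], .sq 93 124 125 1 1126⟩)) (.node (.leaf ⟨(nat_lit 176619856813477068355564463611445248), [(nat_lit 82), (nat_lit 87), (nat_lit 99), (nat_lit 106), (nat_lit 117)], .w 2 614⟩)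 (.leaf ⟨(nat_lit 5670819750170691547770754241159757824), [(nat_lit 89), (nat_lit 90), (nat_lit 104)], .kill 98 118 [] 1638⟩))) (.node (.node (.leaf ⟨(nat_lit 5399988752683261362237800580774887424), [(nat_lit 94), (nat_lit 116)], .w 5 358⟩) (.leaf ⟨(nat_lit 71296464365876325602226046151881129984), [(nat_lit 67), (nat_lit 70)], .w 2 1382⟩)) (.leaf ⟨(nat_lit 14626700250492609429570408159413010432), [(nat_lit 112)], .w 3 870⟩))) (.node (.node (.node (.leaf ⟨(nat_lit 85070498637143661605246979443800408064), [(nat_lit 96)], .w 4 230⟩) (.leaf ⟨(nat_lit 1266920443390853958922941820221521920), [(nat_lit 82), (nat_lit 93)], .br 114 1254 1320⟩)) (.node (.leaf ⟨(nat_lit 85070591730234615201760865204398194688), [(nat_lit 66)], .kill 64 67 [] 742⟩) (.leaf ⟨(nat_lit 88594199283535620347847410693701632), [(nat_lit 88), (nat_lit 99), (nat_lit 108), (nat_lit 112), (nat_lit 116)], .w 4 1766⟩))) (.node (.node (.leaf ⟨(nat_lit 85070591599825369852374373524037435392), [(nat_lit 85)], .kill 72 92 [] 486⟩) (.leaf ⟨(nat_lit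 53522196651602303309007056909952352256), [(nat_lit 99), (nat_lit 114), (nat_lit 123)], .w 3 1715⟩)) (.leaf ⟨(nat_lit 84455958541365712786837453951467520), [(nat_lit 92), (nat_lit 106), (nat_lit 116)], .w 1 998⟩))))

def nodes42 : Tr (Node) :=
  .node (.node (.node (.node (.node (.leaf ⟨(nat_lit 85070591730215273052729817791146754048), [], .br 84 22 472⟩) (.leaf ⟨(nat_lit 10888246512424904789483787069555736576), [(nat_lit 86), (nat_lit 112)], .w 0 1046⟩)) (.node (.leaf ⟨(nat_lit 85070591135868956735405351029293711360), [(nat_lit 78)], .kill 95 99 [] 534⟩) (.leaf ⟨(nat_lit 21779101850873112512729020611543695360), [(nat_lit 82), (nat_lit 101), (nat_lit 103)], .br 90 1558 1586⟩))) (.node (.node (.leaf ⟨(nat_lit 31818395168908464336200965903846735872), [(nat_lit 94), (nat_lit 116)], .kill 64 117 [] 278⟩) (.leaf ⟨(nat_lit 5379220179886351556914985082873184256), [(nat_lit 89), (nat_lit 99), (nat_lit 114)], .w 4 1302⟩)) (.node (.leaf ⟨(nat_lit 85070591730234615460015282236331917312), [(nat_lit 65)], .sq 65 70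 72 1 790⟩) (.leaf ⟨(nat_lit 43880121038839192097523169525086814208), [(nat_lit 92), (nat_lit 104), (nat_lit 112), (nat_lit 120)], .w 3 1814⟩)))) (.node (.node (.node (.leaf ⟨(nat_lit 334903147375496382040217013234696192), [(nat_lit 111), (nat_lit 118)], .w 1 150⟩) (.leaf ⟨(nat_lit 42555030654768163670296520238431207424), [(nat_lit 87), (nat_lit 92), (nat_lit 104)], .w 6 1174⟩)) (.node (.leaf ⟨(nat_lit 85070591720249039711554266703515877376), [(nat_lit 77)], .kill 79 89 [] 662⟩) (.leaf ⟨(nat_lit 747690752580775335649912571004190720), [(nat_lit 92), (nat_lit 116), (nat_lit 119)], .w 0 1686⟩))) (.node (.node (.leaf ⟨(nat_lit 768459935063154489022513456724574208), [(nat_lit 114), (nat_lit 116), (nat_lit 119)], .rep 3⟩) (.leaf ⟨(nat_lit 42568883537277865158071952989449355264), [(nat_lit 89), (nat_lit 90)], .w 3 1430⟩)) (.leaf ⟨(nat_lit 25442984773566386839934694114224766976), [(nat_lit 106), (nat_lit 109)], .kill 82 120 [] 918⟩)))) (.node (.node (.node (.node (.leaf ⟨(nat_lit 79421372748148723406002471851750588416),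 [(nat_lit 118)], .kill 79 123 [] 86⟩) (.leaf ⟨(nat_lit 51963538356315736767673957391269888), [(nat_lit 92), (nat_lit 105), (nat_lit 113), (nat_lit 115)], .w 2 1110⟩)) (.node (.leaf ⟨(nat_lit 42746643646304929419365198272160333824), [(nat_lit 79), (nat_lit 85), (nat_lit 91), (nat_lit 102)], .kill 71 108 [] 598⟩) (.leaf ⟨(nat_lit 50523746113098014158400067501910130688), [(nat_lit 72), (nat_lit 76), (nat_lit 81)], .sq 81 95 104 1 1622⟩))) (.node (.node (.leaf ⟨(nat_lit 21233898012881697901158506937538576384), [(nat_lit 93), (nat_lit 111)], .kill 70 116 [] 342⟩) (.leaf ⟨(nat_lit 58190143079238126594992466633164849152), [(nat_lit 71), (nat_lit 74)], .w 6 1366⟩)) (.leaf ⟨(nat_lit 44673535943618439510543547081112420352), [(nat_lit 92)], .br 101 854 1021⟩))) (.node (.node (.node (.leaf ⟨(nat_lit 63797751510720947386037250596320313344), [(nat_lit 93)], .kill 124 125 [] 244⟩) (.leaf ⟨(nat_lit 21266998905363924370937498570447650816), [(nat_lit 79), (nat_lit 93)], .kill 66 80 [] 1238⟩)) (.node (.leaf ⟨(nat_lit 85070580379698426966505833590486466560),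 [(nat_lit 79)], .kill 97 104 [] 726⟩) (.leaf ⟨(nat_lit 44296787526135405347421896405155840), [(nat_lit 92), (nat_lit 107), (nat_lit 111), (nat_lit 115)], .w 1 1750⟩))) (.node (.node (.leaf ⟨(nat_lit 49626485788681879734683933151997198336), [(nat_lit 88), (nat_lit 91)], .w 5 1129⟩) (.leaf ⟨(nat_lit 2921934633526068770449900888391680), [(nat_lit 100), (nat_lit 108), (nat_lit 111)], .w 3 1494⟩)) (.leaf ⟨(nat_lit 46805807914428116309145359830269034496), [(nat_lit 90), (nat_lit 103)], .w 5 982⟩))))

def nodes43 : Tr (Node) :=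
  .node (.node (.node (.node (.node (.leaf ⟨(nat_lit 84987514980498058623787163916674531328), [], .br 116 54 80⟩) (.leaf ⟨(nat_lit 667210151273485507407689877901279232), [(nat_lit 92), (nat_lit 111), (nat_lit 119)], .w 4 1078⟩)) (.node (.leaf ⟨(nat_lit 74478285861520768745478112690334334976), [(nat_lit 78), (nat_lit 87)], .sq 87 108 123 1 566⟩) (.leaf ⟨(nat_lit 5670819750170691547770754241159757824), [(nat_lit 89), (nat_lit 90), (nat_lit 104), (nat_lit 109)], .kill 98 118 [] 1590⟩))) (.node (.node (.leaf ⟨(nat_lit 171345806235169626024548578057256960), [(nat_lit 93), (nat_lit 112), (nat_lit 117)], .w 6 310⟩) (.leaf ⟨(nat_lit 83401288174627549804691762855280640), [(nat_lit 86), (nat_lit 94), (nat_lit 108), (nat_lit 116)], .w 3 1334⟩)) (.leaf ⟨(nat_lit 84941820510105871508693494020507172864), [(nat_lit 70)], .w 3 822⟩))) (.node (.node (.node (.leaf ⟨(nat_lit 85007320753476024479956148407555325952), [(nat_lit 103)], .kill 77 116 [] 182⟩) (.leaf ⟨(nat_lit 334905682676696838499020006641106944), [(nat_lit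 101), (nat_lit 111), (nat_lit 118)], .w 3 1206⟩)) (.node (.leaf ⟨(nat_lit 85070591730234613504660410423119446016), [(nat_lit 71)], .sq 71 73 76 1 694⟩) (.leaf ⟨(nat_lit 45526060123283968875184793311305007104), [(nat_lit 100), (nat_lit 118), (nat_lit 121)], .w 3 1718⟩))) (.node (.node (.leaf ⟨(nat_lit 85070591729925130856022306789217271808), [(nat_lit 88)], .sq 88 93 104 1 438⟩) (.leaf ⟨(nat_lit 1661534994731144841129758825350430720), [(nat_lit 118), (nat_lit 120)], .w 5 1462⟩)) (.leaf ⟨(nat_lit 1391535558087333804446173016230985728), [(nat_lit 114), (nat_lit 115), (nat_lit 120)], .w 1 950⟩)))) (.node (.node (.node (.node (.leaf ⟨(nat_lit 85066697507590714745122253985695137792), [(nat_lit 110)], .w 6 118⟩) (.leaf ⟨(nat_lit 51028900960366809891628539638924181504), [(nat_lit 87), (nat_lit 92)], .sq 92 100 122 1 1142⟩)) (.node (.leaf ⟨(nat_lit 88594199362115798622798307049603072), [(nat_lit 80), (nat_lit 86), (nat_lit 88), (nat_lit 99), (nat_lit 108), (nat_lit 112), (nat_lit 116)], .dbl 27 51 80 81 [(nat_lit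 81), (nat_lit 87), (nat_lit 123)] [(nat_lit 107)] 630⟩) (.leaf ⟨(nat_lit 65303559422903142333597306997488746496), [(nat_lit 68), (nat_lit 70), (nat_lit 76)], .w 0 1654⟩))) (.node (.node (.leaf ⟨(nat_lit 2990762990516060714033565885630775296), [(nat_lit 118), (nat_lit 121)], .rep 1⟩) (.leaf ⟨(nat_lit 56309423231386761900675712914800246784), [(nat_lit 68), (nat_lit 84)], .kill 74 77 [] 1398⟩)) (.leaf ⟨(nat_lit 8016906349577773858451086332315828224), [(nat_lit 115), (nat_lit 121)], .w 6 886⟩))) (.node (.node (.node (.leaf ⟨(nat_lit 21257263348745104625486894171020066816), [(nat_lit 93)], .br 113 246 289⟩) (.leaf ⟨(nat_lit 62307562302417931542365955950641152), [(nat_lit 114), (nat_lit 115)], .w 6 1270⟩)) (.node (.leaf ⟨(nat_lit 85070591689661193015053215235313762304), [(nat_lit 66)], .w 3 758⟩) (.leaf ⟨(nat_lit 21642833215610854125218587532456886272), [(nat_lit 86), (nat_lit 91), (nat_lit 100), (nat_lit 105), (nat_lit 110), (nat_lit 115), (nat_lit 118)], .w 0 1782⟩))) (.node (.node (.leaf ⟨(nat_lit 84883332328772193329504726162453037056),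 [(nat_lit 92)], .w 5 502⟩) (.leaf ⟨(nat_lit 747695823183176248567518557817012224), [(nat_lit 92), (nat_lit 102), (nat_lit 119)], .br 116 1526 1817⟩)) (.leaf ⟨(nat_lit 7970991925995263618132369351901184), [(nat_lit 92), (nat_lit 104), (nat_lit 107), (nat_lit 111)], .br 112 1014 1019⟩))))

def nodes44 : Tr (Node) :=
  .node (.node (.node (.node (.node (.leaf ⟨(nat_lit 85070591730234540307979925943618633728), [], .br 76 14 638⟩) (.leaf ⟨(nat_lit 21548113726388085082476414820318969856), [(nat_lit 82), (nat_lit 99)], .br 106 1038 1085⟩)) (.node (.leaf ⟨(nat_lit 85070591710072151046310866482192449536), [(nat_lit 81)], .w 5 526⟩) (.leaf ⟨(nat_lit 42568579301133810383015593780680065024), [(nat_lit 89), (nat_lit 90), (nat_lit 104)], .kill 73 110 [] 1550⟩))) (.node (.node (.leaf ⟨(nat_lit 26584560232610967515133491579782692864), [(nat_lit 98), (nat_lit 122)], .w 3 270⟩) (.leaf ⟨(nat_lit 88289333956455878496963484444524544), [(nat_lit 92), (nat_lit 104), (nat_lit 112), (nat_lit 116)], .w 6 1294⟩)) (.node (.leaf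 ⟨(nat_lit 85070591730234615847396907784232501248), [(nat_lit 64)], .sq 64 66 67 1 782⟩) (.leaf ⟨(nat_lit 21289248700024483034747797062004244480), [(nat_lit 90), (nat_lit 104), (nat_lit 107), (nat_lit 109), (nat_lit 114)], .w 6 1806⟩)))) (.node (.node (.node (.leaf ⟨(nat_lit 18962917164476507352846938906352943104), [(nat_lit 109), (nat_lit 114)], .w 3 142⟩) (.leaf ⟨(nat_lit 42675556338391592166978268284827205632), [(nat_lit 83), (nat_lit 92)], .w 4 1166⟩)) (.node (.leaf ⟨(nat_lit 85070591720330755541173843044293672960), [(nat_lit 75)], .sq 75 79 87 1 654⟩) (.leaf ⟨(nat_lit 21539921474958152560992530663997440), [(nat_lit 91), (nat_lit 105), (nat_lit 106)], .w 5 1678⟩))) (.node (.node (.leaf ⟨(nat_lit 334905682676696838499020006641106944), [(nat_lit 101), (nat_lit 111), (nat_lit 118)], .w 3 398⟩) (.leaf ⟨(nat_lit 43046840419405322005172552812009095168), [(nat_lit 82), (nat_lit 85)], .br 77 1422 1603⟩)) (.leaf ⟨(nat_lit 25359258986722512744424639860916092928), [(nat_lit 106), (nat_lit 114)], .kill 79 121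 [] 910⟩)))) (.node (.node (.node (.node (.leaf ⟨(nat_lit 42535295865117307932921825928971026432), [(nat_lit 125)], .rep 0⟩) (.leaf ⟨(nat_lit 10722418165330748846212295091392872448), [(nat_lit 86), (nat_lit 99), (nat_lit 108), (nat_lit 112)], .w 3 1102⟩)) (.node (.leaf ⟨(nat_lit 21518911495807576314070945364615102464), [(nat_lit 79), (nat_lit 91), (nat_lit 102), (nat_lit 106)], .w 5 590⟩) (.leaf ⟨(nat_lit 11133138861280595514641329174989504512), [(nat_lit 86), (nat_lit 101), (nat_lit 105)], .w 2 1614⟩))) (.node (.node (.leaf ⟨(nat_lit 53180964758605167491679867605964816384), [(nat_lit 110), (nat_lit 113), (nat_lit 123)], .w 3 334⟩) (.leaf ⟨(nat_lit 68792661156099453877077688599936237568), [(nat_lit 69), (nat_lit 75)], .sq 75 93 96 1 1358⟩)) (.leaf ⟨(nat_lit 56309423230450825166963286293843279872), [(nat_lit 84)], .w 3 846⟩))) (.node (.node (.node (.leaf ⟨(nat_lit 85068564123099550812915957881165053952), [(nat_lit 99)], .kill 77 111 [] 206⟩) (.leaf ⟨(nat_lit 53127591567868166349387320678848397312), [(nat_lit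 73), (nat_lit 78)], .sq 78 95 99 1 1230⟩)) (.node (.leaf ⟨(nat_lit 85070591709208034128105257681115152384), [(nat_lit 69)], .kill 94 95 [] 718⟩) (.leaf ⟨(nat_lit 88594199283535620347847410693701632), [(nat_lit 88), (nat_lit 99), (nat_lit 108), (nat_lit 112)], .w 4 1742⟩))) (.node (.node (.leaf ⟨(nat_lit 76575008317980138050731614623466782720), [(nat_lit 92)], .kill 103 123 [] 462⟩) (.leaf ⟨(nat_lit 5483066195666240604107242465551974400), [(nat_lit 96), (nat_lit 99), (nat_lit 117)], .br 122 1486 1504⟩)) (.leaf ⟨(nat_lit 2680036476626057162424074270828134400), [(nat_lit 90), (nat_lit 107), (nat_lit 109), (nat_lit 114)], .w 3 974⟩))))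

def nodes45 : Tr (Node) :=
  .node (.node (.node (.node (.node (.leaf ⟨(nat_lit 85070267211680957439116868701921476608), [], .br 108 46 160⟩) (.leaf ⟨(nat_lit 11050830307807776579602148235864440832), [(nat_lit 86), (nat_lit 110), (nat_lit 116)], .w 4 1070⟩)) (.node (.leaf ⟨(nat_lit 74478296007058360708812155626106912768), [(nat_lit 78), (nat_lit 87)], .w 5 558⟩) (.leaf ⟨(nat_lit 5338512749986522540259422201190547456), [(nat_lit 89), (nat_lit 104), (nat_lit 107), (nat_lit 109)], .w 4 1582⟩))) (.node (.node (.leaf ⟨(nat_lit 9346134365169730359920977790982160384), [(nat_lit 94), (nat_lit 115)], .br 120 355 302⟩) (.leaf ⟨(nat_lit 830767517249984301586300078242398208), [(nat_lit 86), (nat_lit 94), (nat_lit 117)], .w 3 1326⟩)) (.leaf ⟨(nat_lit 85070580099605444885656787601508532224), [(nat_lit 80)], .kill 97 106 [] 814⟩))) (.node (.node (.node (.leaf ⟨(nat_lit 85070530883005804910832380016188194816), [(nat_lit 104)], .w 6 174⟩) (.leaf ⟨(nat_lit 334903157279016696323259212427689984), [(nat_lit 93), (nat_lit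 111), (nat_lit 118)], .w 2 1198⟩)) (.node (.leaf ⟨(nat_lit 85065471638840775480762992663566745600), [(nat_lit 74)], .kill 106 115 [] 686⟩) (.leaf ⟨(nat_lit 63886033223918521423733241801756114944), [(nat_lit 101), (nat_lit 103), (nat_lit 124)], .w 2 1710⟩))) (.node (.node (.leaf ⟨(nat_lit 85048836790954234235582712098391588864), [(nat_lit 92)], .kill 95 117 [] 430⟩) (.leaf ⟨(nat_lit 996926067441087817595461282023079936), [(nat_lit 102), (nat_lit 119)], .w 3 1454⟩)) (.leaf ⟨(nat_lit 176538093190184139370036875193483264), [(nat_lit 113), (nat_lit 117)], .w 1 942⟩)))) (.node (.node (.node (.node (.leaf ⟨(nat_lit 81892906052811301357182988104459354112), [(nat_lit 114)], .w 5 110⟩) (.leaf ⟨(nat_lit 58813226426901139865503973967841460224), [(nat_lit 83), (nat_lit 90)], .sq 90 95 115 1 1134⟩)) (.node (.leaf ⟨(nat_lit 62308196768448730052820166896517120), [(nat_lit 81), (nat_lit 84), (nat_lit 89), (nat_lit 99), (nat_lit 114), (nat_lit 115)], .w 0 622⟩) (.leaf ⟨(nat_lit 831580650659777415452249651412992), [(nat_lit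 89), (nat_lit 90), (nat_lit 104), (nat_lit 107), (nat_lit 109)], .w 2 1646⟩))) (.node (.node (.leaf ⟨(nat_lit 10633824283191977040287806856418557952), [(nat_lit 98), (nat_lit 123)], .w 2 366⟩) (.leaf ⟨(nat_lit 71296464365876344353341397077640347648), [(nat_lit 63), (nat_lit 70)], .w 4 1390⟩)) (.leaf ⟨(nat_lit 5316911983139663491615228241121378304), [(nat_lit 122)], .w 3 878⟩))) (.node (.node (.node (.leaf ⟨(nat_lit 85070429480861306966763302479124758528), [(nat_lit 93)], .kill 91 107 [] 238⟩) (.leaf ⟨(nat_lit 2824619634723628134326562526519623680), [(nat_lit 91), (nat_lit 103)], .w 2 1262⟩)) (.node (.leaf ⟨(nat_lit 85070591730233835789930262828423315456), [(nat_lit 68)], .w 6 750⟩) (.leaf ⟨(nat_lit 83158513533935489066522130843172864), [(nat_lit 82), (nat_lit 84), (nat_lit 88), (nat_lit 99), (nat_lit 106), (nat_lit 116)], .w 2 1774⟩))) (.node (.node (.leaf ⟨(nat_lit 85070529086464665711038090135629463552), [(nat_lit 84)], .w 3 494⟩) (.leaf ⟨(nat_lit 33272241126656786114281094944821084160), [(nat_lit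 92), (nat_lit 98), (nat_lit 101)], .kill 103 123 [] 1518⟩)) (.leaf ⟨(nat_lit 2832732598565088802496141427034030080), [(nat_lit 91), (nat_lit 103), (nat_lit 108)], .kill 74 117 [] 1006⟩))))

def nodes46 : Tr (Node) :=
  .node (.node (.node (.node (.node (.leaf ⟨(nat_lit 85070591725282855708702130758345555968), [], .br 92 30 406⟩) (.leaf ⟨(nat_lit 5369159470897640214270006497883717632), [(nat_lit 89), (nat_lit 108), (nat_lit 115)], .kill 84 122 [] 1054⟩)) (.node (.leaf ⟨(nat_lit 84447506005465275708261180244513259520), [(nat_lit 78)], .kill 115 119 [] 542⟩) (.leaf ⟨(nat_lit 2659186160791443284513636771405234176), [(nat_lit 91), (nat_lit 106), (nat_lit 109)], .w 5 1566⟩))) (.node (.node (.leaf ⟨(nat_lit 41247606561113320738103613213500243968), [(nat_lit 98), (nat_lit 115)], .kill 82 123 [] 286⟩) (.leaf ⟨(nat_lit 664776262121047306956816207746957312), [(nat_lit 92), (nat_lit 107), (nat_lit 119)], .w 2 1310⟩)) (.leaf ⟨(nat_lit 85070591690619832341164596938540056576), [(nat_lit 67)], .kill 79 81 [] 798⟩)))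 (.node (.node (.node (.leaf ⟨(nat_lit 85070348341319372045798564490926620672), [(nat_lit 106)], .w 6 158⟩) (.leaf ⟨(nat_lit 48890673243161207537993846696915763200), [(nat_lit 73), (nat_lit 89), (nat_lit 90)], .sq 90 98 118 1 1182⟩)) (.node (.leaf ⟨(nat_lit 85070591700369624094271722122584784896), [(nat_lit 73)], .sq 73 103 109 1 670⟩) (.leaf ⟨(nat_lit 7950709516391611947708422100615168), [(nat_lit 92), (nat_lit 107), (nat_lit 111), (nat_lit 112)], .w 3 1694⟩))) (.node (.node (.leaf ⟨(nat_lit 85070591698048174844423764710564823040), [(nat_lit 91)], .sq 91 95 116 1 414⟩) (.leaf ⟨(nat_lit 34602765924053975308721112032884031488), [(nat_lit 98), (nat_lit 100)], .w 4 1438⟩)) (.leaf ⟨(nat_lit 46805635513946485269946756278633103360), [(nat_lit 90), (nat_lit 108)], .sq 108 109 125 1 926⟩)))) (.node (.node (.node (.node (.leaf ⟨(nat_lit 10633823966279326983230456482242756608), [(nat_lit 123)], .w 2 94⟩) (.leaf ⟨(nat_lit 44673513284363960430942995327542624256), [(nat_lit 92), (nat_lit 97)], .w 5 1118⟩)) (.node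 (.leaf ⟨(nat_lit 88269680808457371896015151029026816), [(nat_lit 80), (nat_lit 86), (nat_lit 88), (nat_lit 99)], .w 0 606⟩) (.leaf ⟨(nat_lit 21779102168095247579607716054444277760), [(nat_lit 82), (nat_lit 88), (nat_lit 101)], .sq 88 98 117 1 1630⟩))) (.node (.node (.leaf ⟨(nat_lit 18942147986945888356615859120229056512), [(nat_lit 93), (nat_lit 109)], .br 118 350 1192⟩) (.leaf ⟨(nat_lit 68792579058388188434974185080806703104), [(nat_lit 69), (nat_lit 77)], .w 4 1374⟩)) (.leaf ⟨(nat_lit 46805310995392826843219973122612527104), [(nat_lit 90)], .w 0 862⟩))) (.node (.node (.node (.leaf ⟨(nat_lit 85070591492550128323050639077310201856), [(nat_lit 96)], .w 5 222⟩) (.leaf ⟨(nat_lit 21265051794037742570208148432212721664), [(nat_lit 82), (nat_lit 93)], .sq 82 112 122 1 1246⟩)) (.node (.leaf ⟨(nat_lit 83071637369791622698120690679404298240), [(nat_lit 83)], .kill 108 121 [] 734⟩) (.leaf ⟨(nat_lit 83098299811268231791688935318487040), [(nat_lit 82), (nat_lit 83), (nat_lit 100), (nat_lit 104), (nat_lit 116)],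 .w 2 1758⟩))) (.node (.node (.leaf ⟨(nat_lit 85070591720273067112219107458363162624), [(nat_lit 84)], .w 5 478⟩) (.leaf ⟨(nat_lit 1371090889206852920658834186934681600), [(nat_lit 108), (nat_lit 115), (nat_lit 120)], .w 2 1502⟩)) (.leaf ⟨(nat_lit 45368028463682396735417967356005056512), [(nat_lit 91), (nat_lit 103)], .kill 114 125 [] 990⟩))))

def nodes47 : Tr (Node) :=
  .node (.node (.node (.node (.node (.leaf ⟨(nat_lit 63802943797675961899382738893456539648), [], .br 124 62 75⟩) (.leaf ⟨(nat_lit 21548113726388085082476414820318969856), [(nat_lit 82), (nat_lit 99), (nat_lit 106)], .br 113 1086 1097⟩)) (.node (.leaf ⟨(nat_lit 42568913960273602847389802430170398720), [(nat_lit 78), (nat_lit 90)], .w 3 574⟩) (.leaf ⟨(nat_lit 43046839151754570661215699486659051520), [(nat_lit 82), (nat_lit 85), (nat_lit 87), (nat_lit 99)], .w 4 1598⟩))) (.node (.node (.leaf ⟨(nat_lit 334905682676696838499020006641106944), [(nat_lit 101), (nat_lit 111), (nat_lit 118)], .w 3 318⟩) (.leaf ⟨(nat_lit 44296787526135405347421896405155840),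 [(nat_lit 92), (nat_lit 107), (nat_lit 111), (nat_lit 115)], .w 1 1342⟩)) (.leaf ⟨(nat_lit 71296464365876344344118025040785571840), [(nat_lit 70)], .w 4 830⟩))) (.node (.node (.node (.leaf ⟨(nat_lit 74395553927447709316877818959472099328), [(nat_lit 94)], .w 2 190⟩) (.leaf ⟨(nat_lit 768459935063154489022513456724574208), [(nat_lit 114), (nat_lit 116), (nat_lit 119)], .rep 3⟩)) (.node (.leaf ⟨(nat_lit 85070591730234303009064161743946645504), [(nat_lit 70)], .kill 64 71 [] 702⟩) (.leaf ⟨(nat_lit 12017329547073673654259158735650816), [(nat_lit 89), (nat_lit 90), (nat_lit 103), (nat_lit 108), (nat_lit 110)], .br 113 1726 1799⟩))) (.node (.node (.leaf ⟨(nat_lit 85070591699905084903351835122913509376), [(nat_lit 89)], .kill 66 91 [] 446⟩) (.leaf ⟨(nat_lit 26584570373815769340968703553408335872), [(nat_lit 98), (nat_lit 103), (nat_lit 122)], .w 2 1470⟩)) (.leaf ⟨(nat_lit 103927066809111159252305715589545984), [(nat_lit 106), (nat_lit 114), (nat_lit 116)], .w 2 958⟩)))) (.node (.node (.node (.node (.leaf ⟨(nat_lit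 84261242457410499609246460742624870400), [(nat_lit 109)], .kill 82 120 [] 126⟩) (.leaf ⟨(nat_lit 53127591567094151593379054349742768128), [(nat_lit 73), (nat_lit 88)], .w 6 1150⟩)) (.node (.leaf ⟨(nat_lit 85070591730229931278292645169890066432), [(nat_lit 77)], .sq 77 93 98 1 660⟩) (.leaf ⟨(nat_lit 21779101851201940335664199747063775232), [(nat_lit 82), (nat_lit 84), (nat_lit 101)], .w 0 1662⟩))) (.node (.node (.leaf ⟨(nat_lit 2700156625714939580199249669204738048), [(nat_lit 107), (nat_lit 115), (nat_lit 121)], .w 5 382⟩) (.leaf ⟨(nat_lit 76576985862863689283084787888257236992), [(nat_lit 66), (nat_lit 71)], .w 2 1406⟩)) (.leaf ⟨(nat_lit 14792853749965723913683384041948053504), [(nat_lit 112), (nat_lit 117)], .kill 78 121 [] 894⟩))) (.node (.node (.node (.leaf ⟨(nat_lit 39378379454356295249039621754349158400), [(nat_lit 96)], .w 5 254⟩) (.leaf ⟨(nat_lit 2825420787427092296737547893147172864), [(nat_lit 107), (nat_lit 109), (nat_lit 117)], .kill 78 121 [] 1278⟩)) (.node (.leaf ⟨(nat_lit 85070569422833706388918210624766345216),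 [(nat_lit 66)], .w 3 766⟩) (.leaf ⟨(nat_lit 176619856852162694583232597202042880), [(nat_lit 82), (nat_lit 85), (nat_lit 87), (nat_lit 99), (nat_lit 106), (nat_lit 113), (nat_lit 117)], .dbl 27 56 85 84 [(nat_lit 84), (nat_lit 88), (nat_lit 124)] [(nat_lit 114)] 1790⟩))) (.node (.node (.leaf ⟨(nat_lit 84733172364514040015694296041694167040), [(nat_lit 83)], .kill 106 119 [] 510⟩) (.leaf ⟨(nat_lit 1370769227818805164589725498092814336), [(nat_lit 92), (nat_lit 98), (nat_lit 101), (nat_lit 115)], .br 120 1534 1544⟩)) (.leaf ⟨(nat_lit 44673535943618439510543547081112420352), [(nat_lit 92), (nat_lit 101)], .kill 63 102 [] 1022⟩))))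

def nodes48 : Tr (Node) :=
  .node (.node (.node (.node (.node (.leaf ⟨(nat_lit 85070591730234615792056675563103846400), [], .br 66 4 740⟩) (.leaf ⟨(nat_lit 46805485931175658338877379667654868992), [(nat_lit 90), (nat_lit 101)], .w 5 1028⟩)) (.node (.leaf ⟨(nat_lit 85070591730234011402933844543354699776), [(nat_lit 79)], .kill 66 80 [] 516⟩) (.leaf ⟨(nat_lit 1334420614507860914731209030381862912), [(nat_lit 92), (nat_lit 98), (nat_lit 112), (nat_lit 120)], .w 1 1540⟩))) (.node (.node (.leaf ⟨(nat_lit 31901472215750631006748719820904071168), [(nat_lit 98)], .w 1 260⟩) (.leaf ⟨(nat_lit 1391535558087333804446173016230985728), [(nat_lit 114), (nat_lit 115), (nat_lit 120)], .w 1 1284⟩)) (.node (.leaf ⟨(nat_lit 85069038319562917292423845199380217856), [(nat_lit 80)], .sq 80 111 120 1 772⟩) (.leaf ⟨(nat_lit 10805332655945219379816063989012496384), [(nat_lit 86), (nat_lit 87), (nat_lit 99), (nat_lit 107), (nat_lit 112), (nat_lit 117)], .w 5 1796⟩)))) (.node (.node (.node (.leaf ⟨(nat_lit 18609840978096139074106865155965976576),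 [(nat_lit 109)], .br 121 132 135⟩) (.leaf ⟨(nat_lit 53127590887465070025705283430123569152), [(nat_lit 73), (nat_lit 91)], .sq 91 97 118 1 1156⟩)) (.node (.leaf ⟨(nat_lit 85070591730234275855456885243486666752), [(nat_lit 75)], .sq 75 79 87 1 644⟩) (.leaf ⟨(nat_lit 176619856852162694583232597202042880), [(nat_lit 82), (nat_lit 85), (nat_lit 99)], .br 87 1668 1731⟩))) (.node (.node (.leaf ⟨(nat_lit 15951384996429827642582293234598281216), [(nat_lit 93), (nat_lit 109), (nat_lit 122)], .w 5 388⟩) (.leaf ⟨(nat_lit 78681593586838003271236563362073542656), [(nat_lit 68), (nat_lit 75)], .sq 75 105 116 1 1412⟩)) (.leaf ⟨(nat_lit 2741532741306388987864102061828210688), [(nat_lit 116), (nat_lit 121)], .w 4 900⟩)))) (.node (.node (.node (.node (.leaf ⟨(nat_lit 83741363734449699992939844797661708288), [(nat_lit 120)], .kill 64 121 [] 68⟩) (.leaf ⟨(nat_lit 2720764823998729984150142123012784128), [(nat_lit 91), (nat_lit 100), (nat_lit 115)], .w 3 1285⟩)) (.node (.leaf ⟨(nat_lit 42664053676855397082855811547926626304),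 [(nat_lit 79), (nat_lit 84), (nat_lit 92)], .w 5 580⟩) (.leaf ⟨(nat_lit 43046840419405322005172552812009095168), [(nat_lit 77), (nat_lit 82), (nat_lit 85)], .sq 77 99 111 1 1604⟩))) (.node (.node (.leaf ⟨(nat_lit 1371090889206852920658834186934681600), [(nat_lit 108), (nat_lit 115), (nat_lit 120)], .w 2 324⟩) (.leaf ⟨(nat_lit 43203560699214303248620800514140930048), [(nat_lit 91), (nat_lit 106), (nat_lit 108), (nat_lit 109), (nat_lit 111), (nat_lit 119)], .w 5 1770⟩)) (.leaf ⟨(nat_lit 53127591567868166644535225858201223168), [(nat_lit 73)], .br 68 836 1348⟩))) (.node (.node (.node (.leaf ⟨(nat_lit 85070589194933415409384848864535642112), [(nat_lit 101)], .kill 63 102 [] 196⟩) (.leaf ⟨(nat_lit 63824047644868561462458856008419639296), [(nat_lit 103), (nat_lit 108), (nat_lit 124)], .w 2 1220⟩)) (.node (.leaf ⟨(nat_lit 85070591710427107722995763364679909376), [(nat_lit 72)], .kill 78 82 [] 708⟩) (.leaf ⟨(nat_lit 176619856852162694583232597202042880), [(nat_lit 82), (nat_lit 85), (nat_lit 87), (nat_lit 99)],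 .br 106 1732 1751⟩))) (.node (.node (.leaf ⟨(nat_lit 85070590861510193297328043947481628672), [(nat_lit 91)], .w 5 452⟩) (.leaf ⟨(nat_lit 830772567967973333482485399488036864), [(nat_lit 102), (nat_lit 117), (nat_lit 119)], .w 3 1476⟩)) (.leaf ⟨(nat_lit 2846189976099171646537050153363177472), [(nat_lit 90), (nat_lit 107), (nat_lit 109)], .br 114 964 972⟩))))

def nodes49 : Tr (Node) :=
  .node (.node (.node (.node (.node (.leaf ⟨(nat_lit 85070591413321965808786301483766251520), [], .br 98 36 224⟩) (.leaf ⟨(nat_lit 674998596561287748850485622395109376), [(nat_lit 92), (nat_lit 113), (nat_lit 119)], .w 3 1060⟩)) (.node (.leaf ⟨(nat_lit 74478296036614179146750609689323503616), [(nat_lit 78)], .br 89 548 550⟩) (.leaf ⟨(nat_lit 2825339660264557768626612653940277248), [(nat_lit 91), (nat_lit 106), (nat_lit 109), (nat_lit 117)], .kill 78 121 [] 1572⟩))) (.node (.node (.leaf ⟨(nat_lit 21246878755028034970229833178361626624), [(nat_lit 93), (nat_lit 114)], .kill 69 117 [] 292⟩) (.leaf ⟨(nat_lit 667372410550314720771081455911567360),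 [(nat_lit 92), (nat_lit 107), (nat_lit 111), (nat_lit 119)], .rep 4⟩)) (.leaf ⟨(nat_lit 85070591689042223004633897134718976000), [(nat_lit 66)], .sq 66 89 91 1 804⟩))) (.node (.node (.node (.leaf ⟨(nat_lit 84882695487666386791036204522028400640), [(nat_lit 108)], .kill 75 118 [] 164⟩) (.leaf ⟨(nat_lit 19129070673854351077062571617255686144), [(nat_lit 93), (nat_lit 109), (nat_lit 114)], .sq 80 114 122 2 1188⟩)) (.node (.leaf ⟨(nat_lit 85070339417145651881664740003875389440), [(nat_lit 74)], .w 4 676⟩) (.leaf ⟨(nat_lit 21539921474958152560992530663997440), [(nat_lit 105), (nat_lit 106), (nat_lit 109), (nat_lit 114)], .w 5 1700⟩))) (.node (.node (.leaf ⟨(nat_lit 85070591025846733512462275440340369408), [(nat_lit 90)], .kill 63 91 [] 420⟩) (.leaf ⟨(nat_lit 37218384674259269583949973623289151488), [(nat_lit 97), (nat_lit 99)], .w 6 1444⟩)) (.leaf ⟨(nat_lit 2846189976099171646537050153363177472), [(nat_lit 90), (nat_lit 107)], .br 109 932 963⟩)))) (.node (.node (.node (.node (.leaf ⟨(nat_lit 4319990986300976586937372945911119872),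 [(nat_lit 118), (nat_lit 120)], .kill 64 121 [] 100⟩) (.leaf ⟨(nat_lit 65082946395261171185729126690757541888), [(nat_lit 82), (nat_lit 93)], .kill 88 104 [] 1124⟩)) (.node (.leaf ⟨(nat_lit 103867487245407542305810920635367424), [(nat_lit 82), (nat_lit 83), (nat_lit 100), (nat_lit 104), (nat_lit 114)], .w 4 612⟩) (.leaf ⟨(nat_lit 21776505702443845098914755363379085312), [(nat_lit 82), (nat_lit 90), (nat_lit 101)], .w 2 1636⟩))) (.node (.node (.leaf ⟨(nat_lit 8016906369384814487017170730701815808), [(nat_lit 94), (nat_lit 115)], .w 6 356⟩) (.leaf ⟨(nat_lit 71791394045656668124860980466395643904), [(nat_lit 72), (nat_lit 76)], .kill 120 124 [] 1419⟩)) (.leaf ⟨(nat_lit 14875930499702281155739871983215575040), [(nat_lit 112)], .br 116 868 891⟩))) (.node (.node (.node (.leaf ⟨(nat_lit 85070568437154836672128399356020654080), [(nat_lit 97)], .w 5 228⟩) (.leaf ⟨(nat_lit 1279901185537191027994268061044572160), [(nat_lit 82), (nat_lit 93)], .br 111 1252 1316⟩)) (.node (.leaf ⟨(nat_lit 85070591730234615718269699268265639936),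 [(nat_lit 67)], .sq 67 69 71 1 743⟩) (.leaf ⟨(nat_lit 84455958541970175696644768538820608), [(nat_lit 79), (nat_lit 92), (nat_lit 106), (nat_lit 110), (nat_lit 116)], .w 2 1764⟩))) (.node (.node (.leaf ⟨(nat_lit 85070591677544792943759653907548078080), [(nat_lit 86)], .w 6 484⟩) (.leaf ⟨(nat_lit 64136224986108466261903740874939957248), [(nat_lit 99), (nat_lit 108), (nat_lit 109), (nat_lit 118), (nat_lit 124)], .kill 75 109 [] 1508⟩)) (.leaf ⟨(nat_lit 1340991798306793998891217565622730752), [(nat_lit 92), (nat_lit 106), (nat_lit 113)], .w 3 996⟩))))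

def nodes50 : Tr (Node) :=
  .node (.node (.node (.node (.node (.leaf ⟨(nat_lit 85070591730229780162565193341243228160), [], .br 82 20 521⟩) (.leaf ⟨(nat_lit 11050830307807776579602148235864440832), [(nat_lit 86), (nat_lit 110)], .w 4 1044⟩)) (.node (.leaf ⟨(nat_lit 85070591452858978044918037670650707968), [(nat_lit 78)], .kill 77 86 [] 532⟩) (.leaf ⟨(nat_lit 43046838517929270547100998738307448832), [(nat_lit 82), (nat_lit 85), (nat_lit 87)], .br 104 1556 1583⟩))) (.node (.node (.leaf ⟨(nat_lit 31859933543776742957229209874480496640), [(nat_lit 94), (nat_lit 115)], .kill 63 116 [] 276⟩) (.leaf ⟨(nat_lit 1007305630788807836709775222090235904), [(nat_lit 89), (nat_lit 95), (nat_lit 113)], .w 1 1300⟩)) (.node (.leaf ⟨(nat_lit 85070591730234615828950163710522949632), [(nat_lit 65)], .sq 65 66 68 1 788⟩) (.leaf ⟨(nat_lit 43868661477413128903733639328110215168), [(nat_lit 92), (nat_lit 106), (nat_lit 107), (nat_lit 110), (nat_lit 111), (nat_lit 120)], .kill 63 107 [] 1812⟩)))) (.node (.node (.node (.leaf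 ⟨(nat_lit 332956036053545821679518077111238656), [(nat_lit 109), (nat_lit 118)], .w 5 148⟩) (.leaf ⟨(nat_lit 42746638575701924043537784970760159232), [(nat_lit 85), (nat_lit 91)], .w 6 1430⟩)) (.node (.leaf ⟨(nat_lit 85070591720328828815648832229046484992), [(nat_lit 77)], .sq 77 81 92 1 660⟩) (.leaf ⟨(nat_lit 667210151273485507407689877901279232), [(nat_lit 92), (nat_lit 111), (nat_lit 119)], .w 4 1684⟩))) (.node (.node (.leaf ⟨(nat_lit 1371090889206852920658834186934681600), [(nat_lit 108), (nat_lit 115), (nat_lit 120)], .w 2 404⟩) (.leaf ⟨(nat_lit 42568913960892270635577588910326284288), [(nat_lit 89), (nat_lit 90)], .br 103 1428 1546⟩)) (.leaf ⟨(nat_lit 25516325966693191280187687374875000832), [(nat_lit 106), (nat_lit 110)], .kill 72 117 [] 916⟩)))) (.node (.node (.node (.node (.leaf ⟨(nat_lit 84572131231815272413504724210336923648), [(nat_lit 117)], .w 4 84⟩) (.leaf ⟨(nat_lit 83162954929132918797310816681984000), [(nat_lit 92), (nat_lit 102), (nat_lit 106), (nat_lit 116)], .w 2 1108⟩)) (.node (.leaf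 ⟨(nat_lit 42664051141554196626397008554520215552), [(nat_lit 79), (nat_lit 84), (nat_lit 92), (nat_lit 101)], .w 6 596⟩) (.leaf ⟨(nat_lit 5338512749986522540259422201190547456), [(nat_lit 89), (nat_lit 104), (nat_lit 107)], .w 4 1620⟩))) (.node (.node (.leaf ⟨(nat_lit 21265051794032906866929689915513896960), [(nat_lit 93), (nat_lit 111)], .kill 66 113 [] 340⟩) (.leaf ⟨(nat_lit 68792661146194686858043168814406828032), [(nat_lit 69), (nat_lit 76)], .kill 63 77 [] 1364⟩)) (.leaf ⟨(nat_lit 44673536418987414596129572642376122368), [(nat_lit 92)], .br 97 852 1112⟩))) (.node (.node (.node (.leaf ⟨(nat_lit 79458286773241450703306224645863112704), [(nat_lit 95)], .w 3 212⟩) (.leaf ⟨(nat_lit 21266998905364226602392402227741327360), [(nat_lit 78), (nat_lit 93)], .kill 69 79 [] 1236⟩)) (.node (.leaf ⟨(nat_lit 85070590530689116728423235977148891136), [(nat_lit 83)], .kill 96 109 [] 724⟩) (.leaf ⟨(nat_lit 10506293126451722421125775762653184), [(nat_lit 92), (nat_lit 105), (nat_lit 106), (nat_lit 113)], .w 2 1748⟩)))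 (.node (.node (.leaf ⟨(nat_lit 48924291337079250736988573526631907328), [(nat_lit 89), (nat_lit 90)], .sq 90 98 118 1 468⟩) (.leaf ⟨(nat_lit 20809831481509128119307473363402752), [(nat_lit 96), (nat_lit 105), (nat_lit 114)], .w 2 1492⟩)) (.leaf ⟨(nat_lit 667372410550314720771081455911567360), [(nat_lit 92), (nat_lit 107), (nat_lit 111), (nat_lit 119)], .rep 4⟩))))

def nodes51 : Tr (Node) :=
  .node (.node (.node (.node (.node (.leaf ⟨(nat_lit 85049822542800476555329529872625172480), [], .br 114 52 106⟩) (.leaf ⟨(nat_lit 674998592228497611351654660248174592), [(nat_lit 89), (nat_lit 113), (nat_lit 119)], .w 4 1076⟩)) (.node (.leaf ⟨(nat_lit 74478255434656770664848353547847204864), [(nat_lit 78), (nat_lit 89)], .w 6 564⟩) (.leaf ⟨(nat_lit 21776505702443845098914755363379085312), [(nat_lit 82), (nat_lit 90), (nat_lit 101), (nat_lit 103)], .w 2 1588⟩))) (.node (.node (.leaf ⟨(nat_lit 12134397768299412482158812120580358144), [(nat_lit 93), (nat_lit 112), (nat_lit 117)], .kill 80 123 [] 308⟩) (.leaf ⟨(nat_lit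 768459944971510506584014172616392704), [(nat_lit 82), (nat_lit 93), (nat_lit 114), (nat_lit 116)], .br 119 1332 1343⟩)) (.leaf ⟨(nat_lit 84401828173241191951381048457930211328), [(nat_lit 80)], .kill 111 120 [] 820⟩))) (.node (.node (.node (.leaf ⟨(nat_lit 85069628315778442411498514363505967104), [(nat_lit 103)], .sq 103 114 125 1 180⟩) (.leaf ⟨(nat_lit 5316952706415195823484751322711851008), [(nat_lit 97), (nat_lit 105), (nat_lit 122)], .w 2 1204⟩)) (.node (.leaf ⟨(nat_lit 85070591730234611143477168988296839168), [(nat_lit 72)], .sq 72 73 77 1 692⟩) (.leaf ⟨(nat_lit 48350668980501614990990682566049136640), [(nat_lit 99), (nat_lit 117), (nat_lit 122)], .sq 99 118 125 1 1716⟩))) (.node (.node (.leaf ⟨(nat_lit 85070591729615645846200961720492490752), [(nat_lit 89)], .sq 89 93 105 1 436⟩) (.leaf ⟨(nat_lit 1349997183219055183417929045597224960), [(nat_lit 114), (nat_lit 120)], .w 3 1460⟩)) (.leaf ⟨(nat_lit 2746725038164923815492632558157430784), [(nat_lit 112), (nat_lit 116), (nat_lit 121)], .w 1 948⟩))))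 (.node (.node (.node (.node (.leaf ⟨(nat_lit 85068644618912665305482952921818595328), [(nat_lit 109)], .w 5 116⟩) (.leaf ⟨(nat_lit 58813225115922638262286262849668907008), [(nat_lit 83), (nat_lit 92)], .w 4 1140⟩)) (.node (.leaf ⟨(nat_lit 88594199360906872803183677874896896), [(nat_lit 86), (nat_lit 88), (nat_lit 99), (nat_lit 108), (nat_lit 112), (nat_lit 116)], .w 4 628⟩) (.leaf ⟨(nat_lit 54667180031488177557376085546542039040), [(nat_lit 68), (nat_lit 71), (nat_lit 75)], .w 2 1652⟩))) (.node (.node (.leaf ⟨(nat_lit 10654593153713466293744578467559636992), [(nat_lit 114), (nat_lit 123)], .w 3 372⟩) (.leaf ⟨(nat_lit 58190143099045171982818522048615153664), [(nat_lit 65), (nat_lit 74)], .w 1 1396⟩)) (.leaf ⟨(nat_lit 9346134345362689731354893392596172800), [(nat_lit 115), (nat_lit 120)], .kill 64 121 [] 884⟩))) (.node (.node (.node (.leaf ⟨(nat_lit 21265051794032906866929689915513896960), [(nat_lit 93)], .br 111 244 339⟩) (.leaf ⟨(nat_lit 1371090889206852920658834186934681600), [(nat_lit 108), (nat_lit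 115)], .w 2 1268⟩)) (.node (.leaf ⟨(nat_lit 85070591690589648044517250441488105472), [(nat_lit 66)], .sq 66 88 90 1 756⟩) (.leaf ⟨(nat_lit 5657020106360412765427209784214421504), [(nat_lit 82), (nat_lit 91), (nat_lit 101), (nat_lit 103), (nat_lit 111), (nat_lit 112), (nat_lit 118)], .w 3 1780⟩))) (.node (.node (.leaf ⟨(nat_lit 85070255015679447124131824030304960512), [(nat_lit 92)], .kill 94 114 [] 500⟩) (.leaf ⟨(nat_lit 1334420614507860914731209030381862912), [(nat_lit 92), (nat_lit 98), (nat_lit 112)], .w 3 1524⟩)) (.leaf ⟨(nat_lit 84455958541365712786837453951467520), [(nat_lit 92), (nat_lit 110), (nat_lit 116)], .w 1 1012⟩))))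

def nodes52 : Tr (Node) :=
  .node (.node (.node (.node (.node (.leaf ⟨(nat_lit 85070591730234596976377720379361198080), [], .br 74 12 645⟩) (.leaf ⟨(nat_lit 64748023589397850951850144279430168576), [(nat_lit 82), (nat_lit 99)], .kill 90 119 [] 1036⟩)) (.node (.leaf ⟨(nat_lit 85070591710345368281543772675676045312), [(nat_lit 82)], .kill 74 89 [] 524⟩) (.leaf ⟨(nat_lit 42568893678482666983907164963074998272), [(nat_lit 89), (nat_lit 90), (nat_lit 103)], .w 5 1548⟩))) (.node (.node (.leaf ⟨(nat_lit 34559928207320462752556333941464760320), [(nat_lit 98), (nat_lit 121)], .w 4 268⟩) (.leaf ⟨(nat_lit 2829811931582162961955093022848843776), [(nat_lit 91), (nat_lit 103), (nat_lit 112), (nat_lit 117)], .kill 78 121 [] 1292⟩)) (.node (.leaf ⟨(nat_lit 84588744323725503220730048233265430528), [(nat_lit 70)], .sq 70 121 123 1 780⟩) (.leaf ⟨(nat_lit 42559391370511811205777580882021842944), [(nat_lit 88), (nat_lit 91), (nat_lit 106), (nat_lit 109), (nat_lit 114)], .w 0 1804⟩)))) (.node (.node (.node (.leaf ⟨(nat_lit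 13297472254707693556666601099132665856), [(nat_lit 112), (nat_lit 121)], .w 3 885⟩) (.leaf ⟨(nat_lit 44653761069623863662199189811662684160), [(nat_lit 73), (nat_lit 92)], .w 3 1164⟩)) (.node (.leaf ⟨(nat_lit 85070591720330774430639774522874527744), [(nat_lit 74)], .kill 66 75 [] 652⟩) (.leaf ⟨(nat_lit 21539919308563083811577049590530048), [(nat_lit 88), (nat_lit 105), (nat_lit 106)], .w 4 1676⟩))) (.node (.node (.leaf ⟨(nat_lit 5319508210797093419693831082829938688), [(nat_lit 96), (nat_lit 111), (nat_lit 122)], .w 5 396⟩) (.leaf ⟨(nat_lit 50523746113098014158400067501910130688), [(nat_lit 72), (nat_lit 76)], .br 81 1420 1621⟩)) (.leaf ⟨(nat_lit 25515027892478557573280554750792695808), [(nat_lit 106), (nat_lit 113)], .w 5 908⟩)))) (.node (.node (.node (.node (.leaf ⟨(nat_lit 63802943797675961899382738893456539648), [(nat_lit 124)], .kill 93 125 [] 76⟩) (.leaf ⟨(nat_lit 10888409405527034116961879395917627392), [(nat_lit 86), (nat_lit 99), (nat_lit 107), (nat_lit 112)], .w 5 1100⟩)) (.node (.leaf ⟨(nat_lit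 42786960004795333614192687279595585536), [(nat_lit 79), (nat_lit 86), (nat_lit 90), (nat_lit 107)], .kill 64 108 [] 588⟩) (.leaf ⟨(nat_lit 5670820065845401565542724340436434944), [(nat_lit 89), (nat_lit 98), (nat_lit 104)], .w 1 1612⟩))) (.node (.node (.leaf ⟨(nat_lit 63814809007294098126580748035458859008), [(nat_lit 104), (nat_lit 107), (nat_lit 110), (nat_lit 113), (nat_lit 124)], .kill 73 110 [] 332⟩) (.leaf ⟨(nat_lit 58813226426908620684308649844565606400), [(nat_lit 81), (nat_lit 83)], .kill 63 82 [] 1356⟩)) (.leaf ⟨(nat_lit 58813226445470240454784678091328323584), [(nat_lit 83)], .br 91 844 1130⟩))) (.node (.node (.node (.leaf ⟨(nat_lit 85070511234421501373276656817288511488), [(nat_lit 99)], .kill 75 109 [] 204⟩) (.leaf ⟨(nat_lit 1391535558087333804446173016230985728), [(nat_lit 114), (nat_lit 115), (nat_lit 120)], .w 1 1228⟩)) (.node (.leaf ⟨(nat_lit 85070591710136489157569292887289495552), [(nat_lit 69)], .kill 85 88 [] 716⟩) (.leaf ⟨(nat_lit 171355940022002622704395935685804032), [(nat_lit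 83), (nat_lit 91), (nat_lit 103), (nat_lit 112)], .w 0 1740⟩))) (.node (.node (.leaf ⟨(nat_lit 84550376292689633288154456985148850176), [(nat_lit 92)], .kill 99 121 [] 460⟩) (.leaf ⟨(nat_lit 37384538094504221553798611912280244224), [(nat_lit 96), (nat_lit 99), (nat_lit 117)], .kill 80 123 [] 1484⟩)) (.leaf ⟨(nat_lit 667372410550314720771081455911567360), [(nat_lit 92), (nat_lit 107), (nat_lit 111), (nat_lit 119)], .rep 4⟩))))

def nodes53 : Tr (Node) :=
  .node (.node (.node (.node (.node (.leaf ⟨(nat_lit 85070510600596201259161956068936908800), [], .br 106 44 156⟩) (.leaf ⟨(nat_lit 21776503165904704603170572095073550336), [(nat_lit 82), (nat_lit 103), (nat_lit 117)], .w 2 1068⟩)) (.node (.leaf ⟨(nat_lit 74478296027174886347199585093217681408), [(nat_lit 78), (nat_lit 87)], .sq 87 94 109 1 556⟩) (.leaf ⟨(nat_lit 11133098296461388211300481280486932480), [(nat_lit 86), (nat_lit 101), (nat_lit 107), (nat_lit 109)], .w 3 1580⟩))) (.node (.node (.leaf ⟨(nat_lit 14626700260396129743853450358606004224), [(nat_lit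 93), (nat_lit 112)], .w 3 300⟩) (.leaf ⟨(nat_lit 685383195234953264527526231348871168), [(nat_lit 82), (nat_lit 93), (nat_lit 114)], .w 3 1324⟩)) (.leaf ⟨(nat_lit 85070569422833706398141582661621121024), [(nat_lit 66)], .w 3 812⟩))) (.node (.node (.node (.leaf ⟨(nat_lit 85070561306620210388338015937065123840), [(nat_lit 103)], .w 5 172⟩) (.leaf ⟨(nat_lit 332956045957066135962560276304232448), [(nat_lit 93), (nat_lit 109), (nat_lit 118)], .w 5 1196⟩)) (.node (.leaf ⟨(nat_lit 85043112059443274250651113250390802432), [(nat_lit 76)], .w 5 684⟩) (.leaf ⟨(nat_lit 53253172672095367894847922813949444096), [(nat_lit 101), (nat_lit 108), (nat_lit 109), (nat_lit 116), (nat_lit 123)], .w 2 1708⟩))) (.node (.node (.leaf ⟨(nat_lit 85069930496942031972823617239729045504), [(nat_lit 92)], .kill 93 108 [] 428⟩) (.leaf ⟨(nat_lit 8016906666490423915508436706491629568), [(nat_lit 98), (nat_lit 115)], .br 121 1452 1473⟩)) (.leaf ⟨(nat_lit 88269046595092069685018437596741632), [(nat_lit 112), (nat_lit 116)], .w 5 940⟩))))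 (.node (.node (.node (.node (.leaf ⟨(nat_lit 84883669043327362071216553990090129408), [(nat_lit 114)], .kill 70 118 [] 108⟩) (.leaf ⟨(nat_lit 58813226425663199826218593692942336000), [(nat_lit 83), (nat_lit 91)], .sq 91 95 116 1 1136⟩)) (.node (.leaf ⟨(nat_lit 5517449625558556566310365782081536), [(nat_lit 80), (nat_lit 86), (nat_lit 88), (nat_lit 99), (nat_lit 108), (nat_lit 112)], .w 3 620⟩) (.leaf ⟨(nat_lit 12007188342271847819047185110007808), [(nat_lit 89), (nat_lit 90), (nat_lit 110), (nat_lit 113)], .w 0 1700⟩))) (.node (.node (.leaf ⟨(nat_lit 5316912141595988520143903428209278976), [(nat_lit 97), (nat_lit 122)], .w 6 364⟩) (.leaf ⟨(nat_lit 56309423231386761753101760325123833856), [(nat_lit 67), (nat_lit 84)], .w 6 1397⟩)) (.leaf ⟨(nat_lit 166153499473114484112975882535043072), [(nat_lit 117)], .w 4 876⟩))) (.node (.node (.node (.leaf ⟨(nat_lit 85070551175318928876785846162632474624), [(nat_lit 93)], .kill 89 105 [] 236⟩) (.leaf ⟨(nat_lit 2720764823998729984150142123012784128), [(nat_lit 91),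 (nat_lit 100)], .w 3 1260⟩)) (.node (.leaf ⟨(nat_lit 85070591730234591368567521971657506816), [(nat_lit 68)], .sq 68 79 82 1 748⟩) (.leaf ⟨(nat_lit 176619856852162694583232597202042880), [(nat_lit 82), (nat_lit 85), (nat_lit 87), (nat_lit 99), (nat_lit 106), (nat_lit 113)], .br 117 1772 1789⟩))) (.node (.node (.leaf ⟨(nat_lit 85070509401041974598185386725083185152), [(nat_lit 83)], .sq 83 107 120 1 492⟩) (.leaf ⟨(nat_lit 27919649849723098877931340495281192960), [(nat_lit 92), (nat_lit 98), (nat_lit 104)], .w 3 1516⟩)) (.leaf ⟨(nat_lit 748015266182673605235174627428270080), [(nat_lit 108), (nat_lit 116), (nat_lit 119)], .w 2 1004⟩))))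

def nodes54 : Tr (Node) :=
  .node (.node (.node (.node (.node (.leaf ⟨(nat_lit 85070591728996675826558271583042928640), [], .br 90 28 415⟩) (.leaf ⟨(nat_lit 10888571030978563216210570225576312832), [(nat_lit 86), (nat_lit 108), (nat_lit 112)], .kill 74 117 [] 1052⟩)) (.node (.leaf ⟨(nat_lit 84945966503884619160600107892118388736), [(nat_lit 78)], .sq 78 117 121 1 540⟩) (.leaf ⟨(nat_lit 2846108847698697079140734639257157632), [(nat_lit 91), (nat_lit 106), (nat_lit 109)], .br 114 1564 1569⟩))) (.node (.node (.leaf ⟨(nat_lit 39378379454356295249039621754349158400), [(nat_lit 96), (nat_lit 117)], .w 5 284⟩) (.leaf ⟨(nat_lit 675039161380495052191333516897681408), [(nat_lit 92), (nat_lit 105), (nat_lit 119)], .br 113 1308 1314⟩)) (.node (.leaf ⟨(nat_lit 85070591730233989156160491649635450880), [(nat_lit 67)], .kill 74 76 [] 796⟩) (.leaf ⟨(nat_lit 667372410550314720771081455911567360), [(nat_lit 92), (nat_lit 107), (nat_lit 111), (nat_lit 119)], .rep 4⟩)))) (.node (.node (.node (.leaf ⟨(nat_lit 2990762990516060714033565885630775296),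 [(nat_lit 118), (nat_lit 121)], .rep 1⟩) (.leaf ⟨(nat_lit 44653760911322281138581187158937174016), [(nat_lit 73), (nat_lit 87), (nat_lit 92)], .w 5 1180⟩)) (.node (.leaf ⟨(nat_lit 85070591719229178556447806644585234432), [(nat_lit 74)], .w 3 668⟩) (.leaf ⟨(nat_lit 2778695067460435989601873022681088), [(nat_lit 92), (nat_lit 104), (nat_lit 107), (nat_lit 111)], .w 4 1692⟩))) (.node (.node (.leaf ⟨(nat_lit 85070591727758735787272891308143804416), [(nat_lit 91)], .sq 91 93 107 1 412⟩) (.leaf ⟨(nat_lit 33272890163764102967734661256862236672), [(nat_lit 98), (nat_lit 101)], .br 92 1436 1516⟩)) (.leaf ⟨(nat_lit 46805797773223314483310147856643391488), [(nat_lit 90), (nat_lit 107)], .kill 64 108 [] 924⟩)))) (.node (.node (.node (.node (.leaf ⟨(nat_lit 332306998946228968225951765070086144), [(nat_lit 118)], .w 1 92⟩) (.leaf ⟨(nat_lit 44673531189928688654683291468475400192), [(nat_lit 92), (nat_lit 98)], .kill 79 105 [] 1116⟩)) (.node (.leaf ⟨(nat_lit 42623890064479423731544624236020629504), [(nat_lit 80), (nat_lit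 86), (nat_lit 88), (nat_lit 99)], .kill 118 125 [] 604⟩) (.leaf ⟨(nat_lit 18610049032798477697091562974650302464), [(nat_lit 77), (nat_lit 88), (nat_lit 97)], .w 2 1628⟩))) (.node (.node (.leaf ⟨(nat_lit 19129070673853142151242956988080979968), [(nat_lit 93), (nat_lit 109)], .br 114 348 1188⟩) (.leaf ⟨(nat_lit 68792660821851903155770581618163449856), [(nat_lit 69), (nat_lit 77)], .sq 77 99 111 1 1372⟩)) (.leaf ⟨(nat_lit 46805797773223314483310147856643391488), [(nat_lit 90)], .br 107 860 923⟩))) (.node (.node (.node (.leaf ⟨(nat_lit 85070591611392372094447145467626127360), [(nat_lit 95)], .w 4 220⟩) (.leaf ⟨(nat_lit 21266349868249958425476051797945614336), [(nat_lit 81), (nat_lit 93)], .w 6 1244⟩)) (.node (.leaf ⟨(nat_lit 85065479363468996507476401269824815104), [(nat_lit 83)], .kill 106 119 [] 732⟩) (.leaf ⟨(nat_lit 176550769710693531499427392322011136), [(nat_lit 82), (nat_lit 83), (nat_lit 101), (nat_lit 103), (nat_lit 113)], .br 117 1756 1777⟩))) (.node (.node (.leaf ⟨(nat_lit 85070591720302081331889858558556110848),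 [(nat_lit 83)], .w 4 476⟩) (.leaf ⟨(nat_lit 88593565148750496411801593617317888), [(nat_lit 108), (nat_lit 112), (nat_lit 116)], .w 1 1500⟩)) (.leaf ⟨(nat_lit 46701150680873273689757792013633191936), [(nat_lit 90), (nat_lit 103)], .kill 86 120 [] 988⟩))))

def nodes55 : Tr (Node) :=
  .node (.node (.node (.node (.node (.leaf ⟨(nat_lit 79753679747094952374228423616820674560), [], .br 122 60 71⟩) (.leaf ⟨(nat_lit 667534667351263855563712484123607040), [(nat_lit 91), (nat_lit 108), (nat_lit 111), (nat_lit 119)], .w 0 1084⟩)) (.node (.leaf ⟨(nat_lit 42555071214635913047950750690630959104), [(nat_lit 78), (nat_lit 87)], .w 5 572⟩) (.leaf ⟨(nat_lit 21539921474958152560992530663997440), [(nat_lit 91), (nat_lit 105), (nat_lit 106), (nat_lit 109)], .w 5 1689⟩))) (.node (.node (.leaf ⟨(nat_lit 5316952706415195823484751322711851008), [(nat_lit 97), (nat_lit 105), (nat_lit 122)], .w 2 316⟩) (.leaf ⟨(nat_lit 10506293126451722421125775762653184), [(nat_lit 92), (nat_lit 105), (nat_lit 106), (nat_lit 113)], .w 2 1340⟩))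 (.leaf ⟨(nat_lit 71296464365876344500915349667316760576), [(nat_lit 70)], .br 63 828 1388⟩))) (.node (.node (.node (.leaf ⟨(nat_lit 81938663248105302039923750696904556544), [(nat_lit 96)], .w 4 188⟩) (.leaf ⟨(nat_lit 1371090889206852920658834186934681600), [(nat_lit 108), (nat_lit 115), (nat_lit 120)], .w 2 1212⟩)) (.node (.leaf ⟨(nat_lit 85070591730234303599359972102652297216), [(nat_lit 69)], .kill 66 70 [] 700⟩) (.leaf ⟨(nat_lit 1391535558087333804446173016230985728), [(nat_lit 114), (nat_lit 115), (nat_lit 120)], .w 1 1724⟩))) (.node (.node (.leaf ⟨(nat_lit 85070591700214569913173180191638290432), [(nat_lit 88)], .kill 63 89 [] 444⟩) (.leaf ⟨(nat_lit 31901472849575931120863420569255673856), [(nat_lit 98), (nat_lit 99), (nat_lit 123)], .w 4 1468⟩)) (.leaf ⟨(nat_lit 2835075214398430491859346784759316480), [(nat_lit 106), (nat_lit 113), (nat_lit 117)], .kill 78 121 [] 956⟩)))) (.node (.node (.node (.node (.leaf ⟨(nat_lit 84833044148956647501838381650880233472), [(nat_lit 110)], .w 5 124⟩) (.leaf ⟨(nat_lit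 53127591567558379108111071952829939712), [(nat_lit 73), (nat_lit 87)], .w 5 1148⟩)) (.node (.leaf ⟨(nat_lit 85070591730233558055751489057414184960), [(nat_lit 77)], .sq 77 80 91 1 636⟩) (.leaf ⟨(nat_lit 43046839785580021891057852063657492480), [(nat_lit 82), (nat_lit 85), (nat_lit 100)], .w 0 1660⟩))) (.node (.node (.leaf ⟨(nat_lit 10639021333740262723776592965384798208), [(nat_lit 102), (nat_lit 112), (nat_lit 123)], .w 3 380⟩) (.leaf ⟨(nat_lit 66934940906637401386612153743908536320), [(nat_lit 67), (nat_lit 80)], .w 1 1404⟩)) (.leaf ⟨(nat_lit 14875930499702281155739871983215575040), [(nat_lit 112), (nat_lit 116)], .kill 64 117 [] 892⟩))) (.node (.node (.node (.leaf ⟨(nat_lit 31569164919698792610031502080044171264), [(nat_lit 94)], .w 3 252⟩) (.leaf ⟨(nat_lit 1391535558087333804446173016230985728), [(nat_lit 114), (nat_lit 115), (nat_lit 120)], .w 1 1276⟩)) (.node (.leaf ⟨(nat_lit 85070580852173453672697748115035258880), [(nat_lit 70)], .w 3 764⟩) (.leaf ⟨(nat_lit 21434615263794486226304985997659602944),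 [(nat_lit 86), (nat_lit 101), (nat_lit 107), (nat_lit 109), (nat_lit 117)], .w 3 1788⟩))) (.node (.node (.leaf ⟨(nat_lit 85053978640228085947972149178580074496), [(nat_lit 84)], .w 4 508⟩) (.leaf ⟨(nat_lit 748015266182673605235174627428270080), [(nat_lit 108), (nat_lit 116), (nat_lit 119)], .w 2 1532⟩)) (.leaf ⟨(nat_lit 7970991925995263618132369351901184), [(nat_lit 92), (nat_lit 104), (nat_lit 107), (nat_lit 111), (nat_lit 112)], .dbl 52 59 104 105 [(nat_lit 105), (nat_lit 106), (nat_lit 125)] [(nat_lit 110)] 1020⟩))))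

def nodes56 : Tr (Node) :=
  .node (.node (.node (.node (.node (.leaf ⟨(nat_lit 85070591730234614685252031140530749440), [], .br 70 8 695⟩) (.leaf ⟨(nat_lit 55051733724671568705245435157523988480), [(nat_lit 85), (nat_lit 99)], .kill 77 111 [] 1032⟩)) (.node (.leaf ⟨(nat_lit 85070591730232198014204422599592640512), [(nat_lit 81)], .kill 63 82 [] 520⟩) (.leaf ⟨(nat_lit 667372410550314720771081455911567360), [(nat_lit 92), (nat_lit 107), (nat_lit 111), (nat_lit 119)], .rep 4⟩))) (.node (.node (.leaf ⟨(nat_lit 13302664551566228384295131595461885952), [(nat_lit 113)], .w 3 872⟩) (.leaf ⟨(nat_lit 1334440580004814509344282603457347584), [(nat_lit 92), (nat_lit 104), (nat_lit 112)], .w 6 1288⟩)) (.node (.leaf ⟨(nat_lit 84941820510105871499470121983652397056), [(nat_lit 70)], .w 3 776⟩) (.leaf ⟨(nat_lit 12017329547073673654259158735650816), [(nat_lit 89), (nat_lit 90), (nat_lit 103), (nat_lit 108), (nat_lit 110), (nat_lit 113)], .dbl 31 59 89 88 [(nat_lit 88), (nat_lit 91), (nat_lit 124)] [(nat_lit 111)] 1800⟩))))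 (.node (.node (.node (.leaf ⟨(nat_lit 18609840978096139074106865155965976576), [(nat_lit 109), (nat_lit 121)], .kill 66 122 [] 136⟩) (.leaf ⟨(nat_lit 52961436043434330372758656472777228288), [(nat_lit 73), (nat_lit 92)], .kill 96 118 [] 1160⟩)) (.node (.leaf ⟨(nat_lit 85070591730234606421110686118651625472), [(nat_lit 73)], .sq 73 93 94 1 648⟩) (.leaf ⟨(nat_lit 84700611470760895660521760153927680), [(nat_lit 86), (nat_lit 90), (nat_lit 100)], .w 3 1672⟩))) (.node (.node (.leaf ⟨(nat_lit 8016906369384814487017170730701815808), [(nat_lit 94), (nat_lit 115), (nat_lit 121)], .w 6 392⟩) (.leaf ⟨(nat_lit 75934827983853872152403082909413539840), [(nat_lit 68), (nat_lit 75)], .kill 121 124 [] 1416⟩)) (.leaf ⟨(nat_lit 1500573792116565184645313439144607744), [(nat_lit 112), (nat_lit 117), (nat_lit 120)], .w 3 904⟩)))) (.node (.node (.node (.node (.leaf ⟨(nat_lit 79753679747094952374228423616820674560), [(nat_lit 122)], .kill 69 123 [] 72⟩) (.leaf ⟨(nat_lit 5379220179886351556914985082873184256), [(nat_lit 89),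 (nat_lit 99), (nat_lit 114), (nat_lit 115)], .w 4 1096⟩)) (.node (.leaf ⟨(nat_lit 42786797745518504400829295701585297408), [(nat_lit 79), (nat_lit 86), (nat_lit 90)], .w 0 584⟩) (.leaf ⟨(nat_lit 21779102167785762569786370985719496704), [(nat_lit 82), (nat_lit 98), (nat_lit 101)], .sq 90 98 118 2 1608⟩))) (.node (.node (.leaf ⟨(nat_lit 44035911489703680649137388759321411584), [(nat_lit 100), (nat_lit 105), (nat_lit 112), (nat_lit 117), (nat_lit 120)], .w 5 328⟩) (.leaf ⟨(nat_lit 58190143099006483958514124332782845952), [(nat_lit 72), (nat_lit 74)], .sq 72 94 98 1 1367⟩)) (.leaf ⟨(nat_lit 53127591567403636603200399418467549184), [(nat_lit 73)], .br 89 840 1150⟩))) (.node (.node (.node (.leaf ⟨(nat_lit 85070383835536178436221806398616371200), [(nat_lit 102)], .w 6 200⟩) (.leaf ⟨(nat_lit 5483714519720094829181770435697573888), [(nat_lit 109), (nat_lit 117), (nat_lit 122)], .w 5 1224⟩)) (.node (.leaf ⟨(nat_lit 85070591710426631354276803889218977792), [(nat_lit 69)], .sq 69 84 87 1 712⟩) (.leaf ⟨(nat_lit 166805071959607509390488769751154688),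 [(nat_lit 79), (nat_lit 86), (nat_lit 101), (nat_lit 109)], .w 3 1736⟩))) (.node (.node (.leaf ⟨(nat_lit 85070255015650432904461072930112012288), [(nat_lit 92)], .kill 94 114 [] 456⟩) (.leaf ⟨(nat_lit 748015266182673605235174627428270080), [(nat_lit 108), (nat_lit 116), (nat_lit 119)], .w 2 1480⟩)) (.leaf ⟨(nat_lit 667534667351263855563712484123607040), [(nat_lit 91), (nat_lit 108), (nat_lit 111)], .br 119 968 970⟩))))

def nodes57 : Tr (Node) :=
  .node (.node (.node (.node (.node (.leaf ⟨(nat_lit 85070586659632214952926045871129231360), [], .br 102 40 197⟩) (.leaf ⟨(nat_lit 21548032596749670475794719031313825792), [(nat_lit 82), (nat_lit 99), (nat_lit 113)], .kill 64 114 [] 1064⟩)) (.node (.leaf ⟨(nat_lit 74478296026710658832467567490130509824), [(nat_lit 78), (nat_lit 89)], .sq 89 94 111 1 560⟩) (.leaf ⟨(nat_lit 667372410550314720771081455911567360), [(nat_lit 92), (nat_lit 107), (nat_lit 111), (nat_lit 119)], .rep 4⟩))) (.node (.node (.leaf ⟨(nat_lit 19491882416843263231786525419085234176), [(nat_lit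 93), (nat_lit 113)], .w 6 296⟩) (.leaf ⟨(nat_lit 1256535849673784303665880827563081728), [(nat_lit 82), (nat_lit 93), (nat_lit 113)], .w 5 1320⟩)) (.leaf ⟨(nat_lit 85070591627203555621871032873867280384), [(nat_lit 70)], .sq 70 99 103 1 808⟩))) (.node (.node (.node (.leaf ⟨(nat_lit 84023776005770945851922886324568195072), [(nat_lit 106)], .kill 86 122 [] 168⟩) (.leaf ⟨(nat_lit 18775994487472773872502883237694013440), [(nat_lit 93), (nat_lit 109), (nat_lit 117)], .w 4 1192⟩)) (.node (.leaf ⟨(nat_lit 85070475405259858516151707594152476672), [(nat_lit 77)], .kill 99 111 [] 680⟩) (.leaf ⟨(nat_lit 42622510226413010115744799109500895232), [(nat_lit 106), (nat_lit 107), (nat_lit 110), (nat_lit 111), (nat_lit 116)], .w 1 1704⟩))) (.node (.node (.leaf ⟨(nat_lit 85070591022132913394606134615642996736), [(nat_lit 92)], .sq 92 96 118 1 424⟩) (.leaf ⟨(nat_lit 26584570373815769340968703553408335872), [(nat_lit 98), (nat_lit 103)], .w 2 1448⟩)) (.leaf ⟨(nat_lit 2835075214398430491859346784759316480), [(nat_lit 106),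 (nat_lit 113)], .br 117 936 955⟩)))) (.node (.node (.node (.node (.leaf ⟨(nat_lit 85055014839659011382958060368954392576), [(nat_lit 112)], .w 6 104⟩) (.leaf ⟨(nat_lit 51028901713034353777139746777591709696), [(nat_lit 87), (nat_lit 92)], .sq 92 95 117 1 1128⟩)) (.node (.leaf ⟨(nat_lit 88594199360906872803183677874896896), [(nat_lit 86), (nat_lit 88), (nat_lit 99), (nat_lit 112), (nat_lit 116)], .w 4 616⟩) (.leaf ⟨(nat_lit 21600768084799087929574234968293376), [(nat_lit 89), (nat_lit 90), (nat_lit 104)], .br 107 1640 1641⟩))) (.node (.node (.leaf ⟨(nat_lit 166153519280155112679060280921030656), [(nat_lit 94), (nat_lit 117)], .w 1 360⟩) (.leaf ⟨(nat_lit 60670946056323096274177316942996570112), [(nat_lit 67), (nat_lit 75)], .w 1 1384⟩)) (.leaf ⟨(nat_lit 8016906349577773858451086332315828224), [(nat_lit 115)], .w 6 872⟩))) (.node (.node (.node (.leaf ⟨(nat_lit 85070586679439255581492130269515218944), [(nat_lit 94)], .kill 82 102 [] 232⟩) (.leaf ⟨(nat_lit 1246151265932770511868739784580005888), [(nat_lit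 86), (nat_lit 94)], .br 116 1256 1297⟩)) (.node (.leaf ⟨(nat_lit 85070591730234615127973888909559988224), [(nat_lit 67)], .kill 63 68 [] 744⟩) (.leaf ⟨(nat_lit 44460311977684768369454421320400896), [(nat_lit 91), (nat_lit 100), (nat_lit 108), (nat_lit 111), (nat_lit 115)], .w 5 1768⟩))) (.node (.node (.leaf ⟨(nat_lit 85070591277960959638175502050265137152), [(nat_lit 85)], .kill 93 101 [] 488⟩) (.leaf ⟨(nat_lit 42786635486241070724556096808987656192), [(nat_lit 86), (nat_lit 90), (nat_lit 107)], .w 0 1512⟩)) (.leaf ⟨(nat_lit 667372410550314720771081455911567360), [(nat_lit 92), (nat_lit 107), (nat_lit 119)], .br 111 1000 1688⟩))))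

def nodes58 : Tr (Node) :=
  .node (.node (.node (.node (.node (.leaf ⟨(nat_lit 85070591730157244613388315590760857600), [], .br 86 24 470⟩) (.leaf ⟨(nat_lit 14626700567405259486627758533588811776), [(nat_lit 98), (nat_lit 112)], .w 3 1048⟩)) (.node (.leaf ⟨(nat_lit 85070589234393056393061248784238903296), [(nat_lit 78)], .kill 97 101 [] 536⟩) (.leaf ⟨(nat_lit 21776505701205905059629375088479961088), [(nat_lit 82), (nat_lit 101), (nat_lit 103)], .w 2 1560⟩))) (.node (.node (.leaf ⟨(nat_lit 31735318419171907094144477962579214336), [(nat_lit 94), (nat_lit 117)], .kill 66 118 [] 280⟩) (.leaf ⟨(nat_lit 2829811931582162961955093022848843776), [(nat_lit 91), (nat_lit 103), (nat_lit 117)], .kill 78 121 [] 1304⟩)) (.node (.leaf ⟨(nat_lit 85070591730234614998846680393593126912), [(nat_lit 68)], .kill 69 72 [] 792⟩) (.leaf ⟨(nat_lit 43906064776023463040454201052888039424), [(nat_lit 92), (nat_lit 101), (nat_lit 115), (nat_lit 120)], .w 6 1816⟩)))) (.node (.node (.node (.leaf ⟨(nat_lit 10636420114708594397044721730407366656),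 [(nat_lit 111), (nat_lit 123)], .w 4 152⟩) (.leaf ⟨(nat_lit 42564948750743211763473742428874211328), [(nat_lit 88), (nat_lit 91), (nat_lit 105)], .kill 67 108 [] 1176⟩)) (.node (.leaf ⟨(nat_lit 85070591717154189613340816016268066816), [(nat_lit 77)], .w 6 664⟩) (.leaf ⟨(nat_lit 768459935063154489022513456724574208), [(nat_lit 114), (nat_lit 116), (nat_lit 119)], .rep 3⟩))) (.node (.node (.leaf ⟨(nat_lit 85070591715379335394419088559152562176), [(nat_lit 92)], .sq 92 94 114 1 408⟩) (.leaf ⟨(nat_lit 42786797745517899937919488386997944320), [(nat_lit 86), (nat_lit 90)], .w 0 1432⟩)) (.leaf ⟨(nat_lit 24113837907419885573712582842949566464), [(nat_lit 107), (nat_lit 109)], .kill 92 124 [] 920⟩)))) (.node (.node (.node (.node (.leaf ⟨(nat_lit 47519900849310742456311102405022318592), [(nat_lit 118)], .kill 99 125 [] 88⟩) (.leaf ⟨(nat_lit 667372410550314720771081455911567360), [(nat_lit 92), (nat_lit 107), (nat_lit 111), (nat_lit 119)], .rep 4⟩)) (.node (.leaf ⟨(nat_lit 42743722979322003578824149867975147520),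 [(nat_lit 79), (nat_lit 85), (nat_lit 91), (nat_lit 102)], .w 6 600⟩) (.leaf ⟨(nat_lit 50523745994255770387003561111594205184), [(nat_lit 72), (nat_lit 76), (nat_lit 81)], .w 0 1624⟩))) (.node (.node (.leaf ⟨(nat_lit 21196253860657320400851660839151730688), [(nat_lit 93), (nat_lit 110)], .kill 72 117 [] 344⟩) (.leaf ⟨(nat_lit 58190143079199443329948039934396858368), [(nat_lit 72), (nat_lit 74)], .w 2 1368⟩)) (.leaf ⟨(nat_lit 46095725826044612279805952824457560064), [(nat_lit 91)], .br 102 856 1024⟩))) (.node (.node (.node (.leaf ⟨(nat_lit 85070591700524054922994525260363071488), [(nat_lit 93)], .w 2 216⟩) (.leaf ⟨(nat_lit 21266998905363319908027691255860297728), [(nat_lit 80), (nat_lit 93)], .kill 64 81 [] 1240⟩)) (.node (.leaf ⟨(nat_lit 85065367800430288487206879146905960448), [(nat_lit 79)], .kill 98 105 [] 728⟩) (.leaf ⟨(nat_lit 176619856852162694583232597202042880), [(nat_lit 82), (nat_lit 85), (nat_lit 87), (nat_lit 99), (nat_lit 106)], .br 113 1752 1771⟩))) (.node (.node (.leaf ⟨(nat_lit 85070591730195930239615983724351455232),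 [(nat_lit 85)], .sq 85 93 101 1 478⟩) (.leaf ⟨(nat_lit 10719253475529907819056122304659456), [(nat_lit 103), (nat_lit 108), (nat_lit 113)], .w 5 1496⟩)) (.leaf ⟨(nat_lit 46805493537079259708253788647874101248), [(nat_lit 90), (nat_lit 104)], .kill 73 110 [] 984⟩))))

def nodes59 : Tr (Node) :=
  .node (.node (.node (.node (.node (.leaf ⟨(nat_lit 84738284731288386897617700092871966720), [], .br 118 56 84⟩) (.leaf ⟨(nat_lit 747690752580775335649912571004190720), [(nat_lit 92), (nat_lit 116), (nat_lit 119)], .w 0 1080⟩)) (.node (.leaf ⟨(nat_lit 74477312305859793465297763222272606208), [(nat_lit 78), (nat_lit 87)], .sq 87 114 124 1 568⟩) (.leaf ⟨(nat_lit 21600768084799087929574234968293376), [(nat_lit 89), (nat_lit 90), (nat_lit 104), (nat_lit 109)], .br 107 1592 1644⟩))) (.node (.node (.leaf ⟨(nat_lit 166315778556984326042451858931318784), [(nat_lit 94), (nat_lit 107), (nat_lit 117)], .w 1 312⟩) (.leaf ⟨(nat_lit 2920748686968433376146547527385088), [(nat_lit 91), (nat_lit 96), (nat_lit 108), (nat_lit 111)],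 .w 5 1336⟩)) (.leaf ⟨(nat_lit 84884660856406635187035682156333498368), [(nat_lit 66)], .w 3 824⟩))) (.node (.node (.node (.leaf ⟨(nat_lit 84259630005847009301447756936147632128), [(nat_lit 103)], .kill 86 120 [] 184⟩) (.leaf ⟨(nat_lit 176619222828598746051732664198627328), [(nat_lit 106), (nat_lit 113), (nat_lit 117)], .w 3 1208⟩)) (.node (.leaf ⟨(nat_lit 85070591730234614685252031140530749440), [(nat_lit 70)], .sq 70 73 75 1 696⟩) (.leaf ⟨(nat_lit 45526707892740685500408958126642954240), [(nat_lit 109), (nat_lit 118), (nat_lit 121)], .kill 96 125 [] 1720⟩))) (.node (.node (.leaf ⟨(nat_lit 85070591730079873360932979323579662336), [(nat_lit 87)], .sq 87 93 103 1 440⟩) (.leaf ⟨(nat_lit 841152091082642075821940405333655552), [(nat_lit 113), (nat_lit 117), (nat_lit 119)], .w 3 1464⟩)) (.leaf ⟨(nat_lit 2845540938991854793083483841322024960), [(nat_lit 90), (nat_lit 107), (nat_lit 114)], .kill 69 117 [] 952⟩)))) (.node (.node (.node (.node (.leaf ⟨(nat_lit 85057610988088278796772325617119002624), [(nat_lit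 111)], .kill 67 114 [] 120⟩) (.leaf ⟨(nat_lit 50862746193243095179286162259685933056), [(nat_lit 87), (nat_lit 92)], .kill 96 118 [] 1144⟩)) (.node (.leaf ⟨(nat_lit 21381960227379198113095456540871098368), [(nat_lit 82), (nat_lit 87), (nat_lit 88), (nat_lit 99), (nat_lit 106), (nat_lit 113), (nat_lit 114), (nat_lit 116)], .w 0 632⟩) (.leaf ⟨(nat_lit 54667180031488175196192844111719432192), [(nat_lit 68), (nat_lit 75), (nat_lit 97)], .w 3 1656⟩))) (.node (.node (.leaf ⟨(nat_lit 10654593193327547550876747264331612160), [(nat_lit 95), (nat_lit 114), (nat_lit 123)], .w 4 376⟩) (.leaf ⟨(nat_lit 66934941541120354932987923918154104832), [(nat_lit 68), (nat_lit 80)], .kill 83 86 [] 1400⟩)) (.leaf ⟨(nat_lit 2741532741306388987864102061828210688), [(nat_lit 116), (nat_lit 121)], .w 4 888⟩))) (.node (.node (.node (.leaf ⟨(nat_lit 21226109567593895659715711193044746240), [(nat_lit 93)], .w 2 248⟩) (.leaf ⟨(nat_lit 1349997183219055183417929045597224960), [(nat_lit 114), (nat_lit 120)], .w 3 1272⟩)) (.node (.leaf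 ⟨(nat_lit 85070591708907598205482758980354703360), [(nat_lit 70)], .kill 86 91 [] 760⟩) (.leaf ⟨(nat_lit 42910119865852847361144335390589583360), [(nat_lit 85), (nat_lit 89), (nat_lit 102), (nat_lit 108), (nat_lit 109), (nat_lit 115), (nat_lit 118)], .w 4 1784⟩))) (.node (.node (.leaf ⟨(nat_lit 84984793059275738313606541530223345664), [(nat_lit 89)], .w 3 504⟩) (.leaf ⟨(nat_lit 664654567663425396934272524239241216), [(nat_lit 92), (nat_lit 105), (nat_lit 119)], .w 4 1528⟩)) (.leaf ⟨(nat_lit 10506293126451722421125775762653184), [(nat_lit 92), (nat_lit 105), (nat_lit 106), (nat_lit 113)], .w 2 1016⟩))))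

def nodes60 : Tr (Node) :=
  .node (.node (.node (.node (.node (.leaf ⟨(nat_lit 85070591730234313634388748200648376320), [], .br 78 16 513⟩) (.leaf ⟨(nat_lit 21537648003032600820537658038655385600), [(nat_lit 82), (nat_lit 99)], .w 4 1040⟩)) (.node (.leaf ⟨(nat_lit 85070591670630946181383589657403457536), [(nat_lit 80)], .kill 76 90 [] 528⟩) (.leaf ⟨(nat_lit 42568082382098520917090207073023557632), [(nat_lit 89), (nat_lit 90), (nat_lit 103)], .sq 103 114 125 1 1552⟩))) (.node (.node (.leaf ⟨(nat_lit 31901476969440381862608975433541091328), [(nat_lit 102), (nat_lit 123)], .w 3 272⟩) (.leaf ⟨(nat_lit 44296787526135405347421896405155840), [(nat_lit 92), (nat_lit 107), (nat_lit 111), (nat_lit 115)], .w 1 1296⟩)) (.node (.leaf ⟨(nat_lit 85070591730234615736716443341975191552), [(nat_lit 64)], .w 6 788⟩) (.leaf ⟨(nat_lit 21279452299899739395789171364330471424), [(nat_lit 92), (nat_lit 105), (nat_lit 106), (nat_lit 110), (nat_lit 113)], .kill 88 124 [] 1808⟩)))) (.node (.node (.node (.leaf ⟨(nat_lit 18775994477569253558219841038501019648),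 [(nat_lit 109), (nat_lit 117)], .w 4 144⟩) (.leaf ⟨(nat_lit 42555071219587370973637368132933779456), [(nat_lit 87), (nat_lit 92)], .br 104 1168 1172⟩)) (.node (.leaf ⟨(nat_lit 85070591720330075520400309815382900736), [(nat_lit 75)], .w 5 656⟩) (.leaf ⟨(nat_lit 10506293126451722421125775762653184), [(nat_lit 92), (nat_lit 105), (nat_lit 106)], .w 2 1680⟩))) (.node (.node (.leaf ⟨(nat_lit 176619222828598746051732664198627328), [(nat_lit 106), (nat_lit 113), (nat_lit 117)], .w 3 400⟩) (.leaf ⟨(nat_lit 43046840419250428384534428448999866368), [(nat_lit 82), (nat_lit 85)], .w 3 1424⟩)) (.leaf ⟨(nat_lit 24102723146957084458320259749244829696), [(nat_lit 106), (nat_lit 113)], .kill 88 124 [] 935⟩)))) (.node (.node (.node (.node (.leaf ⟨(nat_lit 84945976605629780002758919946040770560), [(nat_lit 115)], .w 6 80⟩) (.leaf ⟨(nat_lit 52248121583276836769479005113942016), [(nat_lit 89), (nat_lit 99), (nat_lit 108), (nat_lit 115)], .w 4 1104⟩)) (.node (.leaf ⟨(nat_lit 21688898373172265505374615142028804096), [(nat_lit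 80), (nat_lit 92), (nat_lit 102), (nat_lit 104)], .w 5 592⟩) (.leaf ⟨(nat_lit 21768717255918102818186579343986130944), [(nat_lit 82), (nat_lit 101), (nat_lit 111)], .w 2 1616⟩))) (.node (.node (.leaf ⟨(nat_lit 21266998905354857427290388851637354496), [(nat_lit 93), (nat_lit 109)], .kill 64 110 [] 336⟩) (.leaf ⟨(nat_lit 68792661146195858004930920486419824640), [(nat_lit 69), (nat_lit 75)], .w 2 1360⟩)) (.leaf ⟨(nat_lit 51028901708082593619998225677995212800), [(nat_lit 87)], .w 5 848⟩))) (.node (.node (.node (.leaf ⟨(nat_lit 84733660975724054430875740867930357760), [(nat_lit 99)], .kill 90 119 [] 208⟩) (.leaf ⟨(nat_lit 53127591449025922577990814288532471808), [(nat_lit 73), (nat_lit 78)], .w 0 1232⟩)) (.node (.leaf ⟨(nat_lit 85070590401943352642743687387639971840), [(nat_lit 69)], .sq 69 101 104 1 720⟩) (.leaf ⟨(nat_lit 44460311977684768369454421320400896), [(nat_lit 91), (nat_lit 100), (nat_lit 108), (nat_lit 111)], .w 5 1744⟩))) (.node (.node (.leaf ⟨(nat_lit 44673536419142157101040245176738512896),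 [(nat_lit 92)], .br 87 851 464⟩) (.leaf ⟨(nat_lit 332308306210910453587522058545266688), [(nat_lit 95), (nat_lit 100), (nat_lit 118)], .w 5 1488⟩)) (.leaf ⟨(nat_lit 166964797095200590215314047485607936), [(nat_lit 90), (nat_lit 107), (nat_lit 109), (nat_lit 117)], .w 5 976⟩))))

def nodes61 : Tr (Node) :=
  .node (.node (.node (.node (.node (.leaf ⟨(nat_lit 85069293656019982158936519233859747840), [], .br 110 48 116⟩) (.leaf ⟨(nat_lit 10722417531505448732097594343041269760), [(nat_lit 86), (nat_lit 112), (nat_lit 116)], .w 3 1072⟩)) (.node (.leaf ⟨(nat_lit 74478296006594133194080138023019741184), [(nat_lit 78), (nat_lit 88)], .w 6 560⟩) (.leaf ⟨(nat_lit 43046838517929270547100998738307448832), [(nat_lit 82), (nat_lit 85), (nat_lit 87), (nat_lit 104)], .kill 66 106 [] 1584⟩))) (.node (.node (.leaf ⟨(nat_lit 6687678373599898614113363670421471232), [(nat_lit 94), (nat_lit 115), (nat_lit 120)], .w 5 391⟩) (.leaf ⟨(nat_lit 685383267030639839801123658799251456), [(nat_lit 91), (nat_lit 96), (nat_lit 114)],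 .w 3 1328⟩)) (.leaf ⟨(nat_lit 85070498653054380221917741438327586816), [(nat_lit 80)], .sq 80 110 119 1 816⟩))) (.node (.node (.node (.leaf ⟨(nat_lit 85070388906138579349139412385429192704), [(nat_lit 105)], .kill 67 108 [] 176⟩) (.leaf ⟨(nat_lit 5316952567765911423522160534009937920), [(nat_lit 94), (nat_lit 105), (nat_lit 122)], .w 3 1200⟩)) (.node (.leaf ⟨(nat_lit 85060217247857356264849873103551987712), [(nat_lit 73)], .kill 107 113 [] 688⟩) (.leaf ⟨(nat_lit 53336572672734983335401792414534336512), [(nat_lit 100), (nat_lit 110), (nat_lit 123)], .w 4 1712⟩))) (.node (.node (.leaf ⟨(nat_lit 84550376292534890783243784450786459648), [(nat_lit 92)], .kill 99 121 [] 432⟩) (.leaf ⟨(nat_lit 999517145267954318492120543374868480), [(nat_lit 111), (nat_lit 119)], .w 4 1456⟩)) (.leaf ⟨(nat_lit 2741532741306388987864102061828210688), [(nat_lit 116), (nat_lit 121)], .w 4 944⟩)))) (.node (.node (.node (.node (.leaf ⟨(nat_lit 83995786280517906546737839117793492992), [(nat_lit 112)], .kill 82 122 [] 112⟩) (.leaf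 ⟨(nat_lit 58813226384811178529801044621271236608), [(nat_lit 83), (nat_lit 90)], .w 6 1136⟩)) (.node (.leaf ⟨(nat_lit 62470455426307923773521607457243136), [(nat_lit 81), (nat_lit 84), (nat_lit 99), (nat_lit 107), (nat_lit 114), (nat_lit 115)], .w 3 624⟩) (.leaf ⟨(nat_lit 11804362544067777097409834610851840), [(nat_lit 87), (nat_lit 105), (nat_lit 106), (nat_lit 110), (nat_lit 113)], .w 5 1728⟩))) (.node (.node (.leaf ⟨(nat_lit 21267653003161054879378518951298334720), [(nat_lit 102), (nat_lit 124)], .w 3 368⟩) (.leaf ⟨(nat_lit 68792661156099453886301060636791013376), [(nat_lit 63), (nat_lit 69)], .w 5 1392⟩)) (.leaf ⟨(nat_lit 21267647932558653966460912964485513216), [(nat_lit 124)], .w 0 880⟩))) (.node (.node (.node (.leaf ⟨(nat_lit 85069942703030819326673127745093894144), [(nat_lit 93)], .sq 93 124 125 1 240⟩) (.leaf ⟨(nat_lit 2825420787427092296737547893147172864), [(nat_lit 107), (nat_lit 109)], .br 117 1264 1277⟩)) (.node (.leaf ⟨(nat_lit 85070591730233952447139784967627735040), [(nat_lit 66)], .sq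 66 95 96 1 752⟩) (.leaf ⟨(nat_lit 88294399617976966649580034233204736), [(nat_lit 80), (nat_lit 83), (nat_lit 102), (nat_lit 104), (nat_lit 112), (nat_lit 116)], .w 5 1776⟩))) (.node (.node (.leaf ⟨(nat_lit 85070248954812057441922251424771604480), [(nat_lit 87)], .w 5 496⟩) (.leaf ⟨(nat_lit 1370769227818805164589725498092814336), [(nat_lit 92), (nat_lit 98), (nat_lit 101)], .br 115 1520 1533⟩)) (.leaf ⟨(nat_lit 8123107522142572575551423938297856), [(nat_lit 91), (nat_lit 103), (nat_lit 108)], .w 5 1008⟩))))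

def nodes62 : Tr (Node) :=
  .node (.node (.node (.node (.node (.leaf ⟨(nat_lit 85070591710427575237277567459556065280), [], .br 94 32 216⟩) (.leaf ⟨(nat_lit 675323110782156038078437816268750848), [(nat_lit 89), (nat_lit 108), (nat_lit 119)], .br 113 1056 1082⟩)) (.node (.leaf ⟨(nat_lit 82453664011787901898905469654092742656), [(nat_lit 78)], .kill 117 121 [] 544⟩) (.leaf ⟨(nat_lit 667372410550314720771081455911567360), [(nat_lit 92), (nat_lit 107), (nat_lit 111)], .br 119 1568 1688⟩))) (.node (.node (.leaf ⟨(nat_lit 21262455645603639453115424667349286912), [(nat_lit 93), (nat_lit 112)], .kill 63 113 [] 288⟩) (.leaf ⟨(nat_lit 747690752580775335649912571004190720), [(nat_lit 92), (nat_lit 116), (nat_lit 119)], .w 0 1312⟩)) (.leaf ⟨(nat_lit 85070591690607743082968450646792994816), [(nat_lit 67)], .kill 83 85 [] 800⟩))) (.node (.node (.node (.leaf ⟨(nat_lit 85070104952404128225753477123911188480), [(nat_lit 107)], .w 5 160⟩) (.leaf ⟨(nat_lit 27623141001756988181383121853923459072), [(nat_lit 94), (nat_lit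 105), (nat_lit 106)], .w 2 1184⟩)) (.node (.leaf ⟨(nat_lit 85070561276755218616766086201707855872), [(nat_lit 73)], .sq 73 105 111 1 672⟩) (.leaf ⟨(nat_lit 667372410550314720771081455911567360), [(nat_lit 92), (nat_lit 107), (nat_lit 111), (nat_lit 119)], .rep 4⟩))) (.node (.node (.leaf ⟨(nat_lit 85070591728996675826558271583042928640), [(nat_lit 90)], .sq 90 93 106 1 416⟩) (.leaf ⟨(nat_lit 37311846017712896481263522557215113216), [(nat_lit 97), (nat_lit 99)], .w 5 1440⟩)) (.leaf ⟨(nat_lit 46784217289405029105979067981275070464), [(nat_lit 90), (nat_lit 108)], .kill 74 117 [] 928⟩)))) (.node (.node (.node (.node (.leaf ⟨(nat_lit 42535295865117307932921825928971026432), [(nat_lit 125)], .rep 0⟩) (.leaf ⟨(nat_lit 46095634634429558361553382655370723328), [(nat_lit 91), (nat_lit 96)], .w 4 1120⟩)) (.node (.leaf ⟨(nat_lit 171361008150941308690470631049789440), [(nat_lit 81), (nat_lit 83), (nat_lit 102), (nat_lit 103)], .w 6 1733⟩) (.leaf ⟨(nat_lit 43046838517929270547100998738307448832), [(nat_lit 82), (nat_lit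 85), (nat_lit 104)], .kill 66 106 [] 1632⟩))) (.node (.node (.leaf ⟨(nat_lit 15951384996429827642582293234598281216), [(nat_lit 93), (nat_lit 109)], .w 5 352⟩) (.leaf ⟨(nat_lit 72553465021658477759791996143224750080), [(nat_lit 71), (nat_lit 77)], .kill 101 114 [] 1376⟩)) (.leaf ⟨(nat_lit 25537095154127330590701809360191881216), [(nat_lit 106)], .br 110 864 914⟩))) (.node (.node (.node (.leaf ⟨(nat_lit 85070591254865640780257626296678350848), [(nat_lit 97)], .w 6 224⟩) (.leaf ⟨(nat_lit 21218321122310929121551373965249740800), [(nat_lit 82), (nat_lit 93)], .kill 109 120 [] 1248⟩)) (.node (.leaf ⟨(nat_lit 84774703014762833397706629891009544192), [(nat_lit 74)], .w 2 736⟩) (.leaf ⟨(nat_lit 11692809755777439096999385109626880), [(nat_lit 78), (nat_lit 89), (nat_lit 103), (nat_lit 110), (nat_lit 113)], .w 4 1760⟩))) (.node (.node (.leaf ⟨(nat_lit 85070591720215038672877605257977266176), [(nat_lit 85)], .w 6 480⟩) (.leaf ⟨(nat_lit 768459935063154489022513456724574208), [(nat_lit 114), (nat_lit 116), (nat_lit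 119)], .rep 3⟩)) (.leaf ⟨(nat_lit 2832408080011430375769358271013453824), [(nat_lit 91), (nat_lit 103)], .br 111 1260 992⟩))))

def nodes63 : Tr (Node) :=
  .node (.node (.node (.node (.node (.leaf ⟨(nat_lit 0), [], .one⟩) (.leaf ⟨(nat_lit 10888571664803863330325270973927915520), [(nat_lit 86), (nat_lit 99), (nat_lit 112)], .br 108 1088 1100⟩)) (.node (.leaf ⟨(nat_lit 42815714123292006232898610450032230400), [(nat_lit 83), (nat_lit 90)], .w 6 576⟩) (.leaf ⟨(nat_lit 43046758655941456168648704446005510144), [(nat_lit 82), (nat_lit 85), (nat_lit 87), (nat_lit 100)], .w 4 1600⟩))) (.node (.node (.leaf ⟨(nat_lit 176619222828598746051732664198627328), [(nat_lit 106), (nat_lit 113), (nat_lit 117)], .w 3 320⟩) (.leaf ⟨(nat_lit 768459944971510506584014172616392704), [(nat_lit 82), (nat_lit 93), (nat_lit 114), (nat_lit 116), (nat_lit 119)], .dbl 38 40 93 98 [(nat_lit 98), (nat_lit 101), (nat_lit 125)] [(nat_lit 103)] 1344⟩)) (.leaf ⟨(nat_lit 68792661156099453877077688599936237568), [(nat_lit 69)], .br 75 832 1357⟩)))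 (.node (.node (.node (.leaf ⟨(nat_lit 85070591096409315751728951109590450176), [(nat_lit 99)], .kill 66 100 [] 192⟩) (.leaf ⟨(nat_lit 45527033045119644041250442031015133184), [(nat_lit 99), (nat_lit 108), (nat_lit 109), (nat_lit 118), (nat_lit 121)], .w 4 1216⟩)) (.node (.leaf ⟨(nat_lit 85070591730234301828472541026535342080), [(nat_lit 71)], .kill 63 72 [] 704⟩) (.leaf ⟨(nat_lit 21438508807969874566182656958005248), [(nat_lit 89), (nat_lit 90), (nat_lit 104), (nat_lit 109), (nat_lit 114)], .w 0 1728⟩))) (.node (.node (.leaf ⟨(nat_lit 85070591618201042310516736979571310592), [(nat_lit 89)], .w 4 448⟩) (.leaf ⟨(nat_lit 15952034340546274238810167721622241280), [(nat_lit 98), (nat_lit 110), (nat_lit 122)], .w 4 1472⟩)) (.leaf ⟨(nat_lit 1334744811197109127259120712630140928), [(nat_lit 108), (nat_lit 112), (nat_lit 120)], .w 3 960⟩)))) (.node (.node (.node (.node (.leaf ⟨(nat_lit 61664366529066929769881740717859012608), [(nat_lit 109)], .kill 108 125 [] 128⟩) (.leaf ⟨(nat_lit 53127591564927756524629638868669300736),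 [(nat_lit 73), (nat_lit 89)], .sq 89 96 116 1 1152⟩)) (.node (.leaf ⟨(nat_lit 85070591730234238076525022286324957184), [(nat_lit 76)], .sq 76 79 88 1 640⟩) (.leaf ⟨(nat_lit 43046758655941456168648704446005510144), [(nat_lit 82), (nat_lit 85), (nat_lit 100)], .w 4 1664⟩))) (.node (.node (.leaf ⟨(nat_lit 1391535558087333804446173016230985728), [(nat_lit 114), (nat_lit 115), (nat_lit 120)], .w 1 384⟩) (.leaf ⟨(nat_lit 76576985867851644018134263383594106880), [(nat_lit 66), (nat_lit 76)], .kill 93 97 [] 1408⟩)) (.leaf ⟨(nat_lit 1500573792116565184645313439144607744), [(nat_lit 112), (nat_lit 117)], .br 120 896 903⟩))) (.node (.node (.node (.leaf ⟨(nat_lit 41247606561113320738103613213500243968), [(nat_lit 98)], .br 115 256 285⟩) (.leaf ⟨(nat_lit 84699342504849375690403721370402816), [(nat_lit 108), (nat_lit 110), (nat_lit 116)], .w 4 1280⟩)) (.node (.leaf ⟨(nat_lit 85070580099605444876433415564653756416), [(nat_lit 80)], .sq 80 98 107 1 768⟩) (.leaf ⟨(nat_lit 42732633570608484009432376535353917440), [(nat_lit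 82), (nat_lit 83), (nat_lit 90), (nat_lit 103), (nat_lit 104), (nat_lit 113), (nat_lit 114), (nat_lit 117)], .kill 64 104 [] 1792⟩))) (.node (.node (.leaf ⟨(nat_lit 82739330370836666206338585451273650176), [(nat_lit 83)], .kill 108 121 [] 512⟩) (.leaf ⟨(nat_lit 83081983747043340644290214764740608), [(nat_lit 92), (nat_lit 97), (nat_lit 102), (nat_lit 116)], .w 1 1536⟩)) (.leaf ⟨(nat_lit 44673533408317239054084744087706009600), [(nat_lit 92), (nat_lit 102)], .w 5 1024⟩))))

def nodes : Tr (Node) :=
  (.node (.node (.node (.node (.node (.node nodes0 nodes1) (.node nodes2 nodes3)) (.node (.node nodes4 nodes5) (.node nodes6 nodes7))) (.node (.node (.node nodes8 nodes9) (.node nodes10 nodes11)) (.node (.node nodes12 nodes13) (.node nodes14 nodes15)))) (.node (.node (.node (.node nodes16 nodes17) (.node nodes18 nodes19)) (.node (.node nodes20 nodes21) (.node nodes22 nodes23))) (.node (.node (.node nodes24 nodes25) (.node nodes26 nodes27)) (.node (.node nodes28 nodes29) (.node nodes30 nodes31))))) (.node (.node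 (.node (.node (.node nodes32 nodes33) (.node nodes34 nodes35)) (.node (.node nodes36 nodes37) (.node nodes38 nodes39))) (.node (.node (.node nodes40 nodes41) (.node nodes42 nodes43)) (.node (.node nodes44 nodes45) (.node nodes46 nodes47)))) (.node (.node (.node (.node nodes48 nodes49) (.node nodes50 nodes51)) (.node (.node nodes52 nodes53) (.node nodes54 nodes55))) (.node (.node (.node nodes56 nodes57) (.node nodes58 nodes59)) (.node (.node nodes60 nodes61) (.node nodes62 nodes63))))))

/-- The root sets of the classes. -/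
def reps : List (List ℕ) := [[(nat_lit 125)], [(nat_lit 118), (nat_lit 121)], [(nat_lit 92), (nat_lit 107), (nat_lit 111)], [(nat_lit 114), (nat_lit 116), (nat_lit 119)], [(nat_lit 92), (nat_lit 107), (nat_lit 111), (nat_lit 119)]]

theorem node_ok0 : ((List.range' 0 300).all fun p => force p fun p => okNode chevE7 tab reps nodes 1820 p) = true := by decide +kernel

theorem node_ok300 : ((List.range' 300 300).all fun p => force p fun p => okNode chevE7 tab reps nodes 1820 p) = true := by decide +kernel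

theorem node_ok600 : ((List.range' 600 300).all fun p => force p fun p => okNode chevE7 tab reps nodes 1820 p) = true := by decide +kernel

theorem node_ok900 : ((List.range' 900 300).all fun p => force p fun p => okNode chevE7 tab reps nodes 1820 p) = true := by decide +kernel

theorem node_ok1200 : ((List.range' 1200 300).all fun p => force p fun p => okNode chevE7 tab reps nodes 1820 p) = true := by decide +kernel

theorem node_ok1500 : ((List.range' 1500 300).all fun p => force p fun p => okNode chevE7 tab reps nodes 1820 p) = true := by decide +kernel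

theorem node_ok1800 : ((List.range' 1800 20).all fun p => force p fun p => okNode chevE7 tab reps nodes 1820 p) = true := by decide +kernel

theorem root_ok : rootOk chevE7 tab nodes = true := by decide +kernel

theorem node_ok : ∀ i, i < 1820 → okNode chevE7 tab reps nodes 1820 i = true := fun i hi =>
  chunkF (P := fun p => okNode chevE7 tab reps nodes 1820 p) node_ok0 (chunkF (P := fun p => okNode chevE7 tab reps nodes 1820 p) node_ok300 (chunkF (P := fun p => okNode chevE7 tab reps nodes 1820 p) node_ok600 (chunkF (P := fun p => okNode chevE7 tab reps nodes 1820 p) node_ok900 (chunkF (P := fun p => okNode chevE7 tab reps nodes 1820 p) node_ok1200 (chunkF (P := fun p => okNode chevE7 tab reps nodes 1820 p) node_ok1500 (chunkF (P := fun p => okNode chevE7 tab reps nodes 1820 p) node_ok1800 (chunk_end (n := 1820) (lo := 1820) le_rfl))))))) i (Nat.zero_le i) hi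

end Cfsg.Agent.Small.C2Inv.Cert.E7
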