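import Cfsg.Agent.Lib.Small.Char2Invol.Rep
import Cfsg.Agent.Lib.Small.Char2Invol.Data.CertE7

/-!
Rank certificates for the representatives of type E7.
-/

set_option autoImplicit false

namespace Cfsg.Agent.Small.C2Inv.Cert.E7

open Cfsg.Lie Cfsg.Agent.Small.C2Inv.Cert

/-- Columns of class 0. -/
def cols0 : Tr ℕ :=
  (.node (.node (.node (.node (.node (.node (.node (.node (.leaf (nat_lit 5444517870735015415413993718908291383296)) (.leaf (nat_lit 0))) (.leaf (nat_lit 0))) (.node (.leaf (nat_lit 21267647932558653966460912964485513216)) (.leaf (nat_lit 0)))) (.node (.node (.leaf (nat_lit 324518553658426726783156020576256)) (.leaf (nat_lit 0))) (.node (.leaf (nat_lit 0)) (.leaf (nat_lit 0))))) (.node (.node (.node (.leaf (nat_lit 1267650600228229401496703205376)) (.leaf (nat_lit 0))) (.node (.leaf (nat_lit 0)) (.leaf (nat_lit 0)))) (.node (.node (.leaf (nat_lit 83076749736557242056487941267521536)) (.leaf (nat_lit 0))) (.node (.leaf (nat_lit 0)) (.leaf (nat_lit 0)))))) (.node (.node (.node (.node (.node (.leaf (nat_lit 0)) (.leaf (nat_lit 0))) (.leaf (nat_lit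 0))) (.node (.leaf (nat_lit 340282366920938463463374607431768211456)) (.leaf (nat_lit 0)))) (.node (.node (.leaf (nat_lit 5192296858534827628530496329220096)) (.leaf (nat_lit 0))) (.node (.leaf (nat_lit 0)) (.leaf (nat_lit 0))))) (.node (.node (.node (.leaf (nat_lit 20282409603651670423947251286016)) (.leaf (nat_lit 0))) (.node (.leaf (nat_lit 0)) (.leaf (nat_lit 0)))) (.node (.node (.leaf (nat_lit 1329227995784915872903807060280344576)) (.leaf (nat_lit 0))) (.node (.leaf (nat_lit 0)) (.leaf (nat_lit 0))))))) (.node (.node (.node (.node (.node (.node (.leaf (nat_lit 0)) (.leaf (nat_lit 0))) (.leaf (nat_lit 0))) (.node (.leaf (nat_lit 85070591730234615865843651857942052864)) (.leaf (nat_lit 0)))) (.node (.node (.leaf (nat_lit 1298074214633706907132624082305024)) (.leaf (nat_lit 0))) (.node (.leaf (nat_lit 0)) (.leaf (nat_lit 0))))) (.node (.node (.node (.leaf (nat_lit 5070602400912917605986812821504)) (.leaf (nat_lit 0))) (.node (.leaf (nat_lit 0)) (.leaf (nat_lit 0)))) (.node (.node (.leaf (nat_lit 332306998946228968225951765070086144)) (.leaf (nat_lit 0)))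 (.node (.leaf (nat_lit 0)) (.leaf (nat_lit 0)))))) (.node (.node (.node (.node (.leaf (nat_lit 0)) (.leaf (nat_lit 0))) (.node (.leaf (nat_lit 1361129467683753853853498429727072845824)) (.leaf (nat_lit 0)))) (.node (.node (.leaf (nat_lit 20769187434139310514121985316880384)) (.leaf (nat_lit 0))) (.node (.leaf (nat_lit 0)) (.leaf (nat_lit 0))))) (.node (.node (.node (.leaf (nat_lit 81129638414606681695789005144064)) (.leaf (nat_lit 0))) (.node (.leaf (nat_lit 0)) (.leaf (nat_lit 0)))) (.node (.node (.leaf (nat_lit 5316911983139663491615228241121378304)) (.leaf (nat_lit 0))) (.node (.leaf (nat_lit 0)) (.leaf (nat_lit 0)))))))) (.node (.node (.node (.node (.node (.node (.node (.leaf (nat_lit 0)) (.leaf (nat_lit 0))) (.leaf (nat_lit 0))) (.node (.leaf (nat_lit 42535295865117307932921825928971026432)) (.leaf (nat_lit 0)))) (.node (.node (.leaf (nat_lit 649037107316853453566312041152512)) (.leaf (nat_lit 0))) (.node (.leaf (nat_lit 0)) (.leaf (nat_lit 0))))) (.node (.node (.node (.leaf (nat_lit 2535301200456458802993406410752)) (.leaf (nat_lit 0))) (.node (.leaf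 (nat_lit 0)) (.leaf (nat_lit 0)))) (.node (.node (.leaf (nat_lit 166153499473114484112975882535043072)) (.leaf (nat_lit 0))) (.node (.leaf (nat_lit 0)) (.leaf (nat_lit 0)))))) (.node (.node (.node (.node (.leaf (nat_lit 0)) (.leaf (nat_lit 0))) (.node (.leaf (nat_lit 680564733841876926926749214863536422912)) (.leaf (nat_lit 0)))) (.node (.node (.leaf (nat_lit 10384593717069655257060992658440192)) (.leaf (nat_lit 0))) (.node (.leaf (nat_lit 0)) (.leaf (nat_lit 0))))) (.node (.node (.node (.leaf (nat_lit 40564819207303340847894502572032)) (.leaf (nat_lit 0))) (.node (.leaf (nat_lit 0)) (.leaf (nat_lit 0)))) (.node (.node (.leaf (nat_lit 2658455991569831745807614120560689152)) (.leaf (nat_lit 0))) (.node (.leaf (nat_lit 0)) (.leaf (nat_lit 0))))))) (.node (.node (.node (.node (.node (.node (.leaf (nat_lit 0)) (.leaf (nat_lit 0))) (.leaf (nat_lit 0))) (.node (.leaf (nat_lit 170141183460469231731687303715884105728)) (.leaf (nat_lit 0)))) (.node (.node (.leaf (nat_lit 2596148429267413814265248164610048)) (.leaf (nat_lit 0))) (.node (.leaf (nat_lit 0)) (.leaf (nat_lit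 0))))) (.node (.node (.node (.leaf (nat_lit 10141204801825835211973625643008)) (.leaf (nat_lit 0))) (.node (.leaf (nat_lit 0)) (.leaf (nat_lit 0)))) (.node (.node (.leaf (nat_lit 664613997892457936451903530140172288)) (.leaf (nat_lit 0))) (.node (.leaf (nat_lit 0)) (.leaf (nat_lit 0)))))) (.node (.node (.node (.node (.leaf (nat_lit 5444517870735015415413993718908291383380)) (.leaf (nat_lit 0))) (.node (.leaf (nat_lit 2722258935367507707706996859454145691648)) (.leaf (nat_lit 0)))) (.node (.node (.leaf (nat_lit 41538374868278621028243970633760768)) (.leaf (nat_lit 0))) (.node (.leaf (nat_lit 0)) (.leaf (nat_lit 0))))) (.node (.node (.node (.leaf (nat_lit 162259276829213363391578010288128)) (.leaf (nat_lit 0))) (.node (.leaf (nat_lit 0)) (.leaf (nat_lit 0)))) (.node (.node (.leaf (nat_lit 10633823966279326983230456482242756608)) (.leaf (nat_lit 0))) (.node (.leaf (nat_lit 0)) (.leaf (nat_lit 0)))))))))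

/-- Odd entries of class 0. -/
def el0 : List EntTable :=
  [[((nat_lit 32641), [((nat_lit 132), (nat_lit 0)), ((nat_lit 2), (nat_lit 7)), ((nat_lit 4), (nat_lit 7)), ((nat_lit 6), (nat_lit 7)), ((nat_lit 132), (nat_lit 7)), ((nat_lit 100), (nat_lit 8)), ((nat_lit 101), (nat_lit 9)), ((nat_lit 102), (nat_lit 10)), ((nat_lit 103), (nat_lit 11)), ((nat_lit 104), (nat_lit 12)), ((nat_lit 105), (nat_lit 13)), ((nat_lit 106), (nat_lit 14))]),
      ((nat_lit 134184960), [((nat_lit 107), (nat_lit 15)), ((nat_lit 108), (nat_lit 16)), ((nat_lit 109), (nat_lit 17)), ((nat_lit 110), (nat_lit 18)), ((nat_lit 111), (nat_lit 19)), ((nat_lit 112), (nat_lit 20)), ((nat_lit 113), (nat_lit 21)), ((nat_lit 114), (nat_lit 22)), ((nat_lit 115), (nat_lit 23)), ((nat_lit 116), (nat_lit 24)), ((nat_lit 117), (nat_lit 25)), ((nat_lit 118), (nat_lit 26))]),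
      ((nat_lit 549621596160), [((nat_lit 119), (nat_lit 27)), ((nat_lit 120), (nat_lit 28)), ((nat_lit 121), (nat_lit 29)), ((nat_lit 122), (nat_lit 30)), ((nat_lit 123), (nat_lit 31)), ((nat_lit 124), (nat_lit 32)), ((nat_lit 125), (nat_lit 33)), ((nat_lit 126), (nat_lit 34)), ((nat_lit 127), (nat_lit 35)), ((nat_lit 128), (nat_lit 36)), ((nat_lit 129), (nat_lit 37)), ((nat_lit 130), (nat_lit 38))]),
      ((nat_lit 549755813888), [((nat_lit 131), (nat_lit 39))])]]

/-- Rank certificate of class 0. -/
def rc0 : RankCert :=
  [((nat_lit 84), (nat_lit 6), [(nat_lit 0), (nat_lit 7)]),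
    ((nat_lit 1267650600228229401496703205376), (nat_lit 100), [(nat_lit 8)]),
    ((nat_lit 2535301200456458802993406410752), (nat_lit 101), [(nat_lit 9)]),
    ((nat_lit 5070602400912917605986812821504), (nat_lit 102), [(nat_lit 10)]),
    ((nat_lit 10141204801825835211973625643008), (nat_lit 103), [(nat_lit 11)]),
    ((nat_lit 20282409603651670423947251286016), (nat_lit 104), [(nat_lit 12)]),
    ((nat_lit 40564819207303340847894502572032), (nat_lit 105), [(nat_lit 13)]),
    ((nat_lit 81129638414606681695789005144064), (nat_lit 106), [(nat_lit 14)]),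
    ((nat_lit 162259276829213363391578010288128), (nat_lit 107), [(nat_lit 15)]),
    ((nat_lit 324518553658426726783156020576256), (nat_lit 108), [(nat_lit 16)]),
    ((nat_lit 649037107316853453566312041152512), (nat_lit 109), [(nat_lit 17)]),
    ((nat_lit 1298074214633706907132624082305024), (nat_lit 110), [(nat_lit 18)]),
    ((nat_lit 2596148429267413814265248164610048), (nat_lit 111), [(nat_lit 19)]),
    ((nat_lit 5192296858534827628530496329220096), (nat_lit 112), [(nat_lit 20)]),
    ((nat_lit 10384593717069655257060992658440192), (nat_lit 113), [(nat_lit 21)]),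
    ((nat_lit 20769187434139310514121985316880384), (nat_lit 114), [(nat_lit 22)]),
    ((nat_lit 41538374868278621028243970633760768), (nat_lit 115), [(nat_lit 23)]),
    ((nat_lit 83076749736557242056487941267521536), (nat_lit 116), [(nat_lit 24)]),
    ((nat_lit 166153499473114484112975882535043072), (nat_lit 117), [(nat_lit 25)]),
    ((nat_lit 332306998946228968225951765070086144), (nat_lit 118), [(nat_lit 26)]),
    ((nat_lit 664613997892457936451903530140172288), (nat_lit 119), [(nat_lit 27)]),
    ((nat_lit 1329227995784915872903807060280344576), (nat_lit 120), [(nat_lit 28)]),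
    ((nat_lit 2658455991569831745807614120560689152), (nat_lit 121), [(nat_lit 29)]),
    ((nat_lit 5316911983139663491615228241121378304), (nat_lit 122), [(nat_lit 30)]),
    ((nat_lit 10633823966279326983230456482242756608), (nat_lit 123), [(nat_lit 31)]),
    ((nat_lit 21267647932558653966460912964485513216), (nat_lit 124), [(nat_lit 32)]),
    ((nat_lit 42535295865117307932921825928971026432), (nat_lit 125), [(nat_lit 33)]),
    ((nat_lit 85070591730234615865843651857942052864), (nat_lit 126), [(nat_lit 34)]),
    ((nat_lit 170141183460469231731687303715884105728), (nat_lit 127), [(nat_lit 35)]),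
    ((nat_lit 340282366920938463463374607431768211456), (nat_lit 128), [(nat_lit 36)]),
    ((nat_lit 680564733841876926926749214863536422912), (nat_lit 129), [(nat_lit 37)]),
    ((nat_lit 1361129467683753853853498429727072845824), (nat_lit 130), [(nat_lit 38)]),
    ((nat_lit 2722258935367507707706996859454145691648), (nat_lit 131), [(nat_lit 39)]),
    ((nat_lit 5444517870735015415413993718908291383296), (nat_lit 132), [(nat_lit 0)])]

theorem rc0_ok : rankOk chevE7 133 [125] el0 cols0 rc0 = true := by decide +kernel

theorem rc0_len : rc0.length = 34 := rfl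

/-- Columns of class 1. -/
def cols1 : Tr ℕ :=
  (.node (.node (.node (.node (.node (.node (.node (.node (.leaf (nat_lit 0)) (.leaf (nat_lit 0))) (.leaf (nat_lit 5316911983139663491615228241121378304))) (.node (.leaf (nat_lit 0)) (.leaf (nat_lit 0)))) (.node (.node (.leaf (nat_lit 18889465931478580854784)) (.leaf (nat_lit 0))) (.node (.leaf (nat_lit 0)) (.leaf (nat_lit 0))))) (.node (.node (.node (.leaf (nat_lit 41538374868278621172922108663037952)) (.leaf (nat_lit 0))) (.node (.leaf (nat_lit 5444517962005858631846510626670922170368)) (.leaf (nat_lit 0)))) (.node (.node (.leaf (nat_lit 2722258935368750483449560698245743640576)) (.leaf (nat_lit 0))) (.node (.leaf (nat_lit 20769187434139310514121985316880384)) (.leaf (nat_lit 0)))))) (.node (.node (.node (.node (.node (.leaf (nat_lit 382817662786055771396296433360739237888)) (.leaf (nat_lit 0))) (.leaf (nat_lit 170141183460469231731687303715884105728))) (.node (.leaf (nat_lit 633825300114114700748351602688)) (.leaf (nat_lit 0)))) (.node (.node (.leaf (nat_lit 604462909807314587353088)) (.leaf (nat_lit 0)))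 (.node (.leaf (nat_lit 0)) (.leaf (nat_lit 0))))) (.node (.node (.node (.leaf (nat_lit 2361183241434822606848)) (.leaf (nat_lit 0))) (.node (.leaf (nat_lit 649037107316853453566312041152512)) (.leaf (nat_lit 0)))) (.node (.node (.leaf (nat_lit 9903520314283042199192993792)) (.leaf (nat_lit 0))) (.node (.leaf (nat_lit 664613997892457936451903530140172288)) (.leaf (nat_lit 0))))))) (.node (.node (.node (.node (.node (.node (.leaf (nat_lit 0)) (.leaf (nat_lit 0))) (.leaf (nat_lit 21267647932558653966460912964485513216))) (.node (.leaf (nat_lit 158456325028528675187087900672)) (.leaf (nat_lit 0)))) (.node (.node (.leaf (nat_lit 1361129467683831376221681217822900879360)) (.leaf (nat_lit 2722258935367507707706996859454145691648))) (.node (.leaf (nat_lit 166153499473114484112975882535043072)) (.leaf (nat_lit 0))))) (.node (.node (.node (.leaf (nat_lit 21267647932558654040265903657833201664)) (.leaf (nat_lit 0))) (.node (.leaf (nat_lit 40564819207303340847894502572032)) (.leaf (nat_lit 5444517870735015415413993718908291383296)))) (.node (.node (.leaf (nat_lit 19342813113834066795298816))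 (.leaf (nat_lit 2722258935367507707706996859454145691648))) (.node (.leaf (nat_lit 0)) (.leaf (nat_lit 0)))))) (.node (.node (.node (.node (.leaf (nat_lit 0)) (.leaf (nat_lit 0))) (.node (.leaf (nat_lit 0)) (.leaf (nat_lit 0)))) (.node (.node (.leaf (nat_lit 618970019642690137449562112)) (.leaf (nat_lit 1361129467683753853853498429727072845824))) (.node (.leaf (nat_lit 21267647932558653966460912964485513216)) (.leaf (nat_lit 0))))) (.node (.node (.node (.leaf (nat_lit 42535295865117307932921825928971026523)) (.leaf (nat_lit 0))) (.node (.leaf (nat_lit 2596148429267413814265248164610048)) (.leaf (nat_lit 0)))) (.node (.node (.leaf (nat_lit 39614081257132168796771975168)) (.leaf (nat_lit 0))) (.node (.leaf (nat_lit 2658455991569831745807614120560689152)) (.leaf (nat_lit 0)))))))) (.node (.node (.node (.node (.node (.node (.node (.leaf (nat_lit 382817662786055771396296433360739237888)) (.leaf (nat_lit 0))) (.leaf (nat_lit 10633823966279326983230456482242756608))) (.node (.leaf (nat_lit 633825300114114700748351602688)) (.leaf (nat_lit 0)))) (.node (.node (.leaf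 (nat_lit 37778931862957161709568)) (.leaf (nat_lit 0))) (.node (.leaf (nat_lit 41538374868278621028243970633760768)) (.leaf (nat_lit 0))))) (.node (.node (.node (.leaf (nat_lit 2658455991569831750428307338242818048)) (.leaf (nat_lit 680564733841876926926749214863536422912))) (.node (.leaf (nat_lit 20282409603651670423947251286016)) (.leaf (nat_lit 0)))) (.node (.node (.leaf (nat_lit 9671406556917033397649408)) (.leaf (nat_lit 0))) (.node (.leaf (nat_lit 41538374868278621028243970633760768)) (.leaf (nat_lit 0)))))) (.node (.node (.node (.node (.leaf (nat_lit 340282366920938463463374607431768211456)) (.leaf (nat_lit 0))) (.node (.leaf (nat_lit 0)) (.leaf (nat_lit 0)))) (.node (.node (.leaf (nat_lit 309485009821345068724781056)) (.leaf (nat_lit 680564733841876926926749214863536422912))) (.node (.leaf (nat_lit 2658455991569831745807614120560689152)) (.leaf (nat_lit 0))))) (.node (.node (.node (.leaf (nat_lit 4722366482869645213696)) (.leaf (nat_lit 1361129467683753853853498429727072845824))) (.node (.leaf (nat_lit 0)) (.leaf (nat_lit 0)))) (.node (.node (.leaf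 (nat_lit 0)) (.leaf (nat_lit 0))) (.node (.leaf (nat_lit 1329227995784915872903807060280344576)) (.leaf (nat_lit 0))))))) (.node (.node (.node (.node (.node (.node (.leaf (nat_lit 0)) (.leaf (nat_lit 0))) (.leaf (nat_lit 85070591730234615865843651857942052864))) (.node (.leaf (nat_lit 316912650057057350374175801344)) (.leaf (nat_lit 0)))) (.node (.node (.leaf (nat_lit 302231454903657293676544)) (.leaf (nat_lit 0))) (.node (.leaf (nat_lit 332306998946228968225951765070086144)) (.leaf (nat_lit 0))))) (.node (.node (.node (.leaf (nat_lit 340282366920938463463374607431768211529)) (.leaf (nat_lit 0))) (.node (.leaf (nat_lit 324518553658426726783156020576256)) (.leaf (nat_lit 0)))) (.node (.node (.leaf (nat_lit 4951760157141521099596496896)) (.leaf (nat_lit 0))) (.node (.leaf (nat_lit 0)) (.leaf (nat_lit 0)))))) (.node (.node (.node (.node (.leaf (nat_lit 633825300114114700825661014016)) (.leaf (nat_lit 0))) (.node (.leaf (nat_lit 0)) (.leaf (nat_lit 5444517870735015415413993718908291383296)))) (.node (.node (.leaf (nat_lit 0)) (.leaf (nat_lit 0))) (.node (.leaf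 (nat_lit 10384593717069655257060992658440192)) (.leaf (nat_lit 0))))) (.node (.node (.node (.leaf (nat_lit 680564733841915621997709848736417447936)) (.leaf (nat_lit 0))) (.node (.leaf (nat_lit 5192296858534827628530496329220096)) (.leaf (nat_lit 0)))) (.node (.node (.leaf (nat_lit 79228162514264337593543950336)) (.leaf (nat_lit 0))) (.node (.leaf (nat_lit 0)) (.leaf (nat_lit 0)))))))))

/-- Odd entries of class 1. -/
def el1 : List EntTable :=
  [[((nat_lit 18322), [((nat_lit 125), (nat_lit 1)), ((nat_lit 125), (nat_lit 4)), ((nat_lit 0), (nat_lit 14)), ((nat_lit 1), (nat_lit 14)), ((nat_lit 3), (nat_lit 14)), ((nat_lit 4), (nat_lit 14)), ((nat_lit 6), (nat_lit 14)), ((nat_lit 125), (nat_lit 14)), ((nat_lit 33), (nat_lit 7)), ((nat_lit 49), (nat_lit 8)), ((nat_lit 53), (nat_lit 9)), ((nat_lit 54), (nat_lit 10))]),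
      ((nat_lit 120378589184), [((nat_lit 73), (nat_lit 15)), ((nat_lit 74), (nat_lit 16)), ((nat_lit 75), (nat_lit 17)), ((nat_lit 77), (nat_lit 18)), ((nat_lit 78), (nat_lit 19)), ((nat_lit 79), (nat_lit 20)), ((nat_lit 82), (nat_lit 24)), ((nat_lit 83), (nat_lit 25)), ((nat_lit 84), (nat_lit 26)), ((nat_lit 97), (nat_lit 34)), ((nat_lit 98), (nat_lit 35)), ((nat_lit 99), (nat_lit 36))]),
      ((nat_lit 137449868323928932352), [((nat_lit 103), (nat_lit 40)), ((nat_lit 104), (nat_lit 41)), ((nat_lit 105), (nat_lit 42)), ((nat_lit 113), (nat_lit 55)), ((nat_lit 114), (nat_lit 56)), ((nat_lit 115), (nat_lit 57)), ((nat_lit 119), (nat_lit 60)), ((nat_lit 120), (nat_lit 61)), ((nat_lit 121), (nat_lit 62)), ((nat_lit 122), (nat_lit 64)), ((nat_lit 123), (nat_lit 65)), ((nat_lit 124), (nat_lit 66))]),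
      ((nat_lit 81130992411524650080464676061184), [((nat_lit 129), (nat_lit 85)), ((nat_lit 130), (nat_lit 86)), ((nat_lit 131), (nat_lit 90)), ((nat_lit 132), (nat_lit 106))])],
    [((nat_lit 8114), [((nat_lit 128), (nat_lit 1)), ((nat_lit 128), (nat_lit 4)), ((nat_lit 128), (nat_lit 5)), ((nat_lit 0), (nat_lit 11)), ((nat_lit 3), (nat_lit 11)), ((nat_lit 6), (nat_lit 11)), ((nat_lit 128), (nat_lit 11)), ((nat_lit 36), (nat_lit 7)), ((nat_lit 57), (nat_lit 8)), ((nat_lit 62), (nat_lit 9)), ((nat_lit 66), (nat_lit 10)), ((nat_lit 71), (nat_lit 12))]),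
      ((nat_lit 1111748812800), [((nat_lit 72), (nat_lit 13)), ((nat_lit 85), (nat_lit 15)), ((nat_lit 86), (nat_lit 18)), ((nat_lit 88), (nat_lit 21)), ((nat_lit 89), (nat_lit 22)), ((nat_lit 90), (nat_lit 24)), ((nat_lit 92), (nat_lit 27)), ((nat_lit 93), (nat_lit 28)), ((nat_lit 95), (nat_lit 30)), ((nat_lit 96), (nat_lit 31)), ((nat_lit 99), (nat_lit 33)), ((nat_lit 106), (nat_lit 40))]),
      ((nat_lit 9887486023250269437952), [((nat_lit 108), (nat_lit 43)), ((nat_lit 109), (nat_lit 44)), ((nat_lit 111), (nat_lit 46)), ((nat_lit 112), (nat_lit 47)), ((nat_lit 115), (nat_lit 49)), ((nat_lit 117), (nat_lit 50)), ((nat_lit 118), (nat_lit 51)), ((nat_lit 121), (nat_lit 53)), ((nat_lit 124), (nat_lit 54)), ((nat_lit 126), (nat_lit 67)), ((nat_lit 127), (nat_lit 68)), ((nat_lit 129), (nat_lit 73))]),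
      ((nat_lit 10141209788644841122318971305984), [((nat_lit 130), (nat_lit 77)), ((nat_lit 131), (nat_lit 82)), ((nat_lit 132), (nat_lit 103))])]]

/-- Rank certificate of class 1. -/
def rc1 : RankCert :=
  [((nat_lit 18), (nat_lit 4), [(nat_lit 1), (nat_lit 11), (nat_lit 14)]),
    ((nat_lit 73), (nat_lit 6), [(nat_lit 5), (nat_lit 11)]),
    ((nat_lit 77309411328), (nat_lit 36), [(nat_lit 7), (nat_lit 33)]),
    ((nat_lit 144678138029277184), (nat_lit 57), [(nat_lit 8), (nat_lit 49)]),
    ((nat_lit 4620693217682128896), (nat_lit 62), [(nat_lit 9), (nat_lit 53)]),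
    ((nat_lit 73804990693347688448), (nat_lit 66), [(nat_lit 10), (nat_lit 54)]),
    ((nat_lit 2361183241434822606848), (nat_lit 71), [(nat_lit 12)]),
    ((nat_lit 4722366482869645213696), (nat_lit 72), [(nat_lit 13)]),
    ((nat_lit 18889465931478580854784), (nat_lit 74), [(nat_lit 16)]),
    ((nat_lit 37778931862957161709568), (nat_lit 75), [(nat_lit 17)]),
    ((nat_lit 302231454903657293676544), (nat_lit 78), [(nat_lit 19)]),
    ((nat_lit 604462909807314587353088), (nat_lit 79), [(nat_lit 20)]),
    ((nat_lit 9671406556917033397649408), (nat_lit 83), [(nat_lit 25)]),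
    ((nat_lit 19342813113834066795298816), (nat_lit 84), [(nat_lit 26)]),
    ((nat_lit 38695070960633872881025024), (nat_lit 85), [(nat_lit 15), (nat_lit 73)]),
    ((nat_lit 77522368182788095828033536), (nat_lit 86), [(nat_lit 18), (nat_lit 77)]),
    ((nat_lit 309485009821345068724781056), (nat_lit 88), [(nat_lit 21)]),
    ((nat_lit 618970019642690137449562112), (nat_lit 89), [(nat_lit 22)]),
    ((nat_lit 1242775742563838791597948928), (nat_lit 90), [(nat_lit 24), (nat_lit 82)]),
    ((nat_lit 4951760157141521099596496896), (nat_lit 92), [(nat_lit 27)]),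
    ((nat_lit 9903520314283042199192993792), (nat_lit 93), [(nat_lit 28)]),
    ((nat_lit 39614081257132168796771975168), (nat_lit 95), [(nat_lit 30)]),
    ((nat_lit 79228162514264337593543950336), (nat_lit 96), [(nat_lit 31)]),
    ((nat_lit 158456325028528675187087900672), (nat_lit 97), [(nat_lit 34)]),
    ((nat_lit 316912650057057350374175801344), (nat_lit 98), [(nat_lit 35)]),
    ((nat_lit 633825300114114700748351602688), (nat_lit 99), [(nat_lit 33)]),
    ((nat_lit 20282409603651670423947251286016), (nat_lit 104), [(nat_lit 41)]),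
    ((nat_lit 40564819207303340847894502572032), (nat_lit 105), [(nat_lit 42)]),
    ((nat_lit 91270843216432516907762630787072), (nat_lit 106), [(nat_lit 40), (nat_lit 103)]),
    ((nat_lit 324518553658426726783156020576256), (nat_lit 108), [(nat_lit 43)]),
    ((nat_lit 649037107316853453566312041152512), (nat_lit 109), [(nat_lit 44)]),
    ((nat_lit 2596148429267413814265248164610048), (nat_lit 111), [(nat_lit 46)]),
    ((nat_lit 5192296858534827628530496329220096), (nat_lit 112), [(nat_lit 47)]),
    ((nat_lit 10384593717069655257060992658440192), (nat_lit 113), [(nat_lit 55)]),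
    ((nat_lit 20769187434139310514121985316880384), (nat_lit 114), [(nat_lit 56)]),
    ((nat_lit 41538374868278621028243970633760768), (nat_lit 115), [(nat_lit 49)]),
    ((nat_lit 166153499473114484112975882535043072), (nat_lit 117), [(nat_lit 50)]),
    ((nat_lit 332306998946228968225951765070086144), (nat_lit 118), [(nat_lit 51)]),
    ((nat_lit 664613997892457936451903530140172288), (nat_lit 119), [(nat_lit 60)]),
    ((nat_lit 1329227995784915872903807060280344576), (nat_lit 120), [(nat_lit 61)]),
    ((nat_lit 2658455991569831745807614120560689152), (nat_lit 121), [(nat_lit 53)]),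
    ((nat_lit 5316911983139663491615228241121378304), (nat_lit 122), [(nat_lit 64)]),
    ((nat_lit 10633823966279326983230456482242756608), (nat_lit 123), [(nat_lit 65)]),
    ((nat_lit 21267647932558653966460912964485513216), (nat_lit 124), [(nat_lit 54)]),
    ((nat_lit 42535295865117307932921825928971026432), (nat_lit 125), [(nat_lit 1), (nat_lit 5)]),
    ((nat_lit 85070591730234615865843651857942052864), (nat_lit 126), [(nat_lit 67)]),
    ((nat_lit 170141183460469231731687303715884105728), (nat_lit 127), [(nat_lit 68)]),
    ((nat_lit 340282366920938463463374607431768211456), (nat_lit 128), [(nat_lit 5)]),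
    ((nat_lit 680564733841876926926749214863536422912), (nat_lit 129), [(nat_lit 73)]),
    ((nat_lit 1361129467683753853853498429727072845824), (nat_lit 130), [(nat_lit 77)]),
    ((nat_lit 2722258935367507707706996859454145691648), (nat_lit 131), [(nat_lit 82)]),
    ((nat_lit 5444517870735015415413993718908291383296), (nat_lit 132), [(nat_lit 103)])]

theorem rc1_ok : rankOk chevE7 133 [118, 121] el1 cols1 rc1 = true := by decide +kernel

theorem rc1_len : rc1.length = 52 := rfl

/-- Columns of class 2. -/
def cols2 : Tr ℕ :=
  (.node (.node (.node (.node (.node (.node (.node (.node (.leaf (nat_lit 20769821259439424628822733668483072)) (.leaf (nat_lit 0))) (.leaf (nat_lit 1361130765797582568817537731147927126016))) (.node (.leaf (nat_lit 604462909807314587353088)) (.leaf (nat_lit 0)))) (.node (.node (.leaf (nat_lit 649037107316858353482706620252160)) (.leaf (nat_lit 1329227995784915872903807060280344576))) (.node (.leaf (nat_lit 0)) (.leaf (nat_lit 0))))) (.node (.node (.node (.leaf (nat_lit 4722366487267700113408)) (.leaf (nat_lit 0))) (.node (.leaf (nat_lit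 633825300114114700748351602758)) (.leaf (nat_lit 0)))) (.node (.node (.leaf (nat_lit 316912650352205256103284441088)) (.leaf (nat_lit 340282366920938463463374607431768211456))) (.node (.leaf (nat_lit 618970019642690137449562112)) (.leaf (nat_lit 0)))))) (.node (.node (.node (.node (.node (.leaf (nat_lit 353076186380368278740073750386966528)) (.leaf (nat_lit 0))) (.leaf (nat_lit 316912650057057350374175801344))) (.node (.leaf (nat_lit 618970019642690137449562112)) (.leaf (nat_lit 41538374868278621028243970633760768)))) (.node (.node (.leaf (nat_lit 0)) (.leaf (nat_lit 0))) (.node (.leaf (nat_lit 40564819207303340847894502572032)) (.leaf (nat_lit 2722258935367507707706996859454145691648))))) (.node (.node (.node (.leaf (nat_lit 40564819207303345914444083363840)) (.leaf (nat_lit 0))) (.node (.leaf (nat_lit 37778931862957161709568)) (.leaf (nat_lit 0)))) (.node (.node (.leaf (nat_lit 0)) (.leaf (nat_lit 680564733841876926926749214863536422912))) (.node (.leaf (nat_lit 680564896106105516297254127541143207936)) (.leaf (nat_lit 0))))))) (.node (.node (.node (.node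 (.node (.node (.leaf (nat_lit 353076186380368278740073750386966528)) (.leaf (nat_lit 0))) (.leaf (nat_lit 5192296858534827628530496329220096))) (.node (.leaf (nat_lit 170141183461861914275883356525145620480)) (.leaf (nat_lit 0)))) (.node (.node (.leaf (nat_lit 79228162551157826015840960512)) (.leaf (nat_lit 0))) (.node (.leaf (nat_lit 42535306006331781165313954935994318848)) (.leaf (nat_lit 0))))) (.node (.node (.node (.leaf (nat_lit 604462909948056370675712)) (.leaf (nat_lit 2658455991569831745807614120560689152))) (.node (.leaf (nat_lit 4722366482869645213696)) (.leaf (nat_lit 340282366920938463463374607431768211456)))) (.node (.node (.leaf (nat_lit 1180591620717411303424)) (.leaf (nat_lit 170141183460469231731687303715884105728))) (.node (.leaf (nat_lit 649037107316853453566312041152512)) (.leaf (nat_lit 0)))))) (.node (.node (.node (.node (.leaf (nat_lit 353076186380368278740073750386966528)) (.leaf (nat_lit 0))) (.node (.leaf (nat_lit 79228162514264337593543950336)) (.leaf (nat_lit 21267647932558653966460912964485513216)))) (.node (.node (.leaf (nat_lit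 1180591620717411303424)) (.leaf (nat_lit 0))) (.node (.leaf (nat_lit 0)) (.leaf (nat_lit 0))))) (.node (.node (.node (.leaf (nat_lit 618970019714747800206966784)) (.leaf (nat_lit 21267647932558653966460912964485513216))) (.node (.leaf (nat_lit 21267653003161357110833422608592011264)) (.leaf (nat_lit 1361129467683753853853498429727072845824)))) (.node (.node (.leaf (nat_lit 10633823966281895950597137569239007232)) (.leaf (nat_lit 0))) (.node (.leaf (nat_lit 649037107316853453566312041152512)) (.leaf (nat_lit 0)))))))) (.node (.node (.node (.node (.node (.node (.node (.leaf (nat_lit 0)) (.leaf (nat_lit 0))) (.leaf (nat_lit 79228162514264337593543950336))) (.node (.leaf (nat_lit 19342813113834066795298816)) (.leaf (nat_lit 2722258935367507707706996859454145691648)))) (.node (.node (.leaf (nat_lit 0)) (.leaf (nat_lit 10633823966279326983230456482242756608))) (.node (.leaf (nat_lit 40564819207303340847894502572032)) (.leaf (nat_lit 5444517870735015415413993718908291383296))))) (.node (.node (.node (.leaf (nat_lit 37778931880549884624896)) (.leaf (nat_lit 1329227995784915872903807060280344576)))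 (.node (.leaf (nat_lit 41539642518881210440886902159572992)) (.leaf (nat_lit 0)))) (.node (.node (.leaf (nat_lit 20769187434139310514121985316880487)) (.leaf (nat_lit 0))) (.node (.leaf (nat_lit 0)) (.leaf (nat_lit 0)))))) (.node (.node (.node (.node (.leaf (nat_lit 20769821259439424628822733668483072)) (.leaf (nat_lit 5444694408828205599553363755783484866560))) (.node (.leaf (nat_lit 9903520314283042199192993792)) (.leaf (nat_lit 2658455991569831745807614120560689152)))) (.node (.node (.leaf (nat_lit 332306998946228968225951765070086259)) (.leaf (nat_lit 0))) (.node (.leaf (nat_lit 0)) (.leaf (nat_lit 5444517870735015415413993718908291383296))))) (.node (.node (.node (.leaf (nat_lit 0)) (.leaf (nat_lit 10633823966279326983230456482242756608))) (.node (.leaf (nat_lit 0)) (.leaf (nat_lit 0)))) (.node (.node (.leaf (nat_lit 37778931862957161709568)) (.leaf (nat_lit 0))) (.node (.leaf (nat_lit 9903520314283042199192993792)) (.leaf (nat_lit 0))))))) (.node (.node (.node (.node (.node (.node (.leaf (nat_lit 0)) (.leaf (nat_lit 0))) (.leaf (nat_lit 2722342012275700589977582022582501113856)))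 (.node (.leaf (nat_lit 0)) (.leaf (nat_lit 0)))) (.node (.node (.leaf (nat_lit 5192296858534901991967543470850048)) (.leaf (nat_lit 42535295865117307932921825928971026432))) (.node (.leaf (nat_lit 19342813113834066795298816)) (.leaf (nat_lit 0))))) (.node (.node (.node (.leaf (nat_lit 19342813116085875198918656)) (.leaf (nat_lit 0))) (.node (.leaf (nat_lit 2658458526871051091732348592547954688)) (.leaf (nat_lit 680564733841876926926749214863536422912)))) (.node (.node (.leaf (nat_lit 1329227995786134243456387428745478144)) (.leaf (nat_lit 0))) (.node (.leaf (nat_lit 5192296858534827628530496329220096)) (.leaf (nat_lit 0)))))) (.node (.node (.node (.node (.leaf (nat_lit 1180591620717482606592)) (.leaf (nat_lit 41538374868278621028243970633760768))) (.node (.leaf (nat_lit 316912650057057350374175801344)) (.leaf (nat_lit 42535295865117307932921825928971026432)))) (.node (.node (.leaf (nat_lit 4722366482869645213696)) (.leaf (nat_lit 170141183460469231731687303715884105728))) (.node (.leaf (nat_lit 340282448050886363079877648289498136576)) (.leaf (nat_lit 0)))))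 (.node (.node (.node (.leaf (nat_lit 9903520316588885345845641216)) (.leaf (nat_lit 0))) (.node (.leaf (nat_lit 604462909807314587353088)) (.leaf (nat_lit 0)))) (.node (.node (.leaf (nat_lit 0)) (.leaf (nat_lit 1361129467683753853853498429727072845824))) (.node (.leaf (nat_lit 0)) (.leaf (nat_lit 0)))))))))

/-- Odd entries of class 2. -/
def el2 : List EntTable :=
  [[((nat_lit 1099511680801), [((nat_lit 99), (nat_lit 0)), ((nat_lit 99), (nat_lit 5)), ((nat_lit 1), (nat_lit 40)), ((nat_lit 2), (nat_lit 40)), ((nat_lit 6), (nat_lit 40)), ((nat_lit 99), (nat_lit 40)), ((nat_lit 23), (nat_lit 8)), ((nat_lit 29), (nat_lit 9)), ((nat_lit 32), (nat_lit 10)), ((nat_lit 33), (nat_lit 11)), ((nat_lit 36), (nat_lit 14)), ((nat_lit 37), (nat_lit 15))]),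
      ((nat_lit 111708182375825408), [((nat_lit 38), (nat_lit 18)), ((nat_lit 39), (nat_lit 24)), ((nat_lit 71), (nat_lit 41)), ((nat_lit 72), (nat_lit 42)), ((nat_lit 74), (nat_lit 43)), ((nat_lit 75), (nat_lit 44)), ((nat_lit 78), (nat_lit 46)), ((nat_lit 79), (nat_lit 47)), ((nat_lit 83), (nat_lit 50)), ((nat_lit 84), (nat_lit 51)), ((nat_lit 88), (nat_lit 55)), ((nat_lit 89), (nat_lit 56))]),
      ((nat_lit 262403674247745006964321541947392), [((nat_lit 92), (nat_lit 60)), ((nat_lit 93), (nat_lit 61)), ((nat_lit 95), (nat_lit 64)), ((nat_lit 96), (nat_lit 65)), ((nat_lit 97), (nat_lit 67)), ((nat_lit 98), (nat_lit 68)), ((nat_lit 115), (nat_lit 100)), ((nat_lit 121), (nat_lit 101)), ((nat_lit 124), (nat_lit 102)), ((nat_lit 125), (nat_lit 103)), ((nat_lit 128), (nat_lit 106)), ((nat_lit 129), (nat_lit 107))]),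
      ((nat_lit 84374823951190948963620565349826560), [((nat_lit 130), (nat_lit 110)), ((nat_lit 131), (nat_lit 116))])],
    [((nat_lit 33554677), [((nat_lit 114), (nat_lit 0)), ((nat_lit 114), (nat_lit 2)), ((nat_lit 114), (nat_lit 4)), ((nat_lit 114), (nat_lit 5)), ((nat_lit 114), (nat_lit 6)), ((nat_lit 0), (nat_lit 25)), ((nat_lit 1), (nat_lit 25)), ((nat_lit 2), (nat_lit 25)), ((nat_lit 5), (nat_lit 25)), ((nat_lit 6), (nat_lit 25)), ((nat_lit 114), (nat_lit 25)), ((nat_lit 22), (nat_lit 7))]),
      ((nat_lit 6124295680), [((nat_lit 44), (nat_lit 9)), ((nat_lit 47), (nat_lit 10)), ((nat_lit 49), (nat_lit 12)), ((nat_lit 56), (nat_lit 14)), ((nat_lit 58), (nat_lit 16)), ((nat_lit 59), (nat_lit 19)), ((nat_lit 68), (nat_lit 24)), ((nat_lit 70), (nat_lit 26)), ((nat_lit 73), (nat_lit 27)), ((nat_lit 75), (nat_lit 29)), ((nat_lit 77), (nat_lit 30)), ((nat_lit 79), (nat_lit 32))]),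
      ((nat_lit 3049483012019322880000), [((nat_lit 87), (nat_lit 34)), ((nat_lit 89), (nat_lit 36)), ((nat_lit 98), (nat_lit 39)), ((nat_lit 100), (nat_lit 41)), ((nat_lit 103), (nat_lit 50)), ((nat_lit 105), (nat_lit 52)), ((nat_lit 107), (nat_lit 60)), ((nat_lit 109), (nat_lit 62)), ((nat_lit 110), (nat_lit 64)), ((nat_lit 112), (nat_lit 66)), ((nat_lit 113), (nat_lit 69)), ((nat_lit 115), (nat_lit 71))]),
      ((nat_lit 166153545290194121687806974724407296), [((nat_lit 120), (nat_lit 80)), ((nat_lit 123), (nat_lit 81)), ((nat_lit 125), (nat_lit 83)), ((nat_lit 127), (nat_lit 90)), ((nat_lit 129), (nat_lit 92)), ((nat_lit 130), (nat_lit 95)), ((nat_lit 132), (nat_lit 117))])],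
    [((nat_lit 2099668), [((nat_lit 118), (nat_lit 2)), ((nat_lit 118), (nat_lit 4)), ((nat_lit 118), (nat_lit 6)), ((nat_lit 0), (nat_lit 21)), ((nat_lit 1), (nat_lit 21)), ((nat_lit 4), (nat_lit 21)), ((nat_lit 5), (nat_lit 21)), ((nat_lit 6), (nat_lit 21)), ((nat_lit 118), (nat_lit 21)), ((nat_lit 26), (nat_lit 7)), ((nat_lit 42), (nat_lit 8)), ((nat_lit 51), (nat_lit 11))]),
      ((nat_lit 164430188544), [((nat_lit 52), (nat_lit 12)), ((nat_lit 61), (nat_lit 15)), ((nat_lit 62), (nat_lit 16)), ((nat_lit 65), (nat_lit 18)), ((nat_lit 66), (nat_lit 19)), ((nat_lit 70), (nat_lit 22)), ((nat_lit 72), (nat_lit 23)), ((nat_lit 80), (nat_lit 27)), ((nat_lit 81), (nat_lit 30)), ((nat_lit 84), (nat_lit 33)), ((nat_lit 90), (nat_lit 34)), ((nat_lit 93), (nat_lit 37))]),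
      ((nat_lit 180188697474310042812416), [((nat_lit 96), (nat_lit 38)), ((nat_lit 101), (nat_lit 43)), ((nat_lit 102), (nat_lit 46)), ((nat_lit 105), (nat_lit 49)), ((nat_lit 106), (nat_lit 55)), ((nat_lit 109), (nat_lit 58)), ((nat_lit 112), (nat_lit 59)), ((nat_lit 116), (nat_lit 67)), ((nat_lit 117), (nat_lit 69)), ((nat_lit 120), (nat_lit 73)), ((nat_lit 121), (nat_lit 74)), ((nat_lit 123), (nat_lit 77))]),
      ((nat_lit 10384752637924429972657440127188992), [((nat_lit 124), (nat_lit 78)), ((nat_lit 127), (nat_lit 87)), ((nat_lit 128), (nat_lit 88)), ((nat_lit 131), (nat_lit 97)), ((nat_lit 132), (nat_lit 113))])]]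

/-- Rank certificate of class 2. -/
def rc2 : RankCert :=
  [((nat_lit 20), (nat_lit 4), [(nat_lit 2), (nat_lit 21), (nat_lit 25)]),
    ((nat_lit 33), (nat_lit 5), [(nat_lit 0), (nat_lit 25), (nat_lit 40)]),
    ((nat_lit 71303168), (nat_lit 26), [(nat_lit 7), (nat_lit 22)]),
    ((nat_lit 4398054899712), (nat_lit 42), [(nat_lit 8), (nat_lit 23)]),
    ((nat_lit 17592722915328), (nat_lit 44), [(nat_lit 9), (nat_lit 29)]),
    ((nat_lit 140741783322624), (nat_lit 47), [(nat_lit 10), (nat_lit 32)]),
    ((nat_lit 2251808403619840), (nat_lit 51), [(nat_lit 11), (nat_lit 33)]),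
    ((nat_lit 5066549580791808), (nat_lit 52), [(nat_lit 12), (nat_lit 49)]),
    ((nat_lit 72057662757404672), (nat_lit 56), [(nat_lit 14), (nat_lit 36)]),
    ((nat_lit 2305843146652647424), (nat_lit 61), [(nat_lit 15), (nat_lit 37)]),
    ((nat_lit 4899916394579099648), (nat_lit 62), [(nat_lit 16), (nat_lit 58)]),
    ((nat_lit 36893488422297010176), (nat_lit 65), [(nat_lit 18), (nat_lit 38)]),
    ((nat_lit 74363437047141629952), (nat_lit 66), [(nat_lit 19), (nat_lit 59)]),
    ((nat_lit 295147905729108639744), (nat_lit 68), [(nat_lit 24), (nat_lit 39)]),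
    ((nat_lit 1180591620717411303424), (nat_lit 70), [(nat_lit 22)]),
    ((nat_lit 4722366482869645213696), (nat_lit 72), [(nat_lit 23)]),
    ((nat_lit 37778931862957161709568), (nat_lit 75), [(nat_lit 29)]),
    ((nat_lit 604462909807314587353088), (nat_lit 79), [(nat_lit 32)]),
    ((nat_lit 1218370552580368465133568), (nat_lit 80), [(nat_lit 27), (nat_lit 73)]),
    ((nat_lit 2568967366681086996250624), (nat_lit 81), [(nat_lit 30), (nat_lit 77)]),
    ((nat_lit 19342813113834066795298816), (nat_lit 84), [(nat_lit 33)]),
    ((nat_lit 618970019642690137449562112), (nat_lit 89), [(nat_lit 36)]),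
    ((nat_lit 1392682544196052809261514752), (nat_lit 90), [(nat_lit 34), (nat_lit 87)]),
    ((nat_lit 9903520314283042199192993792), (nat_lit 93), [(nat_lit 37)]),
    ((nat_lit 79228162514264337593543950336), (nat_lit 96), [(nat_lit 38)]),
    ((nat_lit 316912650057057350374175801344), (nat_lit 98), [(nat_lit 39)]),
    ((nat_lit 633825300114114700748351602758), (nat_lit 99), [(nat_lit 40)]),
    ((nat_lit 1267650602589412642931525812224), (nat_lit 100), [(nat_lit 41), (nat_lit 71)]),
    ((nat_lit 2535301219345924734471987265536), (nat_lit 101), [(nat_lit 43), (nat_lit 74)]),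
    ((nat_lit 5070602703144372509644106498048), (nat_lit 102), [(nat_lit 46), (nat_lit 78)]),
    ((nat_lit 10141214473232392129007023292416), (nat_lit 103), [(nat_lit 50), (nat_lit 83)]),
    ((nat_lit 40564819207303340847894502572032), (nat_lit 105), [(nat_lit 49)]),
    ((nat_lit 81129947899616503040857729925120), (nat_lit 106), [(nat_lit 55), (nat_lit 88)]),
    ((nat_lit 162264228589370504912677606785024), (nat_lit 107), [(nat_lit 60), (nat_lit 92)]),
    ((nat_lit 649037107316853453566312041152512), (nat_lit 109), [(nat_lit 58)]),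
    ((nat_lit 1298113828714964039301420854280192), (nat_lit 110), [(nat_lit 64), (nat_lit 95)]),
    ((nat_lit 5192296858534827628530496329220096), (nat_lit 112), [(nat_lit 59)]),
    ((nat_lit 20769187434139310514121985316880454), (nat_lit 114), [(nat_lit 0), (nat_lit 40)]),
    ((nat_lit 41538374868278621028243970633760768), (nat_lit 115), [(nat_lit 71)]),
    ((nat_lit 83076908192882270585163128355422208), (nat_lit 116), [(nat_lit 67), (nat_lit 97)]),
    ((nat_lit 176538093190184139370036875193483264), (nat_lit 117), [(nat_lit 69), (nat_lit 113)]),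
    ((nat_lit 332306998946228968225951765070086214), (nat_lit 118), [(nat_lit 0), (nat_lit 2), (nat_lit 40)]),
    ((nat_lit 1329227995784915872903807060280344576), (nat_lit 120), [(nat_lit 73)]),
    ((nat_lit 2658455991569831745807614120560689152), (nat_lit 121), [(nat_lit 74)]),
    ((nat_lit 10633823966279326983230456482242756608), (nat_lit 123), [(nat_lit 77)]),
    ((nat_lit 21267647932558653966460912964485513216), (nat_lit 124), [(nat_lit 78)]),
    ((nat_lit 42535295865117307932921825928971026432), (nat_lit 125), [(nat_lit 83)]),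
    ((nat_lit 170141183460469231731687303715884105728), (nat_lit 127), [(nat_lit 87)]),
    ((nat_lit 340282366920938463463374607431768211456), (nat_lit 128), [(nat_lit 88)]),
    ((nat_lit 680564733841876926926749214863536422912), (nat_lit 129), [(nat_lit 92)]),
    ((nat_lit 1361129467683753853853498429727072845824), (nat_lit 130), [(nat_lit 95)]),
    ((nat_lit 2722258935367507707706996859454145691648), (nat_lit 131), [(nat_lit 97)]),
    ((nat_lit 5444517870735015415413993718908291383296), (nat_lit 132), [(nat_lit 113)])]

theorem rc2_ok : rankOk chevE7 133 [92, 107, 111] el2 cols2 rc2 = true := by decide +kernel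

theorem rc2_len : rc2.length = 53 := rfl

/-- Columns of class 3. -/
def cols3 : Tr ℕ :=
  (.node (.node (.node (.node (.node (.node (.node (.node (.leaf (nat_lit 0)) (.leaf (nat_lit 0))) (.leaf (nat_lit 166153499473114484112975882535043072))) (.node (.leaf (nat_lit 39614081257132168796771975168)) (.leaf (nat_lit 0)))) (.node (.node (.leaf (nat_lit 10633823966279326983230456482242756715)) (.leaf (nat_lit 0))) (.node (.leaf (nat_lit 2596148429267413814265248164610048)) (.leaf (nat_lit 0))))) (.node (.node (.node (.leaf (nat_lit 5444519533892602914851004687301776244736)) (.leaf (nat_lit 340282366920938463463374607431768211456))) (.node (.leaf (nat_lit 2535301200456458802993406410752)) (.leaf (nat_lit 0)))) (.node (.node (.leaf (nat_lit 1208925819614629174706176)) (.leaf (nat_lit 1361129467683753853853498429727072845824))) (.node (.leaf (nat_lit 649037107316853453566312041152512)) (.leaf (nat_lit 0)))))) (.node (.node (.node (.node (.node (.leaf (nat_lit 0)) (.leaf (nat_lit 0))) (.leaf (nat_lit 1329227995784915872903807060280344576))) (.node (.leaf (nat_lit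 79228162514264337593543950336)) (.leaf (nat_lit 0)))) (.node (.node (.leaf (nat_lit 340282366921015839438196426568594620416)) (.leaf (nat_lit 2722258935367507707706996859454145691648))) (.node (.leaf (nat_lit 166153499473114484112975882535043072)) (.leaf (nat_lit 0))))) (.node (.node (.node (.leaf (nat_lit 5316911983139664081929052998336512000)) (.leaf (nat_lit 21267647932558653966460912964485513216))) (.node (.leaf (nat_lit 162259276829213363391578010288128)) (.leaf (nat_lit 5444517870735015415413993718908291383296)))) (.node (.node (.leaf (nat_lit 2475880078570760549798248448)) (.leaf (nat_lit 2722258935367507707706996859454145691648))) (.node (.leaf (nat_lit 83076749736557242056487941267521536)) (.leaf (nat_lit 0))))))) (.node (.node (.node (.node (.node (.node (.leaf (nat_lit 2658455991569831745807614120560689152)) (.leaf (nat_lit 0))) (.leaf (nat_lit 0))) (.node (.leaf (nat_lit 2722258935392266508492704464952128176128)) (.leaf (nat_lit 0)))) (.node (.node (.leaf (nat_lit 2658455991569831745807614120560689219)) (.leaf (nat_lit 0))) (.node (.leaf (nat_lit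 0)) (.leaf (nat_lit 0))))) (.node (.node (.node (.leaf (nat_lit 166153499473114502564223555871965184)) (.leaf (nat_lit 42535295865117307932921825928971026432))) (.node (.leaf (nat_lit 81129638414606681695789005144064)) (.leaf (nat_lit 0)))) (.node (.node (.leaf (nat_lit 1237940039285380274899124224)) (.leaf (nat_lit 0))) (.node (.leaf (nat_lit 20769187434139310514121985316880384)) (.leaf (nat_lit 0)))))) (.node (.node (.node (.node (.leaf (nat_lit 95704415696513942849074108340184809472)) (.leaf (nat_lit 170141183460469231731687303715884105728))) (.node (.leaf (nat_lit 633825300114114700748351602688)) (.leaf (nat_lit 0)))) (.node (.node (.leaf (nat_lit 680564733842031707210591750355060523008)) (.leaf (nat_lit 340282366920938463463374607431768211456))) (.node (.leaf (nat_lit 5316911983139663491615228241121378304)) (.leaf (nat_lit 0))))) (.node (.node (.node (.leaf (nat_lit 332306998946229009731125930916577280)) (.leaf (nat_lit 0))) (.node (.leaf (nat_lit 20282409603651670423947251286016)) (.leaf (nat_lit 5444517870735015415413993718908291383296)))) (.node (.node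 (.leaf (nat_lit 9671406556917033397649408)) (.leaf (nat_lit 2722258935367507707706996859454145691648))) (.node (.leaf (nat_lit 332306998946228968225951765070086144)) (.leaf (nat_lit 0)))))))) (.node (.node (.node (.node (.node (.node (.node (.leaf (nat_lit 95704415696513942849074108340184809472)) (.leaf (nat_lit 0))) (.leaf (nat_lit 332306998946228968225951765070086144))) (.node (.leaf (nat_lit 158456325028528675187087900672)) (.leaf (nat_lit 0)))) (.node (.node (.leaf (nat_lit 170141183460507918538506592566886006784)) (.leaf (nat_lit 0))) (.node (.leaf (nat_lit 10384593717069655257060992658440192)) (.leaf (nat_lit 0))))) (.node (.node (.node (.leaf (nat_lit 83076749736557243211661245688053760)) (.leaf (nat_lit 0))) (.node (.leaf (nat_lit 5070602400912917605986812821504)) (.leaf (nat_lit 5444517870735015415413993718908291383296)))) (.node (.node (.leaf (nat_lit 2417851639229258349412352)) (.leaf (nat_lit 0))) (.node (.leaf (nat_lit 5192296858534827628530496329220096)) (.leaf (nat_lit 0)))))) (.node (.node (.node (.node (.leaf (nat_lit 13292279957849158729038070602803445760))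 (.leaf (nat_lit 5316911983139663491615228241121378304))) (.node (.leaf (nat_lit 316912650057057350374175801344)) (.leaf (nat_lit 0)))) (.node (.node (.leaf (nat_lit 42535295865117477938115209236198719488)) (.leaf (nat_lit 170141183460469231731687303715884105728))) (.node (.leaf (nat_lit 664613997892457936451903530140172288)) (.leaf (nat_lit 0))))) (.node (.node (.node (.leaf (nat_lit 85070591730234615865843651857942052905)) (.leaf (nat_lit 42535295865117307932921825928971026432))) (.node (.leaf (nat_lit 5444518235818388281144061349958814531584)) (.leaf (nat_lit 0)))) (.node (.node (.leaf (nat_lit 2722258935372478810677252214620537487360)) (.leaf (nat_lit 0))) (.node (.leaf (nat_lit 0)) (.leaf (nat_lit 0))))))) (.node (.node (.node (.node (.node (.node (.leaf (nat_lit 13292279957849158729038070602803445760)) (.leaf (nat_lit 0))) (.leaf (nat_lit 664613997892457936451903530140172288))) (.node (.leaf (nat_lit 9903520314283042199192993792)) (.leaf (nat_lit 0)))) (.node (.node (.leaf (nat_lit 21267647932558731885507880313631539200)) (.leaf (nat_lit 0))) (.node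 (.leaf (nat_lit 83076749736557242056487941267521536)) (.leaf (nat_lit 0))))) (.node (.node (.node (.leaf (nat_lit 664613997892458084034863319071326208)) (.leaf (nat_lit 680564733841876926926749214863536422912))) (.node (.leaf (nat_lit 10141204801825835211973625643008)) (.leaf (nat_lit 0)))) (.node (.node (.leaf (nat_lit 4835703278458516698824704)) (.leaf (nat_lit 0))) (.node (.leaf (nat_lit 41538374868278621028243970633760768)) (.leaf (nat_lit 0)))))) (.node (.node (.node (.node (.leaf (nat_lit 2722258935392285851305818299038787698688)) (.leaf (nat_lit 21267647932558653966460912964485513216))) (.node (.leaf (nat_lit 0)) (.leaf (nat_lit 0)))) (.node (.node (.leaf (nat_lit 1361129467684063943326229582110384979968)) (.leaf (nat_lit 680564733841876926926749214863536422912))) (.node (.leaf (nat_lit 5444519493327783707547627634688394264576)) (.leaf (nat_lit 0))))) (.node (.node (.node (.leaf (nat_lit 1329227995784916177275084276487946240)) (.leaf (nat_lit 1361129467683753853853498429727072845824))) (.node (.leaf (nat_lit 5444519209374049256424241699426876260352))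 (.leaf (nat_lit 0)))) (.node (.node (.leaf (nat_lit 2722258935387334091148676777919326978048)) (.leaf (nat_lit 0))) (.node (.leaf (nat_lit 1329227995784915872903807060280344576)) (.leaf (nat_lit 0)))))))))

/-- Odd entries of class 3. -/
def el3 : List EntTable :=
  [[((nat_lit 282028), [((nat_lit 121), (nat_lit 2)), ((nat_lit 121), (nat_lit 3)), ((nat_lit 121), (nat_lit 5)), ((nat_lit 0), (nat_lit 18)), ((nat_lit 1), (nat_lit 18)), ((nat_lit 6), (nat_lit 18)), ((nat_lit 121), (nat_lit 18)), ((nat_lit 29), (nat_lit 7)), ((nat_lit 45), (nat_lit 8)), ((nat_lit 52), (nat_lit 10)), ((nat_lit 53), (nat_lit 11)), ((nat_lit 62), (nat_lit 14))]),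
      ((nat_lit 1429175042048), [((nat_lit 63), (nat_lit 15)), ((nat_lit 71), (nat_lit 19)), ((nat_lit 72), (nat_lit 20)), ((nat_lit 74), (nat_lit 21)), ((nat_lit 75), (nat_lit 22)), ((nat_lit 80), (nat_lit 24)), ((nat_lit 83), (nat_lit 30)), ((nat_lit 84), (nat_lit 31)), ((nat_lit 92), (nat_lit 34)), ((nat_lit 93), (nat_lit 35)), ((nat_lit 99), (nat_lit 38)), ((nat_lit 101), (nat_lit 40))]),
      ((nat_lit 77598424793362249902194688), [((nat_lit 104), (nat_lit 46)), ((nat_lit 105), (nat_lit 47)), ((nat_lit 108), (nat_lit 55)), ((nat_lit 109), (nat_lit 56)), ((nat_lit 115), (nat_lit 59)), ((nat_lit 117), (nat_lit 64)), ((nat_lit 118), (nat_lit 65)), ((nat_lit 119), (nat_lit 67)), ((nat_lit 120), (nat_lit 68)), ((nat_lit 124), (nat_lit 76)), ((nat_lit 125), (nat_lit 77)), ((nat_lit 128), (nat_lit 86))]),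
      ((nat_lit 1298094176416840383889556830683136), [((nat_lit 129), (nat_lit 87)), ((nat_lit 131), (nat_lit 94)), ((nat_lit 132), (nat_lit 110))])],
    [((nat_lit 66026), [((nat_lit 123), (nat_lit 1)), ((nat_lit 123), (nat_lit 3)), ((nat_lit 123), (nat_lit 5)), ((nat_lit 123), (nat_lit 6)), ((nat_lit 0), (nat_lit 16)), ((nat_lit 1), (nat_lit 16)), ((nat_lit 3), (nat_lit 16)), ((nat_lit 5), (nat_lit 16)), ((nat_lit 6), (nat_lit 16)), ((nat_lit 123), (nat_lit 16)), ((nat_lit 31), (nat_lit 7)), ((nat_lit 47), (nat_lit 8))]),
      ((nat_lit 17895707136), [((nat_lit 51), (nat_lit 9)), ((nat_lit 54), (nat_lit 12)), ((nat_lit 65), (nat_lit 14)), ((nat_lit 68), (nat_lit 15)), ((nat_lit 70), (nat_lit 17)), ((nat_lit 76), (nat_lit 19)), ((nat_lit 77), (nat_lit 21)), ((nat_lit 79), (nat_lit 23)), ((nat_lit 81), (nat_lit 25)), ((nat_lit 82), (nat_lit 27)), ((nat_lit 84), (nat_lit 29)), ((nat_lit 94), (nat_lit 34))]),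
      ((nat_lit 605752210665487990784), [((nat_lit 96), (nat_lit 36)), ((nat_lit 98), (nat_lit 37)), ((nat_lit 102), (nat_lit 41)), ((nat_lit 103), (nat_lit 43)), ((nat_lit 105), (nat_lit 45)), ((nat_lit 110), (nat_lit 55)), ((nat_lit 112), (nat_lit 57)), ((nat_lit 114), (nat_lit 58)), ((nat_lit 116), (nat_lit 60)), ((nat_lit 118), (nat_lit 62)), ((nat_lit 120), (nat_lit 63)), ((nat_lit 122), (nat_lit 69))]),
      ((nat_lit 324523853610470566490371335913472), [((nat_lit 124), (nat_lit 71)), ((nat_lit 125), (nat_lit 74)), ((nat_lit 127), (nat_lit 85)), ((nat_lit 130), (nat_lit 88)), ((nat_lit 131), (nat_lit 92)), ((nat_lit 132), (nat_lit 108))])],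
    [((nat_lit 16322), [((nat_lit 126), (nat_lit 1)), ((nat_lit 126), (nat_lit 6)), ((nat_lit 0), (nat_lit 13)), ((nat_lit 3), (nat_lit 13)), ((nat_lit 5), (nat_lit 13)), ((nat_lit 126), (nat_lit 13)), ((nat_lit 34), (nat_lit 7)), ((nat_lit 55), (nat_lit 8)), ((nat_lit 60), (nat_lit 9)), ((nat_lit 64), (nat_lit 10)), ((nat_lit 67), (nat_lit 11)), ((nat_lit 69), (nat_lit 12))]),
      ((nat_lit 22006151118848), [((nat_lit 85), (nat_lit 17)), ((nat_lit 86), (nat_lit 20)), ((nat_lit 87), (nat_lit 22)), ((nat_lit 88), (nat_lit 23)), ((nat_lit 90), (nat_lit 26)), ((nat_lit 91), (nat_lit 28)), ((nat_lit 92), (nat_lit 29)), ((nat_lit 94), (nat_lit 31)), ((nat_lit 95), (nat_lit 32)), ((nat_lit 97), (nat_lit 33)), ((nat_lit 106), (nat_lit 42)), ((nat_lit 107), (nat_lit 44))]),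
      ((nat_lit 648144834571202801434624), [((nat_lit 108), (nat_lit 45)), ((nat_lit 110), (nat_lit 47)), ((nat_lit 111), (nat_lit 48)), ((nat_lit 113), (nat_lit 49)), ((nat_lit 116), (nat_lit 51)), ((nat_lit 117), (nat_lit 52)), ((nat_lit 119), (nat_lit 53)), ((nat_lit 122), (nat_lit 54)), ((nat_lit 127), (nat_lit 70)), ((nat_lit 128), (nat_lit 72)), ((nat_lit 129), (nat_lit 75)), ((nat_lit 130), (nat_lit 79))]),
      ((nat_lit 40564838550116454681961297870848), [((nat_lit 131), (nat_lit 84)), ((nat_lit 132), (nat_lit 105))])]]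

/-- Rank certificate of class 3. -/
def rc3 : RankCert :=
  [((nat_lit 1), (nat_lit 0), [(nat_lit 1), (nat_lit 2), (nat_lit 13), (nat_lit 16), (nat_lit 18)]),
    ((nat_lit 40), (nat_lit 5), [(nat_lit 3), (nat_lit 16), (nat_lit 18)]),
    ((nat_lit 66), (nat_lit 6), [(nat_lit 1), (nat_lit 13), (nat_lit 16)]),
    ((nat_lit 1155173304420532224), (nat_lit 60), [(nat_lit 9), (nat_lit 51)]),
    ((nat_lit 18451247673336922112), (nat_lit 64), [(nat_lit 10), (nat_lit 52)]),
    ((nat_lit 41505174165846491136), (nat_lit 65), [(nat_lit 14), (nat_lit 62)]),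
    ((nat_lit 147582959788931153920), (nat_lit 67), [(nat_lit 11), (nat_lit 53)]),
    ((nat_lit 304371277216207601664), (nat_lit 68), [(nat_lit 15), (nat_lit 63)]),
    ((nat_lit 590313824757215133696), (nat_lit 69), [(nat_lit 12), (nat_lit 54)]),
    ((nat_lit 77919046967349146025984), (nat_lit 76), [(nat_lit 19), (nat_lit 71)]),
    ((nat_lit 170005193383307227693056), (nat_lit 77), [(nat_lit 21), (nat_lit 74)]),
    ((nat_lit 1208925819614629174706176), (nat_lit 80), [(nat_lit 24)]),
    ((nat_lit 2417851639229258349412352), (nat_lit 81), [(nat_lit 25)]),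
    ((nat_lit 4835703278458516698824704), (nat_lit 82), [(nat_lit 27)]),
    ((nat_lit 9671406556917033397649408), (nat_lit 83), [(nat_lit 30)]),
    ((nat_lit 19342813113834086659522560), (nat_lit 84), [(nat_lit 7), (nat_lit 34)]),
    ((nat_lit 38686806819288851001901056), (nat_lit 85), [(nat_lit 17), (nat_lit 70)]),
    ((nat_lit 77375974821819136826408960), (nat_lit 86), [(nat_lit 20), (nat_lit 72)]),
    ((nat_lit 154780283842535491524100096), (nat_lit 87), [(nat_lit 22), (nat_lit 75)]),
    ((nat_lit 310089472731152383312134144), (nat_lit 88), [(nat_lit 23), (nat_lit 79)]),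
    ((nat_lit 1237940039285380274899124224), (nat_lit 90), [(nat_lit 26)]),
    ((nat_lit 2475880078570760549798248448), (nat_lit 91), [(nat_lit 28)]),
    ((nat_lit 4951760157141521119460720640), (nat_lit 92), [(nat_lit 7), (nat_lit 31)]),
    ((nat_lit 9903520314283042199192993792), (nat_lit 93), [(nat_lit 35)]),
    ((nat_lit 19807040628566084418250211328), (nat_lit 94), [(nat_lit 7), (nat_lit 29)]),
    ((nat_lit 39614081257132168796771975168), (nat_lit 95), [(nat_lit 32)]),
    ((nat_lit 79228162514264337593543950336), (nat_lit 96), [(nat_lit 36)]),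
    ((nat_lit 158456325028528675187087900672), (nat_lit 97), [(nat_lit 33)]),
    ((nat_lit 316912650057057350374175801344), (nat_lit 98), [(nat_lit 37)]),
    ((nat_lit 633825300114114700748351602688), (nat_lit 99), [(nat_lit 38)]),
    ((nat_lit 2535301200456458802993406410752), (nat_lit 101), [(nat_lit 40)]),
    ((nat_lit 5070602400912917605986812821504), (nat_lit 102), [(nat_lit 41)]),
    ((nat_lit 10141204801825835211973625643008), (nat_lit 103), [(nat_lit 43)]),
    ((nat_lit 20282409603651670423947251286016), (nat_lit 104), [(nat_lit 46)]),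
    ((nat_lit 40564819207303377052613381980160), (nat_lit 105), [(nat_lit 8), (nat_lit 55)]),
    ((nat_lit 81129638414606681695789005144064), (nat_lit 106), [(nat_lit 42)]),
    ((nat_lit 162259276829213363391578010288128), (nat_lit 107), [(nat_lit 44)]),
    ((nat_lit 324518553658426762987874899984384), (nat_lit 108), [(nat_lit 8), (nat_lit 47)]),
    ((nat_lit 649037107316853453566312041152512), (nat_lit 109), [(nat_lit 56)]),
    ((nat_lit 1298074214633706943337342961713152), (nat_lit 110), [(nat_lit 8), (nat_lit 45)]),
    ((nat_lit 2596148429267413814265248164610048), (nat_lit 111), [(nat_lit 48)]),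
    ((nat_lit 5192296858534827628530496329220096), (nat_lit 112), [(nat_lit 57)]),
    ((nat_lit 10384593717069655257060992658440192), (nat_lit 113), [(nat_lit 49)]),
    ((nat_lit 20769187434139310514121985316880384), (nat_lit 114), [(nat_lit 58)]),
    ((nat_lit 41538374868278621028243970633760768), (nat_lit 115), [(nat_lit 59)]),
    ((nat_lit 83076749736557242056487941267521536), (nat_lit 116), [(nat_lit 51)]),
    ((nat_lit 166153499473114484112975882535043072), (nat_lit 117), [(nat_lit 52)]),
    ((nat_lit 332306998946228968225951765070086144), (nat_lit 118), [(nat_lit 62)]),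
    ((nat_lit 664613997892457936451903530140172288), (nat_lit 119), [(nat_lit 53)]),
    ((nat_lit 1329227995784915872903807060280344576), (nat_lit 120), [(nat_lit 63)]),
    ((nat_lit 2658455991569831745807614120560689152), (nat_lit 121), [(nat_lit 2)]),
    ((nat_lit 5316911983139663491615228241121378304), (nat_lit 122), [(nat_lit 54)]),
    ((nat_lit 10633823966279326983230456482242756608), (nat_lit 123), [(nat_lit 2), (nat_lit 3)]),
    ((nat_lit 21267647932558653966460912964485513216), (nat_lit 124), [(nat_lit 71)]),
    ((nat_lit 42535295865117307932921825928971026432), (nat_lit 125), [(nat_lit 74)]),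
    ((nat_lit 85070591730234615865843651857942052864), (nat_lit 126), [(nat_lit 1), (nat_lit 2), (nat_lit 3)]),
    ((nat_lit 170141183460469231731687303715884105728), (nat_lit 127), [(nat_lit 70)]),
    ((nat_lit 340282366920938463463374607431768211456), (nat_lit 128), [(nat_lit 72)]),
    ((nat_lit 680564733841876926926749214863536422912), (nat_lit 129), [(nat_lit 75)]),
    ((nat_lit 1361129467683753853853498429727072845824), (nat_lit 130), [(nat_lit 79)]),
    ((nat_lit 2722258935367507707706996859454145691648), (nat_lit 131), [(nat_lit 29), (nat_lit 31), (nat_lit 34)]),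
    ((nat_lit 5444517870735015415413993718908291383296), (nat_lit 132), [(nat_lit 45), (nat_lit 47), (nat_lit 55)])]

theorem rc3_ok : rankOk chevE7 133 [114, 116, 119] el3 cols3 rc3 = true := by decide +kernel

theorem rc3_len : rc3.length = 62 := rfl

/-- Columns of class 4. -/
def cols4 : Tr ℕ :=
  (.node (.node (.node (.node (.node (.node (.node (.node (.leaf (nat_lit 20769821259439424628822733668483072)) (.leaf (nat_lit 0))) (.leaf (nat_lit 1361130765797582568817537731147927126016))) (.node (.leaf (nat_lit 1361129467723368539573540405838432174080)) (.leaf (nat_lit 0)))) (.node (.node (.leaf (nat_lit 649037107316858353482706620252160)) (.leaf (nat_lit 1329227995784915872903807060280344576))) (.node (.leaf (nat_lit 2596148429267413814265248164610048)) (.leaf (nat_lit 0))))) (.node (.node (.node (.leaf (nat_lit 340282448050886367802280164354217213952)) (.leaf (nat_lit 340282366920938463463374607431768211456))) (.node (.leaf (nat_lit 633825300114114700748351602758)) (.leaf (nat_lit 0)))) (.node (.node (.leaf (nat_lit 316912650352205256103284441088)) (.leaf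 (nat_lit 340282366920938463463374607431768211456))) (.node (.leaf (nat_lit 618970019642690137449562112)) (.leaf (nat_lit 0)))))) (.node (.node (.node (.node (.node (.leaf (nat_lit 353076186380368278740073750386966528)) (.leaf (nat_lit 0))) (.leaf (nat_lit 316912650057057350374175801344))) (.node (.leaf (nat_lit 618970019642690137449562112)) (.leaf (nat_lit 41538374868278621028243970633760768)))) (.node (.node (.leaf (nat_lit 77371252455336267181195264)) (.leaf (nat_lit 2722258935367507707706996859454145691648))) (.node (.leaf (nat_lit 5444684064799307737201447542685328998400)) (.leaf (nat_lit 2722258935367507707706996859454145691648))))) (.node (.node (.node (.leaf (nat_lit 5444694449393024807447005480586273882112)) (.leaf (nat_lit 0))) (.node (.leaf (nat_lit 680564896101153793919044469398708420608)) (.leaf (nat_lit 0)))) (.node (.node (.leaf (nat_lit 2475880078570760549798248448)) (.leaf (nat_lit 680564733841876926926749214863536422912))) (.node (.leaf (nat_lit 680564896106105516297254127541143207936)) (.leaf (nat_lit 0))))))) (.node (.node (.node (.node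 (.node (.node (.leaf (nat_lit 353076186380368278740073750386966528)) (.leaf (nat_lit 0))) (.leaf (nat_lit 5192296858534827628530496329220096))) (.node (.leaf (nat_lit 170141183461861914275883356525145620480)) (.leaf (nat_lit 0)))) (.node (.node (.leaf (nat_lit 79228162551157826015840960512)) (.leaf (nat_lit 0))) (.node (.leaf (nat_lit 42535306006331781165313954935994318848)) (.leaf (nat_lit 0))))) (.node (.node (.node (.leaf (nat_lit 1361130765797583173298894423278007353344)) (.leaf (nat_lit 2658455991569831745807614120560689152))) (.node (.leaf (nat_lit 340282448050576882792422786090418569216)) (.leaf (nat_lit 340282366920938463463374607431768211456)))) (.node (.node (.leaf (nat_lit 170141183461707172951564304708194533376)) (.leaf (nat_lit 170141183460469231731687303715884105728))) (.node (.leaf (nat_lit 649037107316853453566312041152512)) (.leaf (nat_lit 0)))))) (.node (.node (.node (.node (.leaf (nat_lit 85423667916614984144583725608329019392)) (.leaf (nat_lit 170141183460469231731687303715884105728))) (.node (.leaf (nat_lit 79228162514264337593543950336))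 (.leaf (nat_lit 21267647932558653966460912964485513216)))) (.node (.node (.leaf (nat_lit 170141183460623975417189596967657799680)) (.leaf (nat_lit 0))) (.node (.leaf (nat_lit 5316911983139663491615228241121378304)) (.leaf (nat_lit 0))))) (.node (.node (.node (.leaf (nat_lit 618970019714747800206966784)) (.leaf (nat_lit 21267647932558653966460912964485513216))) (.node (.leaf (nat_lit 21267653003161357110833422608592011264)) (.leaf (nat_lit 1361129467683753853853498429727072845824)))) (.node (.node (.leaf (nat_lit 10633823966281895950597137569239007232)) (.leaf (nat_lit 0))) (.node (.leaf (nat_lit 649037107316853453566312041152512)) (.leaf (nat_lit 0)))))))) (.node (.node (.node (.node (.node (.node (.node (.leaf (nat_lit 85070591730234615865843651857942052864)) (.leaf (nat_lit 0))) (.leaf (nat_lit 79228162514264337593543950336))) (.node (.leaf (nat_lit 2722258935525983375548639368708028891136)) (.leaf (nat_lit 2722258935367507707706996859454145691648)))) (.node (.node (.leaf (nat_lit 38685626227668133590597632)) (.leaf (nat_lit 10633823966279326983230456482242756608)))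 (.node (.leaf (nat_lit 5444528295893551692372591627795452395520)) (.leaf (nat_lit 5444517870735015415413993718908291383296))))) (.node (.node (.node (.leaf (nat_lit 680564896106105554077338929595634679808)) (.leaf (nat_lit 1329227995784915872903807060280344576))) (.node (.leaf (nat_lit 41539642518881210440886902159572992)) (.leaf (nat_lit 5444517870735015415413993718908291383296)))) (.node (.node (.leaf (nat_lit 20769187434139310514121985316880487)) (.leaf (nat_lit 0))) (.node (.leaf (nat_lit 0)) (.leaf (nat_lit 0)))))) (.node (.node (.node (.node (.leaf (nat_lit 20769821259439424628822733668483072)) (.leaf (nat_lit 5444694408828205599553363755783484866560))) (.node (.leaf (nat_lit 9903520314283042199192993792)) (.leaf (nat_lit 2658455991569831745807614120560689152)))) (.node (.node (.leaf (nat_lit 332306998946228968225951765070086259)) (.leaf (nat_lit 0))) (.node (.leaf (nat_lit 664613997892457936451903530140172288)) (.leaf (nat_lit 5444517870735015415413993718908291383296))))) (.node (.node (.node (.leaf (nat_lit 85070591730234615865843651857942052905))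 (.leaf (nat_lit 10633823966279326983230456482242756608))) (.node (.leaf (nat_lit 324518553658426726783156020576256)) (.leaf (nat_lit 0)))) (.node (.node (.leaf (nat_lit 680564733846828724862822598920294629376)) (.leaf (nat_lit 0))) (.node (.leaf (nat_lit 9903520314283042199192993792)) (.leaf (nat_lit 0))))))) (.node (.node (.node (.node (.node (.node (.leaf (nat_lit 0)) (.leaf (nat_lit 0))) (.leaf (nat_lit 2722342012275700589977582022582501113856))) (.node (.leaf (nat_lit 0)) (.leaf (nat_lit 0)))) (.node (.node (.leaf (nat_lit 5192296858534901991967543470850048)) (.leaf (nat_lit 42535295865117307932921825928971026432))) (.node (.leaf (nat_lit 2722342012117263607762167181462208512000)) (.leaf (nat_lit 0))))) (.node (.node (.node (.leaf (nat_lit 2722342012275719932938272061047376445440)) (.leaf (nat_lit 680564733841876926926749214863536422912))) (.node (.leaf (nat_lit 2658458526871051091732348592547954688)) (.leaf (nat_lit 680564733841876926926749214863536422912)))) (.node (.node (.leaf (nat_lit 1329227995786134243456387428745478144)) (.leaf (nat_lit 0))) (.node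 (.leaf (nat_lit 5192296858534827628530496329220096)) (.leaf (nat_lit 0)))))) (.node (.node (.node (.node (.leaf (nat_lit 170141183461861915456474977259808096256)) (.leaf (nat_lit 41538374868278621028243970633760768))) (.node (.leaf (nat_lit 316912650057057350374175801344)) (.leaf (nat_lit 42535295865117307932921825928971026432)))) (.node (.node (.leaf (nat_lit 340282366921247953195562435370138206208)) (.leaf (nat_lit 170141183460469231731687303715884105728))) (.node (.leaf (nat_lit 340282448050886363079877648289498136576)) (.leaf (nat_lit 0))))) (.node (.node (.node (.leaf (nat_lit 9903520316588885345845641216)) (.leaf (nat_lit 1361129467683753853853498429727072845824))) (.node (.leaf (nat_lit 1361130765757969092023315369665742503936)) (.leaf (nat_lit 0)))) (.node (.node (.leaf (nat_lit 19807040628566084398385987584)) (.leaf (nat_lit 1361129467683753853853498429727072845824))) (.node (.leaf (nat_lit 0)) (.leaf (nat_lit 0)))))))))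

/-- Odd entries of class 4. -/
def el4 : List EntTable :=
  [[((nat_lit 1099511680801), [((nat_lit 99), (nat_lit 0)), ((nat_lit 99), (nat_lit 5)), ((nat_lit 1), (nat_lit 40)), ((nat_lit 2), (nat_lit 40)), ((nat_lit 6), (nat_lit 40)), ((nat_lit 99), (nat_lit 40)), ((nat_lit 23), (nat_lit 8)), ((nat_lit 29), (nat_lit 9)), ((nat_lit 32), (nat_lit 10)), ((nat_lit 33), (nat_lit 11)), ((nat_lit 36), (nat_lit 14)), ((nat_lit 37), (nat_lit 15))]),
      ((nat_lit 111708182375825408), [((nat_lit 38), (nat_lit 18)), ((nat_lit 39), (nat_lit 24)), ((nat_lit 71), (nat_lit 41)), ((nat_lit 72), (nat_lit 42)), ((nat_lit 74), (nat_lit 43)), ((nat_lit 75), (nat_lit 44)), ((nat_lit 78), (nat_lit 46)), ((nat_lit 79), (nat_lit 47)), ((nat_lit 83), (nat_lit 50)), ((nat_lit 84), (nat_lit 51)), ((nat_lit 88), (nat_lit 55)), ((nat_lit 89), (nat_lit 56))]),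
      ((nat_lit 262403674247745006964321541947392), [((nat_lit 92), (nat_lit 60)), ((nat_lit 93), (nat_lit 61)), ((nat_lit 95), (nat_lit 64)), ((nat_lit 96), (nat_lit 65)), ((nat_lit 97), (nat_lit 67)), ((nat_lit 98), (nat_lit 68)), ((nat_lit 115), (nat_lit 100)), ((nat_lit 121), (nat_lit 101)), ((nat_lit 124), (nat_lit 102)), ((nat_lit 125), (nat_lit 103)), ((nat_lit 128), (nat_lit 106)), ((nat_lit 129), (nat_lit 107))]),
      ((nat_lit 84374823951190948963620565349826560), [((nat_lit 130), (nat_lit 110)), ((nat_lit 131), (nat_lit 116))])],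
    [((nat_lit 33554677), [((nat_lit 114), (nat_lit 0)), ((nat_lit 114), (nat_lit 2)), ((nat_lit 114), (nat_lit 4)), ((nat_lit 114), (nat_lit 5)), ((nat_lit 114), (nat_lit 6)), ((nat_lit 0), (nat_lit 25)), ((nat_lit 1), (nat_lit 25)), ((nat_lit 2), (nat_lit 25)), ((nat_lit 5), (nat_lit 25)), ((nat_lit 6), (nat_lit 25)), ((nat_lit 114), (nat_lit 25)), ((nat_lit 22), (nat_lit 7))]),
      ((nat_lit 6124295680), [((nat_lit 44), (nat_lit 9)), ((nat_lit 47), (nat_lit 10)), ((nat_lit 49), (nat_lit 12)), ((nat_lit 56), (nat_lit 14)), ((nat_lit 58), (nat_lit 16)), ((nat_lit 59), (nat_lit 19)), ((nat_lit 68), (nat_lit 24)), ((nat_lit 70), (nat_lit 26)), ((nat_lit 73), (nat_lit 27)), ((nat_lit 75), (nat_lit 29)), ((nat_lit 77), (nat_lit 30)), ((nat_lit 79), (nat_lit 32))]),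
      ((nat_lit 3049483012019322880000), [((nat_lit 87), (nat_lit 34)), ((nat_lit 89), (nat_lit 36)), ((nat_lit 98), (nat_lit 39)), ((nat_lit 100), (nat_lit 41)), ((nat_lit 103), (nat_lit 50)), ((nat_lit 105), (nat_lit 52)), ((nat_lit 107), (nat_lit 60)), ((nat_lit 109), (nat_lit 62)), ((nat_lit 110), (nat_lit 64)), ((nat_lit 112), (nat_lit 66)), ((nat_lit 113), (nat_lit 69)), ((nat_lit 115), (nat_lit 71))]),
      ((nat_lit 166153545290194121687806974724407296), [((nat_lit 120), (nat_lit 80)), ((nat_lit 123), (nat_lit 81)), ((nat_lit 125), (nat_lit 83)), ((nat_lit 127), (nat_lit 90)), ((nat_lit 129), (nat_lit 92)), ((nat_lit 130), (nat_lit 95)), ((nat_lit 132), (nat_lit 117))])],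
    [((nat_lit 2099668), [((nat_lit 118), (nat_lit 2)), ((nat_lit 118), (nat_lit 4)), ((nat_lit 118), (nat_lit 6)), ((nat_lit 0), (nat_lit 21)), ((nat_lit 1), (nat_lit 21)), ((nat_lit 4), (nat_lit 21)), ((nat_lit 5), (nat_lit 21)), ((nat_lit 6), (nat_lit 21)), ((nat_lit 118), (nat_lit 21)), ((nat_lit 26), (nat_lit 7)), ((nat_lit 42), (nat_lit 8)), ((nat_lit 51), (nat_lit 11))]),
      ((nat_lit 164430188544), [((nat_lit 52), (nat_lit 12)), ((nat_lit 61), (nat_lit 15)), ((nat_lit 62), (nat_lit 16)), ((nat_lit 65), (nat_lit 18)), ((nat_lit 66), (nat_lit 19)), ((nat_lit 70), (nat_lit 22)), ((nat_lit 72), (nat_lit 23)), ((nat_lit 80), (nat_lit 27)), ((nat_lit 81), (nat_lit 30)), ((nat_lit 84), (nat_lit 33)), ((nat_lit 90), (nat_lit 34)), ((nat_lit 93), (nat_lit 37))]),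
      ((nat_lit 180188697474310042812416), [((nat_lit 96), (nat_lit 38)), ((nat_lit 101), (nat_lit 43)), ((nat_lit 102), (nat_lit 46)), ((nat_lit 105), (nat_lit 49)), ((nat_lit 106), (nat_lit 55)), ((nat_lit 109), (nat_lit 58)), ((nat_lit 112), (nat_lit 59)), ((nat_lit 116), (nat_lit 67)), ((nat_lit 117), (nat_lit 69)), ((nat_lit 120), (nat_lit 73)), ((nat_lit 121), (nat_lit 74)), ((nat_lit 123), (nat_lit 77))]),
      ((nat_lit 10384752637924429972657440127188992), [((nat_lit 124), (nat_lit 78)), ((nat_lit 127), (nat_lit 87)), ((nat_lit 128), (nat_lit 88)), ((nat_lit 131), (nat_lit 97)), ((nat_lit 132), (nat_lit 113))])],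
    [((nat_lit 16322), [((nat_lit 126), (nat_lit 1)), ((nat_lit 126), (nat_lit 6)), ((nat_lit 0), (nat_lit 13)), ((nat_lit 3), (nat_lit 13)), ((nat_lit 5), (nat_lit 13)), ((nat_lit 126), (nat_lit 13)), ((nat_lit 34), (nat_lit 7)), ((nat_lit 55), (nat_lit 8)), ((nat_lit 60), (nat_lit 9)), ((nat_lit 64), (nat_lit 10)), ((nat_lit 67), (nat_lit 11)), ((nat_lit 69), (nat_lit 12))]),
      ((nat_lit 22006151118848), [((nat_lit 85), (nat_lit 17)), ((nat_lit 86), (nat_lit 20)), ((nat_lit 87), (nat_lit 22)), ((nat_lit 88), (nat_lit 23)), ((nat_lit 90), (nat_lit 26)), ((nat_lit 91), (nat_lit 28)), ((nat_lit 92), (nat_lit 29)), ((nat_lit 94), (nat_lit 31)), ((nat_lit 95), (nat_lit 32)), ((nat_lit 97), (nat_lit 33)), ((nat_lit 106), (nat_lit 42)), ((nat_lit 107), (nat_lit 44))]),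
      ((nat_lit 648144834571202801434624), [((nat_lit 108), (nat_lit 45)), ((nat_lit 110), (nat_lit 47)), ((nat_lit 111), (nat_lit 48)), ((nat_lit 113), (nat_lit 49)), ((nat_lit 116), (nat_lit 51)), ((nat_lit 117), (nat_lit 52)), ((nat_lit 119), (nat_lit 53)), ((nat_lit 122), (nat_lit 54)), ((nat_lit 127), (nat_lit 70)), ((nat_lit 128), (nat_lit 72)), ((nat_lit 129), (nat_lit 75)), ((nat_lit 130), (nat_lit 79))]),
      ((nat_lit 40564838550116454681961297870848), [((nat_lit 131), (nat_lit 84)), ((nat_lit 132), (nat_lit 105))])]]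

/-- Rank certificate of class 4. -/
def rc4 : RankCert :=
  [((nat_lit 8), (nat_lit 3), [(nat_lit 0), (nat_lit 1), (nat_lit 13), (nat_lit 25), (nat_lit 40)]),
    ((nat_lit 20), (nat_lit 4), [(nat_lit 2), (nat_lit 21), (nat_lit 25)]),
    ((nat_lit 33), (nat_lit 5), [(nat_lit 0), (nat_lit 25), (nat_lit 40)]),
    ((nat_lit 72057662757404672), (nat_lit 56), [(nat_lit 14), (nat_lit 36)]),
    ((nat_lit 2305843146652647424), (nat_lit 61), [(nat_lit 15), (nat_lit 37)]),
    ((nat_lit 4899916394579099648), (nat_lit 62), [(nat_lit 16), (nat_lit 58)]),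
    ((nat_lit 36893488422297010176), (nat_lit 65), [(nat_lit 18), (nat_lit 38)]),
    ((nat_lit 74363437047141629952), (nat_lit 66), [(nat_lit 19), (nat_lit 59)]),
    ((nat_lit 295147905729108639744), (nat_lit 68), [(nat_lit 24), (nat_lit 39)]),
    ((nat_lit 1180591620734662475776), (nat_lit 70), [(nat_lit 7), (nat_lit 34)]),
    ((nat_lit 4722402516064719077376), (nat_lit 72), [(nat_lit 8), (nat_lit 55)]),
    ((nat_lit 37780084802054491471872), (nat_lit 75), [(nat_lit 9), (nat_lit 60)]),
    ((nat_lit 604481356692130080227328), (nat_lit 79), [(nat_lit 10), (nat_lit 64)]),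
    ((nat_lit 1218370552580368465133568), (nat_lit 80), [(nat_lit 27), (nat_lit 73)]),
    ((nat_lit 2568967366681086996250624), (nat_lit 81), [(nat_lit 30), (nat_lit 77)]),
    ((nat_lit 19342960690038464875331584), (nat_lit 84), [(nat_lit 11), (nat_lit 67)]),
    ((nat_lit 38685626227668133590597632), (nat_lit 85), [(nat_lit 17)]),
    ((nat_lit 77371252455336267181195264), (nat_lit 86), [(nat_lit 20)]),
    ((nat_lit 154742504910672551613562880), (nat_lit 87), [(nat_lit 7), (nat_lit 26)]),
    ((nat_lit 309485009857378263798644736), (nat_lit 88), [(nat_lit 8), (nat_lit 42)]),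
    ((nat_lit 618970019642690137449562112), (nat_lit 89), [(nat_lit 36)]),
    ((nat_lit 1237940039285380292150296576), (nat_lit 90), [(nat_lit 7), (nat_lit 22)]),
    ((nat_lit 2475880078570760549798248448), (nat_lit 91), [(nat_lit 28)]),
    ((nat_lit 4951760158294460196926259200), (nat_lit 92), [(nat_lit 9), (nat_lit 44)]),
    ((nat_lit 9903520314283042199192993792), (nat_lit 93), [(nat_lit 37)]),
    ((nat_lit 19807040628566084398385987584), (nat_lit 94), [(nat_lit 31)]),
    ((nat_lit 39614081275579053612264849408), (nat_lit 95), [(nat_lit 10), (nat_lit 47)]),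
    ((nat_lit 79228162514264337593543950336), (nat_lit 96), [(nat_lit 38)]),
    ((nat_lit 158456325176104879585167933440), (nat_lit 97), [(nat_lit 11), (nat_lit 51)]),
    ((nat_lit 316912650057057350374175801344), (nat_lit 98), [(nat_lit 39)]),
    ((nat_lit 633825300114114700748351602758), (nat_lit 99), [(nat_lit 40)]),
    ((nat_lit 1267650602589412642931525812224), (nat_lit 100), [(nat_lit 41), (nat_lit 71)]),
    ((nat_lit 2535301219345924734471987265536), (nat_lit 101), [(nat_lit 43), (nat_lit 74)]),
    ((nat_lit 5070602703144372509644106498048), (nat_lit 102), [(nat_lit 46), (nat_lit 78)]),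
    ((nat_lit 10141214473232392129007023292416), (nat_lit 103), [(nat_lit 50), (nat_lit 83)]),
    ((nat_lit 40564819207893641724802789015552), (nat_lit 105), [(nat_lit 12), (nat_lit 69)]),
    ((nat_lit 81129638414606717728984079007744), (nat_lit 106), [(nat_lit 8), (nat_lit 23)]),
    ((nat_lit 162259276829214516330675340050432), (nat_lit 107), [(nat_lit 9), (nat_lit 29)]),
    ((nat_lit 324518553658426726783156020576256), (nat_lit 108), [(nat_lit 45)]),
    ((nat_lit 649037107316853453566312041152512), (nat_lit 109), [(nat_lit 58)]),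
    ((nat_lit 1298074214633725354017439575179264), (nat_lit 110), [(nat_lit 10), (nat_lit 32)]),
    ((nat_lit 2596148429267413814265248164610048), (nat_lit 111), [(nat_lit 48)]),
    ((nat_lit 5192296858534827628530496329220096), (nat_lit 112), [(nat_lit 59)]),
    ((nat_lit 10384593717070245557937900944883712), (nat_lit 113), [(nat_lit 12), (nat_lit 52)]),
    ((nat_lit 20769187434139310514121985316880454), (nat_lit 114), [(nat_lit 0), (nat_lit 40)]),
    ((nat_lit 41538374868278621028243970633760768), (nat_lit 115), [(nat_lit 71)]),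
    ((nat_lit 83076749736557389632692339347554304), (nat_lit 116), [(nat_lit 11), (nat_lit 33)]),
    ((nat_lit 166153499473115074413852790821486592), (nat_lit 117), [(nat_lit 12), (nat_lit 49)]),
    ((nat_lit 332306998946228968225951765070086214), (nat_lit 118), [(nat_lit 0), (nat_lit 2), (nat_lit 40)]),
    ((nat_lit 664613997892457936451903530140172288), (nat_lit 119), [(nat_lit 53)]),
    ((nat_lit 1329227995784915872903807060280344576), (nat_lit 120), [(nat_lit 73)]),
    ((nat_lit 2658455991569831745807614120560689152), (nat_lit 121), [(nat_lit 74)]),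
    ((nat_lit 5316911983139663491615228241121378304), (nat_lit 122), [(nat_lit 54)]),
    ((nat_lit 10633823966279326983230456482242756608), (nat_lit 123), [(nat_lit 77)]),
    ((nat_lit 21267647932558653966460912964485513216), (nat_lit 124), [(nat_lit 78)]),
    ((nat_lit 42535295865117307932921825928971026432), (nat_lit 125), [(nat_lit 83)]),
    ((nat_lit 85070591730234615865843651857942052864), (nat_lit 126), [(nat_lit 1)]),
    ((nat_lit 170141183460469231731687303715884105728), (nat_lit 127), [(nat_lit 22), (nat_lit 26), (nat_lit 34)]),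
    ((nat_lit 340282366920938463463374607431768211456), (nat_lit 128), [(nat_lit 23), (nat_lit 42), (nat_lit 55)]),
    ((nat_lit 680564733841876926926749214863536422912), (nat_lit 129), [(nat_lit 29), (nat_lit 44), (nat_lit 60)]),
    ((nat_lit 1361129467683753853853498429727072845824), (nat_lit 130), [(nat_lit 32), (nat_lit 47), (nat_lit 64)]),
    ((nat_lit 2722258935367507707706996859454145691648), (nat_lit 131), [(nat_lit 33), (nat_lit 51), (nat_lit 67)]),
    ((nat_lit 5444517870735015415413993718908291383296), (nat_lit 132), [(nat_lit 49), (nat_lit 52), (nat_lit 69)])]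

theorem rc4_ok : rankOk chevE7 133 [92, 107, 111, 119] el4 cols4 rc4 = true := by decide +kernel

theorem rc4_len : rc4.length = 63 := rfl

end Cfsg.Agent.Small.C2Inv.Cert.E7
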