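import Cfsg.Agent.Lib.Small.Char2Invol.Data.TabF4

/-!
The certificate for the involutions of type F4 in characteristic two.
-/

set_option autoImplicit false

namespace Cfsg.Agent.Small.C2Inv.Cert.F4

open Cfsg.Lie Cfsg.Agent.Small.C2Inv.Cert

def nodes0 : Tr (Node) :=
  .node (.node (.node (.node (.node (.leaf ⟨(nat_lit 281474959933440), [], .br 24 1 122⟩) (.leaf ⟨(nat_lit 281473164771328), [(nat_lit 26)], .sq 26 34 36 1 129⟩)) (.node (.leaf ⟨(nat_lit 274847842172928), [(nat_lit 32)], .kill 33 39 [] 65⟩) (.leaf ⟨(nat_lit 44255343017984), [(nat_lit 38), (nat_lit 43), (nat_lit 45)], .w 2 193⟩))) (.node (.node (.leaf ⟨(nat_lit 274877906944000), [(nat_lit 41)], .w 3 33⟩) (.leaf ⟨(nat_lit 61576946122752), [(nat_lit 32), (nat_lit 43)], .kill 27 44 [] 176⟩)) (.node (.leaf ⟨(nat_lit 228698418577408), [(nat_lit 44)], .br 46 97 102⟩) (.leaf ⟨(nat_lit 106102872080384), [(nat_lit 39), (nat_lit 45), (nat_lit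 46)], .w 3 225⟩)))) (.node (.node (.node (.leaf ⟨(nat_lit 280375465082880), [], .br 40 17 53⟩) (.leaf ⟨(nat_lit 93134218330112), [(nat_lit 31)], .w 2 145⟩)) (.node (.leaf ⟨(nat_lit 281413773426688), [(nat_lit 36)], .sq 30 36 40 2 81⟩) (.leaf ⟨(nat_lit 75866302316544), [(nat_lit 40), (nat_lit 42)], .br 46 209 212⟩))) (.node (.node (.leaf ⟨(nat_lit 280993940373504), [(nat_lit 36)], .w 1 49⟩) (.leaf ⟨(nat_lit 43984760078336), [(nat_lit 32), (nat_lit 43)], .br 45 177 233⟩)) (.leaf ⟨(nat_lit 261758929338368), [(nat_lit 31), (nat_lit 36)], .sq 31 41 45 1 113⟩)))) (.node (.node (.node (.node (.leaf ⟨(nat_lit 281470681743360), [], .br 32 9 54⟩) (.leaf ⟨(nat_lit 278952018968576), [(nat_lit 31)], .kill 35 40 [] 137⟩)) (.node (.leaf ⟨(nat_lit 281466252558336), [(nat_lit 27)], .kill 25 28 [] 73⟩) (.leaf ⟨(nat_lit 93048318984192), [(nat_lit 31), (nat_lit 37)], .kill 26 39 [] 201⟩))) (.node (.node (.leaf ⟨(nat_lit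 281466386776064), [(nat_lit 33)], .kill 27 34 [] 41⟩) (.leaf ⟨(nat_lit 93769940598784), [(nat_lit 26), (nat_lit 31)], .sq 31 35 40 1 169⟩)) (.node (.leaf ⟨(nat_lit 158329674399744), [(nat_lit 44), (nat_lit 47)], .rep 2⟩) (.leaf ⟨(nat_lit 184722248433664), [(nat_lit 32), (nat_lit 43), (nat_lit 45)], .kill 26 47 [] 233⟩)))) (.node (.node (.node (.leaf ⟨(nat_lit 0), [], .one⟩) (.leaf ⟨(nat_lit 43980465111040), [(nat_lit 43)], .br 45 153 179⟩)) (.node (.leaf ⟨(nat_lit 261962940284928), [(nat_lit 38)], .br 32 89 111⟩) (.leaf ⟨(nat_lit 35734127902720), [(nat_lit 39), (nat_lit 45)], .rep 3⟩))) (.node (.node (.leaf ⟨(nat_lit 281473902968832), [(nat_lit 30)], .sq 30 33 37 1 57⟩) (.leaf ⟨(nat_lit 4949949808640), [(nat_lit 31), (nat_lit 39), (nat_lit 42)], .w 2 218⟩)) (.leaf ⟨(nat_lit 281474808938496), [(nat_lit 25)], .kill 24 26 [] 121⟩))))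

def nodes1 : Tr (Node) :=
  .node (.node (.node (.node (.node (.leaf ⟨(nat_lit 281474708275200), [], .br 28 5 70⟩) (.leaf ⟨(nat_lit 279261256613888), [(nat_lit 31)], .kill 33 38 [] 133⟩)) (.node (.leaf ⟨(nat_lit 281474439839744), [(nat_lit 29)], .sq 29 33 36 1 69⟩) (.leaf ⟨(nat_lit 93735849295872), [(nat_lit 26), (nat_lit 28)], .w 0 197⟩))) (.node (.node (.leaf ⟨(nat_lit 255086697644032), [(nat_lit 43)], .kill 30 46 [] 37⟩) (.leaf ⟨(nat_lit 62057982459904), [(nat_lit 32), (nat_lit 36)], .sq 36 37 44 1 165⟩)) (.node (.leaf ⟨(nat_lit 263882790666240), [(nat_lit 44), (nat_lit 45)], .kill 25 46 [] 101⟩) (.leaf ⟨(nat_lit 74769005281280), [(nat_lit 26), (nat_lit 31), (nat_lit 42), (nat_lit 46)], .dbl 6 17 26 24 [(nat_lit 24), (nat_lit 32), (nat_lit 47)] [(nat_lit 43)] 229⟩)))) (.node (.node (.node (.leaf ⟨(nat_lit 263882790666240), [], .br 44 21 95⟩) (.leaf ⟨(nat_lit 61851824029696), [(nat_lit 32)], .br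 38 149 203⟩)) (.node (.leaf ⟨(nat_lit 280450627010560), [(nat_lit 36)], .kill 30 40 [] 85⟩) (.leaf ⟨(nat_lit 75866302316544), [(nat_lit 40), (nat_lit 42), (nat_lit 46)], .kill 19 42 [(nat_lit 38), (nat_lit 44)] 213⟩))) (.node (.node (.leaf ⟨(nat_lit 279825709268992), [(nat_lit 39)], .w 1 53⟩) (.leaf ⟨(nat_lit 52776558133248), [(nat_lit 44), (nat_lit 45)], .w 2 181⟩)) (.leaf ⟨(nat_lit 259763917029376), [(nat_lit 32), (nat_lit 38)], .sq 32 42 47 1 117⟩)))) (.node (.node (.node (.node (.leaf ⟨(nat_lit 281406257233920), [], .br 36 13 46⟩) (.leaf ⟨(nat_lit 234516287324160), [(nat_lit 26)], .kill 45 47 [] 141⟩)) (.node (.leaf ⟨(nat_lit 281448401600512), [(nat_lit 28)], .w 3 77⟩) (.leaf ⟨(nat_lit 44259637985280), [(nat_lit 32), (nat_lit 38)], .br 43 205 217⟩))) (.node (.node (.leaf ⟨(nat_lit 281440616972288), [(nat_lit 35)], .kill 24 36 [] 45⟩) (.leaf ⟨(nat_lit 87963144814592), [(nat_lit 26), (nat_lit 31)],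 .w 0 173⟩)) (.node (.leaf ⟨(nat_lit 251788162760704), [(nat_lit 40), (nat_lit 42)], .w 2 109⟩) (.leaf ⟨(nat_lit 53326313947136), [(nat_lit 39), (nat_lit 44), (nat_lit 45)], .kill 34 44 [] 237⟩)))) (.node (.node (.node (.leaf ⟨(nat_lit 211106232532992), [(nat_lit 46)], .kill 24 47 [] 29⟩) (.leaf ⟨(nat_lit 140737488355328), [(nat_lit 47)], .rep 0⟩)) (.node (.leaf ⟨(nat_lit 260584255782912), [(nat_lit 40)], .br 42 93 107⟩) (.leaf ⟨(nat_lit 36352603193344), [(nat_lit 36), (nat_lit 40), (nat_lit 45)], .w 2 221⟩))) (.node (.node (.leaf ⟨(nat_lit 281459944325120), [(nat_lit 31)], .w 2 61⟩) (.leaf ⟨(nat_lit 4400261103616), [(nat_lit 26), (nat_lit 31), (nat_lit 42)], .kill 13 26 [(nat_lit 36)] 189⟩)) (.leaf ⟨(nat_lit 281474859270144), [(nat_lit 24)], .w 2 125⟩))))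

def nodes2 : Tr (Node) :=
  .node (.node (.node (.node (.node (.leaf ⟨(nat_lit 281474909601792), [], .br 26 3 125⟩) (.leaf ⟨(nat_lit 281464574836736), [(nat_lit 31)], .kill 25 32 [] 131⟩)) (.node (.leaf ⟨(nat_lit 273198574731264), [(nat_lit 32)], .kill 41 46 [] 67⟩) (.leaf ⟨(nat_lit 93778798968832), [(nat_lit 26), (nat_lit 28)], .sq 28 33 35 1 195⟩))) (.node (.node (.leaf ⟨(nat_lit 268280837177344), [(nat_lit 42)], .w 2 35⟩) (.leaf ⟨(nat_lit 62092342198272), [(nat_lit 32), (nat_lit 35)], .kill 24 36 [] 163⟩)) (.node (.leaf ⟨(nat_lit 17592186044416), [(nat_lit 44)], .rep 1⟩) (.leaf ⟨(nat_lit 44259637985280), [(nat_lit 32), (nat_lit 38), (nat_lit 43), (nat_lit 45)], .kill 10 38 [(nat_lit 24)] 227⟩)))) (.node (.node (.node (.leaf ⟨(nat_lit 277076930199552), [], .br 42 19 33⟩) (.leaf ⟨(nat_lit 62057982459904), [(nat_lit 32)], .br 36 147 164⟩)) (.node (.leaf ⟨(nat_lit 281275260731392), [(nat_lit 36)],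 .kill 27 38 [] 83⟩) (.leaf ⟨(nat_lit 9895604649984), [(nat_lit 40), (nat_lit 43)], .w 1 211⟩))) (.node (.node (.leaf ⟨(nat_lit 280650342989824), [(nat_lit 38)], .w 2 51⟩) (.leaf ⟨(nat_lit 35188667056128), [(nat_lit 32), (nat_lit 45)], .w 0 179⟩)) (.leaf ⟨(nat_lit 259555611115520), [(nat_lit 31), (nat_lit 36)], .w 2 115⟩)))) (.node (.node (.node (.node (.leaf ⟨(nat_lit 281457796841472), [], .br 34 11 42⟩) (.leaf ⟨(nat_lit 242668135251968), [(nat_lit 31)], .w 1 139⟩)) (.node (.leaf ⟨(nat_lit 281466118340608), [(nat_lit 28)], .sq 28 34 37 1 75⟩) (.leaf ⟨(nat_lit 61714385076224), [(nat_lit 32), (nat_lit 37)], .w 3 203⟩))) (.node (.node (.leaf ⟨(nat_lit 281457796841472), [(nat_lit 34)], .kill 25 35 [] 43⟩) (.leaf ⟨(nat_lit 93460702953472), [(nat_lit 26), (nat_lit 31)], .kill 35 40 [] 171⟩)) (.node (.leaf ⟨(nat_lit 258385232527360), [(nat_lit 40), (nat_lit 41)], .w 3 107⟩) (.leaf ⟨(nat_lit 45079976738816),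 [(nat_lit 40), (nat_lit 43), (nat_lit 45)], .kill 20 43 [(nat_lit 39), (nat_lit 44)] 235⟩)))) (.node (.node (.node (.leaf ⟨(nat_lit 246290604621824), [(nat_lit 45)], .kill 25 46 [] 27⟩) (.leaf ⟨(nat_lit 35184372088832), [(nat_lit 45)], .w 2 155⟩)) (.node (.leaf ⟨(nat_lit 262233523224576), [(nat_lit 39)], .w 1 91⟩) (.leaf ⟨(nat_lit 9075265896448), [(nat_lit 32), (nat_lit 38), (nat_lit 43)], .kill 14 32 [(nat_lit 39)] 219⟩))) (.node (.node (.leaf ⟨(nat_lit 281463165550592), [(nat_lit 30)], .w 3 59⟩) (.leaf ⟨(nat_lit 92361191325696), [(nat_lit 26), (nat_lit 31), (nat_lit 42)], .kill 28 44 [] 187⟩)) (.leaf ⟨(nat_lit 281474959933440), [(nat_lit 24)], .sq 24 25 26 1 123⟩))))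

def nodes3 : Tr (Node) :=
  .node (.node (.node (.node (.node (.leaf ⟨(nat_lit 281473902968832), [], .br 30 7 56⟩) (.leaf ⟨(nat_lit 279183947202560), [(nat_lit 26)], .sq 26 37 39 1 135⟩)) (.node (.leaf ⟨(nat_lit 281474708275200), [(nat_lit 28)], .sq 28 33 35 1 74⟩) (.leaf ⟨(nat_lit 93767793115136), [(nat_lit 26), (nat_lit 35)], .w 1 199⟩))) (.node (.node (.leaf ⟨(nat_lit 281337537757184), [(nat_lit 37)], .kill 24 38 [] 39⟩) (.leaf ⟨(nat_lit 61645665599488), [(nat_lit 32), (nat_lit 36)], .w 1 203⟩)) (.node (.leaf ⟨(nat_lit 228698418577408), [(nat_lit 44), (nat_lit 46)], .kill 24 47 [] 103⟩) (.leaf ⟨(nat_lit 224302519549952), [(nat_lit 31), (nat_lit 42), (nat_lit 46)], .sq 31 43 47 1 231⟩)))) (.node (.node (.node (.leaf ⟨(nat_lit 211106232532992), [], .br 46 23 28⟩) (.leaf ⟨(nat_lit 52780853100544), [(nat_lit 32)], .w 0 151⟩)) (.node (.leaf ⟨(nat_lit 261758929338368), [(nat_lit 36)], .br 31 87 112⟩)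 (.leaf ⟨(nat_lit 88235808129024), [(nat_lit 38), (nat_lit 44), (nat_lit 46)], .kill 35 44 [] 215⟩))) (.node (.node (.leaf ⟨(nat_lit 281470681743360), [(nat_lit 32)], .sq 32 33 39 1 61⟩) (.leaf ⟨(nat_lit 158329674399744), [(nat_lit 44), (nat_lit 47)], .rep 2⟩)) (.leaf ⟨(nat_lit 184997126340608), [(nat_lit 32), (nat_lit 38)], .kill 42 47 [] 204⟩)))) (.node (.node (.node (.node (.leaf ⟨(nat_lit 281200098803712), [], .br 38 15 49⟩) (.leaf ⟨(nat_lit 93778530533376), [(nat_lit 26)], .br 31 143 167⟩)) (.node (.leaf ⟨(nat_lit 281414310297600), [(nat_lit 29)], .kill 33 36 [] 79⟩) (.leaf ⟨(nat_lit 44255343017984), [(nat_lit 38), (nat_lit 43)], .w 2 207⟩))) (.node (.node (.leaf ⟨(nat_lit 281406257233920), [(nat_lit 36)], .sq 36 37 44 1 47⟩) (.leaf ⟨(nat_lit 75318693986304), [(nat_lit 31), (nat_lit 42)], .br 39 175 183⟩)) (.leaf ⟨(nat_lit 185817465094144), [(nat_lit 40), (nat_lit 43)], .kill 31 47 [] 157⟩)))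 (.node (.node (.node (.leaf ⟨(nat_lit 140737488355328), [(nat_lit 47)], .rep 0⟩) (.leaf ⟨(nat_lit 9895604649984), [(nat_lit 40), (nat_lit 43)], .w 1 159⟩)) (.node (.leaf ⟨(nat_lit 247390116249600), [(nat_lit 40)], .w 0 95⟩) (.leaf ⟨(nat_lit 71193377898496), [(nat_lit 38), (nat_lit 39), (nat_lit 46)], .kill 22 38 [(nat_lit 45), (nat_lit 47)] 223⟩))) (.node (.node (.leaf ⟨(nat_lit 281444911939584), [(nat_lit 32)], .sq 32 41 46 1 63⟩) (.leaf ⟨(nat_lit 8869107466240), [(nat_lit 32), (nat_lit 36), (nat_lit 43)], .w 1 191⟩)) (.leaf ⟨(nat_lit 281474775384064), [(nat_lit 26)], .sq 26 30 32 1 127⟩))))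

def nodes4 : Tr (Node) :=
  .node (.node (.node (.node (.node (.leaf ⟨(nat_lit 281474943156224), [], .br 25 2 119⟩) (.leaf ⟨(nat_lit 281455984902144), [(nat_lit 26)], .w 1 130⟩)) (.node (.leaf ⟨(nat_lit 274298086359040), [(nat_lit 32)], .kill 34 40 [] 66⟩) (.leaf ⟨(nat_lit 75316546502656), [(nat_lit 39), (nat_lit 42), (nat_lit 46)], .w 1 212⟩))) (.node (.node (.leaf ⟨(nat_lit 277076930199552), [(nat_lit 42)], .kill 25 43 [] 34⟩) (.leaf ⟨(nat_lit 61989262983168), [(nat_lit 32), (nat_lit 37)], .kill 24 38 [] 202⟩)) (.node (.leaf ⟨(nat_lit 158329674399744), [(nat_lit 44)], .br 47 98 99⟩) (.leaf ⟨(nat_lit 176471616258048), [(nat_lit 39), (nat_lit 45), (nat_lit 47)], .kill 26 47 [] 237⟩)))) (.node (.node (.node (.leaf ⟨(nat_lit 279275953455104), [], .br 41 18 31⟩) (.leaf ⟨(nat_lit 62092342198272), [(nat_lit 32)], .br 35 146 162⟩)) (.node (.leaf ⟨(nat_lit 281412699684864), [(nat_lit 36)], .sq 36 37 44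 1 82⟩) (.leaf ⟨(nat_lit 5497558138880), [(nat_lit 40), (nat_lit 42)], .w 2 210⟩))) (.node (.node (.leaf ⟨(nat_lit 281200098803712), [(nat_lit 38)], .kill 25 39 [] 50⟩) (.leaf ⟨(nat_lit 8800387989504), [(nat_lit 32), (nat_lit 43)], .w 1 178⟩)) (.leaf ⟨(nat_lit 259559906082816), [(nat_lit 31), (nat_lit 36)], .kill 25 32 [] 114⟩)))) (.node (.node (.node (.node (.leaf ⟨(nat_lit 281466386776064), [], .br 33 10 40⟩) (.leaf ⟨(nat_lit 277852507340800), [(nat_lit 31)], .kill 41 45 [] 138⟩)) (.node (.leaf ⟨(nat_lit 281465984122880), [(nat_lit 27)], .w 2 74⟩) (.leaf ⟨(nat_lit 92498563170304), [(nat_lit 31), (nat_lit 37)], .w 2 202⟩))) (.node (.node (.leaf ⟨(nat_lit 281449206906880), [(nat_lit 33)], .w 1 42⟩) (.leaf ⟨(nat_lit 93735580860416), [(nat_lit 26), (nat_lit 31)], .kill 33 38 [] 170⟩)) (.node (.leaf ⟨(nat_lit 262783279038464), [(nat_lit 40), (nat_lit 41)], .kill 24 42 [] 106⟩) (.leaf ⟨(nat_lit 43984760078336),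 [(nat_lit 32), (nat_lit 43), (nat_lit 45)], .kill 13 32 [(nat_lit 40)] 234⟩)))) (.node (.node (.node (.leaf ⟨(nat_lit 140737488355328), [(nat_lit 47)], .rep 0⟩) (.leaf ⟨(nat_lit 8796093022208), [(nat_lit 43)], .w 1 154⟩)) (.node (.leaf ⟨(nat_lit 261958645317632), [(nat_lit 38)], .w 2 90⟩) (.leaf ⟨(nat_lit 44259637985280), [(nat_lit 32), (nat_lit 38), (nat_lit 43)], .br 45 218 226⟩))) (.node (.node (.leaf ⟨(nat_lit 281465313034240), [(nat_lit 30)], .kill 24 31 [] 58⟩) (.leaf ⟨(nat_lit 75318693986304), [(nat_lit 31), (nat_lit 39), (nat_lit 42), (nat_lit 46)], .kill 10 39 [(nat_lit 26)] 228⟩)) (.leaf ⟨(nat_lit 281474741829632), [(nat_lit 25)], .w 3 126⟩))))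

def nodes5 : Tr (Node) :=
  .node (.node (.node (.node (.node (.leaf ⟨(nat_lit 281474439839744), [], .br 29 6 68⟩) (.leaf ⟨(nat_lit 278986378706944), [(nat_lit 31)], .w 1 134⟩)) (.node (.leaf ⟨(nat_lit 281465849905152), [(nat_lit 29)], .sq 29 34 38 1 77⟩) (.leaf ⟨(nat_lit 93769940598784), [(nat_lit 26), (nat_lit 35)], .sq 31 35 40 2 198⟩))) (.node (.node (.leaf ⟨(nat_lit 184717953466368), [(nat_lit 43)], .kill 31 47 [] 152⟩) (.leaf ⟨(nat_lit 61920543506432), [(nat_lit 32), (nat_lit 36)], .kill 27 38 [] 166⟩)) (.node (.leaf ⟨(nat_lit 193514046488576), [(nat_lit 44), (nat_lit 45)], .w 2 102⟩) (.leaf ⟨(nat_lit 224306814517248), [(nat_lit 31), (nat_lit 32), (nat_lit 42), (nat_lit 43), (nat_lit 46)], .kill 25 32 [] 230⟩)))) (.node (.node (.node (.leaf ⟨(nat_lit 246290604621824), [], .br 45 22 26⟩) (.leaf ⟨(nat_lit 61576946122752), [(nat_lit 32)], .br 43 150 160⟩)) (.node (.leaf ⟨(nat_lit 279351115382784),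 [(nat_lit 36)], .kill 37 44 [] 86⟩) (.leaf ⟨(nat_lit 89335319756800), [(nat_lit 38), (nat_lit 40), (nat_lit 44), (nat_lit 46)], .kill 28 40 [] 214⟩))) (.node (.node (.leaf ⟨(nat_lit 280375465082880), [(nat_lit 40)], .kill 33 44 [] 91⟩) (.leaf ⟨(nat_lit 87960930222080), [(nat_lit 44), (nat_lit 46)], .w 3 182⟩)) (.leaf ⟨(nat_lit 255365870518272), [(nat_lit 32), (nat_lit 38)], .kill 41 46 [] 118⟩)))) (.node (.node (.node (.node (.leaf ⟨(nat_lit 281337537757184), [], .br 37 14 38⟩) (.leaf ⟨(nat_lit 93778798968832), [(nat_lit 26)], .br 28 142 194⟩)) (.node (.leaf ⟨(nat_lit 281448670035968), [(nat_lit 29)], .sq 29 35 39 1 78⟩) (.leaf ⟨(nat_lit 35463544963072), [(nat_lit 32), (nat_lit 38)], .w 0 206⟩))) (.node (.node (.leaf ⟨(nat_lit 281371897495552), [(nat_lit 35)], .w 3 46⟩) (.leaf ⟨(nat_lit 75866369425408), [(nat_lit 26), (nat_lit 42)], .w 1 174⟩)) (.node (.leaf ⟨(nat_lit 256186209271808), [(nat_lit 40),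 (nat_lit 43)], .kill 30 46 [] 110⟩) (.leaf ⟨(nat_lit 35734127902720), [(nat_lit 39), (nat_lit 45)], .rep 3⟩)))) (.node (.node (.node (.leaf ⟨(nat_lit 70368744177664), [(nat_lit 46)], .w 3 30⟩) (.leaf ⟨(nat_lit 45079976738816), [(nat_lit 40), (nat_lit 43)], .br 45 158 234⟩)) (.node (.leaf ⟨(nat_lit 256186209271808), [(nat_lit 40)], .br 43 94 109⟩) (.leaf ⟨(nat_lit 71536975282176), [(nat_lit 36), (nat_lit 40), (nat_lit 46)], .w 1 222⟩))) (.node (.node (.leaf ⟨(nat_lit 281462091808768), [(nat_lit 32)], .sq 32 34 40 1 62⟩) (.leaf ⟨(nat_lit 4468913471488), [(nat_lit 31), (nat_lit 36), (nat_lit 42)], .w 2 190⟩)) (.leaf ⟨(nat_lit 281474909601792), [(nat_lit 26)], .sq 26 27 29 1 126⟩))))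

def nodes6 : Tr (Node) :=
  .node (.node (.node (.node (.node (.leaf ⟨(nat_lit 281474842492928), [], .br 27 4 71⟩) (.leaf ⟨(nat_lit 281460279869440), [(nat_lit 31)], .sq 31 41 45 1 132⟩)) (.node (.leaf ⟨(nat_lit 202829830553600), [(nat_lit 32)], .kill 42 47 [] 145⟩) (.leaf ⟨(nat_lit 93770209034240), [(nat_lit 26), (nat_lit 28)], .kill 33 35 [] 196⟩))) (.node (.node (.leaf ⟨(nat_lit 272678883688448), [(nat_lit 43)], .kill 27 44 [] 36⟩) (.leaf ⟨(nat_lit 62023622721536), [(nat_lit 32), (nat_lit 35)], .w 3 164⟩)) (.node (.leaf ⟨(nat_lit 158329674399744), [(nat_lit 44), (nat_lit 47)], .rep 2⟩) (.leaf ⟨(nat_lit 43984776855552), [(nat_lit 24), (nat_lit 32), (nat_lit 43), (nat_lit 45)], .w 2 228⟩)))) (.node (.node (.node (.leaf ⟨(nat_lit 272678883688448), [], .br 43 20 35⟩) (.leaf ⟨(nat_lit 61989262983168), [(nat_lit 32)], .br 37 148 161⟩)) (.node (.leaf ⟨(nat_lit 281000382824448), [(nat_lit 36)], .kill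 28 39 [] 84⟩) (.leaf ⟨(nat_lit 35734127902720), [(nat_lit 39), (nat_lit 45)], .rep 3⟩))) (.node (.node (.leaf ⟨(nat_lit 280925220896768), [(nat_lit 39)], .kill 27 40 [] 52⟩) (.leaf ⟨(nat_lit 43980465111040), [(nat_lit 43), (nat_lit 45)], .kill 20 43 [(nat_lit 44)] 180⟩)) (.leaf ⟨(nat_lit 259557758599168), [(nat_lit 32), (nat_lit 36)], .w 1 116⟩)))) (.node (.node (.node (.node (.leaf ⟨(nat_lit 281440616972288), [], .br 35 12 44⟩) (.leaf ⟨(nat_lit 269700659412992), [(nat_lit 26)], .sq 26 45 47 1 140⟩)) (.node (.leaf ⟨(nat_lit 281448938471424), [(nat_lit 28)], .kill 24 29 [] 76⟩) (.leaf ⟨(nat_lit 61851824029696), [(nat_lit 32), (nat_lit 38)], .kill 35 44 [] 204⟩))) (.node (.node (.leaf ⟨(nat_lit 281423437103104), [(nat_lit 34)], .w 2 44⟩) (.leaf ⟨(nat_lit 92361191325696), [(nat_lit 26), (nat_lit 31)], .br 42 172 186⟩)) (.node (.leaf ⟨(nat_lit 260584255782912), [(nat_lit 40), (nat_lit 42)], .kill 25 43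 [] 108⟩) (.leaf ⟨(nat_lit 54425825574912), [(nat_lit 39), (nat_lit 40), (nat_lit 44), (nat_lit 45)], .kill 27 40 [] 236⟩)))) (.node (.node (.node (.leaf ⟨(nat_lit 175921860444160), [(nat_lit 45)], .w 2 28⟩) (.leaf ⟨(nat_lit 70368744177664), [(nat_lit 46)], .w 3 156⟩)) (.node (.leaf ⟨(nat_lit 262783279038464), [(nat_lit 40)], .br 41 92 105⟩) (.leaf ⟨(nat_lit 9620726743040), [(nat_lit 38), (nat_lit 39), (nat_lit 43)], .w 1 220⟩))) (.node (.node (.leaf ⟨(nat_lit 281464239292416), [(nat_lit 31)], .kill 25 32 [] 60⟩) (.leaf ⟨(nat_lit 74769005281280), [(nat_lit 26), (nat_lit 31), (nat_lit 42)], .br 46 188 228⟩)) (.leaf ⟨(nat_lit 281474926379008), [(nat_lit 24)], .kill 25 26 [] 124⟩))))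

def nodes7 : Tr (Node) :=
  .node (.node (.node (.node (.node (.leaf ⟨(nat_lit 281472829227008), [], .br 31 8 55⟩) (.leaf ⟨(nat_lit 279046508249088), [(nat_lit 26)], .w 1 136⟩)) (.node (.leaf ⟨(nat_lit 281474842492928), [(nat_lit 27)], .sq 27 33 34 1 72⟩) (.leaf ⟨(nat_lit 93117038460928), [(nat_lit 31), (nat_lit 37)], .sq 36 37 44 2 200⟩))) (.node (.node (.leaf ⟨(nat_lit 281062659850240), [(nat_lit 37)], .w 3 49⟩) (.leaf ⟨(nat_lit 93778530533376), [(nat_lit 26), (nat_lit 31)], .sq 31 33 38 1 168⟩)) (.node (.leaf ⟨(nat_lit 87960930222080), [(nat_lit 44), (nat_lit 46)], .w 3 104⟩) (.leaf ⟨(nat_lit 215506426527744), [(nat_lit 31), (nat_lit 42), (nat_lit 46)], .w 2 232⟩)))) (.node (.node (.node (.leaf ⟨(nat_lit 140737488355328), [], .br 47 24 25⟩) (.leaf ⟨(nat_lit 45079976738816), [(nat_lit 43)], .br 40 152 157⟩)) (.node (.leaf ⟨(nat_lit 261756781854720), [(nat_lit 36)], .w 1 88⟩) (.leaf ⟨(nat_lit 70643622084608),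 [(nat_lit 38), (nat_lit 46)], .w 2 216⟩))) (.node (.node (.leaf ⟨(nat_lit 281472829227008), [(nat_lit 31)], .sq 31 33 38 1 59⟩) (.leaf ⟨(nat_lit 75318693986304), [(nat_lit 31), (nat_lit 39), (nat_lit 42)], .br 46 184 185⟩)) (.leaf ⟨(nat_lit 281474943156224), [(nat_lit 25)], .sq 25 27 28 1 120⟩)))) (.node (.node (.node (.node (.leaf ⟨(nat_lit 280925220896768), [], .br 39 16 51⟩) (.leaf ⟨(nat_lit 93776383049728), [(nat_lit 26)], .w 1 144⟩)) (.node (.leaf ⟨(nat_lit 281345590820864), [(nat_lit 29)], .w 0 80⟩) (.leaf ⟨(nat_lit 75316546502656), [(nat_lit 39), (nat_lit 42)], .w 1 208⟩))) (.node (.node (.leaf ⟨(nat_lit 281268818280448), [(nat_lit 36)], .kill 27 38 [] 48⟩) (.leaf ⟨(nat_lit 74768938172416), [(nat_lit 31), (nat_lit 42)], .w 2 176⟩)) (.leaf ⟨(nat_lit 261962940284928), [(nat_lit 32), (nat_lit 38)], .sq 32 41 46 1 116⟩))) (.node (.node (.node (.leaf ⟨(nat_lit 279275953455104), [(nat_lit 41)], .kill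 24 42 [] 32⟩) (.leaf ⟨(nat_lit 35734127902720), [(nat_lit 39), (nat_lit 45)], .rep 3⟩)) (.node (.leaf ⟨(nat_lit 263882790666240), [(nat_lit 44)], .br 45 96 100⟩) (.leaf ⟨(nat_lit 246840360435712), [(nat_lit 39), (nat_lit 45), (nat_lit 46), (nat_lit 47)], .kill 24 47 [] 224⟩))) (.node (.node (.leaf ⟨(nat_lit 279245888684032), [(nat_lit 32)], .sq 32 42 47 1 64⟩) (.leaf ⟨(nat_lit 35463544963072), [(nat_lit 32), (nat_lit 38), (nat_lit 45)], .w 0 192⟩)) (.leaf ⟨(nat_lit 281473701642240), [(nat_lit 26)], .kill 27 29 [] 128⟩))))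

def nodes : Tr (Node) :=
  (.node (.node (.node nodes0 nodes1) (.node nodes2 nodes3)) (.node (.node nodes4 nodes5) (.node nodes6 nodes7)))

/-- The root sets of the classes. -/
def reps : List (List ℕ) := [[(nat_lit 47)], [(nat_lit 44)], [(nat_lit 47), (nat_lit 44)], [(nat_lit 39), (nat_lit 45)]]

theorem node_ok0 : ((List.range' 0 238).all fun p => force p fun p => okNode chevF4 tab reps nodes 238 p) = true := by decide +kernel

theorem root_ok : rootOk chevF4 tab nodes = true := by decide +kernel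

theorem node_ok : ∀ i, i < 238 → okNode chevF4 tab reps nodes 238 i = true := fun i hi =>
  chunkF (P := fun p => okNode chevF4 tab reps nodes 238 p) node_ok0 (chunk_end (n := 238) (lo := 238) le_rfl) i (Nat.zero_le i) hi

end Cfsg.Agent.Small.C2Inv.Cert.F4
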