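import Cfsg.Agent.Lib.Small.Char2Invol.Rep
import Cfsg.Agent.Lib.Small.Char2Invol.Data.CertF4

/-!
Rank certificates for the representatives of type F4.
-/

set_option autoImplicit false

namespace Cfsg.Agent.Small.C2Inv.Cert.F4

open Cfsg.Lie Cfsg.Agent.Small.C2Inv.Cert

/-- Columns of class 0. -/
def cols0 : Tr ℕ :=
  (.node (.node (.node (.node (.node (.node (.leaf (nat_lit 0)) (.leaf (nat_lit 0))) (.node (.leaf (nat_lit 0)) (.leaf (nat_lit 0)))) (.node (.node (.leaf (nat_lit 34359738368)) (.leaf (nat_lit 0))) (.leaf (nat_lit 0)))) (.node (.node (.node (.leaf (nat_lit 2251799813685253)) (.leaf (nat_lit 0))) (.leaf (nat_lit 140737488355328))) (.node (.node (.leaf (nat_lit 4398046511104)) (.leaf (nat_lit 0))) (.leaf (nat_lit 0))))) (.node (.node (.node (.node (.leaf (nat_lit 0)) (.leaf (nat_lit 0))) (.node (.leaf (nat_lit 0)) (.leaf (nat_lit 0)))) (.node (.node (.leaf (nat_lit 0)) (.leaf (nat_lit 0))) (.leaf (nat_lit 0)))) (.node (.node (.node (.leaf (nat_lit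 1073741824)) (.leaf (nat_lit 0))) (.leaf (nat_lit 281474976710656))) (.node (.node (.leaf (nat_lit 0)) (.leaf (nat_lit 0))) (.leaf (nat_lit 0)))))) (.node (.node (.node (.node (.node (.leaf (nat_lit 0)) (.leaf (nat_lit 0))) (.node (.leaf (nat_lit 0)) (.leaf (nat_lit 0)))) (.node (.node (.leaf (nat_lit 68719476736)) (.leaf (nat_lit 0))) (.leaf (nat_lit 562949953421312)))) (.node (.node (.node (.leaf (nat_lit 268435456)) (.leaf (nat_lit 0))) (.leaf (nat_lit 0))) (.node (.node (.leaf (nat_lit 8796093022208)) (.leaf (nat_lit 0))) (.leaf (nat_lit 0))))) (.node (.node (.node (.node (.leaf (nat_lit 2251799813685248)) (.leaf (nat_lit 0))) (.node (.leaf (nat_lit 70368744177664)) (.leaf (nat_lit 0)))) (.node (.node (.leaf (nat_lit 1099511627776)) (.leaf (nat_lit 0))) (.leaf (nat_lit 1125899906842624)))) (.node (.node (.node (.leaf (nat_lit 8589934592)) (.leaf (nat_lit 0))) (.leaf (nat_lit 0))) (.node (.node (.leaf (nat_lit 17592186044416)) (.leaf (nat_lit 0))) (.leaf (nat_lit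 0)))))))

/-- Odd entries of class 0. -/
def el0 : List EntTable :=
  [[((nat_lit 15352), [((nat_lit 51), (nat_lit 3)), ((nat_lit 0), (nat_lit 4)), ((nat_lit 2), (nat_lit 4)), ((nat_lit 51), (nat_lit 4)), ((nat_lit 28), (nat_lit 5)), ((nat_lit 30), (nat_lit 6)), ((nat_lit 33), (nat_lit 7)), ((nat_lit 35), (nat_lit 8)), ((nat_lit 36), (nat_lit 9)), ((nat_lit 40), (nat_lit 11)), ((nat_lit 42), (nat_lit 12)), ((nat_lit 43), (nat_lit 13))]),
      ((nat_lit 173572096), [((nat_lit 44), (nat_lit 15)), ((nat_lit 46), (nat_lit 19)), ((nat_lit 47), (nat_lit 20)), ((nat_lit 48), (nat_lit 22)), ((nat_lit 49), (nat_lit 25)), ((nat_lit 50), (nat_lit 27))])]]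

/-- Rank certificate of class 0. -/
def rc0 : RankCert :=
  [((nat_lit 5), (nat_lit 2), [(nat_lit 3), (nat_lit 4)]),
    ((nat_lit 268435456), (nat_lit 28), [(nat_lit 5)]),
    ((nat_lit 1073741824), (nat_lit 30), [(nat_lit 6)]),
    ((nat_lit 8589934592), (nat_lit 33), [(nat_lit 7)]),
    ((nat_lit 34359738368), (nat_lit 35), [(nat_lit 8)]),
    ((nat_lit 68719476736), (nat_lit 36), [(nat_lit 9)]),
    ((nat_lit 1099511627776), (nat_lit 40), [(nat_lit 11)]),
    ((nat_lit 4398046511104), (nat_lit 42), [(nat_lit 12)]),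
    ((nat_lit 8796093022208), (nat_lit 43), [(nat_lit 13)]),
    ((nat_lit 17592186044416), (nat_lit 44), [(nat_lit 15)]),
    ((nat_lit 70368744177664), (nat_lit 46), [(nat_lit 19)]),
    ((nat_lit 140737488355328), (nat_lit 47), [(nat_lit 20)]),
    ((nat_lit 281474976710656), (nat_lit 48), [(nat_lit 22)]),
    ((nat_lit 562949953421312), (nat_lit 49), [(nat_lit 25)]),
    ((nat_lit 1125899906842624), (nat_lit 50), [(nat_lit 27)]),
    ((nat_lit 2251799813685248), (nat_lit 51), [(nat_lit 3)])]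

theorem rc0_ok : rankOk chevF4 52 [47] el0 cols0 rc0 = true := by decide +kernel

theorem rc0_len : rc0.length = 16 := rfl

/-- Columns of class 1. -/
def cols1 : Tr ℕ :=
  (.node (.node (.node (.node (.node (.node (.leaf (nat_lit 281474976710656)) (.leaf (nat_lit 0))) (.node (.leaf (nat_lit 4398046511104)) (.leaf (nat_lit 0)))) (.node (.node (.leaf (nat_lit 562952100904960)) (.leaf (nat_lit 0))) (.leaf (nat_lit 0)))) (.node (.node (.node (.leaf (nat_lit 35184376283136)) (.leaf (nat_lit 0))) (.leaf (nat_lit 0))) (.node (.node (.leaf (nat_lit 274877906944)) (.leaf (nat_lit 0))) (.leaf (nat_lit 0))))) (.node (.node (.node (.node (.leaf (nat_lit 0)) (.leaf (nat_lit 0))) (.node (.leaf (nat_lit 17592186044416)) (.leaf (nat_lit 0)))) (.node (.node (.leaf (nat_lit 2251808403619840)) (.leaf (nat_lit 0))) (.leaf (nat_lit 0)))) (.node (.node (.node (.leaf (nat_lit 140737505132544)) (.leaf (nat_lit 0))) (.leaf (nat_lit 0))) (.node (.node (.leaf (nat_lit 1099511627776))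 (.leaf (nat_lit 0))) (.leaf (nat_lit 0)))))) (.node (.node (.node (.node (.node (.leaf (nat_lit 0)) (.leaf (nat_lit 0))) (.node (.leaf (nat_lit 8796093022208)) (.leaf (nat_lit 0)))) (.node (.node (.leaf (nat_lit 1125904201809920)) (.leaf (nat_lit 0))) (.leaf (nat_lit 0)))) (.node (.node (.node (.leaf (nat_lit 70368752566272)) (.leaf (nat_lit 0))) (.leaf (nat_lit 0))) (.node (.node (.leaf (nat_lit 549755813888)) (.leaf (nat_lit 0))) (.leaf (nat_lit 0))))) (.node (.node (.node (.node (.leaf (nat_lit 0)) (.leaf (nat_lit 0))) (.node (.leaf (nat_lit 0)) (.leaf (nat_lit 0)))) (.node (.node (.leaf (nat_lit 137438953472)) (.leaf (nat_lit 0))) (.leaf (nat_lit 0)))) (.node (.node (.node (.leaf (nat_lit 281474976710658)) (.leaf (nat_lit 0))) (.leaf (nat_lit 0))) (.node (.node (.leaf (nat_lit 2199023255552)) (.leaf (nat_lit 0))) (.leaf (nat_lit 0)))))))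

/-- Odd entries of class 1. -/
def el1 : List EntTable :=
  [[((nat_lit 1009), [((nat_lit 48), (nat_lit 0)), ((nat_lit 1), (nat_lit 7)), ((nat_lit 48), (nat_lit 7)), ((nat_lit 22), (nat_lit 4)), ((nat_lit 45), (nat_lit 4)), ((nat_lit 23), (nat_lit 5)), ((nat_lit 46), (nat_lit 5)), ((nat_lit 24), (nat_lit 6)), ((nat_lit 47), (nat_lit 6)), ((nat_lit 31), (nat_lit 8)), ((nat_lit 49), (nat_lit 8)), ((nat_lit 32), (nat_lit 9))]),
      ((nat_lit 523776), [((nat_lit 50), (nat_lit 9)), ((nat_lit 33), (nat_lit 10)), ((nat_lit 51), (nat_lit 10)), ((nat_lit 37), (nat_lit 11)), ((nat_lit 38), (nat_lit 12)), ((nat_lit 39), (nat_lit 13)), ((nat_lit 40), (nat_lit 14)), ((nat_lit 41), (nat_lit 15)), ((nat_lit 42), (nat_lit 16)), ((nat_lit 43), (nat_lit 17)), ((nat_lit 44), (nat_lit 18))])]]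

/-- Rank certificate of class 1. -/
def rc1 : RankCert :=
  [((nat_lit 2), (nat_lit 1), [(nat_lit 0), (nat_lit 7)]),
    ((nat_lit 137438953472), (nat_lit 37), [(nat_lit 11)]),
    ((nat_lit 274877906944), (nat_lit 38), [(nat_lit 12)]),
    ((nat_lit 549755813888), (nat_lit 39), [(nat_lit 13)]),
    ((nat_lit 1099511627776), (nat_lit 40), [(nat_lit 14)]),
    ((nat_lit 2199023255552), (nat_lit 41), [(nat_lit 15)]),
    ((nat_lit 4398046511104), (nat_lit 42), [(nat_lit 16)]),
    ((nat_lit 8796093022208), (nat_lit 43), [(nat_lit 17)]),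
    ((nat_lit 17592186044416), (nat_lit 44), [(nat_lit 18)]),
    ((nat_lit 35184376283136), (nat_lit 45), [(nat_lit 4)]),
    ((nat_lit 70368752566272), (nat_lit 46), [(nat_lit 5)]),
    ((nat_lit 140737505132544), (nat_lit 47), [(nat_lit 6)]),
    ((nat_lit 281474976710656), (nat_lit 48), [(nat_lit 0)]),
    ((nat_lit 562952100904960), (nat_lit 49), [(nat_lit 8)]),
    ((nat_lit 1125904201809920), (nat_lit 50), [(nat_lit 9)]),
    ((nat_lit 2251808403619840), (nat_lit 51), [(nat_lit 10)])]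

theorem rc1_ok : rankOk chevF4 52 [44] el1 cols1 rc1 = true := by decide +kernel

theorem rc1_len : rc1.length = 16 := rfl

/-- Columns of class 2. -/
def cols2 : Tr ℕ :=
  (.node (.node (.node (.node (.node (.node (.leaf (nat_lit 281474976710656)) (.leaf (nat_lit 0))) (.node (.leaf (nat_lit 4398046511104)) (.leaf (nat_lit 0)))) (.node (.node (.leaf (nat_lit 562986460643328)) (.leaf (nat_lit 0))) (.leaf (nat_lit 0)))) (.node (.node (.node (.leaf (nat_lit 2568459166679045)) (.leaf (nat_lit 0))) (.leaf (nat_lit 140737488355328))) (.node (.node (.leaf (nat_lit 4672924418048)) (.leaf (nat_lit 0))) (.leaf (nat_lit 0))))) (.node (.node (.node (.node (.leaf (nat_lit 0)) (.leaf (nat_lit 0))) (.node (.leaf (nat_lit 17592186044416)) (.leaf (nat_lit 0)))) (.node (.node (.leaf (nat_lit 2251808403619840)) (.leaf (nat_lit 0))) (.leaf (nat_lit 0)))) (.node (.node (.node (.leaf (nat_lit 140738578874368)) (.leaf (nat_lit 0))) (.leaf (nat_lit 281474976710656))) (.node (.node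 (.leaf (nat_lit 1099511627776)) (.leaf (nat_lit 0))) (.leaf (nat_lit 0)))))) (.node (.node (.node (.node (.node (.leaf (nat_lit 0)) (.leaf (nat_lit 0))) (.node (.leaf (nat_lit 8796093022208)) (.leaf (nat_lit 0)))) (.node (.node (.leaf (nat_lit 1125972921286656)) (.leaf (nat_lit 0))) (.leaf (nat_lit 562949953421312)))) (.node (.node (.node (.leaf (nat_lit 70369021001728)) (.leaf (nat_lit 0))) (.leaf (nat_lit 0))) (.node (.node (.leaf (nat_lit 9345848836096)) (.leaf (nat_lit 0))) (.leaf (nat_lit 0))))) (.node (.node (.node (.node (.leaf (nat_lit 2251799813685248)) (.leaf (nat_lit 0))) (.node (.leaf (nat_lit 70368744177664)) (.leaf (nat_lit 0)))) (.node (.node (.leaf (nat_lit 1236950581248)) (.leaf (nat_lit 0))) (.leaf (nat_lit 1125899906842624)))) (.node (.node (.node (.leaf (nat_lit 281483566645250)) (.leaf (nat_lit 0))) (.leaf (nat_lit 0))) (.node (.node (.leaf (nat_lit 19791209299968)) (.leaf (nat_lit 0))) (.leaf (nat_lit 0)))))))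

/-- Odd entries of class 2. -/
def el2 : List EntTable :=
  [[((nat_lit 15352), [((nat_lit 51), (nat_lit 3)), ((nat_lit 0), (nat_lit 4)), ((nat_lit 2), (nat_lit 4)), ((nat_lit 51), (nat_lit 4)), ((nat_lit 28), (nat_lit 5)), ((nat_lit 30), (nat_lit 6)), ((nat_lit 33), (nat_lit 7)), ((nat_lit 35), (nat_lit 8)), ((nat_lit 36), (nat_lit 9)), ((nat_lit 40), (nat_lit 11)), ((nat_lit 42), (nat_lit 12)), ((nat_lit 43), (nat_lit 13))]),
      ((nat_lit 173572096), [((nat_lit 44), (nat_lit 15)), ((nat_lit 46), (nat_lit 19)), ((nat_lit 47), (nat_lit 20)), ((nat_lit 48), (nat_lit 22)), ((nat_lit 49), (nat_lit 25)), ((nat_lit 50), (nat_lit 27))])],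
    [((nat_lit 1009), [((nat_lit 48), (nat_lit 0)), ((nat_lit 1), (nat_lit 7)), ((nat_lit 48), (nat_lit 7)), ((nat_lit 22), (nat_lit 4)), ((nat_lit 45), (nat_lit 4)), ((nat_lit 23), (nat_lit 5)), ((nat_lit 46), (nat_lit 5)), ((nat_lit 24), (nat_lit 6)), ((nat_lit 47), (nat_lit 6)), ((nat_lit 31), (nat_lit 8)), ((nat_lit 49), (nat_lit 8)), ((nat_lit 32), (nat_lit 9))]),
      ((nat_lit 523776), [((nat_lit 50), (nat_lit 9)), ((nat_lit 33), (nat_lit 10)), ((nat_lit 51), (nat_lit 10)), ((nat_lit 37), (nat_lit 11)), ((nat_lit 38), (nat_lit 12)), ((nat_lit 39), (nat_lit 13)), ((nat_lit 40), (nat_lit 14)), ((nat_lit 41), (nat_lit 15)), ((nat_lit 42), (nat_lit 16)), ((nat_lit 43), (nat_lit 17)), ((nat_lit 44), (nat_lit 18))])]]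

/-- Rank certificate of class 2. -/
def rc2 : RankCert :=
  [((nat_lit 2), (nat_lit 1), [(nat_lit 0), (nat_lit 3), (nat_lit 7), (nat_lit 10)]),
    ((nat_lit 276824064), (nat_lit 28), [(nat_lit 5), (nat_lit 19)]),
    ((nat_lit 1090519040), (nat_lit 30), [(nat_lit 6), (nat_lit 20)]),
    ((nat_lit 8589934592), (nat_lit 33), [(nat_lit 3), (nat_lit 10)]),
    ((nat_lit 36507222016), (nat_lit 35), [(nat_lit 8), (nat_lit 25)]),
    ((nat_lit 73014444032), (nat_lit 36), [(nat_lit 9), (nat_lit 27)]),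
    ((nat_lit 137438953472), (nat_lit 37), [(nat_lit 11), (nat_lit 14)]),
    ((nat_lit 274877906944), (nat_lit 38), [(nat_lit 12), (nat_lit 16)]),
    ((nat_lit 549755813888), (nat_lit 39), [(nat_lit 13), (nat_lit 17)]),
    ((nat_lit 1099511627776), (nat_lit 40), [(nat_lit 14)]),
    ((nat_lit 2199023255552), (nat_lit 41), [(nat_lit 15), (nat_lit 18)]),
    ((nat_lit 4398046511104), (nat_lit 42), [(nat_lit 16)]),
    ((nat_lit 8796093022208), (nat_lit 43), [(nat_lit 17)]),
    ((nat_lit 17592186044416), (nat_lit 44), [(nat_lit 18)]),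
    ((nat_lit 35184376283141), (nat_lit 45), [(nat_lit 0), (nat_lit 3), (nat_lit 4)]),
    ((nat_lit 70368744177664), (nat_lit 46), [(nat_lit 19)]),
    ((nat_lit 140737488355328), (nat_lit 47), [(nat_lit 20)]),
    ((nat_lit 281474976710656), (nat_lit 48), [(nat_lit 0)]),
    ((nat_lit 562949953421312), (nat_lit 49), [(nat_lit 25)]),
    ((nat_lit 1125899906842624), (nat_lit 50), [(nat_lit 27)]),
    ((nat_lit 2251799813685248), (nat_lit 51), [(nat_lit 3)])]

theorem rc2_ok : rankOk chevF4 52 [47, 44] el2 cols2 rc2 = true := by decide +kernel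

theorem rc2_len : rc2.length = 21 := rfl

/-- Columns of class 3. -/
def cols3 : Tr ℕ :=
  (.node (.node (.node (.node (.node (.node (.leaf (nat_lit 0)) (.leaf (nat_lit 0))) (.node (.leaf (nat_lit 8589934592)) (.leaf (nat_lit 0)))) (.node (.node (.leaf (nat_lit 68719738880)) (.leaf (nat_lit 0))) (.leaf (nat_lit 281474976710656)))) (.node (.node (.node (.leaf (nat_lit 1128099500531712)) (.leaf (nat_lit 0))) (.leaf (nat_lit 35184372088832))) (.node (.node (.leaf (nat_lit 8796093022209)) (.leaf (nat_lit 0))) (.leaf (nat_lit 0))))) (.node (.node (.node (.node (.leaf (nat_lit 571746046443520)) (.leaf (nat_lit 0))) (.node (.leaf (nat_lit 0)) (.leaf (nat_lit 0)))) (.node (.node (.leaf (nat_lit 34359738368)) (.leaf (nat_lit 0))) (.leaf (nat_lit 2256197860196352)))) (.node (.node (.node (.leaf (nat_lit 562949953421321)) (.leaf (nat_lit 281474976710656))) (.leaf (nat_lit 549755813888))) (.node (.node (.leaf (nat_lit 4398046511104)) (.leaf (nat_lit 0))) (.leaf (nat_lit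 2251799813685248)))))) (.node (.node (.node (.node (.node (.leaf (nat_lit 8796093022208)) (.leaf (nat_lit 0))) (.node (.leaf (nat_lit 17592186044416)) (.leaf (nat_lit 0)))) (.node (.node (.leaf (nat_lit 17179869184)) (.leaf (nat_lit 0))) (.leaf (nat_lit 1128098930098176)))) (.node (.node (.node (.leaf (nat_lit 2256199001063424)) (.leaf (nat_lit 0))) (.leaf (nat_lit 70368744177664))) (.node (.node (.leaf (nat_lit 2199023255552)) (.leaf (nat_lit 0))) (.leaf (nat_lit 1125899906842624))))) (.node (.node (.node (.node (.leaf (nat_lit 0)) (.leaf (nat_lit 0))) (.node (.leaf (nat_lit 140874927308800)) (.leaf (nat_lit 0)))) (.node (.node (.leaf (nat_lit 281749871394816)) (.leaf (nat_lit 0))) (.leaf (nat_lit 0)))) (.node (.node (.node (.leaf (nat_lit 17594333659136)) (.leaf (nat_lit 0))) (.leaf (nat_lit 1099511627776))) (.node (.node (.leaf (nat_lit 4294967296)) (.leaf (nat_lit 0))) (.leaf (nat_lit 17592186044416)))))))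

/-- Odd entries of class 3. -/
def el3 : List EntTable :=
  [[((nat_lit 6582), [((nat_lit 43), (nat_lit 1)), ((nat_lit 43), (nat_lit 2)), ((nat_lit 0), (nat_lit 12)), ((nat_lit 43), (nat_lit 12)), ((nat_lit 13), (nat_lit 4)), ((nat_lit 29), (nat_lit 4)), ((nat_lit 14), (nat_lit 5)), ((nat_lit 30), (nat_lit 5)), ((nat_lit 17), (nat_lit 7)), ((nat_lit 18), (nat_lit 8)), ((nat_lit 36), (nat_lit 8)), ((nat_lit 24), (nat_lit 11))]),
      ((nat_lit 277139259392), [((nat_lit 32), (nat_lit 15)), ((nat_lit 33), (nat_lit 16)), ((nat_lit 37), (nat_lit 19)), ((nat_lit 47), (nat_lit 19)), ((nat_lit 39), (nat_lit 22)), ((nat_lit 40), (nat_lit 23)), ((nat_lit 41), (nat_lit 25)), ((nat_lit 50), (nat_lit 25)), ((nat_lit 42), (nat_lit 26)), ((nat_lit 51), (nat_lit 26)), ((nat_lit 44), (nat_lit 31)), ((nat_lit 48), (nat_lit 38))])],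
    [((nat_lit 28404), [((nat_lit 49), (nat_lit 2)), ((nat_lit 0), (nat_lit 6)), ((nat_lit 3), (nat_lit 6)), ((nat_lit 49), (nat_lit 6)), ((nat_lit 25), (nat_lit 4)), ((nat_lit 26), (nat_lit 5)), ((nat_lit 31), (nat_lit 7)), ((nat_lit 34), (nat_lit 9)), ((nat_lit 35), (nat_lit 10)), ((nat_lit 38), (nat_lit 11)), ((nat_lit 41), (nat_lit 13)), ((nat_lit 42), (nat_lit 14))]),
      ((nat_lit 1630666752), [((nat_lit 44), (nat_lit 17)), ((nat_lit 45), (nat_lit 20)), ((nat_lit 46), (nat_lit 21)), ((nat_lit 48), (nat_lit 24)), ((nat_lit 50), (nat_lit 29)), ((nat_lit 51), (nat_lit 30))])]]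

/-- Rank certificate of class 3. -/
def rc3 : RankCert :=
  [((nat_lit 1), (nat_lit 0), [(nat_lit 1), (nat_lit 12)]),
    ((nat_lit 8), (nat_lit 3), [(nat_lit 2), (nat_lit 6), (nat_lit 12)]),
    ((nat_lit 570433536), (nat_lit 29), [(nat_lit 4), (nat_lit 25)]),
    ((nat_lit 1140867072), (nat_lit 30), [(nat_lit 5), (nat_lit 26)]),
    ((nat_lit 2147614720), (nat_lit 31), [(nat_lit 7), (nat_lit 17)]),
    ((nat_lit 4294967296), (nat_lit 32), [(nat_lit 15)]),
    ((nat_lit 8589934592), (nat_lit 33), [(nat_lit 16)]),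
    ((nat_lit 17179869184), (nat_lit 34), [(nat_lit 9)]),
    ((nat_lit 34359738368), (nat_lit 35), [(nat_lit 10)]),
    ((nat_lit 68719738880), (nat_lit 36), [(nat_lit 8)]),
    ((nat_lit 274894684160), (nat_lit 38), [(nat_lit 11), (nat_lit 24)]),
    ((nat_lit 549755813888), (nat_lit 39), [(nat_lit 22)]),
    ((nat_lit 1099511627776), (nat_lit 40), [(nat_lit 23)]),
    ((nat_lit 2199023255552), (nat_lit 41), [(nat_lit 13)]),
    ((nat_lit 4398046511104), (nat_lit 42), [(nat_lit 14)]),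
    ((nat_lit 8796093022208), (nat_lit 43), [(nat_lit 1)]),
    ((nat_lit 17592186044416), (nat_lit 44), [(nat_lit 17)]),
    ((nat_lit 35184372088832), (nat_lit 45), [(nat_lit 20)]),
    ((nat_lit 70368744177664), (nat_lit 46), [(nat_lit 21)]),
    ((nat_lit 140874927308800), (nat_lit 47), [(nat_lit 19)]),
    ((nat_lit 281474976710656), (nat_lit 48), [(nat_lit 24)]),
    ((nat_lit 562949953421312), (nat_lit 49), [(nat_lit 1), (nat_lit 2)]),
    ((nat_lit 1125899906842624), (nat_lit 50), [(nat_lit 13), (nat_lit 25)]),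
    ((nat_lit 2251799813685248), (nat_lit 51), [(nat_lit 14), (nat_lit 26)])]

theorem rc3_ok : rankOk chevF4 52 [39, 45] el3 cols3 rc3 = true := by decide +kernel

theorem rc3_len : rc3.length = 24 := rfl

end Cfsg.Agent.Small.C2Inv.Cert.F4
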