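import Cfsg.Agent.Lib.Small.Char2Invol.FastRow
import Cfsg.Agent.Lib.Lie.FactsE6

/-!
Tables of the commutator formula modulo two of type E6.
-/

set_option autoImplicit false

namespace Cfsg.Agent.Small.C2Inv.Cert.E6

open Cfsg.Lie Cfsg.Agent.Small.C2Inv.Cert

def rows0 : Tr (List Entry) :=
  .node (.node (.node (.node (.leaf [((nat_lit 46), (nat_lit 1), (nat_lit 1), (nat_lit 1)), ((nat_lit 47), (nat_lit 2), (nat_lit 1), (nat_lit 1)), ((nat_lit 48), (nat_lit 3), (nat_lit 1), (nat_lit 1)), ((nat_lit 49), (nat_lit 4), (nat_lit 1), (nat_lit 1)), ((nat_lit 50), (nat_lit 5), (nat_lit 1), (nat_lit 1)), ((nat_lit 51), (nat_lit 6), (nat_lit 1), (nat_lit 1)), ((nat_lit 52), (nat_lit 7), (nat_lit 1), (nat_lit 1)), ((nat_lit 53), (nat_lit 8), (nat_lit 1), (nat_lit 1)), ((nat_lit 54), (nat_lit 9), (nat_lit 1), (nat_lit 1)), ((nat_lit 55), (nat_lit 10), (nat_lit 1), (nat_lit 1)), ((nat_lit 61), (nat_lit 16),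 (nat_lit 1), (nat_lit 1)), ((nat_lit 62), (nat_lit 17), (nat_lit 1), (nat_lit 1)), ((nat_lit 63), (nat_lit 18), (nat_lit 1), (nat_lit 1)), ((nat_lit 64), (nat_lit 19), (nat_lit 1), (nat_lit 1)), ((nat_lit 65), (nat_lit 20), (nat_lit 1), (nat_lit 1)), ((nat_lit 66), (nat_lit 21), (nat_lit 1), (nat_lit 1)), ((nat_lit 67), (nat_lit 22), (nat_lit 1), (nat_lit 1)), ((nat_lit 68), (nat_lit 23), (nat_lit 1), (nat_lit 1)), ((nat_lit 69), (nat_lit 24), (nat_lit 1), (nat_lit 1)), ((nat_lit 70), (nat_lit 25), (nat_lit 1), (nat_lit 1))]) (.leaf [((nat_lit 0), (nat_lit 19), (nat_lit 1), (nat_lit 1)), ((nat_lit 1), (nat_lit 26), (nat_lit 1), (nat_lit 1)), ((nat_lit 4), (nat_lit 29), (nat_lit 1), (nat_lit 1)), ((nat_lit 5), (nat_lit 33), (nat_lit 1), (nat_lit 1)), ((nat_lit 6), (nat_lit 35), (nat_lit 1), (nat_lit 1)), ((nat_lit 9), (nat_lit 39), (nat_lit 1), (nat_lit 1)), ((nat_lit 10), (nat_lit 40), (nat_lit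 1), (nat_lit 1)), ((nat_lit 12), (nat_lit 47), (nat_lit 1), (nat_lit 1)), ((nat_lit 13), (nat_lit 48), (nat_lit 1), (nat_lit 1)), ((nat_lit 15), (nat_lit 53), (nat_lit 1), (nat_lit 1)), ((nat_lit 18), (nat_lit 56), (nat_lit 1), (nat_lit 1)), ((nat_lit 23), (nat_lit 58), (nat_lit 1), (nat_lit 1)), ((nat_lit 24), (nat_lit 59), (nat_lit 1), (nat_lit 1)), ((nat_lit 31), (nat_lit 61), (nat_lit 1), (nat_lit 1)), ((nat_lit 32), (nat_lit 62), (nat_lit 1), (nat_lit 1)), ((nat_lit 36), (nat_lit 65), (nat_lit 1), (nat_lit 1)), ((nat_lit 38), (nat_lit 66), (nat_lit 1), (nat_lit 1)), ((nat_lit 42), (nat_lit 67), (nat_lit 1), (nat_lit 1)), ((nat_lit 45), (nat_lit 70), (nat_lit 1), (nat_lit 1)), ((nat_lit 52), (nat_lit 71), (nat_lit 1), (nat_lit 1))])) (.leaf [((nat_lit 2), (nat_lit 1), (nat_lit 1), (nat_lit 1)), ((nat_lit 8), (nat_lit 6), (nat_lit 1), (nat_lit 1)), ((nat_lit 9), (nat_lit 7), (nat_lit 1), (nat_lit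 1)), ((nat_lit 14), (nat_lit 13), (nat_lit 1), (nat_lit 1)), ((nat_lit 19), (nat_lit 17), (nat_lit 1), (nat_lit 1)), ((nat_lit 20), (nat_lit 18), (nat_lit 1), (nat_lit 1)), ((nat_lit 25), (nat_lit 24), (nat_lit 1), (nat_lit 1)), ((nat_lit 29), (nat_lit 28), (nat_lit 1), (nat_lit 1)), ((nat_lit 33), (nat_lit 30), (nat_lit 1), (nat_lit 1)), ((nat_lit 34), (nat_lit 31), (nat_lit 1), (nat_lit 1)), ((nat_lit 40), (nat_lit 37), (nat_lit 1), (nat_lit 1)), ((nat_lit 41), (nat_lit 38), (nat_lit 1), (nat_lit 1)), ((nat_lit 43), (nat_lit 42), (nat_lit 1), (nat_lit 1)), ((nat_lit 47), (nat_lit 46), (nat_lit 1), (nat_lit 1)), ((nat_lit 53), (nat_lit 51), (nat_lit 1), (nat_lit 1)), ((nat_lit 54), (nat_lit 52), (nat_lit 1), (nat_lit 1)), ((nat_lit 58), (nat_lit 57), (nat_lit 1), (nat_lit 1)), ((nat_lit 64), (nat_lit 62), (nat_lit 1), (nat_lit 1)), ((nat_lit 65), (nat_lit 63), (nat_lit 1), (nat_lit 1)), ((nat_lit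 70), (nat_lit 69), (nat_lit 1), (nat_lit 1))])) (.node (.leaf [((nat_lit 10), (nat_lit 0), (nat_lit 1), (nat_lit 1)), ((nat_lit 13), (nat_lit 1), (nat_lit 1), (nat_lit 1)), ((nat_lit 14), (nat_lit 2), (nat_lit 1), (nat_lit 1)), ((nat_lit 15), (nat_lit 5), (nat_lit 1), (nat_lit 1)), ((nat_lit 37), (nat_lit 17), (nat_lit 1), (nat_lit 1)), ((nat_lit 38), (nat_lit 18), (nat_lit 1), (nat_lit 1)), ((nat_lit 40), (nat_lit 19), (nat_lit 1), (nat_lit 1)), ((nat_lit 41), (nat_lit 20), (nat_lit 1), (nat_lit 1)), ((nat_lit 44), (nat_lit 22), (nat_lit 1), (nat_lit 1)), ((nat_lit 45), (nat_lit 23), (nat_lit 1), (nat_lit 1)), ((nat_lit 48), (nat_lit 26), (nat_lit 1), (nat_lit 1)), ((nat_lit 49), (nat_lit 27), (nat_lit 1), (nat_lit 1)), ((nat_lit 51), (nat_lit 30), (nat_lit 1), (nat_lit 1)), ((nat_lit 52), (nat_lit 31), (nat_lit 1), (nat_lit 1)), ((nat_lit 53), (nat_lit 33), (nat_lit 1), (nat_lit 1)), ((nat_lit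 54), (nat_lit 34), (nat_lit 1), (nat_lit 1)), ((nat_lit 66), (nat_lit 56), (nat_lit 1), (nat_lit 1)), ((nat_lit 69), (nat_lit 57), (nat_lit 1), (nat_lit 1)), ((nat_lit 70), (nat_lit 58), (nat_lit 1), (nat_lit 1)), ((nat_lit 71), (nat_lit 61), (nat_lit 1), (nat_lit 1))]) (.leaf [((nat_lit 0), (nat_lit 3), (nat_lit 1), (nat_lit 1)), ((nat_lit 5), (nat_lit 11), (nat_lit 1), (nat_lit 1)), ((nat_lit 7), (nat_lit 13), (nat_lit 1), (nat_lit 1)), ((nat_lit 9), (nat_lit 14), (nat_lit 1), (nat_lit 1)), ((nat_lit 16), (nat_lit 26), (nat_lit 1), (nat_lit 1)), ((nat_lit 18), (nat_lit 28), (nat_lit 1), (nat_lit 1)), ((nat_lit 20), (nat_lit 29), (nat_lit 1), (nat_lit 1)), ((nat_lit 22), (nat_lit 35), (nat_lit 1), (nat_lit 1)), ((nat_lit 24), (nat_lit 37), (nat_lit 1), (nat_lit 1)), ((nat_lit 25), (nat_lit 40), (nat_lit 1), (nat_lit 1)), ((nat_lit 31), (nat_lit 46), (nat_lit 1), (nat_lit 1)), ((nat_lit 34), (nat_lit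 47), (nat_lit 1), (nat_lit 1)), ((nat_lit 36), (nat_lit 49), (nat_lit 1), (nat_lit 1)), ((nat_lit 42), (nat_lit 51), (nat_lit 1), (nat_lit 1)), ((nat_lit 43), (nat_lit 53), (nat_lit 1), (nat_lit 1)), ((nat_lit 45), (nat_lit 55), (nat_lit 1), (nat_lit 1)), ((nat_lit 57), (nat_lit 62), (nat_lit 1), (nat_lit 1)), ((nat_lit 58), (nat_lit 64), (nat_lit 1), (nat_lit 1)), ((nat_lit 60), (nat_lit 66), (nat_lit 1), (nat_lit 1)), ((nat_lit 68), (nat_lit 71), (nat_lit 1), (nat_lit 1))]))) (.node (.node (.leaf [((nat_lit 18), (nat_lit 0), (nat_lit 1), (nat_lit 1)), ((nat_lit 27), (nat_lit 2), (nat_lit 1), (nat_lit 1)), ((nat_lit 28), (nat_lit 3), (nat_lit 1), (nat_lit 1)), ((nat_lit 31), (nat_lit 5), (nat_lit 1), (nat_lit 1)), ((nat_lit 32), (nat_lit 6), (nat_lit 1), (nat_lit 1)), ((nat_lit 36), (nat_lit 9), (nat_lit 1), (nat_lit 1)), ((nat_lit 38), (nat_lit 10), (nat_lit 1), (nat_lit 1)), ((nat_lit 46), (nat_lit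 11), (nat_lit 1), (nat_lit 1)), ((nat_lit 49), (nat_lit 14), (nat_lit 1), (nat_lit 1)), ((nat_lit 52), (nat_lit 15), (nat_lit 1), (nat_lit 1)), ((nat_lit 56), (nat_lit 19), (nat_lit 1), (nat_lit 1)), ((nat_lit 57), (nat_lit 22), (nat_lit 1), (nat_lit 1)), ((nat_lit 60), (nat_lit 25), (nat_lit 1), (nat_lit 1)), ((nat_lit 61), (nat_lit 33), (nat_lit 1), (nat_lit 1)), ((nat_lit 62), (nat_lit 35), (nat_lit 1), (nat_lit 1)), ((nat_lit 65), (nat_lit 39), (nat_lit 1), (nat_lit 1)), ((nat_lit 66), (nat_lit 40), (nat_lit 1), (nat_lit 1)), ((nat_lit 68), (nat_lit 43), (nat_lit 1), (nat_lit 1)), ((nat_lit 69), (nat_lit 44), (nat_lit 1), (nat_lit 1)), ((nat_lit 71), (nat_lit 53), (nat_lit 1), (nat_lit 1))]) (.leaf [((nat_lit 1), (nat_lit 3), (nat_lit 1), (nat_lit 1)), ((nat_lit 5), (nat_lit 8), (nat_lit 1), (nat_lit 1)), ((nat_lit 7), (nat_lit 10), (nat_lit 1), (nat_lit 1)), ((nat_lit 12), (nat_lit 14), (nat_lit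 1), (nat_lit 1)), ((nat_lit 16), (nat_lit 19), (nat_lit 1), (nat_lit 1)), ((nat_lit 18), (nat_lit 21), (nat_lit 1), (nat_lit 1)), ((nat_lit 23), (nat_lit 25), (nat_lit 1), (nat_lit 1)), ((nat_lit 27), (nat_lit 29), (nat_lit 1), (nat_lit 1)), ((nat_lit 30), (nat_lit 35), (nat_lit 1), (nat_lit 1)), ((nat_lit 32), (nat_lit 37), (nat_lit 1), (nat_lit 1)), ((nat_lit 34), (nat_lit 39), (nat_lit 1), (nat_lit 1)), ((nat_lit 36), (nat_lit 41), (nat_lit 1), (nat_lit 1)), ((nat_lit 42), (nat_lit 44), (nat_lit 1), (nat_lit 1)), ((nat_lit 46), (nat_lit 48), (nat_lit 1), (nat_lit 1)), ((nat_lit 50), (nat_lit 53), (nat_lit 1), (nat_lit 1)), ((nat_lit 52), (nat_lit 55), (nat_lit 1), (nat_lit 1)), ((nat_lit 57), (nat_lit 59), (nat_lit 1), (nat_lit 1)), ((nat_lit 61), (nat_lit 64), (nat_lit 1), (nat_lit 1)), ((nat_lit 63), (nat_lit 66), (nat_lit 1), (nat_lit 1)), ((nat_lit 68), (nat_lit 70), (nat_lit 1), (nat_lit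 1))])) (.node (.leaf [((nat_lit 2), (nat_lit 0), (nat_lit 1), (nat_lit 1)), ((nat_lit 11), (nat_lit 6), (nat_lit 1), (nat_lit 1)), ((nat_lit 12), (nat_lit 7), (nat_lit 1), (nat_lit 1)), ((nat_lit 14), (nat_lit 10), (nat_lit 1), (nat_lit 1)), ((nat_lit 26), (nat_lit 17), (nat_lit 1), (nat_lit 1)), ((nat_lit 27), (nat_lit 18), (nat_lit 1), (nat_lit 1)), ((nat_lit 29), (nat_lit 21), (nat_lit 1), (nat_lit 1)), ((nat_lit 33), (nat_lit 22), (nat_lit 1), (nat_lit 1)), ((nat_lit 34), (nat_lit 23), (nat_lit 1), (nat_lit 1)), ((nat_lit 39), (nat_lit 25), (nat_lit 1), (nat_lit 1)), ((nat_lit 46), (nat_lit 32), (nat_lit 1), (nat_lit 1)), ((nat_lit 48), (nat_lit 37), (nat_lit 1), (nat_lit 1)), ((nat_lit 49), (nat_lit 38), (nat_lit 1), (nat_lit 1)), ((nat_lit 50), (nat_lit 42), (nat_lit 1), (nat_lit 1)), ((nat_lit 53), (nat_lit 44), (nat_lit 1), (nat_lit 1)), ((nat_lit 54), (nat_lit 45), (nat_lit 1), (nat_lit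 1)), ((nat_lit 61), (nat_lit 57), (nat_lit 1), (nat_lit 1)), ((nat_lit 64), (nat_lit 59), (nat_lit 1), (nat_lit 1)), ((nat_lit 65), (nat_lit 60), (nat_lit 1), (nat_lit 1)), ((nat_lit 71), (nat_lit 69), (nat_lit 1), (nat_lit 1))]) (.leaf [((nat_lit 5), (nat_lit 16), (nat_lit 1), (nat_lit 1)), ((nat_lit 6), (nat_lit 17), (nat_lit 1), (nat_lit 1)), ((nat_lit 7), (nat_lit 18), (nat_lit 1), (nat_lit 1)), ((nat_lit 8), (nat_lit 19), (nat_lit 1), (nat_lit 1)), ((nat_lit 9), (nat_lit 20), (nat_lit 1), (nat_lit 1)), ((nat_lit 10), (nat_lit 21), (nat_lit 1), (nat_lit 1)), ((nat_lit 11), (nat_lit 26), (nat_lit 1), (nat_lit 1)), ((nat_lit 12), (nat_lit 27), (nat_lit 1), (nat_lit 1)), ((nat_lit 13), (nat_lit 28), (nat_lit 1), (nat_lit 1)), ((nat_lit 14), (nat_lit 29), (nat_lit 1), (nat_lit 1)), ((nat_lit 42), (nat_lit 57), (nat_lit 1), (nat_lit 1)), ((nat_lit 43), (nat_lit 58), (nat_lit 1), (nat_lit 1)), ((nat_lit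 44), (nat_lit 59), (nat_lit 1), (nat_lit 1)), ((nat_lit 45), (nat_lit 60), (nat_lit 1), (nat_lit 1)), ((nat_lit 50), (nat_lit 61), (nat_lit 1), (nat_lit 1)), ((nat_lit 51), (nat_lit 62), (nat_lit 1), (nat_lit 1)), ((nat_lit 52), (nat_lit 63), (nat_lit 1), (nat_lit 1)), ((nat_lit 53), (nat_lit 64), (nat_lit 1), (nat_lit 1)), ((nat_lit 54), (nat_lit 65), (nat_lit 1), (nat_lit 1)), ((nat_lit 55), (nat_lit 66), (nat_lit 1), (nat_lit 1))])))

def rows1 : Tr (List Entry) :=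
  .node (.node (.node (.node (.leaf [((nat_lit 22), (nat_lit 0), (nat_lit 1), (nat_lit 1)), ((nat_lit 30), (nat_lit 1), (nat_lit 1), (nat_lit 1)), ((nat_lit 33), (nat_lit 2), (nat_lit 1), (nat_lit 1)), ((nat_lit 35), (nat_lit 3), (nat_lit 1), (nat_lit 1)), ((nat_lit 42), (nat_lit 7), (nat_lit 1), (nat_lit 1)), ((nat_lit 43), (nat_lit 9), (nat_lit 1), (nat_lit 1)), ((nat_lit 44), (nat_lit 10), (nat_lit 1), (nat_lit 1)), ((nat_lit 50), (nat_lit 12), (nat_lit 1), (nat_lit 1)), ((nat_lit 51), (nat_lit 13), (nat_lit 1), (nat_lit 1)), ((nat_lit 53), (nat_lit 14), (nat_lit 1), (nat_lit 1)), ((nat_lit 57), (nat_lit 18), (nat_lit 1), (nat_lit 1)), ((nat_lit 58), (nat_lit 20), (nat_lit 1), (nat_lit 1)), ((nat_lit 59), (nat_lit 21), (nat_lit 1), (nat_lit 1)), ((nat_lit 61), (nat_lit 27), (nat_lit 1), (nat_lit 1)), ((nat_lit 62), (nat_lit 28), (nat_lit 1), (nat_lit 1)), ((nat_lit 64), (nat_lit 29), (nat_lit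 1), (nat_lit 1)), ((nat_lit 68), (nat_lit 36), (nat_lit 1), (nat_lit 1)), ((nat_lit 69), (nat_lit 38), (nat_lit 1), (nat_lit 1)), ((nat_lit 70), (nat_lit 41), (nat_lit 1), (nat_lit 1)), ((nat_lit 71), (nat_lit 49), (nat_lit 1), (nat_lit 1))]) (.leaf [((nat_lit 0), (nat_lit 23), (nat_lit 1), (nat_lit 1)), ((nat_lit 1), (nat_lit 31), (nat_lit 1), (nat_lit 1)), ((nat_lit 2), (nat_lit 34), (nat_lit 1), (nat_lit 1)), ((nat_lit 4), (nat_lit 36), (nat_lit 1), (nat_lit 1)), ((nat_lit 6), (nat_lit 42), (nat_lit 1), (nat_lit 1)), ((nat_lit 8), (nat_lit 43), (nat_lit 1), (nat_lit 1)), ((nat_lit 10), (nat_lit 45), (nat_lit 1), (nat_lit 1)), ((nat_lit 11), (nat_lit 50), (nat_lit 1), (nat_lit 1)), ((nat_lit 13), (nat_lit 52), (nat_lit 1), (nat_lit 1)), ((nat_lit 14), (nat_lit 54), (nat_lit 1), (nat_lit 1)), ((nat_lit 17), (nat_lit 57), (nat_lit 1), (nat_lit 1)), ((nat_lit 19), (nat_lit 58), (nat_lit 1), (nat_lit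 1)), ((nat_lit 21), (nat_lit 60), (nat_lit 1), (nat_lit 1)), ((nat_lit 26), (nat_lit 61), (nat_lit 1), (nat_lit 1)), ((nat_lit 28), (nat_lit 63), (nat_lit 1), (nat_lit 1)), ((nat_lit 29), (nat_lit 65), (nat_lit 1), (nat_lit 1)), ((nat_lit 35), (nat_lit 67), (nat_lit 1), (nat_lit 1)), ((nat_lit 37), (nat_lit 69), (nat_lit 1), (nat_lit 1)), ((nat_lit 40), (nat_lit 70), (nat_lit 1), (nat_lit 1)), ((nat_lit 48), (nat_lit 71), (nat_lit 1), (nat_lit 1))])) (.leaf [((nat_lit 3), (nat_lit 4), (nat_lit 1), (nat_lit 1)), ((nat_lit 6), (nat_lit 7), (nat_lit 1), (nat_lit 1)), ((nat_lit 8), (nat_lit 9), (nat_lit 1), (nat_lit 1)), ((nat_lit 11), (nat_lit 12), (nat_lit 1), (nat_lit 1)), ((nat_lit 17), (nat_lit 18), (nat_lit 1), (nat_lit 1)), ((nat_lit 19), (nat_lit 20), (nat_lit 1), (nat_lit 1)), ((nat_lit 22), (nat_lit 23), (nat_lit 1), (nat_lit 1)), ((nat_lit 26), (nat_lit 27), (nat_lit 1), (nat_lit 1)), ((nat_lit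 30), (nat_lit 31), (nat_lit 1), (nat_lit 1)), ((nat_lit 33), (nat_lit 34), (nat_lit 1), (nat_lit 1)), ((nat_lit 37), (nat_lit 38), (nat_lit 1), (nat_lit 1)), ((nat_lit 40), (nat_lit 41), (nat_lit 1), (nat_lit 1)), ((nat_lit 44), (nat_lit 45), (nat_lit 1), (nat_lit 1)), ((nat_lit 48), (nat_lit 49), (nat_lit 1), (nat_lit 1)), ((nat_lit 51), (nat_lit 52), (nat_lit 1), (nat_lit 1)), ((nat_lit 53), (nat_lit 54), (nat_lit 1), (nat_lit 1)), ((nat_lit 59), (nat_lit 60), (nat_lit 1), (nat_lit 1)), ((nat_lit 62), (nat_lit 63), (nat_lit 1), (nat_lit 1)), ((nat_lit 64), (nat_lit 65), (nat_lit 1), (nat_lit 1)), ((nat_lit 67), (nat_lit 68), (nat_lit 1), (nat_lit 1))])) (.node (.leaf [((nat_lit 6), (nat_lit 0), (nat_lit 1), (nat_lit 1)), ((nat_lit 11), (nat_lit 2), (nat_lit 1), (nat_lit 1)), ((nat_lit 13), (nat_lit 4), (nat_lit 1), (nat_lit 1)), ((nat_lit 15), (nat_lit 9), (nat_lit 1), (nat_lit 1)), ((nat_lit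 30), (nat_lit 16), (nat_lit 1), (nat_lit 1)), ((nat_lit 32), (nat_lit 18), (nat_lit 1), (nat_lit 1)), ((nat_lit 35), (nat_lit 19), (nat_lit 1), (nat_lit 1)), ((nat_lit 37), (nat_lit 21), (nat_lit 1), (nat_lit 1)), ((nat_lit 42), (nat_lit 23), (nat_lit 1), (nat_lit 1)), ((nat_lit 44), (nat_lit 25), (nat_lit 1), (nat_lit 1)), ((nat_lit 46), (nat_lit 27), (nat_lit 1), (nat_lit 1)), ((nat_lit 48), (nat_lit 29), (nat_lit 1), (nat_lit 1)), ((nat_lit 50), (nat_lit 34), (nat_lit 1), (nat_lit 1)), ((nat_lit 52), (nat_lit 36), (nat_lit 1), (nat_lit 1)), ((nat_lit 53), (nat_lit 39), (nat_lit 1), (nat_lit 1)), ((nat_lit 55), (nat_lit 41), (nat_lit 1), (nat_lit 1)), ((nat_lit 62), (nat_lit 56), (nat_lit 1), (nat_lit 1)), ((nat_lit 67), (nat_lit 58), (nat_lit 1), (nat_lit 1)), ((nat_lit 69), (nat_lit 60), (nat_lit 1), (nat_lit 1)), ((nat_lit 71), (nat_lit 65), (nat_lit 1), (nat_lit 1))]) (.leaf [((nat_lit 0),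 (nat_lit 7), (nat_lit 1), (nat_lit 1)), ((nat_lit 2), (nat_lit 12), (nat_lit 1), (nat_lit 1)), ((nat_lit 3), (nat_lit 13), (nat_lit 1), (nat_lit 1)), ((nat_lit 8), (nat_lit 15), (nat_lit 1), (nat_lit 1)), ((nat_lit 16), (nat_lit 31), (nat_lit 1), (nat_lit 1)), ((nat_lit 17), (nat_lit 32), (nat_lit 1), (nat_lit 1)), ((nat_lit 20), (nat_lit 36), (nat_lit 1), (nat_lit 1)), ((nat_lit 21), (nat_lit 38), (nat_lit 1), (nat_lit 1)), ((nat_lit 22), (nat_lit 42), (nat_lit 1), (nat_lit 1)), ((nat_lit 25), (nat_lit 45), (nat_lit 1), (nat_lit 1)), ((nat_lit 26), (nat_lit 46), (nat_lit 1), (nat_lit 1)), ((nat_lit 29), (nat_lit 49), (nat_lit 1), (nat_lit 1)), ((nat_lit 33), (nat_lit 50), (nat_lit 1), (nat_lit 1)), ((nat_lit 35), (nat_lit 51), (nat_lit 1), (nat_lit 1)), ((nat_lit 39), (nat_lit 54), (nat_lit 1), (nat_lit 1)), ((nat_lit 40), (nat_lit 55), (nat_lit 1), (nat_lit 1)), ((nat_lit 56), (nat_lit 63), (nat_lit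 1), (nat_lit 1)), ((nat_lit 58), (nat_lit 68), (nat_lit 1), (nat_lit 1)), ((nat_lit 59), (nat_lit 69), (nat_lit 1), (nat_lit 1)), ((nat_lit 64), (nat_lit 71), (nat_lit 1), (nat_lit 1))]))) (.node (.node (.leaf [((nat_lit 17), (nat_lit 1), (nat_lit 1), (nat_lit 1)), ((nat_lit 19), (nat_lit 2), (nat_lit 1), (nat_lit 1)), ((nat_lit 21), (nat_lit 4), (nat_lit 1), (nat_lit 1)), ((nat_lit 22), (nat_lit 5), (nat_lit 1), (nat_lit 1)), ((nat_lit 24), (nat_lit 7), (nat_lit 1), (nat_lit 1)), ((nat_lit 25), (nat_lit 9), (nat_lit 1), (nat_lit 1)), ((nat_lit 35), (nat_lit 11), (nat_lit 1), (nat_lit 1)), ((nat_lit 37), (nat_lit 13), (nat_lit 1), (nat_lit 1)), ((nat_lit 40), (nat_lit 14), (nat_lit 1), (nat_lit 1)), ((nat_lit 44), (nat_lit 15), (nat_lit 1), (nat_lit 1)), ((nat_lit 56), (nat_lit 27), (nat_lit 1), (nat_lit 1)), ((nat_lit 57), (nat_lit 31), (nat_lit 1), (nat_lit 1)), ((nat_lit 58), (nat_lit 34), (nat_lit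 1), (nat_lit 1)), ((nat_lit 60), (nat_lit 36), (nat_lit 1), (nat_lit 1)), ((nat_lit 62), (nat_lit 46), (nat_lit 1), (nat_lit 1)), ((nat_lit 64), (nat_lit 47), (nat_lit 1), (nat_lit 1)), ((nat_lit 66), (nat_lit 49), (nat_lit 1), (nat_lit 1)), ((nat_lit 67), (nat_lit 50), (nat_lit 1), (nat_lit 1)), ((nat_lit 69), (nat_lit 52), (nat_lit 1), (nat_lit 1)), ((nat_lit 70), (nat_lit 54), (nat_lit 1), (nat_lit 1))]) (.leaf [((nat_lit 1), (nat_lit 6), (nat_lit 1), (nat_lit 1)), ((nat_lit 2), (nat_lit 8), (nat_lit 1), (nat_lit 1)), ((nat_lit 4), (nat_lit 10), (nat_lit 1), (nat_lit 1)), ((nat_lit 12), (nat_lit 15), (nat_lit 1), (nat_lit 1)), ((nat_lit 16), (nat_lit 22), (nat_lit 1), (nat_lit 1)), ((nat_lit 18), (nat_lit 24), (nat_lit 1), (nat_lit 1)), ((nat_lit 20), (nat_lit 25), (nat_lit 1), (nat_lit 1)), ((nat_lit 26), (nat_lit 35), (nat_lit 1), (nat_lit 1)), ((nat_lit 28), (nat_lit 37), (nat_lit 1), (nat_lit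 1)), ((nat_lit 29), (nat_lit 40), (nat_lit 1), (nat_lit 1)), ((nat_lit 31), (nat_lit 42), (nat_lit 1), (nat_lit 1)), ((nat_lit 34), (nat_lit 43), (nat_lit 1), (nat_lit 1)), ((nat_lit 36), (nat_lit 45), (nat_lit 1), (nat_lit 1)), ((nat_lit 46), (nat_lit 51), (nat_lit 1), (nat_lit 1)), ((nat_lit 47), (nat_lit 53), (nat_lit 1), (nat_lit 1)), ((nat_lit 49), (nat_lit 55), (nat_lit 1), (nat_lit 1)), ((nat_lit 56), (nat_lit 59), (nat_lit 1), (nat_lit 1)), ((nat_lit 61), (nat_lit 67), (nat_lit 1), (nat_lit 1)), ((nat_lit 63), (nat_lit 69), (nat_lit 1), (nat_lit 1)), ((nat_lit 65), (nat_lit 70), (nat_lit 1), (nat_lit 1))])) (.node (.leaf [((nat_lit 5), (nat_lit 1), (nat_lit 1), (nat_lit 1)), ((nat_lit 8), (nat_lit 3), (nat_lit 1), (nat_lit 1)), ((nat_lit 9), (nat_lit 4), (nat_lit 1), (nat_lit 1)), ((nat_lit 15), (nat_lit 13), (nat_lit 1), (nat_lit 1)), ((nat_lit 22), (nat_lit 17), (nat_lit 1), (nat_lit 1)),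 ((nat_lit 23), (nat_lit 18), (nat_lit 1), (nat_lit 1)), ((nat_lit 25), (nat_lit 21), (nat_lit 1), (nat_lit 1)), ((nat_lit 33), (nat_lit 26), (nat_lit 1), (nat_lit 1)), ((nat_lit 34), (nat_lit 27), (nat_lit 1), (nat_lit 1)), ((nat_lit 39), (nat_lit 29), (nat_lit 1), (nat_lit 1)), ((nat_lit 42), (nat_lit 32), (nat_lit 1), (nat_lit 1)), ((nat_lit 44), (nat_lit 37), (nat_lit 1), (nat_lit 1)), ((nat_lit 45), (nat_lit 38), (nat_lit 1), (nat_lit 1)), ((nat_lit 50), (nat_lit 46), (nat_lit 1), (nat_lit 1)), ((nat_lit 53), (nat_lit 48), (nat_lit 1), (nat_lit 1)), ((nat_lit 54), (nat_lit 49), (nat_lit 1), (nat_lit 1)), ((nat_lit 58), (nat_lit 56), (nat_lit 1), (nat_lit 1)), ((nat_lit 67), (nat_lit 62), (nat_lit 1), (nat_lit 1)), ((nat_lit 68), (nat_lit 63), (nat_lit 1), (nat_lit 1)), ((nat_lit 70), (nat_lit 66), (nat_lit 1), (nat_lit 1))]) (.leaf [((nat_lit 1), (nat_lit 18), (nat_lit 1), (nat_lit 1)), ((nat_lit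 2), (nat_lit 20), (nat_lit 1), (nat_lit 1)), ((nat_lit 3), (nat_lit 21), (nat_lit 1), (nat_lit 1)), ((nat_lit 5), (nat_lit 23), (nat_lit 1), (nat_lit 1)), ((nat_lit 6), (nat_lit 24), (nat_lit 1), (nat_lit 1)), ((nat_lit 8), (nat_lit 25), (nat_lit 1), (nat_lit 1)), ((nat_lit 12), (nat_lit 36), (nat_lit 1), (nat_lit 1)), ((nat_lit 13), (nat_lit 38), (nat_lit 1), (nat_lit 1)), ((nat_lit 14), (nat_lit 41), (nat_lit 1), (nat_lit 1)), ((nat_lit 15), (nat_lit 45), (nat_lit 1), (nat_lit 1)), ((nat_lit 26), (nat_lit 56), (nat_lit 1), (nat_lit 1)), ((nat_lit 30), (nat_lit 57), (nat_lit 1), (nat_lit 1)), ((nat_lit 33), (nat_lit 58), (nat_lit 1), (nat_lit 1)), ((nat_lit 35), (nat_lit 59), (nat_lit 1), (nat_lit 1)), ((nat_lit 46), (nat_lit 63), (nat_lit 1), (nat_lit 1)), ((nat_lit 47), (nat_lit 65), (nat_lit 1), (nat_lit 1)), ((nat_lit 48), (nat_lit 66), (nat_lit 1), (nat_lit 1)), ((nat_lit 50), (nat_lit 68),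 (nat_lit 1), (nat_lit 1)), ((nat_lit 51), (nat_lit 69), (nat_lit 1), (nat_lit 1)), ((nat_lit 53), (nat_lit 70), (nat_lit 1), (nat_lit 1))])))

def rows2 : Tr (List Entry) :=
  .node (.node (.node (.node (.leaf [((nat_lit 24), (nat_lit 0), (nat_lit 1), (nat_lit 1)), ((nat_lit 32), (nat_lit 1), (nat_lit 1), (nat_lit 1)), ((nat_lit 37), (nat_lit 3), (nat_lit 1), (nat_lit 1)), ((nat_lit 38), (nat_lit 4), (nat_lit 1), (nat_lit 1)), ((nat_lit 42), (nat_lit 5), (nat_lit 1), (nat_lit 1)), ((nat_lit 44), (nat_lit 8), (nat_lit 1), (nat_lit 1)), ((nat_lit 45), (nat_lit 9), (nat_lit 1), (nat_lit 1)), ((nat_lit 51), (nat_lit 11), (nat_lit 1), (nat_lit 1)), ((nat_lit 52), (nat_lit 12), (nat_lit 1), (nat_lit 1)), ((nat_lit 55), (nat_lit 14), (nat_lit 1), (nat_lit 1)), ((nat_lit 57), (nat_lit 16), (nat_lit 1), (nat_lit 1)), ((nat_lit 59), (nat_lit 19), (nat_lit 1), (nat_lit 1)), ((nat_lit 60), (nat_lit 20), (nat_lit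 1), (nat_lit 1)), ((nat_lit 62), (nat_lit 26), (nat_lit 1), (nat_lit 1)), ((nat_lit 63), (nat_lit 27), (nat_lit 1), (nat_lit 1)), ((nat_lit 66), (nat_lit 29), (nat_lit 1), (nat_lit 1)), ((nat_lit 67), (nat_lit 33), (nat_lit 1), (nat_lit 1)), ((nat_lit 68), (nat_lit 34), (nat_lit 1), (nat_lit 1)), ((nat_lit 70), (nat_lit 39), (nat_lit 1), (nat_lit 1)), ((nat_lit 71), (nat_lit 47), (nat_lit 1), (nat_lit 1))]) (.leaf [((nat_lit 0), (nat_lit 21), (nat_lit 1), (nat_lit 1)), ((nat_lit 1), (nat_lit 28), (nat_lit 1), (nat_lit 1)), ((nat_lit 2), (nat_lit 29), (nat_lit 1), (nat_lit 1)), ((nat_lit 6), (nat_lit 37), (nat_lit 1), (nat_lit 1)), ((nat_lit 7), (nat_lit 38), (nat_lit 1), (nat_lit 1)), ((nat_lit 8), (nat_lit 40), (nat_lit 1), (nat_lit 1)), ((nat_lit 9), (nat_lit 41), (nat_lit 1), (nat_lit 1)), ((nat_lit 11), (nat_lit 48), (nat_lit 1), (nat_lit 1)), ((nat_lit 12), (nat_lit 49), (nat_lit 1), (nat_lit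 1)), ((nat_lit 15), (nat_lit 55), (nat_lit 1), (nat_lit 1)), ((nat_lit 16), (nat_lit 56), (nat_lit 1), (nat_lit 1)), ((nat_lit 22), (nat_lit 59), (nat_lit 1), (nat_lit 1)), ((nat_lit 23), (nat_lit 60), (nat_lit 1), (nat_lit 1)), ((nat_lit 30), (nat_lit 62), (nat_lit 1), (nat_lit 1)), ((nat_lit 31), (nat_lit 63), (nat_lit 1), (nat_lit 1)), ((nat_lit 33), (nat_lit 64), (nat_lit 1), (nat_lit 1)), ((nat_lit 34), (nat_lit 65), (nat_lit 1), (nat_lit 1)), ((nat_lit 42), (nat_lit 69), (nat_lit 1), (nat_lit 1)), ((nat_lit 43), (nat_lit 70), (nat_lit 1), (nat_lit 1)), ((nat_lit 50), (nat_lit 71), (nat_lit 1), (nat_lit 1))])) (.leaf [((nat_lit 3), (nat_lit 2), (nat_lit 1), (nat_lit 1)), ((nat_lit 6), (nat_lit 5), (nat_lit 1), (nat_lit 1)), ((nat_lit 10), (nat_lit 9), (nat_lit 1), (nat_lit 1)), ((nat_lit 13), (nat_lit 12), (nat_lit 1), (nat_lit 1)), ((nat_lit 17), (nat_lit 16), (nat_lit 1), (nat_lit 1)), ((nat_lit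 21), (nat_lit 20), (nat_lit 1), (nat_lit 1)), ((nat_lit 24), (nat_lit 23), (nat_lit 1), (nat_lit 1)), ((nat_lit 28), (nat_lit 27), (nat_lit 1), (nat_lit 1)), ((nat_lit 32), (nat_lit 31), (nat_lit 1), (nat_lit 1)), ((nat_lit 35), (nat_lit 33), (nat_lit 1), (nat_lit 1)), ((nat_lit 38), (nat_lit 36), (nat_lit 1), (nat_lit 1)), ((nat_lit 40), (nat_lit 39), (nat_lit 1), (nat_lit 1)), ((nat_lit 44), (nat_lit 43), (nat_lit 1), (nat_lit 1)), ((nat_lit 48), (nat_lit 47), (nat_lit 1), (nat_lit 1)), ((nat_lit 51), (nat_lit 50), (nat_lit 1), (nat_lit 1)), ((nat_lit 55), (nat_lit 54), (nat_lit 1), (nat_lit 1)), ((nat_lit 59), (nat_lit 58), (nat_lit 1), (nat_lit 1)), ((nat_lit 62), (nat_lit 61), (nat_lit 1), (nat_lit 1)), ((nat_lit 66), (nat_lit 65), (nat_lit 1), (nat_lit 1)), ((nat_lit 69), (nat_lit 68), (nat_lit 1), (nat_lit 1))])) (.node (.leaf [((nat_lit 8), (nat_lit 0), (nat_lit 1), (nat_lit 1)), ((nat_lit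 11), (nat_lit 1), (nat_lit 1), (nat_lit 1)), ((nat_lit 14), (nat_lit 4), (nat_lit 1), (nat_lit 1)), ((nat_lit 15), (nat_lit 7), (nat_lit 1), (nat_lit 1)), ((nat_lit 33), (nat_lit 16), (nat_lit 1), (nat_lit 1)), ((nat_lit 35), (nat_lit 17), (nat_lit 1), (nat_lit 1)), ((nat_lit 39), (nat_lit 20), (nat_lit 1), (nat_lit 1)), ((nat_lit 40), (nat_lit 21), (nat_lit 1), (nat_lit 1)), ((nat_lit 43), (nat_lit 23), (nat_lit 1), (nat_lit 1)), ((nat_lit 44), (nat_lit 24), (nat_lit 1), (nat_lit 1)), ((nat_lit 47), (nat_lit 27), (nat_lit 1), (nat_lit 1)), ((nat_lit 48), (nat_lit 28), (nat_lit 1), (nat_lit 1)), ((nat_lit 50), (nat_lit 31), (nat_lit 1), (nat_lit 1)), ((nat_lit 51), (nat_lit 32), (nat_lit 1), (nat_lit 1)), ((nat_lit 54), (nat_lit 36), (nat_lit 1), (nat_lit 1)), ((nat_lit 55), (nat_lit 38), (nat_lit 1), (nat_lit 1)), ((nat_lit 64), (nat_lit 56), (nat_lit 1), (nat_lit 1)), ((nat_lit 67), (nat_lit 57),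 (nat_lit 1), (nat_lit 1)), ((nat_lit 70), (nat_lit 60), (nat_lit 1), (nat_lit 1)), ((nat_lit 71), (nat_lit 63), (nat_lit 1), (nat_lit 1))]) (.leaf [((nat_lit 0), (nat_lit 5), (nat_lit 1), (nat_lit 1)), ((nat_lit 3), (nat_lit 11), (nat_lit 1), (nat_lit 1)), ((nat_lit 4), (nat_lit 12), (nat_lit 1), (nat_lit 1)), ((nat_lit 10), (nat_lit 15), (nat_lit 1), (nat_lit 1)), ((nat_lit 17), (nat_lit 30), (nat_lit 1), (nat_lit 1)), ((nat_lit 18), (nat_lit 31), (nat_lit 1), (nat_lit 1)), ((nat_lit 19), (nat_lit 33), (nat_lit 1), (nat_lit 1)), ((nat_lit 20), (nat_lit 34), (nat_lit 1), (nat_lit 1)), ((nat_lit 24), (nat_lit 42), (nat_lit 1), (nat_lit 1)), ((nat_lit 25), (nat_lit 43), (nat_lit 1), (nat_lit 1)), ((nat_lit 28), (nat_lit 46), (nat_lit 1), (nat_lit 1)), ((nat_lit 29), (nat_lit 47), (nat_lit 1), (nat_lit 1)), ((nat_lit 37), (nat_lit 51), (nat_lit 1), (nat_lit 1)), ((nat_lit 38), (nat_lit 52), (nat_lit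 1), (nat_lit 1)), ((nat_lit 40), (nat_lit 53), (nat_lit 1), (nat_lit 1)), ((nat_lit 41), (nat_lit 54), (nat_lit 1), (nat_lit 1)), ((nat_lit 56), (nat_lit 61), (nat_lit 1), (nat_lit 1)), ((nat_lit 59), (nat_lit 67), (nat_lit 1), (nat_lit 1)), ((nat_lit 60), (nat_lit 68), (nat_lit 1), (nat_lit 1)), ((nat_lit 66), (nat_lit 71), (nat_lit 1), (nat_lit 1))]))) (.node (.node (.leaf [((nat_lit 16), (nat_lit 0), (nat_lit 1), (nat_lit 1)), ((nat_lit 26), (nat_lit 3), (nat_lit 1), (nat_lit 1)), ((nat_lit 27), (nat_lit 4), (nat_lit 1), (nat_lit 1)), ((nat_lit 30), (nat_lit 6), (nat_lit 1), (nat_lit 1)), ((nat_lit 31), (nat_lit 7), (nat_lit 1), (nat_lit 1)), ((nat_lit 33), (nat_lit 8), (nat_lit 1), (nat_lit 1)), ((nat_lit 34), (nat_lit 9), (nat_lit 1), (nat_lit 1)), ((nat_lit 46), (nat_lit 13), (nat_lit 1), (nat_lit 1)), ((nat_lit 47), (nat_lit 14), (nat_lit 1), (nat_lit 1)), ((nat_lit 50), (nat_lit 15), (nat_lit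 1), (nat_lit 1)), ((nat_lit 56), (nat_lit 21), (nat_lit 1), (nat_lit 1)), ((nat_lit 57), (nat_lit 24), (nat_lit 1), (nat_lit 1)), ((nat_lit 58), (nat_lit 25), (nat_lit 1), (nat_lit 1)), ((nat_lit 62), (nat_lit 37), (nat_lit 1), (nat_lit 1)), ((nat_lit 63), (nat_lit 38), (nat_lit 1), (nat_lit 1)), ((nat_lit 64), (nat_lit 40), (nat_lit 1), (nat_lit 1)), ((nat_lit 65), (nat_lit 41), (nat_lit 1), (nat_lit 1)), ((nat_lit 67), (nat_lit 44), (nat_lit 1), (nat_lit 1)), ((nat_lit 68), (nat_lit 45), (nat_lit 1), (nat_lit 1)), ((nat_lit 71), (nat_lit 55), (nat_lit 1), (nat_lit 1))]) (.leaf [((nat_lit 2), (nat_lit 5), (nat_lit 1), (nat_lit 1)), ((nat_lit 3), (nat_lit 6), (nat_lit 1), (nat_lit 1)), ((nat_lit 4), (nat_lit 7), (nat_lit 1), (nat_lit 1)), ((nat_lit 14), (nat_lit 15), (nat_lit 1), (nat_lit 1)), ((nat_lit 19), (nat_lit 22), (nat_lit 1), (nat_lit 1)), ((nat_lit 20), (nat_lit 23), (nat_lit 1), (nat_lit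 1)), ((nat_lit 21), (nat_lit 24), (nat_lit 1), (nat_lit 1)), ((nat_lit 26), (nat_lit 30), (nat_lit 1), (nat_lit 1)), ((nat_lit 27), (nat_lit 31), (nat_lit 1), (nat_lit 1)), ((nat_lit 28), (nat_lit 32), (nat_lit 1), (nat_lit 1)), ((nat_lit 39), (nat_lit 43), (nat_lit 1), (nat_lit 1)), ((nat_lit 40), (nat_lit 44), (nat_lit 1), (nat_lit 1)), ((nat_lit 41), (nat_lit 45), (nat_lit 1), (nat_lit 1)), ((nat_lit 47), (nat_lit 50), (nat_lit 1), (nat_lit 1)), ((nat_lit 48), (nat_lit 51), (nat_lit 1), (nat_lit 1)), ((nat_lit 49), (nat_lit 52), (nat_lit 1), (nat_lit 1)), ((nat_lit 56), (nat_lit 57), (nat_lit 1), (nat_lit 1)), ((nat_lit 64), (nat_lit 67), (nat_lit 1), (nat_lit 1)), ((nat_lit 65), (nat_lit 68), (nat_lit 1), (nat_lit 1)), ((nat_lit 66), (nat_lit 69), (nat_lit 1), (nat_lit 1))])) (.node (.leaf [((nat_lit 7), (nat_lit 1), (nat_lit 1), (nat_lit 1)), ((nat_lit 9), (nat_lit 2), (nat_lit 1), (nat_lit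 1)), ((nat_lit 10), (nat_lit 3), (nat_lit 1), (nat_lit 1)), ((nat_lit 15), (nat_lit 11), (nat_lit 1), (nat_lit 1)), ((nat_lit 23), (nat_lit 16), (nat_lit 1), (nat_lit 1)), ((nat_lit 24), (nat_lit 17), (nat_lit 1), (nat_lit 1)), ((nat_lit 25), (nat_lit 19), (nat_lit 1), (nat_lit 1)), ((nat_lit 36), (nat_lit 27), (nat_lit 1), (nat_lit 1)), ((nat_lit 38), (nat_lit 28), (nat_lit 1), (nat_lit 1)), ((nat_lit 41), (nat_lit 29), (nat_lit 1), (nat_lit 1)), ((nat_lit 42), (nat_lit 30), (nat_lit 1), (nat_lit 1)), ((nat_lit 43), (nat_lit 33), (nat_lit 1), (nat_lit 1)), ((nat_lit 44), (nat_lit 35), (nat_lit 1), (nat_lit 1)), ((nat_lit 52), (nat_lit 46), (nat_lit 1), (nat_lit 1)), ((nat_lit 54), (nat_lit 47), (nat_lit 1), (nat_lit 1)), ((nat_lit 55), (nat_lit 48), (nat_lit 1), (nat_lit 1)), ((nat_lit 60), (nat_lit 56), (nat_lit 1), (nat_lit 1)), ((nat_lit 68), (nat_lit 61), (nat_lit 1), (nat_lit 1)), ((nat_lit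 69), (nat_lit 62), (nat_lit 1), (nat_lit 1)), ((nat_lit 70), (nat_lit 64), (nat_lit 1), (nat_lit 1))]) (.leaf [((nat_lit 1), (nat_lit 16), (nat_lit 1), (nat_lit 1)), ((nat_lit 3), (nat_lit 19), (nat_lit 1), (nat_lit 1)), ((nat_lit 4), (nat_lit 20), (nat_lit 1), (nat_lit 1)), ((nat_lit 6), (nat_lit 22), (nat_lit 1), (nat_lit 1)), ((nat_lit 7), (nat_lit 23), (nat_lit 1), (nat_lit 1)), ((nat_lit 10), (nat_lit 25), (nat_lit 1), (nat_lit 1)), ((nat_lit 11), (nat_lit 33), (nat_lit 1), (nat_lit 1)), ((nat_lit 12), (nat_lit 34), (nat_lit 1), (nat_lit 1)), ((nat_lit 14), (nat_lit 39), (nat_lit 1), (nat_lit 1)), ((nat_lit 15), (nat_lit 43), (nat_lit 1), (nat_lit 1)), ((nat_lit 28), (nat_lit 56), (nat_lit 1), (nat_lit 1)), ((nat_lit 32), (nat_lit 57), (nat_lit 1), (nat_lit 1)), ((nat_lit 37), (nat_lit 59), (nat_lit 1), (nat_lit 1)), ((nat_lit 38), (nat_lit 60), (nat_lit 1), (nat_lit 1)), ((nat_lit 46), (nat_lit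 61), (nat_lit 1), (nat_lit 1)), ((nat_lit 48), (nat_lit 64), (nat_lit 1), (nat_lit 1)), ((nat_lit 49), (nat_lit 65), (nat_lit 1), (nat_lit 1)), ((nat_lit 51), (nat_lit 67), (nat_lit 1), (nat_lit 1)), ((nat_lit 52), (nat_lit 68), (nat_lit 1), (nat_lit 1)), ((nat_lit 55), (nat_lit 70), (nat_lit 1), (nat_lit 1))])))

def rows3 : Tr (List Entry) :=
  .node (.node (.node (.node (.leaf [((nat_lit 20), (nat_lit 0), (nat_lit 1), (nat_lit 1)), ((nat_lit 27), (nat_lit 1), (nat_lit 1), (nat_lit 1)), ((nat_lit 29), (nat_lit 3), (nat_lit 1), (nat_lit 1)), ((nat_lit 34), (nat_lit 5), (nat_lit 1), (nat_lit 1)), ((nat_lit 36), (nat_lit 7), (nat_lit 1), (nat_lit 1)), ((nat_lit 39), (nat_lit 8), (nat_lit 1), (nat_lit 1)), ((nat_lit 41), (nat_lit 10), (nat_lit 1), (nat_lit 1)), ((nat_lit 47), (nat_lit 11), (nat_lit 1), (nat_lit 1)), ((nat_lit 49), (nat_lit 13), (nat_lit 1), (nat_lit 1)), ((nat_lit 54), (nat_lit 15),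 (nat_lit 1), (nat_lit 1)), ((nat_lit 56), (nat_lit 17), (nat_lit 1), (nat_lit 1)), ((nat_lit 58), (nat_lit 22), (nat_lit 1), (nat_lit 1)), ((nat_lit 60), (nat_lit 24), (nat_lit 1), (nat_lit 1)), ((nat_lit 61), (nat_lit 30), (nat_lit 1), (nat_lit 1)), ((nat_lit 63), (nat_lit 32), (nat_lit 1), (nat_lit 1)), ((nat_lit 64), (nat_lit 35), (nat_lit 1), (nat_lit 1)), ((nat_lit 66), (nat_lit 37), (nat_lit 1), (nat_lit 1)), ((nat_lit 68), (nat_lit 42), (nat_lit 1), (nat_lit 1)), ((nat_lit 70), (nat_lit 44), (nat_lit 1), (nat_lit 1)), ((nat_lit 71), (nat_lit 51), (nat_lit 1), (nat_lit 1))]) (.leaf [((nat_lit 0), (nat_lit 25), (nat_lit 1), (nat_lit 1)), ((nat_lit 2), (nat_lit 39), (nat_lit 1), (nat_lit 1)), ((nat_lit 3), (nat_lit 40), (nat_lit 1), (nat_lit 1)), ((nat_lit 4), (nat_lit 41), (nat_lit 1), (nat_lit 1)), ((nat_lit 5), (nat_lit 43), (nat_lit 1), (nat_lit 1)), ((nat_lit 6), (nat_lit 44), (nat_lit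 1), (nat_lit 1)), ((nat_lit 7), (nat_lit 45), (nat_lit 1), (nat_lit 1)), ((nat_lit 11), (nat_lit 53), (nat_lit 1), (nat_lit 1)), ((nat_lit 12), (nat_lit 54), (nat_lit 1), (nat_lit 1)), ((nat_lit 13), (nat_lit 55), (nat_lit 1), (nat_lit 1)), ((nat_lit 16), (nat_lit 58), (nat_lit 1), (nat_lit 1)), ((nat_lit 17), (nat_lit 59), (nat_lit 1), (nat_lit 1)), ((nat_lit 18), (nat_lit 60), (nat_lit 1), (nat_lit 1)), ((nat_lit 26), (nat_lit 64), (nat_lit 1), (nat_lit 1)), ((nat_lit 27), (nat_lit 65), (nat_lit 1), (nat_lit 1)), ((nat_lit 28), (nat_lit 66), (nat_lit 1), (nat_lit 1)), ((nat_lit 30), (nat_lit 67), (nat_lit 1), (nat_lit 1)), ((nat_lit 31), (nat_lit 68), (nat_lit 1), (nat_lit 1)), ((nat_lit 32), (nat_lit 69), (nat_lit 1), (nat_lit 1)), ((nat_lit 46), (nat_lit 71), (nat_lit 1), (nat_lit 1))])) (.leaf [((nat_lit 2), (nat_lit 4), (nat_lit 1), (nat_lit 1)), ((nat_lit 5), (nat_lit 7), (nat_lit 1), (nat_lit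 1)), ((nat_lit 8), (nat_lit 10), (nat_lit 1), (nat_lit 1)), ((nat_lit 11), (nat_lit 13), (nat_lit 1), (nat_lit 1)), ((nat_lit 16), (nat_lit 18), (nat_lit 1), (nat_lit 1)), ((nat_lit 19), (nat_lit 21), (nat_lit 1), (nat_lit 1)), ((nat_lit 22), (nat_lit 24), (nat_lit 1), (nat_lit 1)), ((nat_lit 26), (nat_lit 28), (nat_lit 1), (nat_lit 1)), ((nat_lit 30), (nat_lit 32), (nat_lit 1), (nat_lit 1)), ((nat_lit 34), (nat_lit 36), (nat_lit 1), (nat_lit 1)), ((nat_lit 35), (nat_lit 37), (nat_lit 1), (nat_lit 1)), ((nat_lit 39), (nat_lit 41), (nat_lit 1), (nat_lit 1)), ((nat_lit 43), (nat_lit 45), (nat_lit 1), (nat_lit 1)), ((nat_lit 47), (nat_lit 49), (nat_lit 1), (nat_lit 1)), ((nat_lit 50), (nat_lit 52), (nat_lit 1), (nat_lit 1)), ((nat_lit 53), (nat_lit 55), (nat_lit 1), (nat_lit 1)), ((nat_lit 58), (nat_lit 60), (nat_lit 1), (nat_lit 1)), ((nat_lit 61), (nat_lit 63), (nat_lit 1), (nat_lit 1)), ((nat_lit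 64), (nat_lit 66), (nat_lit 1), (nat_lit 1)), ((nat_lit 67), (nat_lit 69), (nat_lit 1), (nat_lit 1))])) (.node (.leaf [((nat_lit 4), (nat_lit 0), (nat_lit 1), (nat_lit 1)), ((nat_lit 12), (nat_lit 5), (nat_lit 1), (nat_lit 1)), ((nat_lit 13), (nat_lit 6), (nat_lit 1), (nat_lit 1)), ((nat_lit 14), (nat_lit 8), (nat_lit 1), (nat_lit 1)), ((nat_lit 27), (nat_lit 16), (nat_lit 1), (nat_lit 1)), ((nat_lit 28), (nat_lit 17), (nat_lit 1), (nat_lit 1)), ((nat_lit 29), (nat_lit 19), (nat_lit 1), (nat_lit 1)), ((nat_lit 36), (nat_lit 23), (nat_lit 1), (nat_lit 1)), ((nat_lit 38), (nat_lit 24), (nat_lit 1), (nat_lit 1)), ((nat_lit 41), (nat_lit 25), (nat_lit 1), (nat_lit 1)), ((nat_lit 46), (nat_lit 30), (nat_lit 1), (nat_lit 1)), ((nat_lit 47), (nat_lit 33), (nat_lit 1), (nat_lit 1)), ((nat_lit 48), (nat_lit 35), (nat_lit 1), (nat_lit 1)), ((nat_lit 52), (nat_lit 42), (nat_lit 1), (nat_lit 1)), ((nat_lit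 54), (nat_lit 43), (nat_lit 1), (nat_lit 1)), ((nat_lit 55), (nat_lit 44), (nat_lit 1), (nat_lit 1)), ((nat_lit 63), (nat_lit 57), (nat_lit 1), (nat_lit 1)), ((nat_lit 65), (nat_lit 58), (nat_lit 1), (nat_lit 1)), ((nat_lit 66), (nat_lit 59), (nat_lit 1), (nat_lit 1)), ((nat_lit 71), (nat_lit 67), (nat_lit 1), (nat_lit 1))]) (.leaf [((nat_lit 0), (nat_lit 9), (nat_lit 1), (nat_lit 1)), ((nat_lit 1), (nat_lit 12), (nat_lit 1), (nat_lit 1)), ((nat_lit 3), (nat_lit 14), (nat_lit 1), (nat_lit 1)), ((nat_lit 6), (nat_lit 15), (nat_lit 1), (nat_lit 1)), ((nat_lit 16), (nat_lit 34), (nat_lit 1), (nat_lit 1)), ((nat_lit 18), (nat_lit 36), (nat_lit 1), (nat_lit 1)), ((nat_lit 19), (nat_lit 39), (nat_lit 1), (nat_lit 1)), ((nat_lit 21), (nat_lit 41), (nat_lit 1), (nat_lit 1)), ((nat_lit 22), (nat_lit 43), (nat_lit 1), (nat_lit 1)), ((nat_lit 24), (nat_lit 45), (nat_lit 1), (nat_lit 1)), ((nat_lit 26), (nat_lit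 47), (nat_lit 1), (nat_lit 1)), ((nat_lit 28), (nat_lit 49), (nat_lit 1), (nat_lit 1)), ((nat_lit 30), (nat_lit 50), (nat_lit 1), (nat_lit 1)), ((nat_lit 32), (nat_lit 52), (nat_lit 1), (nat_lit 1)), ((nat_lit 35), (nat_lit 53), (nat_lit 1), (nat_lit 1)), ((nat_lit 37), (nat_lit 55), (nat_lit 1), (nat_lit 1)), ((nat_lit 56), (nat_lit 65), (nat_lit 1), (nat_lit 1)), ((nat_lit 57), (nat_lit 68), (nat_lit 1), (nat_lit 1)), ((nat_lit 59), (nat_lit 70), (nat_lit 1), (nat_lit 1)), ((nat_lit 62), (nat_lit 71), (nat_lit 1), (nat_lit 1))]))) (.node (.node (.leaf [((nat_lit 16), (nat_lit 2), (nat_lit 1), (nat_lit 1)), ((nat_lit 17), (nat_lit 3), (nat_lit 1), (nat_lit 1)), ((nat_lit 18), (nat_lit 4), (nat_lit 1), (nat_lit 1)), ((nat_lit 22), (nat_lit 8), (nat_lit 1), (nat_lit 1)), ((nat_lit 23), (nat_lit 9), (nat_lit 1), (nat_lit 1)), ((nat_lit 24), (nat_lit 10), (nat_lit 1), (nat_lit 1)), ((nat_lit 30), (nat_lit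 11), (nat_lit 1), (nat_lit 1)), ((nat_lit 31), (nat_lit 12), (nat_lit 1), (nat_lit 1)), ((nat_lit 32), (nat_lit 13), (nat_lit 1), (nat_lit 1)), ((nat_lit 42), (nat_lit 15), (nat_lit 1), (nat_lit 1)), ((nat_lit 56), (nat_lit 29), (nat_lit 1), (nat_lit 1)), ((nat_lit 58), (nat_lit 39), (nat_lit 1), (nat_lit 1)), ((nat_lit 59), (nat_lit 40), (nat_lit 1), (nat_lit 1)), ((nat_lit 60), (nat_lit 41), (nat_lit 1), (nat_lit 1)), ((nat_lit 61), (nat_lit 47), (nat_lit 1), (nat_lit 1)), ((nat_lit 62), (nat_lit 48), (nat_lit 1), (nat_lit 1)), ((nat_lit 63), (nat_lit 49), (nat_lit 1), (nat_lit 1)), ((nat_lit 67), (nat_lit 53), (nat_lit 1), (nat_lit 1)), ((nat_lit 68), (nat_lit 54), (nat_lit 1), (nat_lit 1)), ((nat_lit 69), (nat_lit 55), (nat_lit 1), (nat_lit 1))]) (.leaf [((nat_lit 0), (nat_lit 1), (nat_lit 1), (nat_lit 1)), ((nat_lit 8), (nat_lit 11), (nat_lit 1), (nat_lit 1)), ((nat_lit 9), (nat_lit 12), (nat_lit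 1), (nat_lit 1)), ((nat_lit 10), (nat_lit 13), (nat_lit 1), (nat_lit 1)), ((nat_lit 19), (nat_lit 26), (nat_lit 1), (nat_lit 1)), ((nat_lit 20), (nat_lit 27), (nat_lit 1), (nat_lit 1)), ((nat_lit 21), (nat_lit 28), (nat_lit 1), (nat_lit 1)), ((nat_lit 22), (nat_lit 30), (nat_lit 1), (nat_lit 1)), ((nat_lit 23), (nat_lit 31), (nat_lit 1), (nat_lit 1)), ((nat_lit 24), (nat_lit 32), (nat_lit 1), (nat_lit 1)), ((nat_lit 39), (nat_lit 47), (nat_lit 1), (nat_lit 1)), ((nat_lit 40), (nat_lit 48), (nat_lit 1), (nat_lit 1)), ((nat_lit 41), (nat_lit 49), (nat_lit 1), (nat_lit 1)), ((nat_lit 43), (nat_lit 50), (nat_lit 1), (nat_lit 1)), ((nat_lit 44), (nat_lit 51), (nat_lit 1), (nat_lit 1)), ((nat_lit 45), (nat_lit 52), (nat_lit 1), (nat_lit 1)), ((nat_lit 58), (nat_lit 61), (nat_lit 1), (nat_lit 1)), ((nat_lit 59), (nat_lit 62), (nat_lit 1), (nat_lit 1)), ((nat_lit 60), (nat_lit 63), (nat_lit 1), (nat_lit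 1)), ((nat_lit 70), (nat_lit 71), (nat_lit 1), (nat_lit 1))])) (.node (.leaf [((nat_lit 4), (nat_lit 1), (nat_lit 1), (nat_lit 1)), ((nat_lit 9), (nat_lit 5), (nat_lit 1), (nat_lit 1)), ((nat_lit 10), (nat_lit 6), (nat_lit 1), (nat_lit 1)), ((nat_lit 14), (nat_lit 11), (nat_lit 1), (nat_lit 1)), ((nat_lit 20), (nat_lit 16), (nat_lit 1), (nat_lit 1)), ((nat_lit 21), (nat_lit 17), (nat_lit 1), (nat_lit 1)), ((nat_lit 25), (nat_lit 22), (nat_lit 1), (nat_lit 1)), ((nat_lit 29), (nat_lit 26), (nat_lit 1), (nat_lit 1)), ((nat_lit 36), (nat_lit 31), (nat_lit 1), (nat_lit 1)), ((nat_lit 38), (nat_lit 32), (nat_lit 1), (nat_lit 1)), ((nat_lit 39), (nat_lit 33), (nat_lit 1), (nat_lit 1)), ((nat_lit 40), (nat_lit 35), (nat_lit 1), (nat_lit 1)), ((nat_lit 45), (nat_lit 42), (nat_lit 1), (nat_lit 1)), ((nat_lit 49), (nat_lit 46), (nat_lit 1), (nat_lit 1)), ((nat_lit 54), (nat_lit 50), (nat_lit 1), (nat_lit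 1)), ((nat_lit 55), (nat_lit 51), (nat_lit 1), (nat_lit 1)), ((nat_lit 60), (nat_lit 57), (nat_lit 1), (nat_lit 1)), ((nat_lit 65), (nat_lit 61), (nat_lit 1), (nat_lit 1)), ((nat_lit 66), (nat_lit 62), (nat_lit 1), (nat_lit 1)), ((nat_lit 70), (nat_lit 67), (nat_lit 1), (nat_lit 1))]) (.leaf [((nat_lit 0), (nat_lit 17), (nat_lit 1), (nat_lit 1)), ((nat_lit 2), (nat_lit 26), (nat_lit 1), (nat_lit 1)), ((nat_lit 4), (nat_lit 28), (nat_lit 1), (nat_lit 1)), ((nat_lit 5), (nat_lit 30), (nat_lit 1), (nat_lit 1)), ((nat_lit 7), (nat_lit 32), (nat_lit 1), (nat_lit 1)), ((nat_lit 8), (nat_lit 35), (nat_lit 1), (nat_lit 1)), ((nat_lit 10), (nat_lit 37), (nat_lit 1), (nat_lit 1)), ((nat_lit 12), (nat_lit 46), (nat_lit 1), (nat_lit 1)), ((nat_lit 14), (nat_lit 48), (nat_lit 1), (nat_lit 1)), ((nat_lit 15), (nat_lit 51), (nat_lit 1), (nat_lit 1)), ((nat_lit 20), (nat_lit 56), (nat_lit 1), (nat_lit 1)), ((nat_lit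 23), (nat_lit 57), (nat_lit 1), (nat_lit 1)), ((nat_lit 25), (nat_lit 59), (nat_lit 1), (nat_lit 1)), ((nat_lit 34), (nat_lit 61), (nat_lit 1), (nat_lit 1)), ((nat_lit 36), (nat_lit 63), (nat_lit 1), (nat_lit 1)), ((nat_lit 39), (nat_lit 64), (nat_lit 1), (nat_lit 1)), ((nat_lit 41), (nat_lit 66), (nat_lit 1), (nat_lit 1)), ((nat_lit 43), (nat_lit 67), (nat_lit 1), (nat_lit 1)), ((nat_lit 45), (nat_lit 69), (nat_lit 1), (nat_lit 1)), ((nat_lit 54), (nat_lit 71), (nat_lit 1), (nat_lit 1))])))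

def rows4 : Tr (List Entry) :=
  .node (.node (.node (.node (.leaf [((nat_lit 25), (nat_lit 0), (nat_lit 1), (nat_lit 1)), ((nat_lit 39), (nat_lit 2), (nat_lit 1), (nat_lit 1)), ((nat_lit 40), (nat_lit 3), (nat_lit 1), (nat_lit 1)), ((nat_lit 41), (nat_lit 4), (nat_lit 1), (nat_lit 1)), ((nat_lit 43), (nat_lit 5), (nat_lit 1), (nat_lit 1)), ((nat_lit 44), (nat_lit 6), (nat_lit 1), (nat_lit 1)), ((nat_lit 45), (nat_lit 7), (nat_lit 1), (nat_lit 1)), ((nat_lit 53), (nat_lit 11), (nat_lit 1), (nat_lit 1)), ((nat_lit 54), (nat_lit 12), (nat_lit 1), (nat_lit 1)), ((nat_lit 55), (nat_lit 13), (nat_lit 1), (nat_lit 1)), ((nat_lit 58), (nat_lit 16), (nat_lit 1), (nat_lit 1)), ((nat_lit 59), (nat_lit 17), (nat_lit 1), (nat_lit 1)), ((nat_lit 60), (nat_lit 18), (nat_lit 1), (nat_lit 1)), ((nat_lit 64), (nat_lit 26), (nat_lit 1), (nat_lit 1)), ((nat_lit 65), (nat_lit 27), (nat_lit 1), (nat_lit 1)), ((nat_lit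 66), (nat_lit 28), (nat_lit 1), (nat_lit 1)), ((nat_lit 67), (nat_lit 30), (nat_lit 1), (nat_lit 1)), ((nat_lit 68), (nat_lit 31), (nat_lit 1), (nat_lit 1)), ((nat_lit 69), (nat_lit 32), (nat_lit 1), (nat_lit 1)), ((nat_lit 71), (nat_lit 46), (nat_lit 1), (nat_lit 1))]) (.leaf [((nat_lit 0), (nat_lit 20), (nat_lit 1), (nat_lit 1)), ((nat_lit 1), (nat_lit 27), (nat_lit 1), (nat_lit 1)), ((nat_lit 3), (nat_lit 29), (nat_lit 1), (nat_lit 1)), ((nat_lit 5), (nat_lit 34), (nat_lit 1), (nat_lit 1)), ((nat_lit 7), (nat_lit 36), (nat_lit 1), (nat_lit 1)), ((nat_lit 8), (nat_lit 39), (nat_lit 1), (nat_lit 1)), ((nat_lit 10), (nat_lit 41), (nat_lit 1), (nat_lit 1)), ((nat_lit 11), (nat_lit 47), (nat_lit 1), (nat_lit 1)), ((nat_lit 13), (nat_lit 49), (nat_lit 1), (nat_lit 1)), ((nat_lit 15), (nat_lit 54), (nat_lit 1), (nat_lit 1)), ((nat_lit 17), (nat_lit 56), (nat_lit 1), (nat_lit 1)), ((nat_lit 22), (nat_lit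 58), (nat_lit 1), (nat_lit 1)), ((nat_lit 24), (nat_lit 60), (nat_lit 1), (nat_lit 1)), ((nat_lit 30), (nat_lit 61), (nat_lit 1), (nat_lit 1)), ((nat_lit 32), (nat_lit 63), (nat_lit 1), (nat_lit 1)), ((nat_lit 35), (nat_lit 64), (nat_lit 1), (nat_lit 1)), ((nat_lit 37), (nat_lit 66), (nat_lit 1), (nat_lit 1)), ((nat_lit 42), (nat_lit 68), (nat_lit 1), (nat_lit 1)), ((nat_lit 44), (nat_lit 70), (nat_lit 1), (nat_lit 1)), ((nat_lit 51), (nat_lit 71), (nat_lit 1), (nat_lit 1))])) (.leaf [((nat_lit 4), (nat_lit 2), (nat_lit 1), (nat_lit 1)), ((nat_lit 7), (nat_lit 5), (nat_lit 1), (nat_lit 1)), ((nat_lit 10), (nat_lit 8), (nat_lit 1), (nat_lit 1)), ((nat_lit 13), (nat_lit 11), (nat_lit 1), (nat_lit 1)), ((nat_lit 18), (nat_lit 16), (nat_lit 1), (nat_lit 1)), ((nat_lit 21), (nat_lit 19), (nat_lit 1), (nat_lit 1)), ((nat_lit 24), (nat_lit 22), (nat_lit 1), (nat_lit 1)), ((nat_lit 28), (nat_lit 26), (nat_lit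 1), (nat_lit 1)), ((nat_lit 32), (nat_lit 30), (nat_lit 1), (nat_lit 1)), ((nat_lit 36), (nat_lit 34), (nat_lit 1), (nat_lit 1)), ((nat_lit 37), (nat_lit 35), (nat_lit 1), (nat_lit 1)), ((nat_lit 41), (nat_lit 39), (nat_lit 1), (nat_lit 1)), ((nat_lit 45), (nat_lit 43), (nat_lit 1), (nat_lit 1)), ((nat_lit 49), (nat_lit 47), (nat_lit 1), (nat_lit 1)), ((nat_lit 52), (nat_lit 50), (nat_lit 1), (nat_lit 1)), ((nat_lit 55), (nat_lit 53), (nat_lit 1), (nat_lit 1)), ((nat_lit 60), (nat_lit 58), (nat_lit 1), (nat_lit 1)), ((nat_lit 63), (nat_lit 61), (nat_lit 1), (nat_lit 1)), ((nat_lit 66), (nat_lit 64), (nat_lit 1), (nat_lit 1)), ((nat_lit 69), (nat_lit 67), (nat_lit 1), (nat_lit 1))])) (.node (.leaf [((nat_lit 9), (nat_lit 0), (nat_lit 1), (nat_lit 1)), ((nat_lit 12), (nat_lit 1), (nat_lit 1), (nat_lit 1)), ((nat_lit 14), (nat_lit 3), (nat_lit 1), (nat_lit 1)), ((nat_lit 15), (nat_lit 6), (nat_lit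 1), (nat_lit 1)), ((nat_lit 34), (nat_lit 16), (nat_lit 1), (nat_lit 1)), ((nat_lit 36), (nat_lit 18), (nat_lit 1), (nat_lit 1)), ((nat_lit 39), (nat_lit 19), (nat_lit 1), (nat_lit 1)), ((nat_lit 41), (nat_lit 21), (nat_lit 1), (nat_lit 1)), ((nat_lit 43), (nat_lit 22), (nat_lit 1), (nat_lit 1)), ((nat_lit 45), (nat_lit 24), (nat_lit 1), (nat_lit 1)), ((nat_lit 47), (nat_lit 26), (nat_lit 1), (nat_lit 1)), ((nat_lit 49), (nat_lit 28), (nat_lit 1), (nat_lit 1)), ((nat_lit 50), (nat_lit 30), (nat_lit 1), (nat_lit 1)), ((nat_lit 52), (nat_lit 32), (nat_lit 1), (nat_lit 1)), ((nat_lit 53), (nat_lit 35), (nat_lit 1), (nat_lit 1)), ((nat_lit 55), (nat_lit 37), (nat_lit 1), (nat_lit 1)), ((nat_lit 65), (nat_lit 56), (nat_lit 1), (nat_lit 1)), ((nat_lit 68), (nat_lit 57), (nat_lit 1), (nat_lit 1)), ((nat_lit 70), (nat_lit 59), (nat_lit 1), (nat_lit 1)), ((nat_lit 71), (nat_lit 62), (nat_lit 1), (nat_lit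 1))]) (.leaf [((nat_lit 0), (nat_lit 4), (nat_lit 1), (nat_lit 1)), ((nat_lit 5), (nat_lit 12), (nat_lit 1), (nat_lit 1)), ((nat_lit 6), (nat_lit 13), (nat_lit 1), (nat_lit 1)), ((nat_lit 8), (nat_lit 14), (nat_lit 1), (nat_lit 1)), ((nat_lit 16), (nat_lit 27), (nat_lit 1), (nat_lit 1)), ((nat_lit 17), (nat_lit 28), (nat_lit 1), (nat_lit 1)), ((nat_lit 19), (nat_lit 29), (nat_lit 1), (nat_lit 1)), ((nat_lit 23), (nat_lit 36), (nat_lit 1), (nat_lit 1)), ((nat_lit 24), (nat_lit 38), (nat_lit 1), (nat_lit 1)), ((nat_lit 25), (nat_lit 41), (nat_lit 1), (nat_lit 1)), ((nat_lit 30), (nat_lit 46), (nat_lit 1), (nat_lit 1)), ((nat_lit 33), (nat_lit 47), (nat_lit 1), (nat_lit 1)), ((nat_lit 35), (nat_lit 48), (nat_lit 1), (nat_lit 1)), ((nat_lit 42), (nat_lit 52), (nat_lit 1), (nat_lit 1)), ((nat_lit 43), (nat_lit 54), (nat_lit 1), (nat_lit 1)), ((nat_lit 44), (nat_lit 55), (nat_lit 1), (nat_lit 1)), ((nat_lit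 57), (nat_lit 63), (nat_lit 1), (nat_lit 1)), ((nat_lit 58), (nat_lit 65), (nat_lit 1), (nat_lit 1)), ((nat_lit 59), (nat_lit 66), (nat_lit 1), (nat_lit 1)), ((nat_lit 67), (nat_lit 71), (nat_lit 1), (nat_lit 1))]))) (.node (.node (.leaf [((nat_lit 17), (nat_lit 0), (nat_lit 1), (nat_lit 1)), ((nat_lit 26), (nat_lit 2), (nat_lit 1), (nat_lit 1)), ((nat_lit 28), (nat_lit 4), (nat_lit 1), (nat_lit 1)), ((nat_lit 30), (nat_lit 5), (nat_lit 1), (nat_lit 1)), ((nat_lit 32), (nat_lit 7), (nat_lit 1), (nat_lit 1)), ((nat_lit 35), (nat_lit 8), (nat_lit 1), (nat_lit 1)), ((nat_lit 37), (nat_lit 10), (nat_lit 1), (nat_lit 1)), ((nat_lit 46), (nat_lit 12), (nat_lit 1), (nat_lit 1)), ((nat_lit 48), (nat_lit 14), (nat_lit 1), (nat_lit 1)), ((nat_lit 51), (nat_lit 15), (nat_lit 1), (nat_lit 1)), ((nat_lit 56), (nat_lit 20), (nat_lit 1), (nat_lit 1)), ((nat_lit 57), (nat_lit 23), (nat_lit 1), (nat_lit 1)), ((nat_lit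 59), (nat_lit 25), (nat_lit 1), (nat_lit 1)), ((nat_lit 61), (nat_lit 34), (nat_lit 1), (nat_lit 1)), ((nat_lit 63), (nat_lit 36), (nat_lit 1), (nat_lit 1)), ((nat_lit 64), (nat_lit 39), (nat_lit 1), (nat_lit 1)), ((nat_lit 66), (nat_lit 41), (nat_lit 1), (nat_lit 1)), ((nat_lit 67), (nat_lit 43), (nat_lit 1), (nat_lit 1)), ((nat_lit 69), (nat_lit 45), (nat_lit 1), (nat_lit 1)), ((nat_lit 71), (nat_lit 54), (nat_lit 1), (nat_lit 1))]) (.leaf [((nat_lit 1), (nat_lit 4), (nat_lit 1), (nat_lit 1)), ((nat_lit 5), (nat_lit 9), (nat_lit 1), (nat_lit 1)), ((nat_lit 6), (nat_lit 10), (nat_lit 1), (nat_lit 1)), ((nat_lit 11), (nat_lit 14), (nat_lit 1), (nat_lit 1)), ((nat_lit 16), (nat_lit 20), (nat_lit 1), (nat_lit 1)), ((nat_lit 17), (nat_lit 21), (nat_lit 1), (nat_lit 1)), ((nat_lit 22), (nat_lit 25), (nat_lit 1), (nat_lit 1)), ((nat_lit 26), (nat_lit 29), (nat_lit 1), (nat_lit 1)), ((nat_lit 31), (nat_lit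 36), (nat_lit 1), (nat_lit 1)), ((nat_lit 32), (nat_lit 38), (nat_lit 1), (nat_lit 1)), ((nat_lit 33), (nat_lit 39), (nat_lit 1), (nat_lit 1)), ((nat_lit 35), (nat_lit 40), (nat_lit 1), (nat_lit 1)), ((nat_lit 42), (nat_lit 45), (nat_lit 1), (nat_lit 1)), ((nat_lit 46), (nat_lit 49), (nat_lit 1), (nat_lit 1)), ((nat_lit 50), (nat_lit 54), (nat_lit 1), (nat_lit 1)), ((nat_lit 51), (nat_lit 55), (nat_lit 1), (nat_lit 1)), ((nat_lit 57), (nat_lit 60), (nat_lit 1), (nat_lit 1)), ((nat_lit 61), (nat_lit 65), (nat_lit 1), (nat_lit 1)), ((nat_lit 62), (nat_lit 66), (nat_lit 1), (nat_lit 1)), ((nat_lit 67), (nat_lit 70), (nat_lit 1), (nat_lit 1))])) (.node (.leaf [((nat_lit 1), (nat_lit 0), (nat_lit 1), (nat_lit 1)), ((nat_lit 11), (nat_lit 8), (nat_lit 1), (nat_lit 1)), ((nat_lit 12), (nat_lit 9), (nat_lit 1), (nat_lit 1)), ((nat_lit 13), (nat_lit 10), (nat_lit 1), (nat_lit 1)), ((nat_lit 26), (nat_lit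 19), (nat_lit 1), (nat_lit 1)), ((nat_lit 27), (nat_lit 20), (nat_lit 1), (nat_lit 1)), ((nat_lit 28), (nat_lit 21), (nat_lit 1), (nat_lit 1)), ((nat_lit 30), (nat_lit 22), (nat_lit 1), (nat_lit 1)), ((nat_lit 31), (nat_lit 23), (nat_lit 1), (nat_lit 1)), ((nat_lit 32), (nat_lit 24), (nat_lit 1), (nat_lit 1)), ((nat_lit 47), (nat_lit 39), (nat_lit 1), (nat_lit 1)), ((nat_lit 48), (nat_lit 40), (nat_lit 1), (nat_lit 1)), ((nat_lit 49), (nat_lit 41), (nat_lit 1), (nat_lit 1)), ((nat_lit 50), (nat_lit 43), (nat_lit 1), (nat_lit 1)), ((nat_lit 51), (nat_lit 44), (nat_lit 1), (nat_lit 1)), ((nat_lit 52), (nat_lit 45), (nat_lit 1), (nat_lit 1)), ((nat_lit 61), (nat_lit 58), (nat_lit 1), (nat_lit 1)), ((nat_lit 62), (nat_lit 59), (nat_lit 1), (nat_lit 1)), ((nat_lit 63), (nat_lit 60), (nat_lit 1), (nat_lit 1)), ((nat_lit 71), (nat_lit 70), (nat_lit 1), (nat_lit 1))]) (.leaf [((nat_lit 2), (nat_lit 16),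 (nat_lit 1), (nat_lit 1)), ((nat_lit 3), (nat_lit 17), (nat_lit 1), (nat_lit 1)), ((nat_lit 4), (nat_lit 18), (nat_lit 1), (nat_lit 1)), ((nat_lit 8), (nat_lit 22), (nat_lit 1), (nat_lit 1)), ((nat_lit 9), (nat_lit 23), (nat_lit 1), (nat_lit 1)), ((nat_lit 10), (nat_lit 24), (nat_lit 1), (nat_lit 1)), ((nat_lit 11), (nat_lit 30), (nat_lit 1), (nat_lit 1)), ((nat_lit 12), (nat_lit 31), (nat_lit 1), (nat_lit 1)), ((nat_lit 13), (nat_lit 32), (nat_lit 1), (nat_lit 1)), ((nat_lit 15), (nat_lit 42), (nat_lit 1), (nat_lit 1)), ((nat_lit 29), (nat_lit 56), (nat_lit 1), (nat_lit 1)), ((nat_lit 39), (nat_lit 58), (nat_lit 1), (nat_lit 1)), ((nat_lit 40), (nat_lit 59), (nat_lit 1), (nat_lit 1)), ((nat_lit 41), (nat_lit 60), (nat_lit 1), (nat_lit 1)), ((nat_lit 47), (nat_lit 61), (nat_lit 1), (nat_lit 1)), ((nat_lit 48), (nat_lit 62), (nat_lit 1), (nat_lit 1)), ((nat_lit 49), (nat_lit 63), (nat_lit 1), (nat_lit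 1)), ((nat_lit 53), (nat_lit 67), (nat_lit 1), (nat_lit 1)), ((nat_lit 54), (nat_lit 68), (nat_lit 1), (nat_lit 1)), ((nat_lit 55), (nat_lit 69), (nat_lit 1), (nat_lit 1))])))

def rows5 : Tr (List Entry) :=
  .node (.node (.node (.node (.leaf [((nat_lit 21), (nat_lit 0), (nat_lit 1), (nat_lit 1)), ((nat_lit 28), (nat_lit 1), (nat_lit 1), (nat_lit 1)), ((nat_lit 29), (nat_lit 2), (nat_lit 1), (nat_lit 1)), ((nat_lit 37), (nat_lit 6), (nat_lit 1), (nat_lit 1)), ((nat_lit 38), (nat_lit 7), (nat_lit 1), (nat_lit 1)), ((nat_lit 40), (nat_lit 8), (nat_lit 1), (nat_lit 1)), ((nat_lit 41), (nat_lit 9), (nat_lit 1), (nat_lit 1)), ((nat_lit 48), (nat_lit 11), (nat_lit 1), (nat_lit 1)), ((nat_lit 49), (nat_lit 12), (nat_lit 1), (nat_lit 1)), ((nat_lit 55), (nat_lit 15), (nat_lit 1), (nat_lit 1)), ((nat_lit 56), (nat_lit 16), (nat_lit 1), (nat_lit 1)), ((nat_lit 59), (nat_lit 22), (nat_lit 1), (nat_lit 1)),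 ((nat_lit 60), (nat_lit 23), (nat_lit 1), (nat_lit 1)), ((nat_lit 62), (nat_lit 30), (nat_lit 1), (nat_lit 1)), ((nat_lit 63), (nat_lit 31), (nat_lit 1), (nat_lit 1)), ((nat_lit 64), (nat_lit 33), (nat_lit 1), (nat_lit 1)), ((nat_lit 65), (nat_lit 34), (nat_lit 1), (nat_lit 1)), ((nat_lit 69), (nat_lit 42), (nat_lit 1), (nat_lit 1)), ((nat_lit 70), (nat_lit 43), (nat_lit 1), (nat_lit 1)), ((nat_lit 71), (nat_lit 50), (nat_lit 1), (nat_lit 1))]) (.leaf [((nat_lit 0), (nat_lit 24), (nat_lit 1), (nat_lit 1)), ((nat_lit 1), (nat_lit 32), (nat_lit 1), (nat_lit 1)), ((nat_lit 3), (nat_lit 37), (nat_lit 1), (nat_lit 1)), ((nat_lit 4), (nat_lit 38), (nat_lit 1), (nat_lit 1)), ((nat_lit 5), (nat_lit 42), (nat_lit 1), (nat_lit 1)), ((nat_lit 8), (nat_lit 44), (nat_lit 1), (nat_lit 1)), ((nat_lit 9), (nat_lit 45), (nat_lit 1), (nat_lit 1)), ((nat_lit 11), (nat_lit 51), (nat_lit 1), (nat_lit 1)), ((nat_lit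 12), (nat_lit 52), (nat_lit 1), (nat_lit 1)), ((nat_lit 14), (nat_lit 55), (nat_lit 1), (nat_lit 1)), ((nat_lit 16), (nat_lit 57), (nat_lit 1), (nat_lit 1)), ((nat_lit 19), (nat_lit 59), (nat_lit 1), (nat_lit 1)), ((nat_lit 20), (nat_lit 60), (nat_lit 1), (nat_lit 1)), ((nat_lit 26), (nat_lit 62), (nat_lit 1), (nat_lit 1)), ((nat_lit 27), (nat_lit 63), (nat_lit 1), (nat_lit 1)), ((nat_lit 29), (nat_lit 66), (nat_lit 1), (nat_lit 1)), ((nat_lit 33), (nat_lit 67), (nat_lit 1), (nat_lit 1)), ((nat_lit 34), (nat_lit 68), (nat_lit 1), (nat_lit 1)), ((nat_lit 39), (nat_lit 70), (nat_lit 1), (nat_lit 1)), ((nat_lit 47), (nat_lit 71), (nat_lit 1), (nat_lit 1))])) (.leaf [((nat_lit 2), (nat_lit 3), (nat_lit 1), (nat_lit 1)), ((nat_lit 5), (nat_lit 6), (nat_lit 1), (nat_lit 1)), ((nat_lit 9), (nat_lit 10), (nat_lit 1), (nat_lit 1)), ((nat_lit 12), (nat_lit 13), (nat_lit 1), (nat_lit 1)), ((nat_lit 16), (nat_lit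 17), (nat_lit 1), (nat_lit 1)), ((nat_lit 20), (nat_lit 21), (nat_lit 1), (nat_lit 1)), ((nat_lit 23), (nat_lit 24), (nat_lit 1), (nat_lit 1)), ((nat_lit 27), (nat_lit 28), (nat_lit 1), (nat_lit 1)), ((nat_lit 31), (nat_lit 32), (nat_lit 1), (nat_lit 1)), ((nat_lit 33), (nat_lit 35), (nat_lit 1), (nat_lit 1)), ((nat_lit 36), (nat_lit 38), (nat_lit 1), (nat_lit 1)), ((nat_lit 39), (nat_lit 40), (nat_lit 1), (nat_lit 1)), ((nat_lit 43), (nat_lit 44), (nat_lit 1), (nat_lit 1)), ((nat_lit 47), (nat_lit 48), (nat_lit 1), (nat_lit 1)), ((nat_lit 50), (nat_lit 51), (nat_lit 1), (nat_lit 1)), ((nat_lit 54), (nat_lit 55), (nat_lit 1), (nat_lit 1)), ((nat_lit 58), (nat_lit 59), (nat_lit 1), (nat_lit 1)), ((nat_lit 61), (nat_lit 62), (nat_lit 1), (nat_lit 1)), ((nat_lit 65), (nat_lit 66), (nat_lit 1), (nat_lit 1)), ((nat_lit 68), (nat_lit 69), (nat_lit 1), (nat_lit 1))])) (.node (.leaf [((nat_lit 5), (nat_lit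 0), (nat_lit 1), (nat_lit 1)), ((nat_lit 11), (nat_lit 3), (nat_lit 1), (nat_lit 1)), ((nat_lit 12), (nat_lit 4), (nat_lit 1), (nat_lit 1)), ((nat_lit 15), (nat_lit 10), (nat_lit 1), (nat_lit 1)), ((nat_lit 30), (nat_lit 17), (nat_lit 1), (nat_lit 1)), ((nat_lit 31), (nat_lit 18), (nat_lit 1), (nat_lit 1)), ((nat_lit 33), (nat_lit 19), (nat_lit 1), (nat_lit 1)), ((nat_lit 34), (nat_lit 20), (nat_lit 1), (nat_lit 1)), ((nat_lit 42), (nat_lit 24), (nat_lit 1), (nat_lit 1)), ((nat_lit 43), (nat_lit 25), (nat_lit 1), (nat_lit 1)), ((nat_lit 46), (nat_lit 28), (nat_lit 1), (nat_lit 1)), ((nat_lit 47), (nat_lit 29), (nat_lit 1), (nat_lit 1)), ((nat_lit 51), (nat_lit 37), (nat_lit 1), (nat_lit 1)), ((nat_lit 52), (nat_lit 38), (nat_lit 1), (nat_lit 1)), ((nat_lit 53), (nat_lit 40), (nat_lit 1), (nat_lit 1)), ((nat_lit 54), (nat_lit 41), (nat_lit 1), (nat_lit 1)), ((nat_lit 61), (nat_lit 56), (nat_lit 1),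 (nat_lit 1)), ((nat_lit 67), (nat_lit 59), (nat_lit 1), (nat_lit 1)), ((nat_lit 68), (nat_lit 60), (nat_lit 1), (nat_lit 1)), ((nat_lit 71), (nat_lit 66), (nat_lit 1), (nat_lit 1))]) (.leaf [((nat_lit 0), (nat_lit 8), (nat_lit 1), (nat_lit 1)), ((nat_lit 1), (nat_lit 11), (nat_lit 1), (nat_lit 1)), ((nat_lit 4), (nat_lit 14), (nat_lit 1), (nat_lit 1)), ((nat_lit 7), (nat_lit 15), (nat_lit 1), (nat_lit 1)), ((nat_lit 16), (nat_lit 33), (nat_lit 1), (nat_lit 1)), ((nat_lit 17), (nat_lit 35), (nat_lit 1), (nat_lit 1)), ((nat_lit 20), (nat_lit 39), (nat_lit 1), (nat_lit 1)), ((nat_lit 21), (nat_lit 40), (nat_lit 1), (nat_lit 1)), ((nat_lit 23), (nat_lit 43), (nat_lit 1), (nat_lit 1)), ((nat_lit 24), (nat_lit 44), (nat_lit 1), (nat_lit 1)), ((nat_lit 27), (nat_lit 47), (nat_lit 1), (nat_lit 1)), ((nat_lit 28), (nat_lit 48), (nat_lit 1), (nat_lit 1)), ((nat_lit 31), (nat_lit 50), (nat_lit 1), (nat_lit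 1)), ((nat_lit 32), (nat_lit 51), (nat_lit 1), (nat_lit 1)), ((nat_lit 36), (nat_lit 54), (nat_lit 1), (nat_lit 1)), ((nat_lit 38), (nat_lit 55), (nat_lit 1), (nat_lit 1)), ((nat_lit 56), (nat_lit 64), (nat_lit 1), (nat_lit 1)), ((nat_lit 57), (nat_lit 67), (nat_lit 1), (nat_lit 1)), ((nat_lit 60), (nat_lit 70), (nat_lit 1), (nat_lit 1)), ((nat_lit 63), (nat_lit 71), (nat_lit 1), (nat_lit 1))]))) (.node (.node (.leaf [((nat_lit 16), (nat_lit 1), (nat_lit 1), (nat_lit 1)), ((nat_lit 19), (nat_lit 3), (nat_lit 1), (nat_lit 1)), ((nat_lit 20), (nat_lit 4), (nat_lit 1), (nat_lit 1)), ((nat_lit 22), (nat_lit 6), (nat_lit 1), (nat_lit 1)), ((nat_lit 23), (nat_lit 7), (nat_lit 1), (nat_lit 1)), ((nat_lit 25), (nat_lit 10), (nat_lit 1), (nat_lit 1)), ((nat_lit 33), (nat_lit 11), (nat_lit 1), (nat_lit 1)), ((nat_lit 34), (nat_lit 12), (nat_lit 1), (nat_lit 1)), ((nat_lit 39), (nat_lit 14), (nat_lit 1), (nat_lit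 1)), ((nat_lit 43), (nat_lit 15), (nat_lit 1), (nat_lit 1)), ((nat_lit 56), (nat_lit 28), (nat_lit 1), (nat_lit 1)), ((nat_lit 57), (nat_lit 32), (nat_lit 1), (nat_lit 1)), ((nat_lit 59), (nat_lit 37), (nat_lit 1), (nat_lit 1)), ((nat_lit 60), (nat_lit 38), (nat_lit 1), (nat_lit 1)), ((nat_lit 61), (nat_lit 46), (nat_lit 1), (nat_lit 1)), ((nat_lit 64), (nat_lit 48), (nat_lit 1), (nat_lit 1)), ((nat_lit 65), (nat_lit 49), (nat_lit 1), (nat_lit 1)), ((nat_lit 67), (nat_lit 51), (nat_lit 1), (nat_lit 1)), ((nat_lit 68), (nat_lit 52), (nat_lit 1), (nat_lit 1)), ((nat_lit 70), (nat_lit 55), (nat_lit 1), (nat_lit 1))]) (.leaf [((nat_lit 1), (nat_lit 7), (nat_lit 1), (nat_lit 1)), ((nat_lit 2), (nat_lit 9), (nat_lit 1), (nat_lit 1)), ((nat_lit 3), (nat_lit 10), (nat_lit 1), (nat_lit 1)), ((nat_lit 11), (nat_lit 15), (nat_lit 1), (nat_lit 1)), ((nat_lit 16), (nat_lit 23), (nat_lit 1), (nat_lit 1)), ((nat_lit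 17), (nat_lit 24), (nat_lit 1), (nat_lit 1)), ((nat_lit 19), (nat_lit 25), (nat_lit 1), (nat_lit 1)), ((nat_lit 27), (nat_lit 36), (nat_lit 1), (nat_lit 1)), ((nat_lit 28), (nat_lit 38), (nat_lit 1), (nat_lit 1)), ((nat_lit 29), (nat_lit 41), (nat_lit 1), (nat_lit 1)), ((nat_lit 30), (nat_lit 42), (nat_lit 1), (nat_lit 1)), ((nat_lit 33), (nat_lit 43), (nat_lit 1), (nat_lit 1)), ((nat_lit 35), (nat_lit 44), (nat_lit 1), (nat_lit 1)), ((nat_lit 46), (nat_lit 52), (nat_lit 1), (nat_lit 1)), ((nat_lit 47), (nat_lit 54), (nat_lit 1), (nat_lit 1)), ((nat_lit 48), (nat_lit 55), (nat_lit 1), (nat_lit 1)), ((nat_lit 56), (nat_lit 60), (nat_lit 1), (nat_lit 1)), ((nat_lit 61), (nat_lit 68), (nat_lit 1), (nat_lit 1)), ((nat_lit 62), (nat_lit 69), (nat_lit 1), (nat_lit 1)), ((nat_lit 64), (nat_lit 70), (nat_lit 1), (nat_lit 1))])) (.node (.leaf [((nat_lit 5), (nat_lit 2), (nat_lit 1), (nat_lit 1)), ((nat_lit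 6), (nat_lit 3), (nat_lit 1), (nat_lit 1)), ((nat_lit 7), (nat_lit 4), (nat_lit 1), (nat_lit 1)), ((nat_lit 15), (nat_lit 14), (nat_lit 1), (nat_lit 1)), ((nat_lit 22), (nat_lit 19), (nat_lit 1), (nat_lit 1)), ((nat_lit 23), (nat_lit 20), (nat_lit 1), (nat_lit 1)), ((nat_lit 24), (nat_lit 21), (nat_lit 1), (nat_lit 1)), ((nat_lit 30), (nat_lit 26), (nat_lit 1), (nat_lit 1)), ((nat_lit 31), (nat_lit 27), (nat_lit 1), (nat_lit 1)), ((nat_lit 32), (nat_lit 28), (nat_lit 1), (nat_lit 1)), ((nat_lit 43), (nat_lit 39), (nat_lit 1), (nat_lit 1)), ((nat_lit 44), (nat_lit 40), (nat_lit 1), (nat_lit 1)), ((nat_lit 45), (nat_lit 41), (nat_lit 1), (nat_lit 1)), ((nat_lit 50), (nat_lit 47), (nat_lit 1), (nat_lit 1)), ((nat_lit 51), (nat_lit 48), (nat_lit 1), (nat_lit 1)), ((nat_lit 52), (nat_lit 49), (nat_lit 1), (nat_lit 1)), ((nat_lit 57), (nat_lit 56), (nat_lit 1), (nat_lit 1)), ((nat_lit 67), (nat_lit 64),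 (nat_lit 1), (nat_lit 1)), ((nat_lit 68), (nat_lit 65), (nat_lit 1), (nat_lit 1)), ((nat_lit 69), (nat_lit 66), (nat_lit 1), (nat_lit 1))]) (.leaf [((nat_lit 0), (nat_lit 16), (nat_lit 1), (nat_lit 1)), ((nat_lit 3), (nat_lit 26), (nat_lit 1), (nat_lit 1)), ((nat_lit 4), (nat_lit 27), (nat_lit 1), (nat_lit 1)), ((nat_lit 6), (nat_lit 30), (nat_lit 1), (nat_lit 1)), ((nat_lit 7), (nat_lit 31), (nat_lit 1), (nat_lit 1)), ((nat_lit 8), (nat_lit 33), (nat_lit 1), (nat_lit 1)), ((nat_lit 9), (nat_lit 34), (nat_lit 1), (nat_lit 1)), ((nat_lit 13), (nat_lit 46), (nat_lit 1), (nat_lit 1)), ((nat_lit 14), (nat_lit 47), (nat_lit 1), (nat_lit 1)), ((nat_lit 15), (nat_lit 50), (nat_lit 1), (nat_lit 1)), ((nat_lit 21), (nat_lit 56), (nat_lit 1), (nat_lit 1)), ((nat_lit 24), (nat_lit 57), (nat_lit 1), (nat_lit 1)), ((nat_lit 25), (nat_lit 58), (nat_lit 1), (nat_lit 1)), ((nat_lit 37), (nat_lit 62), (nat_lit 1),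 (nat_lit 1)), ((nat_lit 38), (nat_lit 63), (nat_lit 1), (nat_lit 1)), ((nat_lit 40), (nat_lit 64), (nat_lit 1), (nat_lit 1)), ((nat_lit 41), (nat_lit 65), (nat_lit 1), (nat_lit 1)), ((nat_lit 44), (nat_lit 67), (nat_lit 1), (nat_lit 1)), ((nat_lit 45), (nat_lit 68), (nat_lit 1), (nat_lit 1)), ((nat_lit 55), (nat_lit 71), (nat_lit 1), (nat_lit 1))])))

def rows6 : Tr (List Entry) :=
  .node (.node (.node (.node (.leaf [((nat_lit 23), (nat_lit 0), (nat_lit 1), (nat_lit 1)), ((nat_lit 31), (nat_lit 1), (nat_lit 1), (nat_lit 1)), ((nat_lit 34), (nat_lit 2), (nat_lit 1), (nat_lit 1)), ((nat_lit 36), (nat_lit 4), (nat_lit 1), (nat_lit 1)), ((nat_lit 42), (nat_lit 6), (nat_lit 1), (nat_lit 1)), ((nat_lit 43), (nat_lit 8), (nat_lit 1), (nat_lit 1)), ((nat_lit 45), (nat_lit 10), (nat_lit 1), (nat_lit 1)), ((nat_lit 50), (nat_lit 11), (nat_lit 1), (nat_lit 1)), ((nat_lit 52), (nat_lit 13), (nat_lit 1), (nat_lit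 1)), ((nat_lit 54), (nat_lit 14), (nat_lit 1), (nat_lit 1)), ((nat_lit 57), (nat_lit 17), (nat_lit 1), (nat_lit 1)), ((nat_lit 58), (nat_lit 19), (nat_lit 1), (nat_lit 1)), ((nat_lit 60), (nat_lit 21), (nat_lit 1), (nat_lit 1)), ((nat_lit 61), (nat_lit 26), (nat_lit 1), (nat_lit 1)), ((nat_lit 63), (nat_lit 28), (nat_lit 1), (nat_lit 1)), ((nat_lit 65), (nat_lit 29), (nat_lit 1), (nat_lit 1)), ((nat_lit 67), (nat_lit 35), (nat_lit 1), (nat_lit 1)), ((nat_lit 69), (nat_lit 37), (nat_lit 1), (nat_lit 1)), ((nat_lit 70), (nat_lit 40), (nat_lit 1), (nat_lit 1)), ((nat_lit 71), (nat_lit 48), (nat_lit 1), (nat_lit 1))]) (.leaf [((nat_lit 0), (nat_lit 22), (nat_lit 1), (nat_lit 1)), ((nat_lit 1), (nat_lit 30), (nat_lit 1), (nat_lit 1)), ((nat_lit 2), (nat_lit 33), (nat_lit 1), (nat_lit 1)), ((nat_lit 3), (nat_lit 35), (nat_lit 1), (nat_lit 1)), ((nat_lit 7), (nat_lit 42), (nat_lit 1), (nat_lit 1)), ((nat_lit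 9), (nat_lit 43), (nat_lit 1), (nat_lit 1)), ((nat_lit 10), (nat_lit 44), (nat_lit 1), (nat_lit 1)), ((nat_lit 12), (nat_lit 50), (nat_lit 1), (nat_lit 1)), ((nat_lit 13), (nat_lit 51), (nat_lit 1), (nat_lit 1)), ((nat_lit 14), (nat_lit 53), (nat_lit 1), (nat_lit 1)), ((nat_lit 18), (nat_lit 57), (nat_lit 1), (nat_lit 1)), ((nat_lit 20), (nat_lit 58), (nat_lit 1), (nat_lit 1)), ((nat_lit 21), (nat_lit 59), (nat_lit 1), (nat_lit 1)), ((nat_lit 27), (nat_lit 61), (nat_lit 1), (nat_lit 1)), ((nat_lit 28), (nat_lit 62), (nat_lit 1), (nat_lit 1)), ((nat_lit 29), (nat_lit 64), (nat_lit 1), (nat_lit 1)), ((nat_lit 36), (nat_lit 68), (nat_lit 1), (nat_lit 1)), ((nat_lit 38), (nat_lit 69), (nat_lit 1), (nat_lit 1)), ((nat_lit 41), (nat_lit 70), (nat_lit 1), (nat_lit 1)), ((nat_lit 49), (nat_lit 71), (nat_lit 1), (nat_lit 1))])) (.leaf [((nat_lit 4), (nat_lit 3), (nat_lit 1), (nat_lit 1)), ((nat_lit 7), (nat_lit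 6), (nat_lit 1), (nat_lit 1)), ((nat_lit 9), (nat_lit 8), (nat_lit 1), (nat_lit 1)), ((nat_lit 12), (nat_lit 11), (nat_lit 1), (nat_lit 1)), ((nat_lit 18), (nat_lit 17), (nat_lit 1), (nat_lit 1)), ((nat_lit 20), (nat_lit 19), (nat_lit 1), (nat_lit 1)), ((nat_lit 23), (nat_lit 22), (nat_lit 1), (nat_lit 1)), ((nat_lit 27), (nat_lit 26), (nat_lit 1), (nat_lit 1)), ((nat_lit 31), (nat_lit 30), (nat_lit 1), (nat_lit 1)), ((nat_lit 34), (nat_lit 33), (nat_lit 1), (nat_lit 1)), ((nat_lit 38), (nat_lit 37), (nat_lit 1), (nat_lit 1)), ((nat_lit 41), (nat_lit 40), (nat_lit 1), (nat_lit 1)), ((nat_lit 45), (nat_lit 44), (nat_lit 1), (nat_lit 1)), ((nat_lit 49), (nat_lit 48), (nat_lit 1), (nat_lit 1)), ((nat_lit 52), (nat_lit 51), (nat_lit 1), (nat_lit 1)), ((nat_lit 54), (nat_lit 53), (nat_lit 1), (nat_lit 1)), ((nat_lit 60), (nat_lit 59), (nat_lit 1), (nat_lit 1)), ((nat_lit 63), (nat_lit 62), (nat_lit 1),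 (nat_lit 1)), ((nat_lit 65), (nat_lit 64), (nat_lit 1), (nat_lit 1)), ((nat_lit 68), (nat_lit 67), (nat_lit 1), (nat_lit 1))])) (.node (.leaf [((nat_lit 7), (nat_lit 0), (nat_lit 1), (nat_lit 1)), ((nat_lit 12), (nat_lit 2), (nat_lit 1), (nat_lit 1)), ((nat_lit 13), (nat_lit 3), (nat_lit 1), (nat_lit 1)), ((nat_lit 15), (nat_lit 8), (nat_lit 1), (nat_lit 1)), ((nat_lit 31), (nat_lit 16), (nat_lit 1), (nat_lit 1)), ((nat_lit 32), (nat_lit 17), (nat_lit 1), (nat_lit 1)), ((nat_lit 36), (nat_lit 20), (nat_lit 1), (nat_lit 1)), ((nat_lit 38), (nat_lit 21), (nat_lit 1), (nat_lit 1)), ((nat_lit 42), (nat_lit 22), (nat_lit 1), (nat_lit 1)), ((nat_lit 45), (nat_lit 25), (nat_lit 1), (nat_lit 1)), ((nat_lit 46), (nat_lit 26), (nat_lit 1), (nat_lit 1)), ((nat_lit 49), (nat_lit 29), (nat_lit 1), (nat_lit 1)), ((nat_lit 50), (nat_lit 33), (nat_lit 1), (nat_lit 1)), ((nat_lit 51), (nat_lit 35), (nat_lit 1),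 (nat_lit 1)), ((nat_lit 54), (nat_lit 39), (nat_lit 1), (nat_lit 1)), ((nat_lit 55), (nat_lit 40), (nat_lit 1), (nat_lit 1)), ((nat_lit 63), (nat_lit 56), (nat_lit 1), (nat_lit 1)), ((nat_lit 68), (nat_lit 58), (nat_lit 1), (nat_lit 1)), ((nat_lit 69), (nat_lit 59), (nat_lit 1), (nat_lit 1)), ((nat_lit 71), (nat_lit 64), (nat_lit 1), (nat_lit 1))]) (.leaf [((nat_lit 0), (nat_lit 6), (nat_lit 1), (nat_lit 1)), ((nat_lit 2), (nat_lit 11), (nat_lit 1), (nat_lit 1)), ((nat_lit 4), (nat_lit 13), (nat_lit 1), (nat_lit 1)), ((nat_lit 9), (nat_lit 15), (nat_lit 1), (nat_lit 1)), ((nat_lit 16), (nat_lit 30), (nat_lit 1), (nat_lit 1)), ((nat_lit 18), (nat_lit 32), (nat_lit 1), (nat_lit 1)), ((nat_lit 19), (nat_lit 35), (nat_lit 1), (nat_lit 1)), ((nat_lit 21), (nat_lit 37), (nat_lit 1), (nat_lit 1)), ((nat_lit 23), (nat_lit 42), (nat_lit 1), (nat_lit 1)), ((nat_lit 25), (nat_lit 44), (nat_lit 1), (nat_lit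 1)), ((nat_lit 27), (nat_lit 46), (nat_lit 1), (nat_lit 1)), ((nat_lit 29), (nat_lit 48), (nat_lit 1), (nat_lit 1)), ((nat_lit 34), (nat_lit 50), (nat_lit 1), (nat_lit 1)), ((nat_lit 36), (nat_lit 52), (nat_lit 1), (nat_lit 1)), ((nat_lit 39), (nat_lit 53), (nat_lit 1), (nat_lit 1)), ((nat_lit 41), (nat_lit 55), (nat_lit 1), (nat_lit 1)), ((nat_lit 56), (nat_lit 62), (nat_lit 1), (nat_lit 1)), ((nat_lit 58), (nat_lit 67), (nat_lit 1), (nat_lit 1)), ((nat_lit 60), (nat_lit 69), (nat_lit 1), (nat_lit 1)), ((nat_lit 65), (nat_lit 71), (nat_lit 1), (nat_lit 1))]))) (.node (.node (.leaf [((nat_lit 18), (nat_lit 1), (nat_lit 1), (nat_lit 1)), ((nat_lit 20), (nat_lit 2), (nat_lit 1), (nat_lit 1)), ((nat_lit 21), (nat_lit 3), (nat_lit 1), (nat_lit 1)), ((nat_lit 23), (nat_lit 5), (nat_lit 1), (nat_lit 1)), ((nat_lit 24), (nat_lit 6), (nat_lit 1), (nat_lit 1)), ((nat_lit 25), (nat_lit 8), (nat_lit 1), (nat_lit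 1)), ((nat_lit 36), (nat_lit 12), (nat_lit 1), (nat_lit 1)), ((nat_lit 38), (nat_lit 13), (nat_lit 1), (nat_lit 1)), ((nat_lit 41), (nat_lit 14), (nat_lit 1), (nat_lit 1)), ((nat_lit 45), (nat_lit 15), (nat_lit 1), (nat_lit 1)), ((nat_lit 56), (nat_lit 26), (nat_lit 1), (nat_lit 1)), ((nat_lit 57), (nat_lit 30), (nat_lit 1), (nat_lit 1)), ((nat_lit 58), (nat_lit 33), (nat_lit 1), (nat_lit 1)), ((nat_lit 59), (nat_lit 35), (nat_lit 1), (nat_lit 1)), ((nat_lit 63), (nat_lit 46), (nat_lit 1), (nat_lit 1)), ((nat_lit 65), (nat_lit 47), (nat_lit 1), (nat_lit 1)), ((nat_lit 66), (nat_lit 48), (nat_lit 1), (nat_lit 1)), ((nat_lit 68), (nat_lit 50), (nat_lit 1), (nat_lit 1)), ((nat_lit 69), (nat_lit 51), (nat_lit 1), (nat_lit 1)), ((nat_lit 70), (nat_lit 53), (nat_lit 1), (nat_lit 1))]) (.leaf [((nat_lit 1), (nat_lit 5), (nat_lit 1), (nat_lit 1)), ((nat_lit 3), (nat_lit 8), (nat_lit 1), (nat_lit 1)), ((nat_lit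 4), (nat_lit 9), (nat_lit 1), (nat_lit 1)), ((nat_lit 13), (nat_lit 15), (nat_lit 1), (nat_lit 1)), ((nat_lit 17), (nat_lit 22), (nat_lit 1), (nat_lit 1)), ((nat_lit 18), (nat_lit 23), (nat_lit 1), (nat_lit 1)), ((nat_lit 21), (nat_lit 25), (nat_lit 1), (nat_lit 1)), ((nat_lit 26), (nat_lit 33), (nat_lit 1), (nat_lit 1)), ((nat_lit 27), (nat_lit 34), (nat_lit 1), (nat_lit 1)), ((nat_lit 29), (nat_lit 39), (nat_lit 1), (nat_lit 1)), ((nat_lit 32), (nat_lit 42), (nat_lit 1), (nat_lit 1)), ((nat_lit 37), (nat_lit 44), (nat_lit 1), (nat_lit 1)), ((nat_lit 38), (nat_lit 45), (nat_lit 1), (nat_lit 1)), ((nat_lit 46), (nat_lit 50), (nat_lit 1), (nat_lit 1)), ((nat_lit 48), (nat_lit 53), (nat_lit 1), (nat_lit 1)), ((nat_lit 49), (nat_lit 54), (nat_lit 1), (nat_lit 1)), ((nat_lit 56), (nat_lit 58), (nat_lit 1), (nat_lit 1)), ((nat_lit 62), (nat_lit 67), (nat_lit 1), (nat_lit 1)), ((nat_lit 63), (nat_lit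 68), (nat_lit 1), (nat_lit 1)), ((nat_lit 66), (nat_lit 70), (nat_lit 1), (nat_lit 1))])) (.node (.leaf [((nat_lit 6), (nat_lit 1), (nat_lit 1), (nat_lit 1)), ((nat_lit 8), (nat_lit 2), (nat_lit 1), (nat_lit 1)), ((nat_lit 10), (nat_lit 4), (nat_lit 1), (nat_lit 1)), ((nat_lit 15), (nat_lit 12), (nat_lit 1), (nat_lit 1)), ((nat_lit 22), (nat_lit 16), (nat_lit 1), (nat_lit 1)), ((nat_lit 24), (nat_lit 18), (nat_lit 1), (nat_lit 1)), ((nat_lit 25), (nat_lit 20), (nat_lit 1), (nat_lit 1)), ((nat_lit 35), (nat_lit 26), (nat_lit 1), (nat_lit 1)), ((nat_lit 37), (nat_lit 28), (nat_lit 1), (nat_lit 1)), ((nat_lit 40), (nat_lit 29), (nat_lit 1), (nat_lit 1)), ((nat_lit 42), (nat_lit 31), (nat_lit 1), (nat_lit 1)), ((nat_lit 43), (nat_lit 34), (nat_lit 1), (nat_lit 1)), ((nat_lit 45), (nat_lit 36), (nat_lit 1), (nat_lit 1)), ((nat_lit 51), (nat_lit 46), (nat_lit 1), (nat_lit 1)), ((nat_lit 53), (nat_lit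 47), (nat_lit 1), (nat_lit 1)), ((nat_lit 55), (nat_lit 49), (nat_lit 1), (nat_lit 1)), ((nat_lit 59), (nat_lit 56), (nat_lit 1), (nat_lit 1)), ((nat_lit 67), (nat_lit 61), (nat_lit 1), (nat_lit 1)), ((nat_lit 69), (nat_lit 63), (nat_lit 1), (nat_lit 1)), ((nat_lit 70), (nat_lit 65), (nat_lit 1), (nat_lit 1))]) (.leaf [((nat_lit 1), (nat_lit 17), (nat_lit 1), (nat_lit 1)), ((nat_lit 2), (nat_lit 19), (nat_lit 1), (nat_lit 1)), ((nat_lit 4), (nat_lit 21), (nat_lit 1), (nat_lit 1)), ((nat_lit 5), (nat_lit 22), (nat_lit 1), (nat_lit 1)), ((nat_lit 7), (nat_lit 24), (nat_lit 1), (nat_lit 1)), ((nat_lit 9), (nat_lit 25), (nat_lit 1), (nat_lit 1)), ((nat_lit 11), (nat_lit 35), (nat_lit 1), (nat_lit 1)), ((nat_lit 13), (nat_lit 37), (nat_lit 1), (nat_lit 1)), ((nat_lit 14), (nat_lit 40), (nat_lit 1), (nat_lit 1)), ((nat_lit 15), (nat_lit 44), (nat_lit 1), (nat_lit 1)), ((nat_lit 27), (nat_lit 56), (nat_lit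 1), (nat_lit 1)), ((nat_lit 31), (nat_lit 57), (nat_lit 1), (nat_lit 1)), ((nat_lit 34), (nat_lit 58), (nat_lit 1), (nat_lit 1)), ((nat_lit 36), (nat_lit 60), (nat_lit 1), (nat_lit 1)), ((nat_lit 46), (nat_lit 62), (nat_lit 1), (nat_lit 1)), ((nat_lit 47), (nat_lit 64), (nat_lit 1), (nat_lit 1)), ((nat_lit 49), (nat_lit 66), (nat_lit 1), (nat_lit 1)), ((nat_lit 50), (nat_lit 67), (nat_lit 1), (nat_lit 1)), ((nat_lit 52), (nat_lit 69), (nat_lit 1), (nat_lit 1)), ((nat_lit 54), (nat_lit 70), (nat_lit 1), (nat_lit 1))])))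

def rows7 : Tr (List Entry) :=
  .node (.node (.node (.node (.leaf [((nat_lit 19), (nat_lit 0), (nat_lit 1), (nat_lit 1)), ((nat_lit 26), (nat_lit 1), (nat_lit 1), (nat_lit 1)), ((nat_lit 29), (nat_lit 4), (nat_lit 1), (nat_lit 1)), ((nat_lit 33), (nat_lit 5), (nat_lit 1), (nat_lit 1)), ((nat_lit 35), (nat_lit 6), (nat_lit 1), (nat_lit 1)), ((nat_lit 39), (nat_lit 9), (nat_lit 1), (nat_lit 1)), ((nat_lit 40), (nat_lit 10), (nat_lit 1), (nat_lit 1)), ((nat_lit 47), (nat_lit 12), (nat_lit 1), (nat_lit 1)), ((nat_lit 48), (nat_lit 13), (nat_lit 1), (nat_lit 1)), ((nat_lit 53), (nat_lit 15), (nat_lit 1), (nat_lit 1)), ((nat_lit 56), (nat_lit 18), (nat_lit 1), (nat_lit 1)), ((nat_lit 58), (nat_lit 23), (nat_lit 1), (nat_lit 1)), ((nat_lit 59), (nat_lit 24), (nat_lit 1), (nat_lit 1)), ((nat_lit 61), (nat_lit 31), (nat_lit 1), (nat_lit 1)), ((nat_lit 62), (nat_lit 32), (nat_lit 1), (nat_lit 1)), ((nat_lit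 65), (nat_lit 36), (nat_lit 1), (nat_lit 1)), ((nat_lit 66), (nat_lit 38), (nat_lit 1), (nat_lit 1)), ((nat_lit 67), (nat_lit 42), (nat_lit 1), (nat_lit 1)), ((nat_lit 70), (nat_lit 45), (nat_lit 1), (nat_lit 1)), ((nat_lit 71), (nat_lit 52), (nat_lit 1), (nat_lit 1))]) (.leaf [((nat_lit 1), (nat_lit 46), (nat_lit 1), (nat_lit 1)), ((nat_lit 2), (nat_lit 47), (nat_lit 1), (nat_lit 1)), ((nat_lit 3), (nat_lit 48), (nat_lit 1), (nat_lit 1)), ((nat_lit 4), (nat_lit 49), (nat_lit 1), (nat_lit 1)), ((nat_lit 5), (nat_lit 50), (nat_lit 1), (nat_lit 1)), ((nat_lit 6), (nat_lit 51), (nat_lit 1), (nat_lit 1)), ((nat_lit 7), (nat_lit 52), (nat_lit 1), (nat_lit 1)), ((nat_lit 8), (nat_lit 53), (nat_lit 1), (nat_lit 1)), ((nat_lit 9), (nat_lit 54), (nat_lit 1), (nat_lit 1)), ((nat_lit 10), (nat_lit 55), (nat_lit 1), (nat_lit 1)), ((nat_lit 16), (nat_lit 61), (nat_lit 1), (nat_lit 1)), ((nat_lit 17), (nat_lit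 62), (nat_lit 1), (nat_lit 1)), ((nat_lit 18), (nat_lit 63), (nat_lit 1), (nat_lit 1)), ((nat_lit 19), (nat_lit 64), (nat_lit 1), (nat_lit 1)), ((nat_lit 20), (nat_lit 65), (nat_lit 1), (nat_lit 1)), ((nat_lit 21), (nat_lit 66), (nat_lit 1), (nat_lit 1)), ((nat_lit 22), (nat_lit 67), (nat_lit 1), (nat_lit 1)), ((nat_lit 23), (nat_lit 68), (nat_lit 1), (nat_lit 1)), ((nat_lit 24), (nat_lit 69), (nat_lit 1), (nat_lit 1)), ((nat_lit 25), (nat_lit 70), (nat_lit 1), (nat_lit 1))])) (.leaf [((nat_lit 1), (nat_lit 2), (nat_lit 1), (nat_lit 1)), ((nat_lit 6), (nat_lit 8), (nat_lit 1), (nat_lit 1)), ((nat_lit 7), (nat_lit 9), (nat_lit 1), (nat_lit 1)), ((nat_lit 13), (nat_lit 14), (nat_lit 1), (nat_lit 1)), ((nat_lit 17), (nat_lit 19), (nat_lit 1), (nat_lit 1)), ((nat_lit 18), (nat_lit 20), (nat_lit 1), (nat_lit 1)), ((nat_lit 24), (nat_lit 25), (nat_lit 1), (nat_lit 1)), ((nat_lit 28), (nat_lit 29), (nat_lit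 1), (nat_lit 1)), ((nat_lit 30), (nat_lit 33), (nat_lit 1), (nat_lit 1)), ((nat_lit 31), (nat_lit 34), (nat_lit 1), (nat_lit 1)), ((nat_lit 37), (nat_lit 40), (nat_lit 1), (nat_lit 1)), ((nat_lit 38), (nat_lit 41), (nat_lit 1), (nat_lit 1)), ((nat_lit 42), (nat_lit 43), (nat_lit 1), (nat_lit 1)), ((nat_lit 46), (nat_lit 47), (nat_lit 1), (nat_lit 1)), ((nat_lit 51), (nat_lit 53), (nat_lit 1), (nat_lit 1)), ((nat_lit 52), (nat_lit 54), (nat_lit 1), (nat_lit 1)), ((nat_lit 57), (nat_lit 58), (nat_lit 1), (nat_lit 1)), ((nat_lit 62), (nat_lit 64), (nat_lit 1), (nat_lit 1)), ((nat_lit 63), (nat_lit 65), (nat_lit 1), (nat_lit 1)), ((nat_lit 69), (nat_lit 70), (nat_lit 1), (nat_lit 1))])) (.node (.leaf [((nat_lit 3), (nat_lit 0), (nat_lit 1), (nat_lit 1)), ((nat_lit 11), (nat_lit 5), (nat_lit 1), (nat_lit 1)), ((nat_lit 13), (nat_lit 7), (nat_lit 1), (nat_lit 1)), ((nat_lit 14), (nat_lit 9), (nat_lit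 1), (nat_lit 1)), ((nat_lit 26), (nat_lit 16), (nat_lit 1), (nat_lit 1)), ((nat_lit 28), (nat_lit 18), (nat_lit 1), (nat_lit 1)), ((nat_lit 29), (nat_lit 20), (nat_lit 1), (nat_lit 1)), ((nat_lit 35), (nat_lit 22), (nat_lit 1), (nat_lit 1)), ((nat_lit 37), (nat_lit 24), (nat_lit 1), (nat_lit 1)), ((nat_lit 40), (nat_lit 25), (nat_lit 1), (nat_lit 1)), ((nat_lit 46), (nat_lit 31), (nat_lit 1), (nat_lit 1)), ((nat_lit 47), (nat_lit 34), (nat_lit 1), (nat_lit 1)), ((nat_lit 49), (nat_lit 36), (nat_lit 1), (nat_lit 1)), ((nat_lit 51), (nat_lit 42), (nat_lit 1), (nat_lit 1)), ((nat_lit 53), (nat_lit 43), (nat_lit 1), (nat_lit 1)), ((nat_lit 55), (nat_lit 45), (nat_lit 1), (nat_lit 1)), ((nat_lit 62), (nat_lit 57), (nat_lit 1), (nat_lit 1)), ((nat_lit 64), (nat_lit 58), (nat_lit 1), (nat_lit 1)), ((nat_lit 66), (nat_lit 60), (nat_lit 1), (nat_lit 1)), ((nat_lit 71), (nat_lit 68), (nat_lit 1), (nat_lit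 1))]) (.leaf [((nat_lit 0), (nat_lit 10), (nat_lit 1), (nat_lit 1)), ((nat_lit 1), (nat_lit 13), (nat_lit 1), (nat_lit 1)), ((nat_lit 2), (nat_lit 14), (nat_lit 1), (nat_lit 1)), ((nat_lit 5), (nat_lit 15), (nat_lit 1), (nat_lit 1)), ((nat_lit 17), (nat_lit 37), (nat_lit 1), (nat_lit 1)), ((nat_lit 18), (nat_lit 38), (nat_lit 1), (nat_lit 1)), ((nat_lit 19), (nat_lit 40), (nat_lit 1), (nat_lit 1)), ((nat_lit 20), (nat_lit 41), (nat_lit 1), (nat_lit 1)), ((nat_lit 22), (nat_lit 44), (nat_lit 1), (nat_lit 1)), ((nat_lit 23), (nat_lit 45), (nat_lit 1), (nat_lit 1)), ((nat_lit 26), (nat_lit 48), (nat_lit 1), (nat_lit 1)), ((nat_lit 27), (nat_lit 49), (nat_lit 1), (nat_lit 1)), ((nat_lit 30), (nat_lit 51), (nat_lit 1), (nat_lit 1)), ((nat_lit 31), (nat_lit 52), (nat_lit 1), (nat_lit 1)), ((nat_lit 33), (nat_lit 53), (nat_lit 1), (nat_lit 1)), ((nat_lit 34), (nat_lit 54), (nat_lit 1), (nat_lit 1)), ((nat_lit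 56), (nat_lit 66), (nat_lit 1), (nat_lit 1)), ((nat_lit 57), (nat_lit 69), (nat_lit 1), (nat_lit 1)), ((nat_lit 58), (nat_lit 70), (nat_lit 1), (nat_lit 1)), ((nat_lit 61), (nat_lit 71), (nat_lit 1), (nat_lit 1))]))) (.node (.node (.leaf [((nat_lit 16), (nat_lit 5), (nat_lit 1), (nat_lit 1)), ((nat_lit 17), (nat_lit 6), (nat_lit 1), (nat_lit 1)), ((nat_lit 18), (nat_lit 7), (nat_lit 1), (nat_lit 1)), ((nat_lit 19), (nat_lit 8), (nat_lit 1), (nat_lit 1)), ((nat_lit 20), (nat_lit 9), (nat_lit 1), (nat_lit 1)), ((nat_lit 21), (nat_lit 10), (nat_lit 1), (nat_lit 1)), ((nat_lit 26), (nat_lit 11), (nat_lit 1), (nat_lit 1)), ((nat_lit 27), (nat_lit 12), (nat_lit 1), (nat_lit 1)), ((nat_lit 28), (nat_lit 13), (nat_lit 1), (nat_lit 1)), ((nat_lit 29), (nat_lit 14), (nat_lit 1), (nat_lit 1)), ((nat_lit 57), (nat_lit 42), (nat_lit 1), (nat_lit 1)), ((nat_lit 58), (nat_lit 43), (nat_lit 1), (nat_lit 1)), ((nat_lit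 59), (nat_lit 44), (nat_lit 1), (nat_lit 1)), ((nat_lit 60), (nat_lit 45), (nat_lit 1), (nat_lit 1)), ((nat_lit 61), (nat_lit 50), (nat_lit 1), (nat_lit 1)), ((nat_lit 62), (nat_lit 51), (nat_lit 1), (nat_lit 1)), ((nat_lit 63), (nat_lit 52), (nat_lit 1), (nat_lit 1)), ((nat_lit 64), (nat_lit 53), (nat_lit 1), (nat_lit 1)), ((nat_lit 65), (nat_lit 54), (nat_lit 1), (nat_lit 1)), ((nat_lit 66), (nat_lit 55), (nat_lit 1), (nat_lit 1))]) (.leaf [((nat_lit 0), (nat_lit 2), (nat_lit 1), (nat_lit 1)), ((nat_lit 6), (nat_lit 11), (nat_lit 1), (nat_lit 1)), ((nat_lit 7), (nat_lit 12), (nat_lit 1), (nat_lit 1)), ((nat_lit 10), (nat_lit 14), (nat_lit 1), (nat_lit 1)), ((nat_lit 17), (nat_lit 26), (nat_lit 1), (nat_lit 1)), ((nat_lit 18), (nat_lit 27), (nat_lit 1), (nat_lit 1)), ((nat_lit 21), (nat_lit 29), (nat_lit 1), (nat_lit 1)), ((nat_lit 22), (nat_lit 33), (nat_lit 1), (nat_lit 1)), ((nat_lit 23), (nat_lit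 34), (nat_lit 1), (nat_lit 1)), ((nat_lit 25), (nat_lit 39), (nat_lit 1), (nat_lit 1)), ((nat_lit 32), (nat_lit 46), (nat_lit 1), (nat_lit 1)), ((nat_lit 37), (nat_lit 48), (nat_lit 1), (nat_lit 1)), ((nat_lit 38), (nat_lit 49), (nat_lit 1), (nat_lit 1)), ((nat_lit 42), (nat_lit 50), (nat_lit 1), (nat_lit 1)), ((nat_lit 44), (nat_lit 53), (nat_lit 1), (nat_lit 1)), ((nat_lit 45), (nat_lit 54), (nat_lit 1), (nat_lit 1)), ((nat_lit 57), (nat_lit 61), (nat_lit 1), (nat_lit 1)), ((nat_lit 59), (nat_lit 64), (nat_lit 1), (nat_lit 1)), ((nat_lit 60), (nat_lit 65), (nat_lit 1), (nat_lit 1)), ((nat_lit 69), (nat_lit 71), (nat_lit 1), (nat_lit 1))])) (.node (.leaf [((nat_lit 3), (nat_lit 1), (nat_lit 1), (nat_lit 1)), ((nat_lit 8), (nat_lit 5), (nat_lit 1), (nat_lit 1)), ((nat_lit 10), (nat_lit 7), (nat_lit 1), (nat_lit 1)), ((nat_lit 14), (nat_lit 12), (nat_lit 1), (nat_lit 1)), ((nat_lit 19), (nat_lit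 16), (nat_lit 1), (nat_lit 1)), ((nat_lit 21), (nat_lit 18), (nat_lit 1), (nat_lit 1)), ((nat_lit 25), (nat_lit 23), (nat_lit 1), (nat_lit 1)), ((nat_lit 29), (nat_lit 27), (nat_lit 1), (nat_lit 1)), ((nat_lit 35), (nat_lit 30), (nat_lit 1), (nat_lit 1)), ((nat_lit 37), (nat_lit 32), (nat_lit 1), (nat_lit 1)), ((nat_lit 39), (nat_lit 34), (nat_lit 1), (nat_lit 1)), ((nat_lit 41), (nat_lit 36), (nat_lit 1), (nat_lit 1)), ((nat_lit 44), (nat_lit 42), (nat_lit 1), (nat_lit 1)), ((nat_lit 48), (nat_lit 46), (nat_lit 1), (nat_lit 1)), ((nat_lit 53), (nat_lit 50), (nat_lit 1), (nat_lit 1)), ((nat_lit 55), (nat_lit 52), (nat_lit 1), (nat_lit 1)), ((nat_lit 59), (nat_lit 57), (nat_lit 1), (nat_lit 1)), ((nat_lit 64), (nat_lit 61), (nat_lit 1), (nat_lit 1)), ((nat_lit 66), (nat_lit 63), (nat_lit 1), (nat_lit 1)), ((nat_lit 70), (nat_lit 68), (nat_lit 1), (nat_lit 1))]) (.leaf [((nat_lit 0), (nat_lit 18),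 (nat_lit 1), (nat_lit 1)), ((nat_lit 2), (nat_lit 27), (nat_lit 1), (nat_lit 1)), ((nat_lit 3), (nat_lit 28), (nat_lit 1), (nat_lit 1)), ((nat_lit 5), (nat_lit 31), (nat_lit 1), (nat_lit 1)), ((nat_lit 6), (nat_lit 32), (nat_lit 1), (nat_lit 1)), ((nat_lit 9), (nat_lit 36), (nat_lit 1), (nat_lit 1)), ((nat_lit 10), (nat_lit 38), (nat_lit 1), (nat_lit 1)), ((nat_lit 11), (nat_lit 46), (nat_lit 1), (nat_lit 1)), ((nat_lit 14), (nat_lit 49), (nat_lit 1), (nat_lit 1)), ((nat_lit 15), (nat_lit 52), (nat_lit 1), (nat_lit 1)), ((nat_lit 19), (nat_lit 56), (nat_lit 1), (nat_lit 1)), ((nat_lit 22), (nat_lit 57), (nat_lit 1), (nat_lit 1)), ((nat_lit 25), (nat_lit 60), (nat_lit 1), (nat_lit 1)), ((nat_lit 33), (nat_lit 61), (nat_lit 1), (nat_lit 1)), ((nat_lit 35), (nat_lit 62), (nat_lit 1), (nat_lit 1)), ((nat_lit 39), (nat_lit 65), (nat_lit 1), (nat_lit 1)), ((nat_lit 40), (nat_lit 66), (nat_lit 1), (nat_lit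 1)), ((nat_lit 43), (nat_lit 68), (nat_lit 1), (nat_lit 1)), ((nat_lit 44), (nat_lit 69), (nat_lit 1), (nat_lit 1)), ((nat_lit 53), (nat_lit 71), (nat_lit 1), (nat_lit 1))])))

def rows : Tr (List Entry) :=
  (.node (.node (.node rows0 rows1) (.node rows2 rows3)) (.node (.node rows4 rows5) (.node rows6 rows7)))

def decs0 : Tr (List ℕ) :=
  .node (.node (.node (.node (.leaf []) (.leaf [(nat_lit 81064793292668928), (nat_lit 288511851128422400), (nat_lit 576601489791778816), (nat_lit 2305844108725321728), (nat_lit 4611686568183201792)])) (.leaf [])) (.node (.leaf []) (.leaf [(nat_lit 71468255805440), (nat_lit 140874927308800)]))) (.node (.node (.leaf []) (.leaf [(nat_lit 687194767360)])) (.node (.leaf []) (.leaf [])))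

def decs1 : Tr (List ℕ) :=
  .node (.node (.node (.node (.leaf []) (.leaf [(nat_lit 162129586585337856), (nat_lit 292733975779082240), (nat_lit 1154047404513689600), (nat_lit 2305878193585782784), (nat_lit 9223380832947798016), (nat_lit 36893492545465614336), (nat_lit 147573952658395889664)])) (.leaf [])) (.node (.leaf []) (.leaf [(nat_lit 105553116266496), (nat_lit 567347999932416), (nat_lit 1126174784749568), (nat_lit 2251868533161984)]))) (.node (.node (.leaf []) (.leaf [(nat_lit 5497558138880), (nat_lit 8933531975680)])) (.node (.leaf []) (.leaf [(nat_lit 72092778410016768), (nat_lit 144117387099111424), (nat_lit 288230651029618688), (nat_lit 576460821022900224)])))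

def decs2 : Tr (List ℕ) :=
  .node (.node (.node (.node (.leaf []) (.leaf [(nat_lit 108086391056891904), (nat_lit 577023702256844800), (nat_lit 1153202979583557632), (nat_lit 4611688217450643456), (nat_lit 9223373136366403584), (nat_lit 18446744348587458560), (nat_lit 36893488284858056704)])) (.leaf [])) (.node (.leaf []) (.leaf [(nat_lit 79164837199872), (nat_lit 145135534866432)]))) (.node (.node (.leaf []) (.leaf [])) (.node (.leaf []) (.leaf [(nat_lit 72066390130950144), (nat_lit 144115737831669760)])))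

def decs3 : Tr (List ℕ) :=
  .node (.node (.node (.node (.leaf []) (.leaf [(nat_lit 324259173170675712), (nat_lit 594475150812905472), (nat_lit 1161928703861587968), (nat_lit 18446779258081640448), (nat_lit 36893505739605147648), (nat_lit 73786985090931228672), (nat_lit 147573954788699668480), (nat_lit 295147906278864453632), (nat_lit 590295810908461465600)])) (.leaf [(nat_lit 206158430208)])) (.node (.leaf []) (.leaf [(nat_lit 175921860444160), (nat_lit 571746046443520), (nat_lit 1128098930098176), (nat_lit 4504149383184384), (nat_lit 9007267974217728)]))) (.node (.node (.leaf []) (.leaf [])) (.node (.leaf []) (.leaf [(nat_lit 74309393851613184), (nat_lit 144396663052566528), (nat_lit 576531121047601152), (nat_lit 2305843146652647424)])))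

def decs4 : Tr (List ℕ) :=
  .node (.node (.node (.node (.leaf []) (.leaf [(nat_lit 90071992547409920), (nat_lit 288793326105133056), (nat_lit 1153062242095202304), (nat_lit 2305845208236949504), (nat_lit 9223372586610589696), (nat_lit 18446744142429028352)])) (.leaf [])) (.node (.leaf []) (.leaf [(nat_lit 72567767433216), (nat_lit 141012366262272), (nat_lit 281543696187392)]))) (.node (.node (.leaf []) (.leaf [(nat_lit 824633720832), (nat_lit 1168231104512)])) (.node (.leaf []) (.leaf [(nat_lit 72061992084439040)])))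

def decs5 : Tr (List ℕ) :=
  .node (.node (.node (.node (.leaf []) (.leaf [(nat_lit 180143985094819840), (nat_lit 580964351930793984), (nat_lit 1155173304420532224), (nat_lit 4611721202799476736), (nat_lit 9223389629040820224), (nat_lit 73786980692884717568), (nat_lit 147573952864554319872), (nat_lit 295147905316791779328)])) (.leaf [])) (.node (.leaf []) (.leaf [(nat_lit 158329674399744), (nat_lit 290271069732864), (nat_lit 1126999418470400), (nat_lit 2252349569499136)]))) (.node (.node (.leaf []) (.leaf [(nat_lit 6597069766656), (nat_lit 9070970929152), (nat_lit 17660905521152)])) (.node (.leaf []) (.leaf [(nat_lit 73183493944770560), (nat_lit 144255925564211200), (nat_lit 288300744895889408)])))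

def decs6 : Tr (List ℕ) :=
  .node (.node (.node (.node (.leaf []) (.leaf [(nat_lit 153122387330596864), (nat_lit 290482175965396992), (nat_lit 577586652210266112), (nat_lit 2305860601399738368), (nat_lit 4611694814520410112), (nat_lit 18446748471756062720)])) (.leaf [])) (.node (.leaf []) (.leaf [(nat_lit 87960930222080), (nat_lit 285873023221760), (nat_lit 1126037345796096)]))) (.node (.node (.leaf []) (.leaf [(nat_lit 4947802324992)])) (.node (.leaf []) (.leaf [(nat_lit 72075186223972352), (nat_lit 144116287587483648), (nat_lit 288230513590665216)])))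

def decs7 : Tr (List ℕ) :=
  .node (.node (.node (.node (.leaf []) (.leaf [(nat_lit 2341871806232657920), (nat_lit 4629700416936869888), (nat_lit 9232379236109516800), (nat_lit 18451247673336922112), (nat_lit 36895739947232788480), (nat_lit 73788102194745049088), (nat_lit 147574515539629834240), (nat_lit 295148186654329536512), (nat_lit 590295951096194007040), (nat_lit 1180591691086155481088)])) (.leaf [])) (.node (.leaf []) (.leaf [(nat_lit 316659348799488), (nat_lit 580542139465728), (nat_lit 2253998836940800), (nat_lit 4504699138998272), (nat_lit 9007474132647936), (nat_lit 18014535948435456)]))) (.node (.node (.leaf []) (.leaf [(nat_lit 70918499991552)])) (.node (.leaf []) (.leaf [(nat_lit 76561193665298432), (nat_lit 144678138029277184), (nat_lit 1152991873351024640), (nat_lit 2305843284091600896), (nat_lit 4611686087146864640)])))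

def decs : Tr (List ℕ) :=
  (.node (.node (.node decs0 decs1) (.node decs2 decs3)) (.node (.node decs4 decs5) (.node decs6 decs7)))

def refls0 : Tr (ℕ) :=
  .node (.node (.node (.node (.node (.node (.leaf (nat_lit 0)) (.leaf (nat_lit 42))) (.node (.leaf (nat_lit 24)) (.leaf (nat_lit 53)))) (.node (.node (.leaf (nat_lit 9)) (.leaf (nat_lit 53))) (.leaf (nat_lit 32)))) (.node (.node (.node (.leaf (nat_lit 2)) (.leaf (nat_lit 48))) (.node (.leaf (nat_lit 26)) (.leaf (nat_lit 66)))) (.node (.node (.leaf (nat_lit 5)) (.leaf (nat_lit 59))) (.leaf (nat_lit 37))))) (.node (.node (.node (.node (.leaf (nat_lit 3)) (.leaf (nat_lit 41))) (.node (.leaf (nat_lit 24)) (.leaf (nat_lit 65)))) (.node (.node (.leaf (nat_lit 13)) (.leaf (nat_lit 15))) (.leaf (nat_lit 37)))) (.node (.node (.node (.leaf (nat_lit 19)) (.leaf (nat_lit 51))) (.leaf (nat_lit 42))) (.node (.node (.leaf (nat_lit 18)) (.leaf (nat_lit 61)))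 (.leaf (nat_lit 40)))))) (.node (.node (.node (.node (.node (.leaf (nat_lit 1)) (.leaf (nat_lit 59))) (.node (.leaf (nat_lit 22)) (.leaf (nat_lit 68)))) (.node (.node (.leaf (nat_lit 27)) (.leaf (nat_lit 55))) (.leaf (nat_lit 33)))) (.node (.node (.node (.leaf (nat_lit 5)) (.leaf (nat_lit 52))) (.node (.leaf (nat_lit 13)) (.leaf (nat_lit 70)))) (.node (.node (.leaf (nat_lit 17)) (.leaf (nat_lit 45))) (.leaf (nat_lit 36))))) (.node (.node (.node (.node (.leaf (nat_lit 4)) (.leaf (nat_lit 46))) (.node (.leaf (nat_lit 25)) (.leaf (nat_lit 68)))) (.node (.node (.leaf (nat_lit 14)) (.leaf (nat_lit 56))) (.leaf (nat_lit 36)))) (.node (.node (.node (.leaf (nat_lit 9)) (.leaf (nat_lit 63))) (.leaf (nat_lit 30))) (.node (.node (.leaf (nat_lit 9)) (.leaf (nat_lit 61))) (.leaf (nat_lit 45))))))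

def refls1 : Tr (ℕ) :=
  .node (.node (.node (.node (.node (.node (.leaf (nat_lit 0)) (.leaf (nat_lit 39))) (.node (.leaf (nat_lit 22)) (.leaf (nat_lit 64)))) (.node (.node (.leaf (nat_lit 11)) (.leaf (nat_lit 65))) (.leaf (nat_lit 31)))) (.node (.node (.node (.leaf (nat_lit 17)) (.leaf (nat_lit 47))) (.node (.leaf (nat_lit 31)) (.leaf (nat_lit 70)))) (.node (.node (.leaf (nat_lit 17)) (.leaf (nat_lit 59))) (.leaf (nat_lit 38))))) (.node (.node (.node (.node (.leaf (nat_lit 6)) (.leaf (nat_lit 46))) (.node (.leaf (nat_lit 23)) (.leaf (nat_lit 64)))) (.node (.node (.leaf (nat_lit 29)) (.leaf (nat_lit 56))) (.leaf (nat_lit 35)))) (.node (.node (.node (.leaf (nat_lit 8)) (.leaf (nat_lit 48))) (.leaf (nat_lit 30))) (.node (.node (.leaf (nat_lit 22)) (.leaf (nat_lit 51))) (.leaf (nat_lit 39)))))) (.node (.node (.node (.node (.node (.leaf (nat_lit 2)) (.leaf (nat_lit 43))) (.node (.leaf (nat_lit 20))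 (.leaf (nat_lit 55)))) (.node (.node (.leaf (nat_lit 13)) (.leaf (nat_lit 55))) (.leaf (nat_lit 34)))) (.node (.node (.node (.leaf (nat_lit 4)) (.leaf (nat_lit 61))) (.node (.leaf (nat_lit 27)) (.leaf (nat_lit 71)))) (.node (.node (.leaf (nat_lit 7)) (.leaf (nat_lit 60))) (.leaf (nat_lit 43))))) (.node (.node (.node (.node (.leaf (nat_lit 4)) (.leaf (nat_lit 50))) (.node (.leaf (nat_lit 11)) (.leaf (nat_lit 69)))) (.node (.node (.leaf (nat_lit 14)) (.leaf (nat_lit 43))) (.leaf (nat_lit 38)))) (.node (.node (.node (.leaf (nat_lit 21)) (.leaf (nat_lit 52))) (.leaf (nat_lit 27))) (.node (.node (.leaf (nat_lit 21)) (.leaf (nat_lit 63))) (.leaf (nat_lit 57))))))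

def refls2 : Tr (ℕ) :=
  .node (.node (.node (.node (.node (.node (.leaf (nat_lit 0)) (.leaf (nat_lit 58))) (.node (.leaf (nat_lit 20)) (.leaf (nat_lit 67)))) (.node (.node (.leaf (nat_lit 26)) (.leaf (nat_lit 53))) (.leaf (nat_lit 28)))) (.node (.node (.node (.leaf (nat_lit 6)) (.leaf (nat_lit 51))) (.node (.leaf (nat_lit 12)) (.leaf (nat_lit 68)))) (.node (.node (.leaf (nat_lit 16)) (.leaf (nat_lit 44))) (.leaf (nat_lit 34))))) (.node (.node (.node (.node (.leaf (nat_lit 3)) (.leaf (nat_lit 45))) (.node (.leaf (nat_lit 21)) (.leaf (nat_lit 67)))) (.node (.node (.leaf (nat_lit 12)) (.leaf (nat_lit 57))) (.leaf (nat_lit 35)))) (.node (.node (.node (.leaf (nat_lit 8)) (.leaf (nat_lit 62))) (.leaf (nat_lit 29))) (.node (.node (.leaf (nat_lit 8)) (.leaf (nat_lit 62))) (.leaf (nat_lit 44)))))) (.node (.node (.node (.node (.node (.leaf (nat_lit 1)) (.leaf (nat_lit 40))) (.node (.leaf (nat_lit 23)) (.leaf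 (nat_lit 66)))) (.node (.node (.leaf (nat_lit 12)) (.leaf (nat_lit 66))) (.leaf (nat_lit 35)))) (.node (.node (.node (.leaf (nat_lit 18)) (.leaf (nat_lit 49))) (.node (.leaf (nat_lit 32)) (.leaf (nat_lit 71)))) (.node (.node (.leaf (nat_lit 16)) (.leaf (nat_lit 60))) (.leaf (nat_lit 39))))) (.node (.node (.node (.node (.leaf (nat_lit 7)) (.leaf (nat_lit 47))) (.node (.leaf (nat_lit 25)) (.leaf (nat_lit 65)))) (.node (.node (.leaf (nat_lit 56)) (.leaf (nat_lit 57))) (.leaf (nat_lit 36)))) (.node (.node (.node (.leaf (nat_lit 10)) (.leaf (nat_lit 49))) (.leaf (nat_lit 31))) (.node (.node (.leaf (nat_lit 23)) (.leaf (nat_lit 52))) (.leaf (nat_lit 41))))))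

def refls3 : Tr (ℕ) :=
  .node (.node (.node (.node (.node (.node (.leaf (nat_lit 1)) (.leaf (nat_lit 44))) (.node (.leaf (nat_lit 19)) (.leaf (nat_lit 54)))) (.node (.node (.leaf (nat_lit 11)) (.leaf (nat_lit 54))) (.leaf (nat_lit 33)))) (.node (.node (.node (.leaf (nat_lit 3)) (.leaf (nat_lit 49))) (.node (.leaf (nat_lit 28)) (.leaf (nat_lit 70)))) (.node (.node (.leaf (nat_lit 6)) (.leaf (nat_lit 58))) (.leaf (nat_lit 38))))) (.node (.node (.node (.node (.leaf (nat_lit 2)) (.leaf (nat_lit 46))) (.node (.leaf (nat_lit 25)) (.leaf (nat_lit 67)))) (.node (.node (.leaf (nat_lit 15)) (.leaf (nat_lit 42))) (.leaf (nat_lit 33)))) (.node (.node (.node (.leaf (nat_lit 20)) (.leaf (nat_lit 50))) (.leaf (nat_lit 26))) (.node (.node (.leaf (nat_lit 19)) (.leaf (nat_lit 62))) (.leaf (nat_lit 41)))))) (.node (.node (.node (.node (.node (.leaf (nat_lit 5)) (.leaf (nat_lit 60))) (.node (.leaf (nat_lit 24))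 (.leaf (nat_lit 69)))) (.node (.node (.leaf (nat_lit 28)) (.leaf (nat_lit 54))) (.leaf (nat_lit 34)))) (.node (.node (.node (.leaf (nat_lit 7)) (.leaf (nat_lit 47))) (.node (.leaf (nat_lit 14)) (.leaf (nat_lit 71)))) (.node (.node (.leaf (nat_lit 18)) (.leaf (nat_lit 50))) (.leaf (nat_lit 40))))) (.node (.node (.node (.node (.leaf (nat_lit 16)) (.leaf (nat_lit 48))) (.node (.leaf (nat_lit 30)) (.leaf (nat_lit 69)))) (.node (.node (.leaf (nat_lit 15)) (.leaf (nat_lit 58))) (.leaf (nat_lit 37)))) (.node (.node (.node (.leaf (nat_lit 10)) (.leaf (nat_lit 64))) (.leaf (nat_lit 32))) (.node (.node (.leaf (nat_lit 10)) (.leaf (nat_lit 63))) (.leaf (nat_lit 29))))))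

def refls4 : Tr (ℕ) :=
  .node (.node (.node (.node (.node (.node (.leaf (nat_lit 1)) (.leaf (nat_lit 42))) (.node (.leaf (nat_lit 21)) (.leaf (nat_lit 64)))) (.node (.node (.leaf (nat_lit 10)) (.leaf (nat_lit 51))) (.leaf (nat_lit 24)))) (.node (.node (.node (.leaf (nat_lit 5)) (.leaf (nat_lit 40))) (.node (.leaf (nat_lit 27)) (.leaf (nat_lit 70)))) (.node (.node (.leaf (nat_lit 16)) (.leaf (nat_lit 58))) (.leaf (nat_lit 40))))) (.node (.node (.node (.node (.leaf (nat_lit 2)) (.leaf (nat_lit 45))) (.node (.leaf (nat_lit 32)) (.leaf (nat_lit 66)))) (.node (.node (.leaf (nat_lit 14)) (.leaf (nat_lit 56))) (.leaf (nat_lit 33)))) (.node (.node (.node (.leaf (nat_lit 11)) (.leaf (nat_lit 50))) (.leaf (nat_lit 28))) (.node (.node (.leaf (nat_lit 17)) (.leaf (nat_lit 61))) (.leaf (nat_lit 48)))))) (.node (.node (.node (.node (.node (.leaf (nat_lit 2)) (.leaf (nat_lit 51))) (.node (.leaf (nat_lit 23))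 (.leaf (nat_lit 63)))) (.node (.node (.leaf (nat_lit 9)) (.leaf (nat_lit 53))) (.leaf (nat_lit 30)))) (.node (.node (.node (.leaf (nat_lit 7)) (.leaf (nat_lit 49))) (.node (.leaf (nat_lit 21)) (.leaf (nat_lit 70)))) (.node (.node (.leaf (nat_lit 19)) (.leaf (nat_lit 63))) (.leaf (nat_lit 37))))) (.node (.node (.node (.node (.leaf (nat_lit 4)) (.leaf (nat_lit 46))) (.node (.leaf (nat_lit 24)) (.leaf (nat_lit 68)))) (.node (.node (.leaf (nat_lit 14)) (.leaf (nat_lit 58))) (.leaf (nat_lit 36)))) (.node (.node (.node (.leaf (nat_lit 7)) (.leaf (nat_lit 45))) (.leaf (nat_lit 31))) (.node (.node (.leaf (nat_lit 27)) (.leaf (nat_lit 63))) (.leaf (nat_lit 38))))))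

def refls5 : Tr (ℕ) :=
  .node (.node (.node (.node (.node (.node (.leaf (nat_lit 0)) (.leaf (nat_lit 42))) (.node (.leaf (nat_lit 30)) (.leaf (nat_lit 65)))) (.node (.node (.leaf (nat_lit 11)) (.leaf (nat_lit 54))) (.leaf (nat_lit 32)))) (.node (.node (.node (.leaf (nat_lit 6)) (.leaf (nat_lit 49))) (.node (.leaf (nat_lit 27)) (.leaf (nat_lit 71)))) (.node (.node (.leaf (nat_lit 16)) (.leaf (nat_lit 59))) (.leaf (nat_lit 38))))) (.node (.node (.node (.node (.leaf (nat_lit 3)) (.leaf (nat_lit 25))) (.node (.leaf (nat_lit 24)) (.leaf (nat_lit 67)))) (.node (.node (.leaf (nat_lit 14)) (.leaf (nat_lit 56))) (.leaf (nat_lit 35)))) (.node (.node (.node (.leaf (nat_lit 9)) (.leaf (nat_lit 53))) (.leaf (nat_lit 22))) (.node (.node (.leaf (nat_lit 17)) (.leaf (nat_lit 59))) (.leaf (nat_lit 41)))))) (.node (.node (.node (.node (.node (.leaf (nat_lit 2)) (.leaf (nat_lit 45))) (.node (.leaf (nat_lit 23))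 (.leaf (nat_lit 66)))) (.node (.node (.leaf (nat_lit 11)) (.leaf (nat_lit 55))) (.leaf (nat_lit 34)))) (.node (.node (.node (.leaf (nat_lit 9)) (.leaf (nat_lit 43))) (.node (.leaf (nat_lit 28)) (.leaf (nat_lit 71)))) (.node (.node (.leaf (nat_lit 18)) (.leaf (nat_lit 59))) (.leaf (nat_lit 32))))) (.node (.node (.node (.node (.leaf (nat_lit 3)) (.leaf (nat_lit 46))) (.node (.leaf (nat_lit 19)) (.leaf (nat_lit 67)))) (.node (.node (.leaf (nat_lit 15)) (.leaf (nat_lit 61))) (.leaf (nat_lit 35)))) (.node (.node (.node (.leaf (nat_lit 13)) (.leaf (nat_lit 51))) (.leaf (nat_lit 34))) (.node (.node (.leaf (nat_lit 19)) (.leaf (nat_lit 65))) (.leaf (nat_lit 42))))))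

def refls6 : Tr (ℕ) :=
  .node (.node (.node (.node (.node (.node (.leaf (nat_lit 0)) (.leaf (nat_lit 50))) (.node (.leaf (nat_lit 21)) (.leaf (nat_lit 62)))) (.node (.node (.leaf (nat_lit 8)) (.leaf (nat_lit 54))) (.leaf (nat_lit 39)))) (.node (.node (.node (.leaf (nat_lit 5)) (.leaf (nat_lit 48))) (.node (.leaf (nat_lit 20)) (.leaf (nat_lit 69)))) (.node (.node (.leaf (nat_lit 16)) (.leaf (nat_lit 62))) (.leaf (nat_lit 38))))) (.node (.node (.node (.node (.leaf (nat_lit 3)) (.leaf (nat_lit 44))) (.node (.leaf (nat_lit 25)) (.leaf (nat_lit 67)))) (.node (.node (.leaf (nat_lit 13)) (.leaf (nat_lit 56))) (.leaf (nat_lit 35)))) (.node (.node (.node (.leaf (nat_lit 6)) (.leaf (nat_lit 44))) (.leaf (nat_lit 29))) (.node (.node (.leaf (nat_lit 26)) (.leaf (nat_lit 61))) (.leaf (nat_lit 37)))))) (.node (.node (.node (.node (.node (.leaf (nat_lit 1)) (.leaf (nat_lit 44))) (.node (.leaf (nat_lit 31)) (.leaf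 (nat_lit 64)))) (.node (.node (.leaf (nat_lit 12)) (.leaf (nat_lit 55))) (.leaf (nat_lit 34)))) (.node (.node (.node (.leaf (nat_lit 7)) (.leaf (nat_lit 48))) (.node (.leaf (nat_lit 29)) (.leaf (nat_lit 70)))) (.node (.node (.leaf (nat_lit 18)) (.leaf (nat_lit 60))) (.leaf (nat_lit 47))))) (.node (.node (.node (.node (.leaf (nat_lit 4)) (.leaf (nat_lit 39))) (.node (.leaf (nat_lit 25)) (.leaf (nat_lit 68)))) (.node (.node (.leaf (nat_lit 15)) (.leaf (nat_lit 57))) (.leaf (nat_lit 36)))) (.node (.node (.node (.leaf (nat_lit 8)) (.leaf (nat_lit 54))) (.leaf (nat_lit 23))) (.node (.node (.leaf (nat_lit 18)) (.leaf (nat_lit 60))) (.leaf (nat_lit 40))))))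

def refls7 : Tr (ℕ) :=
  .node (.node (.node (.node (.node (.node (.leaf (nat_lit 0)) (.leaf (nat_lit 43))) (.node (.leaf (nat_lit 22)) (.leaf (nat_lit 65)))) (.node (.node (.leaf (nat_lit 12)) (.leaf (nat_lit 52))) (.leaf (nat_lit 33)))) (.node (.node (.node (.leaf (nat_lit 8)) (.leaf (nat_lit 41))) (.node (.leaf (nat_lit 26)) (.leaf (nat_lit 69)))) (.node (.node (.leaf (nat_lit 17)) (.leaf (nat_lit 60))) (.leaf (nat_lit 41))))) (.node (.node (.node (.node (.leaf (nat_lit 4)) (.leaf (nat_lit 47))) (.node (.leaf (nat_lit 46)) (.leaf (nat_lit 68)))) (.node (.node (.leaf (nat_lit 13)) (.leaf (nat_lit 57))) (.leaf (nat_lit 36)))) (.node (.node (.node (.leaf (nat_lit 12)) (.leaf (nat_lit 52))) (.leaf (nat_lit 33))) (.node (.node (.leaf (nat_lit 20)) (.leaf (nat_lit 64))) (.leaf (nat_lit 49)))))) (.node (.node (.node (.node (.node (.leaf (nat_lit 1)) (.leaf (nat_lit 52))) (.node (.leaf (nat_lit 22))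 (.leaf (nat_lit 66)))) (.node (.node (.leaf (nat_lit 10)) (.leaf (nat_lit 55))) (.leaf (nat_lit 31)))) (.node (.node (.node (.leaf (nat_lit 6)) (.leaf (nat_lit 50))) (.node (.leaf (nat_lit 29)) (.leaf (nat_lit 71)))) (.node (.node (.leaf (nat_lit 20)) (.leaf (nat_lit 58))) (.leaf (nat_lit 39))))) (.node (.node (.node (.node (.leaf (nat_lit 5)) (.leaf (nat_lit 47))) (.node (.leaf (nat_lit 26)) (.leaf (nat_lit 69)))) (.node (.node (.leaf (nat_lit 15)) (.leaf (nat_lit 57))) (.leaf (nat_lit 37)))) (.node (.node (.node (.leaf (nat_lit 10)) (.leaf (nat_lit 53))) (.leaf (nat_lit 30))) (.node (.node (.leaf (nat_lit 28)) (.leaf (nat_lit 62))) (.leaf (nat_lit 43))))))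

def refls : Tr (ℕ) :=
  (.node (.node (.node refls0 refls1) (.node refls2 refls3)) (.node (.node refls4 refls5) (.node refls6 refls7)))

/-- The chain table as lists. -/
def cnv (A : Array (ℕ × Array (ℕ × ℤ))) : List (ℕ × List (ℕ × ℤ)) :=
  A.toList.map fun e => (e.1, e.2.toList)

def chs0 : Tr (List (ℕ × List (ℕ × ℤ))) :=
  .node (.node (.node (.node (.leaf (cnv chevE6Chain0)) (.leaf (cnv chevE6Chain64))) (.leaf (cnv chevE6Chain32))) (.node (.leaf (cnv chevE6Chain16)) (.leaf (cnv chevE6Chain48)))) (.node (.node (.leaf (cnv chevE6Chain8)) (.leaf (cnv chevE6Chain40))) (.node (.leaf (cnv chevE6Chain24)) (.leaf (cnv chevE6Chain56))))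

def chs1 : Tr (List (ℕ × List (ℕ × ℤ))) :=
  .node (.node (.node (.node (.leaf (cnv chevE6Chain4)) (.leaf (cnv chevE6Chain68))) (.leaf (cnv chevE6Chain36))) (.node (.leaf (cnv chevE6Chain20)) (.leaf (cnv chevE6Chain52)))) (.node (.node (.leaf (cnv chevE6Chain12)) (.leaf (cnv chevE6Chain44))) (.node (.leaf (cnv chevE6Chain28)) (.leaf (cnv chevE6Chain60))))

def chs2 : Tr (List (ℕ × List (ℕ × ℤ))) :=
  .node (.node (.node (.node (.leaf (cnv chevE6Chain2)) (.leaf (cnv chevE6Chain66))) (.leaf (cnv chevE6Chain34))) (.node (.leaf (cnv chevE6Chain18)) (.leaf (cnv chevE6Chain50)))) (.node (.node (.leaf (cnv chevE6Chain10)) (.leaf (cnv chevE6Chain42))) (.node (.leaf (cnv chevE6Chain26)) (.leaf (cnv chevE6Chain58))))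

def chs3 : Tr (List (ℕ × List (ℕ × ℤ))) :=
  .node (.node (.node (.node (.leaf (cnv chevE6Chain6)) (.leaf (cnv chevE6Chain70))) (.leaf (cnv chevE6Chain38))) (.node (.leaf (cnv chevE6Chain22)) (.leaf (cnv chevE6Chain54)))) (.node (.node (.leaf (cnv chevE6Chain14)) (.leaf (cnv chevE6Chain46))) (.node (.leaf (cnv chevE6Chain30)) (.leaf (cnv chevE6Chain62))))

def chs4 : Tr (List (ℕ × List (ℕ × ℤ))) :=
  .node (.node (.node (.node (.leaf (cnv chevE6Chain1)) (.leaf (cnv chevE6Chain65))) (.leaf (cnv chevE6Chain33))) (.node (.leaf (cnv chevE6Chain17)) (.leaf (cnv chevE6Chain49)))) (.node (.node (.leaf (cnv chevE6Chain9)) (.leaf (cnv chevE6Chain41))) (.node (.leaf (cnv chevE6Chain25)) (.leaf (cnv chevE6Chain57))))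

def chs5 : Tr (List (ℕ × List (ℕ × ℤ))) :=
  .node (.node (.node (.node (.leaf (cnv chevE6Chain5)) (.leaf (cnv chevE6Chain69))) (.leaf (cnv chevE6Chain37))) (.node (.leaf (cnv chevE6Chain21)) (.leaf (cnv chevE6Chain53)))) (.node (.node (.leaf (cnv chevE6Chain13)) (.leaf (cnv chevE6Chain45))) (.node (.leaf (cnv chevE6Chain29)) (.leaf (cnv chevE6Chain61))))

def chs6 : Tr (List (ℕ × List (ℕ × ℤ))) :=
  .node (.node (.node (.node (.leaf (cnv chevE6Chain3)) (.leaf (cnv chevE6Chain67))) (.leaf (cnv chevE6Chain35))) (.node (.leaf (cnv chevE6Chain19)) (.leaf (cnv chevE6Chain51)))) (.node (.node (.leaf (cnv chevE6Chain11)) (.leaf (cnv chevE6Chain43))) (.node (.leaf (cnv chevE6Chain27)) (.leaf (cnv chevE6Chain59))))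

def chs7 : Tr (List (ℕ × List (ℕ × ℤ))) :=
  .node (.node (.node (.node (.leaf (cnv chevE6Chain7)) (.leaf (cnv chevE6Chain71))) (.leaf (cnv chevE6Chain39))) (.node (.leaf (cnv chevE6Chain23)) (.leaf (cnv chevE6Chain55)))) (.node (.node (.leaf (cnv chevE6Chain15)) (.leaf (cnv chevE6Chain47))) (.node (.leaf (cnv chevE6Chain31)) (.leaf (cnv chevE6Chain63))))

def chs : Tr (List (ℕ × List (ℕ × ℤ))) :=
  (.node (.node (.node chs0 chs1) (.node chs2 chs3)) (.node (.node chs4 chs5) (.node chs6 chs7)))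

/-- The tables. -/
def tab : Tab := ⟨rows, decs, refls⟩

theorem row_ok0 : ((List.range' 0 30).all fun p => force p fun p => rowCOk chevE6 72 chs tab p) = true := by decide +kernel

theorem row_ok30 : ((List.range' 30 30).all fun p => force p fun p => rowCOk chevE6 72 chs tab p) = true := by decide +kernel

theorem row_ok60 : ((List.range' 60 12).all fun p => force p fun p => rowCOk chevE6 72 chs tab p) = true := by decide +kernel

theorem copy_ok0 : ((List.range' 0 60).all fun p => force p fun p => copyOk chevE6 chs p) = true := by decide +kernel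

theorem copy_ok60 : ((List.range' 60 12).all fun p => force p fun p => copyOk chevE6 chs p) = true := by decide +kernel

theorem sym_ok0 : ((List.range' 0 60).all fun p => force p fun p => symOk chs p) = true := by decide +kernel

theorem sym_ok60 : ((List.range' 60 12).all fun p => force p fun p => symOk chs p) = true := by decide +kernel

theorem pos_ok36 : ((List.range' 36 24).all fun p => force p fun p => posOk chevE6 tab p) = true := by decide +kernel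

theorem pos_ok60 : ((List.range' 60 12).all fun p => force p fun p => posOk chevE6 tab p) = true := by decide +kernel

theorem refl_ok0 : ((List.range' 0 2).all fun p => force p fun p => reflCOk chevE6 72 chs tab p) = true := by decide +kernel

theorem refl_ok2 : ((List.range' 2 2).all fun p => force p fun p => reflCOk chevE6 72 chs tab p) = true := by decide +kernel

theorem refl_ok4 : ((List.range' 4 2).all fun p => force p fun p => reflCOk chevE6 72 chs tab p) = true := by decide +kernel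

theorem tabOk : TabOk chevE6 tab := by
  have hn : (chevE6).nroots = 72 := by decide +kernel
  have hr : (chevE6).rank = 6 := by decide +kernel
  refine ⟨fun p hp => ?_, fun p h1 h2 => ?_, fun p hp => ?_⟩
  · exact row_of_fast (n := 72) (ch := chs) hn (fun r hr => chunkF (P := fun p => copyOk chevE6 chs p) copy_ok0 (chunkF (P := fun p => copyOk chevE6 chs p) copy_ok60 (chunk_end (n := 72) (lo := 72) le_rfl)) r (Nat.zero_le r) hr)
      (fun r hr => chunkF (P := fun p => symOk chs p) sym_ok0 (chunkF (P := fun p => symOk chs p) sym_ok60 (chunk_end (n := 72) (lo := 72) le_rfl)) r (Nat.zero_le r) hr) (hn ▸ hp) (chunkF (P := fun p => rowCOk chevE6 72 chs tab p) row_ok0 (chunkF (P := fun p => rowCOk chevE6 72 chs tab p) row_ok30 (chunkF (P := fun p => rowCOk chevE6 72 chs tab p) row_ok60 (chunk_end (n := 72) (lo := 72) le_rfl))) p (Nat.zero_le p) (hn ▸ hp))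
  · rw [hn] at h1 h2
    exact chunkF (P := fun p => posOk chevE6 tab p) pos_ok36 (chunkF (P := fun p => posOk chevE6 tab p) pos_ok60 (chunk_end (n := 72) (lo := 72) le_rfl)) p (le_trans (by norm_num) h1) h2
  · exact refl_of_fast (n := 72) (ch := chs) hn (fun r hr' => chunkF (P := fun p => copyOk chevE6 chs p) copy_ok0 (chunkF (P := fun p => copyOk chevE6 chs p) copy_ok60 (chunk_end (n := 72) (lo := 72) le_rfl)) r (Nat.zero_le r) hr')
      (chunkF (P := fun p => reflCOk chevE6 72 chs tab p) refl_ok0 (chunkF (P := fun p => reflCOk chevE6 72 chs tab p) refl_ok2 (chunkF (P := fun p => reflCOk chevE6 72 chs tab p) refl_ok4 (chunk_end (n := 6) (lo := 6) le_rfl))) p (Nat.zero_le p) (hr ▸ hp))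

end Cfsg.Agent.Small.C2Inv.Cert.E6
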