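import Cfsg.Agent.Lib.Small.Char2Invol.FastRow
import Cfsg.Agent.Lib.Lie.FactsE7

/-!
Tables of the commutator formula modulo two of type E7.
-/

set_option autoImplicit false

namespace Cfsg.Agent.Small.C2Inv.Cert.E7

open Cfsg.Lie Cfsg.Agent.Small.C2Inv.Cert

def rows0 : Tr (List Entry) :=
  .node (.node (.node (.node (.leaf [((nat_lit 93), (nat_lit 1), (nat_lit 1), (nat_lit 1)), ((nat_lit 94), (nat_lit 2), (nat_lit 1), (nat_lit 1)), ((nat_lit 95), (nat_lit 3), (nat_lit 1), (nat_lit 1)), ((nat_lit 96), (nat_lit 4), (nat_lit 1), (nat_lit 1)), ((nat_lit 97), (nat_lit 5), (nat_lit 1), (nat_lit 1)), ((nat_lit 98), (nat_lit 6), (nat_lit 1), (nat_lit 1)), ((nat_lit 99), (nat_lit 7), (nat_lit 1), (nat_lit 1)), ((nat_lit 100), (nat_lit 8), (nat_lit 1), (nat_lit 1)), ((nat_lit 101), (nat_lit 9), (nat_lit 1), (nat_lit 1)), ((nat_lit 102), (nat_lit 10), (nat_lit 1), (nat_lit 1)), ((nat_lit 103), (nat_lit 11), (nat_lit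 1), (nat_lit 1)), ((nat_lit 104), (nat_lit 12), (nat_lit 1), (nat_lit 1)), ((nat_lit 105), (nat_lit 13), (nat_lit 1), (nat_lit 1)), ((nat_lit 106), (nat_lit 14), (nat_lit 1), (nat_lit 1)), ((nat_lit 107), (nat_lit 15), (nat_lit 1), (nat_lit 1)), ((nat_lit 108), (nat_lit 16), (nat_lit 1), (nat_lit 1)), ((nat_lit 109), (nat_lit 17), (nat_lit 1), (nat_lit 1)), ((nat_lit 110), (nat_lit 18), (nat_lit 1), (nat_lit 1)), ((nat_lit 111), (nat_lit 19), (nat_lit 1), (nat_lit 1)), ((nat_lit 112), (nat_lit 20), (nat_lit 1), (nat_lit 1)), ((nat_lit 113), (nat_lit 21), (nat_lit 1), (nat_lit 1)), ((nat_lit 114), (nat_lit 22), (nat_lit 1), (nat_lit 1)), ((nat_lit 115), (nat_lit 23), (nat_lit 1), (nat_lit 1)), ((nat_lit 116), (nat_lit 24), (nat_lit 1), (nat_lit 1)), ((nat_lit 117), (nat_lit 25), (nat_lit 1), (nat_lit 1)), ((nat_lit 118), (nat_lit 26), (nat_lit 1), (nat_lit 1)), ((nat_lit 119), (nat_lit 27), (nat_lit 1), (nat_lit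 1)), ((nat_lit 120), (nat_lit 28), (nat_lit 1), (nat_lit 1)), ((nat_lit 121), (nat_lit 29), (nat_lit 1), (nat_lit 1)), ((nat_lit 122), (nat_lit 30), (nat_lit 1), (nat_lit 1)), ((nat_lit 123), (nat_lit 31), (nat_lit 1), (nat_lit 1)), ((nat_lit 124), (nat_lit 32), (nat_lit 1), (nat_lit 1))]) (.leaf [((nat_lit 4), (nat_lit 5), (nat_lit 1), (nat_lit 1)), ((nat_lit 8), (nat_lit 9), (nat_lit 1), (nat_lit 1)), ((nat_lit 11), (nat_lit 12), (nat_lit 1), (nat_lit 1)), ((nat_lit 15), (nat_lit 16), (nat_lit 1), (nat_lit 1)), ((nat_lit 17), (nat_lit 18), (nat_lit 1), (nat_lit 1)), ((nat_lit 21), (nat_lit 22), (nat_lit 1), (nat_lit 1)), ((nat_lit 24), (nat_lit 25), (nat_lit 1), (nat_lit 1)), ((nat_lit 28), (nat_lit 29), (nat_lit 1), (nat_lit 1)), ((nat_lit 33), (nat_lit 34), (nat_lit 1), (nat_lit 1)), ((nat_lit 37), (nat_lit 38), (nat_lit 1), (nat_lit 1)), ((nat_lit 40), (nat_lit 41), (nat_lit 1), (nat_lit 1)), ((nat_lit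 44), (nat_lit 45), (nat_lit 1), (nat_lit 1)), ((nat_lit 49), (nat_lit 50), (nat_lit 1), (nat_lit 1)), ((nat_lit 54), (nat_lit 55), (nat_lit 1), (nat_lit 1)), ((nat_lit 58), (nat_lit 59), (nat_lit 1), (nat_lit 1)), ((nat_lit 60), (nat_lit 62), (nat_lit 1), (nat_lit 1)), ((nat_lit 63), (nat_lit 65), (nat_lit 1), (nat_lit 1)), ((nat_lit 66), (nat_lit 67), (nat_lit 1), (nat_lit 1)), ((nat_lit 70), (nat_lit 71), (nat_lit 1), (nat_lit 1)), ((nat_lit 75), (nat_lit 76), (nat_lit 1), (nat_lit 1)), ((nat_lit 80), (nat_lit 81), (nat_lit 1), (nat_lit 1)), ((nat_lit 84), (nat_lit 85), (nat_lit 1), (nat_lit 1)), ((nat_lit 87), (nat_lit 88), (nat_lit 1), (nat_lit 1)), ((nat_lit 91), (nat_lit 92), (nat_lit 1), (nat_lit 1)), ((nat_lit 96), (nat_lit 97), (nat_lit 1), (nat_lit 1)), ((nat_lit 100), (nat_lit 101), (nat_lit 1), (nat_lit 1)), ((nat_lit 103), (nat_lit 104), (nat_lit 1), (nat_lit 1)), ((nat_lit 107), (nat_lit 108),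 (nat_lit 1), (nat_lit 1)), ((nat_lit 109), (nat_lit 110), (nat_lit 1), (nat_lit 1)), ((nat_lit 113), (nat_lit 114), (nat_lit 1), (nat_lit 1)), ((nat_lit 116), (nat_lit 117), (nat_lit 1), (nat_lit 1)), ((nat_lit 120), (nat_lit 121), (nat_lit 1), (nat_lit 1))])) (.node (.leaf [((nat_lit 1), (nat_lit 0), (nat_lit 1), (nat_lit 1)), ((nat_lit 33), (nat_lit 17), (nat_lit 1), (nat_lit 1)), ((nat_lit 34), (nat_lit 18), (nat_lit 1), (nat_lit 1)), ((nat_lit 35), (nat_lit 19), (nat_lit 1), (nat_lit 1)), ((nat_lit 36), (nat_lit 20), (nat_lit 1), (nat_lit 1)), ((nat_lit 37), (nat_lit 21), (nat_lit 1), (nat_lit 1)), ((nat_lit 38), (nat_lit 22), (nat_lit 1), (nat_lit 1)), ((nat_lit 39), (nat_lit 23), (nat_lit 1), (nat_lit 1)), ((nat_lit 40), (nat_lit 24), (nat_lit 1), (nat_lit 1)), ((nat_lit 41), (nat_lit 25), (nat_lit 1), (nat_lit 1)), ((nat_lit 42), (nat_lit 26), (nat_lit 1), (nat_lit 1)), ((nat_lit 48), (nat_lit 27),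 (nat_lit 1), (nat_lit 1)), ((nat_lit 49), (nat_lit 28), (nat_lit 1), (nat_lit 1)), ((nat_lit 50), (nat_lit 29), (nat_lit 1), (nat_lit 1)), ((nat_lit 51), (nat_lit 30), (nat_lit 1), (nat_lit 1)), ((nat_lit 52), (nat_lit 31), (nat_lit 1), (nat_lit 1)), ((nat_lit 94), (nat_lit 73), (nat_lit 1), (nat_lit 1)), ((nat_lit 95), (nat_lit 74), (nat_lit 1), (nat_lit 1)), ((nat_lit 96), (nat_lit 75), (nat_lit 1), (nat_lit 1)), ((nat_lit 97), (nat_lit 76), (nat_lit 1), (nat_lit 1)), ((nat_lit 98), (nat_lit 77), (nat_lit 1), (nat_lit 1)), ((nat_lit 99), (nat_lit 83), (nat_lit 1), (nat_lit 1)), ((nat_lit 100), (nat_lit 84), (nat_lit 1), (nat_lit 1)), ((nat_lit 101), (nat_lit 85), (nat_lit 1), (nat_lit 1)), ((nat_lit 102), (nat_lit 86), (nat_lit 1), (nat_lit 1)), ((nat_lit 103), (nat_lit 87), (nat_lit 1), (nat_lit 1)), ((nat_lit 104), (nat_lit 88), (nat_lit 1), (nat_lit 1)), ((nat_lit 105), (nat_lit 89), (nat_lit 1), (nat_lit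 1)), ((nat_lit 106), (nat_lit 90), (nat_lit 1), (nat_lit 1)), ((nat_lit 107), (nat_lit 91), (nat_lit 1), (nat_lit 1)), ((nat_lit 108), (nat_lit 92), (nat_lit 1), (nat_lit 1)), ((nat_lit 125), (nat_lit 124), (nat_lit 1), (nat_lit 1))]) (.leaf [((nat_lit 0), (nat_lit 4), (nat_lit 1), (nat_lit 1)), ((nat_lit 7), (nat_lit 33), (nat_lit 1), (nat_lit 1)), ((nat_lit 9), (nat_lit 36), (nat_lit 1), (nat_lit 1)), ((nat_lit 10), (nat_lit 37), (nat_lit 1), (nat_lit 1)), ((nat_lit 12), (nat_lit 39), (nat_lit 1), (nat_lit 1)), ((nat_lit 13), (nat_lit 40), (nat_lit 1), (nat_lit 1)), ((nat_lit 16), (nat_lit 42), (nat_lit 1), (nat_lit 1)), ((nat_lit 18), (nat_lit 43), (nat_lit 1), (nat_lit 1)), ((nat_lit 19), (nat_lit 44), (nat_lit 1), (nat_lit 1)), ((nat_lit 22), (nat_lit 46), (nat_lit 1), (nat_lit 1)), ((nat_lit 25), (nat_lit 47), (nat_lit 1), (nat_lit 1)), ((nat_lit 27), (nat_lit 60), (nat_lit 1), (nat_lit 1)), ((nat_lit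 28), (nat_lit 61), (nat_lit 1), (nat_lit 1)), ((nat_lit 30), (nat_lit 66), (nat_lit 1), (nat_lit 1)), ((nat_lit 31), (nat_lit 70), (nat_lit 1), (nat_lit 1)), ((nat_lit 32), (nat_lit 75), (nat_lit 1), (nat_lit 1)), ((nat_lit 50), (nat_lit 93), (nat_lit 1), (nat_lit 1)), ((nat_lit 55), (nat_lit 94), (nat_lit 1), (nat_lit 1)), ((nat_lit 59), (nat_lit 95), (nat_lit 1), (nat_lit 1)), ((nat_lit 64), (nat_lit 97), (nat_lit 1), (nat_lit 1)), ((nat_lit 65), (nat_lit 98), (nat_lit 1), (nat_lit 1)), ((nat_lit 78), (nat_lit 100), (nat_lit 1), (nat_lit 1)), ((nat_lit 79), (nat_lit 103), (nat_lit 1), (nat_lit 1)), ((nat_lit 81), (nat_lit 106), (nat_lit 1), (nat_lit 1)), ((nat_lit 82), (nat_lit 107), (nat_lit 1), (nat_lit 1)), ((nat_lit 83), (nat_lit 109), (nat_lit 1), (nat_lit 1)), ((nat_lit 85), (nat_lit 112), (nat_lit 1), (nat_lit 1)), ((nat_lit 86), (nat_lit 113), (nat_lit 1), (nat_lit 1)), ((nat_lit 88), (nat_lit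 115), (nat_lit 1), (nat_lit 1)), ((nat_lit 89), (nat_lit 116), (nat_lit 1), (nat_lit 1)), ((nat_lit 92), (nat_lit 118), (nat_lit 1), (nat_lit 1)), ((nat_lit 121), (nat_lit 125), (nat_lit 1), (nat_lit 1))]))) (.node (.node (.leaf [((nat_lit 17), (nat_lit 0), (nat_lit 1), (nat_lit 1)), ((nat_lit 33), (nat_lit 1), (nat_lit 1), (nat_lit 1)), ((nat_lit 43), (nat_lit 5), (nat_lit 1), (nat_lit 1)), ((nat_lit 44), (nat_lit 6), (nat_lit 1), (nat_lit 1)), ((nat_lit 53), (nat_lit 9), (nat_lit 1), (nat_lit 1)), ((nat_lit 54), (nat_lit 10), (nat_lit 1), (nat_lit 1)), ((nat_lit 57), (nat_lit 12), (nat_lit 1), (nat_lit 1)), ((nat_lit 58), (nat_lit 13), (nat_lit 1), (nat_lit 1)), ((nat_lit 60), (nat_lit 14), (nat_lit 1), (nat_lit 1)), ((nat_lit 61), (nat_lit 15), (nat_lit 1), (nat_lit 1)), ((nat_lit 73), (nat_lit 22), (nat_lit 1), (nat_lit 1)), ((nat_lit 74), (nat_lit 25), (nat_lit 1), (nat_lit 1)), ((nat_lit 75), (nat_lit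 26), (nat_lit 1), (nat_lit 1)), ((nat_lit 83), (nat_lit 29), (nat_lit 1), (nat_lit 1)), ((nat_lit 84), (nat_lit 30), (nat_lit 1), (nat_lit 1)), ((nat_lit 87), (nat_lit 31), (nat_lit 1), (nat_lit 1)), ((nat_lit 94), (nat_lit 38), (nat_lit 1), (nat_lit 1)), ((nat_lit 95), (nat_lit 41), (nat_lit 1), (nat_lit 1)), ((nat_lit 96), (nat_lit 42), (nat_lit 1), (nat_lit 1)), ((nat_lit 99), (nat_lit 50), (nat_lit 1), (nat_lit 1)), ((nat_lit 100), (nat_lit 51), (nat_lit 1), (nat_lit 1)), ((nat_lit 103), (nat_lit 52), (nat_lit 1), (nat_lit 1)), ((nat_lit 110), (nat_lit 64), (nat_lit 1), (nat_lit 1)), ((nat_lit 111), (nat_lit 65), (nat_lit 1), (nat_lit 1)), ((nat_lit 112), (nat_lit 67), (nat_lit 1), (nat_lit 1)), ((nat_lit 113), (nat_lit 68), (nat_lit 1), (nat_lit 1)), ((nat_lit 115), (nat_lit 71), (nat_lit 1), (nat_lit 1)), ((nat_lit 116), (nat_lit 72), (nat_lit 1), (nat_lit 1)), ((nat_lit 119), (nat_lit 81), (nat_lit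 1), (nat_lit 1)), ((nat_lit 120), (nat_lit 82), (nat_lit 1), (nat_lit 1)), ((nat_lit 124), (nat_lit 92), (nat_lit 1), (nat_lit 1)), ((nat_lit 125), (nat_lit 108), (nat_lit 1), (nat_lit 1))]) (.leaf [((nat_lit 2), (nat_lit 8), (nat_lit 1), (nat_lit 1)), ((nat_lit 3), (nat_lit 11), (nat_lit 1), (nat_lit 1)), ((nat_lit 5), (nat_lit 14), (nat_lit 1), (nat_lit 1)), ((nat_lit 6), (nat_lit 15), (nat_lit 1), (nat_lit 1)), ((nat_lit 18), (nat_lit 27), (nat_lit 1), (nat_lit 1)), ((nat_lit 19), (nat_lit 28), (nat_lit 1), (nat_lit 1)), ((nat_lit 22), (nat_lit 30), (nat_lit 1), (nat_lit 1)), ((nat_lit 25), (nat_lit 31), (nat_lit 1), (nat_lit 1)), ((nat_lit 34), (nat_lit 48), (nat_lit 1), (nat_lit 1)), ((nat_lit 35), (nat_lit 49), (nat_lit 1), (nat_lit 1)), ((nat_lit 38), (nat_lit 51), (nat_lit 1), (nat_lit 1)), ((nat_lit 41), (nat_lit 52), (nat_lit 1), (nat_lit 1)), ((nat_lit 43), (nat_lit 60), (nat_lit 1), (nat_lit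 1)), ((nat_lit 44), (nat_lit 61), (nat_lit 1), (nat_lit 1)), ((nat_lit 46), (nat_lit 66), (nat_lit 1), (nat_lit 1)), ((nat_lit 47), (nat_lit 70), (nat_lit 1), (nat_lit 1)), ((nat_lit 55), (nat_lit 78), (nat_lit 1), (nat_lit 1)), ((nat_lit 59), (nat_lit 79), (nat_lit 1), (nat_lit 1)), ((nat_lit 64), (nat_lit 81), (nat_lit 1), (nat_lit 1)), ((nat_lit 65), (nat_lit 82), (nat_lit 1), (nat_lit 1)), ((nat_lit 73), (nat_lit 84), (nat_lit 1), (nat_lit 1)), ((nat_lit 74), (nat_lit 87), (nat_lit 1), (nat_lit 1)), ((nat_lit 76), (nat_lit 90), (nat_lit 1), (nat_lit 1)), ((nat_lit 77), (nat_lit 91), (nat_lit 1), (nat_lit 1)), ((nat_lit 94), (nat_lit 100), (nat_lit 1), (nat_lit 1)), ((nat_lit 95), (nat_lit 103), (nat_lit 1), (nat_lit 1)), ((nat_lit 97), (nat_lit 106), (nat_lit 1), (nat_lit 1)), ((nat_lit 98), (nat_lit 107), (nat_lit 1), (nat_lit 1)), ((nat_lit 110), (nat_lit 119), (nat_lit 1), (nat_lit 1)), ((nat_lit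 111), (nat_lit 120), (nat_lit 1), (nat_lit 1)), ((nat_lit 114), (nat_lit 122), (nat_lit 1), (nat_lit 1)), ((nat_lit 117), (nat_lit 123), (nat_lit 1), (nat_lit 1))])) (.node (.leaf [((nat_lit 6), (nat_lit 1), (nat_lit 1), (nat_lit 1)), ((nat_lit 19), (nat_lit 7), (nat_lit 1), (nat_lit 1)), ((nat_lit 21), (nat_lit 8), (nat_lit 1), (nat_lit 1)), ((nat_lit 22), (nat_lit 9), (nat_lit 1), (nat_lit 1)), ((nat_lit 24), (nat_lit 11), (nat_lit 1), (nat_lit 1)), ((nat_lit 25), (nat_lit 12), (nat_lit 1), (nat_lit 1)), ((nat_lit 26), (nat_lit 14), (nat_lit 1), (nat_lit 1)), ((nat_lit 32), (nat_lit 27), (nat_lit 1), (nat_lit 1)), ((nat_lit 44), (nat_lit 33), (nat_lit 1), (nat_lit 1)), ((nat_lit 45), (nat_lit 34), (nat_lit 1), (nat_lit 1)), ((nat_lit 46), (nat_lit 36), (nat_lit 1), (nat_lit 1)), ((nat_lit 47), (nat_lit 39), (nat_lit 1), (nat_lit 1)), ((nat_lit 63), (nat_lit 49), (nat_lit 1), (nat_lit 1)), ((nat_lit 65),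 (nat_lit 50), (nat_lit 1), (nat_lit 1)), ((nat_lit 68), (nat_lit 51), (nat_lit 1), (nat_lit 1)), ((nat_lit 72), (nat_lit 52), (nat_lit 1), (nat_lit 1)), ((nat_lit 73), (nat_lit 53), (nat_lit 1), (nat_lit 1)), ((nat_lit 74), (nat_lit 57), (nat_lit 1), (nat_lit 1)), ((nat_lit 75), (nat_lit 60), (nat_lit 1), (nat_lit 1)), ((nat_lit 76), (nat_lit 62), (nat_lit 1), (nat_lit 1)), ((nat_lit 86), (nat_lit 78), (nat_lit 1), (nat_lit 1)), ((nat_lit 89), (nat_lit 79), (nat_lit 1), (nat_lit 1)), ((nat_lit 91), (nat_lit 80), (nat_lit 1), (nat_lit 1)), ((nat_lit 92), (nat_lit 81), (nat_lit 1), (nat_lit 1)), ((nat_lit 98), (nat_lit 93), (nat_lit 1), (nat_lit 1)), ((nat_lit 111), (nat_lit 99), (nat_lit 1), (nat_lit 1)), ((nat_lit 113), (nat_lit 100), (nat_lit 1), (nat_lit 1)), ((nat_lit 114), (nat_lit 101), (nat_lit 1), (nat_lit 1)), ((nat_lit 116), (nat_lit 103), (nat_lit 1), (nat_lit 1)), ((nat_lit 117), (nat_lit 104),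 (nat_lit 1), (nat_lit 1)), ((nat_lit 118), (nat_lit 106), (nat_lit 1), (nat_lit 1)), ((nat_lit 124), (nat_lit 119), (nat_lit 1), (nat_lit 1))]) (.leaf [((nat_lit 0), (nat_lit 20), (nat_lit 1), (nat_lit 1)), ((nat_lit 1), (nat_lit 36), (nat_lit 1), (nat_lit 1)), ((nat_lit 3), (nat_lit 43), (nat_lit 1), (nat_lit 1)), ((nat_lit 6), (nat_lit 46), (nat_lit 1), (nat_lit 1)), ((nat_lit 7), (nat_lit 53), (nat_lit 1), (nat_lit 1)), ((nat_lit 10), (nat_lit 56), (nat_lit 1), (nat_lit 1)), ((nat_lit 11), (nat_lit 60), (nat_lit 1), (nat_lit 1)), ((nat_lit 12), (nat_lit 62), (nat_lit 1), (nat_lit 1)), ((nat_lit 15), (nat_lit 66), (nat_lit 1), (nat_lit 1)), ((nat_lit 16), (nat_lit 67), (nat_lit 1), (nat_lit 1)), ((nat_lit 19), (nat_lit 73), (nat_lit 1), (nat_lit 1)), ((nat_lit 24), (nat_lit 75), (nat_lit 1), (nat_lit 1)), ((nat_lit 25), (nat_lit 76), (nat_lit 1), (nat_lit 1)), ((nat_lit 28), (nat_lit 84), (nat_lit 1),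 (nat_lit 1)), ((nat_lit 29), (nat_lit 85), (nat_lit 1), (nat_lit 1)), ((nat_lit 31), (nat_lit 90), (nat_lit 1), (nat_lit 1)), ((nat_lit 35), (nat_lit 94), (nat_lit 1), (nat_lit 1)), ((nat_lit 40), (nat_lit 96), (nat_lit 1), (nat_lit 1)), ((nat_lit 41), (nat_lit 97), (nat_lit 1), (nat_lit 1)), ((nat_lit 49), (nat_lit 100), (nat_lit 1), (nat_lit 1)), ((nat_lit 50), (nat_lit 101), (nat_lit 1), (nat_lit 1)), ((nat_lit 52), (nat_lit 106), (nat_lit 1), (nat_lit 1)), ((nat_lit 58), (nat_lit 109), (nat_lit 1), (nat_lit 1)), ((nat_lit 59), (nat_lit 110), (nat_lit 1), (nat_lit 1)), ((nat_lit 63), (nat_lit 113), (nat_lit 1), (nat_lit 1)), ((nat_lit 65), (nat_lit 114), (nat_lit 1), (nat_lit 1)), ((nat_lit 69), (nat_lit 115), (nat_lit 1), (nat_lit 1)), ((nat_lit 72), (nat_lit 118), (nat_lit 1), (nat_lit 1)), ((nat_lit 79), (nat_lit 119), (nat_lit 1), (nat_lit 1)), ((nat_lit 82), (nat_lit 122), (nat_lit 1), (nat_lit 1)),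 ((nat_lit 89), (nat_lit 124), (nat_lit 1), (nat_lit 1)), ((nat_lit 105), (nat_lit 125), (nat_lit 1), (nat_lit 1))])))) (.node (.node (.node (.leaf [((nat_lit 25), (nat_lit 0), (nat_lit 1), (nat_lit 1)), ((nat_lit 41), (nat_lit 1), (nat_lit 1), (nat_lit 1)), ((nat_lit 45), (nat_lit 2), (nat_lit 1), (nat_lit 1)), ((nat_lit 47), (nat_lit 4), (nat_lit 1), (nat_lit 1)), ((nat_lit 59), (nat_lit 7), (nat_lit 1), (nat_lit 1)), ((nat_lit 64), (nat_lit 9), (nat_lit 1), (nat_lit 1)), ((nat_lit 65), (nat_lit 10), (nat_lit 1), (nat_lit 1)), ((nat_lit 69), (nat_lit 11), (nat_lit 1), (nat_lit 1)), ((nat_lit 71), (nat_lit 14), (nat_lit 1), (nat_lit 1)), ((nat_lit 72), (nat_lit 15), (nat_lit 1), (nat_lit 1)), ((nat_lit 74), (nat_lit 17), (nat_lit 1), (nat_lit 1)), ((nat_lit 76), (nat_lit 20), (nat_lit 1), (nat_lit 1)), ((nat_lit 77), (nat_lit 21), (nat_lit 1), (nat_lit 1)), ((nat_lit 88), (nat_lit 27), (nat_lit 1), (nat_lit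 1)), ((nat_lit 89), (nat_lit 28), (nat_lit 1), (nat_lit 1)), ((nat_lit 92), (nat_lit 30), (nat_lit 1), (nat_lit 1)), ((nat_lit 95), (nat_lit 33), (nat_lit 1), (nat_lit 1)), ((nat_lit 97), (nat_lit 36), (nat_lit 1), (nat_lit 1)), ((nat_lit 98), (nat_lit 37), (nat_lit 1), (nat_lit 1)), ((nat_lit 104), (nat_lit 48), (nat_lit 1), (nat_lit 1)), ((nat_lit 105), (nat_lit 49), (nat_lit 1), (nat_lit 1)), ((nat_lit 108), (nat_lit 51), (nat_lit 1), (nat_lit 1)), ((nat_lit 110), (nat_lit 53), (nat_lit 1), (nat_lit 1)), ((nat_lit 111), (nat_lit 54), (nat_lit 1), (nat_lit 1)), ((nat_lit 114), (nat_lit 56), (nat_lit 1), (nat_lit 1)), ((nat_lit 115), (nat_lit 60), (nat_lit 1), (nat_lit 1)), ((nat_lit 116), (nat_lit 61), (nat_lit 1), (nat_lit 1)), ((nat_lit 118), (nat_lit 66), (nat_lit 1), (nat_lit 1)), ((nat_lit 121), (nat_lit 78), (nat_lit 1), (nat_lit 1)), ((nat_lit 123), (nat_lit 80), (nat_lit 1), (nat_lit 1)), ((nat_lit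 124), (nat_lit 84), (nat_lit 1), (nat_lit 1)), ((nat_lit 125), (nat_lit 100), (nat_lit 1), (nat_lit 1))]) (.leaf [((nat_lit 2), (nat_lit 6), (nat_lit 1), (nat_lit 1)), ((nat_lit 7), (nat_lit 13), (nat_lit 1), (nat_lit 1)), ((nat_lit 8), (nat_lit 15), (nat_lit 1), (nat_lit 1)), ((nat_lit 9), (nat_lit 16), (nat_lit 1), (nat_lit 1)), ((nat_lit 17), (nat_lit 24), (nat_lit 1), (nat_lit 1)), ((nat_lit 18), (nat_lit 25), (nat_lit 1), (nat_lit 1)), ((nat_lit 20), (nat_lit 26), (nat_lit 1), (nat_lit 1)), ((nat_lit 27), (nat_lit 31), (nat_lit 1), (nat_lit 1)), ((nat_lit 33), (nat_lit 40), (nat_lit 1), (nat_lit 1)), ((nat_lit 34), (nat_lit 41), (nat_lit 1), (nat_lit 1)), ((nat_lit 36), (nat_lit 42), (nat_lit 1), (nat_lit 1)), ((nat_lit 43), (nat_lit 47), (nat_lit 1), (nat_lit 1)), ((nat_lit 48), (nat_lit 52), (nat_lit 1), (nat_lit 1)), ((nat_lit 54), (nat_lit 63), (nat_lit 1), (nat_lit 1)), ((nat_lit 55), (nat_lit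 65), (nat_lit 1), (nat_lit 1)), ((nat_lit 56), (nat_lit 68), (nat_lit 1), (nat_lit 1)), ((nat_lit 57), (nat_lit 69), (nat_lit 1), (nat_lit 1)), ((nat_lit 60), (nat_lit 70), (nat_lit 1), (nat_lit 1)), ((nat_lit 62), (nat_lit 71), (nat_lit 1), (nat_lit 1)), ((nat_lit 73), (nat_lit 77), (nat_lit 1), (nat_lit 1)), ((nat_lit 78), (nat_lit 82), (nat_lit 1), (nat_lit 1)), ((nat_lit 83), (nat_lit 89), (nat_lit 1), (nat_lit 1)), ((nat_lit 84), (nat_lit 91), (nat_lit 1), (nat_lit 1)), ((nat_lit 85), (nat_lit 92), (nat_lit 1), (nat_lit 1)), ((nat_lit 94), (nat_lit 98), (nat_lit 1), (nat_lit 1)), ((nat_lit 99), (nat_lit 105), (nat_lit 1), (nat_lit 1)), ((nat_lit 100), (nat_lit 107), (nat_lit 1), (nat_lit 1)), ((nat_lit 101), (nat_lit 108), (nat_lit 1), (nat_lit 1)), ((nat_lit 109), (nat_lit 116), (nat_lit 1), (nat_lit 1)), ((nat_lit 110), (nat_lit 117), (nat_lit 1), (nat_lit 1)), ((nat_lit 112), (nat_lit 118), (nat_lit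 1), (nat_lit 1)), ((nat_lit 119), (nat_lit 123), (nat_lit 1), (nat_lit 1))])) (.node (.leaf [((nat_lit 9), (nat_lit 1), (nat_lit 1), (nat_lit 1)), ((nat_lit 18), (nat_lit 3), (nat_lit 1), (nat_lit 1)), ((nat_lit 20), (nat_lit 4), (nat_lit 1), (nat_lit 1)), ((nat_lit 22), (nat_lit 6), (nat_lit 1), (nat_lit 1)), ((nat_lit 27), (nat_lit 11), (nat_lit 1), (nat_lit 1)), ((nat_lit 29), (nat_lit 13), (nat_lit 1), (nat_lit 1)), ((nat_lit 30), (nat_lit 15), (nat_lit 1), (nat_lit 1)), ((nat_lit 32), (nat_lit 24), (nat_lit 1), (nat_lit 1)), ((nat_lit 53), (nat_lit 33), (nat_lit 1), (nat_lit 1)), ((nat_lit 55), (nat_lit 35), (nat_lit 1), (nat_lit 1)), ((nat_lit 56), (nat_lit 37), (nat_lit 1), (nat_lit 1)), ((nat_lit 62), (nat_lit 39), (nat_lit 1), (nat_lit 1)), ((nat_lit 64), (nat_lit 41), (nat_lit 1), (nat_lit 1)), ((nat_lit 67), (nat_lit 42), (nat_lit 1), (nat_lit 1)), ((nat_lit 73), (nat_lit 44), (nat_lit 1), (nat_lit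 1)), ((nat_lit 76), (nat_lit 47), (nat_lit 1), (nat_lit 1)), ((nat_lit 78), (nat_lit 49), (nat_lit 1), (nat_lit 1)), ((nat_lit 81), (nat_lit 52), (nat_lit 1), (nat_lit 1)), ((nat_lit 83), (nat_lit 58), (nat_lit 1), (nat_lit 1)), ((nat_lit 84), (nat_lit 61), (nat_lit 1), (nat_lit 1)), ((nat_lit 86), (nat_lit 63), (nat_lit 1), (nat_lit 1)), ((nat_lit 88), (nat_lit 69), (nat_lit 1), (nat_lit 1)), ((nat_lit 90), (nat_lit 70), (nat_lit 1), (nat_lit 1)), ((nat_lit 92), (nat_lit 72), (nat_lit 1), (nat_lit 1)), ((nat_lit 101), (nat_lit 93), (nat_lit 1), (nat_lit 1)), ((nat_lit 110), (nat_lit 95), (nat_lit 1), (nat_lit 1)), ((nat_lit 112), (nat_lit 96), (nat_lit 1), (nat_lit 1)), ((nat_lit 114), (nat_lit 98), (nat_lit 1), (nat_lit 1)), ((nat_lit 119), (nat_lit 103), (nat_lit 1), (nat_lit 1)), ((nat_lit 121), (nat_lit 105), (nat_lit 1), (nat_lit 1)), ((nat_lit 122), (nat_lit 107), (nat_lit 1), (nat_lit 1)), ((nat_lit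 124), (nat_lit 116), (nat_lit 1), (nat_lit 1))]) (.leaf [((nat_lit 0), (nat_lit 12), (nat_lit 1), (nat_lit 1)), ((nat_lit 2), (nat_lit 34), (nat_lit 1), (nat_lit 1)), ((nat_lit 4), (nat_lit 39), (nat_lit 1), (nat_lit 1)), ((nat_lit 6), (nat_lit 41), (nat_lit 1), (nat_lit 1)), ((nat_lit 8), (nat_lit 48), (nat_lit 1), (nat_lit 1)), ((nat_lit 10), (nat_lit 50), (nat_lit 1), (nat_lit 1)), ((nat_lit 15), (nat_lit 52), (nat_lit 1), (nat_lit 1)), ((nat_lit 17), (nat_lit 57), (nat_lit 1), (nat_lit 1)), ((nat_lit 19), (nat_lit 59), (nat_lit 1), (nat_lit 1)), ((nat_lit 20), (nat_lit 62), (nat_lit 1), (nat_lit 1)), ((nat_lit 22), (nat_lit 64), (nat_lit 1), (nat_lit 1)), ((nat_lit 24), (nat_lit 69), (nat_lit 1), (nat_lit 1)), ((nat_lit 26), (nat_lit 71), (nat_lit 1), (nat_lit 1)), ((nat_lit 28), (nat_lit 79), (nat_lit 1), (nat_lit 1)), ((nat_lit 30), (nat_lit 81), (nat_lit 1), (nat_lit 1)), ((nat_lit 32), (nat_lit 88),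 (nat_lit 1), (nat_lit 1)), ((nat_lit 37), (nat_lit 93), (nat_lit 1), (nat_lit 1)), ((nat_lit 44), (nat_lit 95), (nat_lit 1), (nat_lit 1)), ((nat_lit 46), (nat_lit 97), (nat_lit 1), (nat_lit 1)), ((nat_lit 54), (nat_lit 99), (nat_lit 1), (nat_lit 1)), ((nat_lit 56), (nat_lit 101), (nat_lit 1), (nat_lit 1)), ((nat_lit 61), (nat_lit 103), (nat_lit 1), (nat_lit 1)), ((nat_lit 63), (nat_lit 105), (nat_lit 1), (nat_lit 1)), ((nat_lit 66), (nat_lit 106), (nat_lit 1), (nat_lit 1)), ((nat_lit 68), (nat_lit 108), (nat_lit 1), (nat_lit 1)), ((nat_lit 73), (nat_lit 110), (nat_lit 1), (nat_lit 1)), ((nat_lit 75), (nat_lit 115), (nat_lit 1), (nat_lit 1)), ((nat_lit 77), (nat_lit 117), (nat_lit 1), (nat_lit 1)), ((nat_lit 84), (nat_lit 119), (nat_lit 1), (nat_lit 1)), ((nat_lit 86), (nat_lit 121), (nat_lit 1), (nat_lit 1)), ((nat_lit 91), (nat_lit 123), (nat_lit 1), (nat_lit 1)), ((nat_lit 113), (nat_lit 125), (nat_lit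 1), (nat_lit 1))]))) (.node (.node (.leaf [((nat_lit 9), (nat_lit 0), (nat_lit 1), (nat_lit 1)), ((nat_lit 34), (nat_lit 3), (nat_lit 1), (nat_lit 1)), ((nat_lit 36), (nat_lit 4), (nat_lit 1), (nat_lit 1)), ((nat_lit 38), (nat_lit 6), (nat_lit 1), (nat_lit 1)), ((nat_lit 48), (nat_lit 11), (nat_lit 1), (nat_lit 1)), ((nat_lit 50), (nat_lit 13), (nat_lit 1), (nat_lit 1)), ((nat_lit 51), (nat_lit 15), (nat_lit 1), (nat_lit 1)), ((nat_lit 53), (nat_lit 17), (nat_lit 1), (nat_lit 1)), ((nat_lit 55), (nat_lit 19), (nat_lit 1), (nat_lit 1)), ((nat_lit 56), (nat_lit 21), (nat_lit 1), (nat_lit 1)), ((nat_lit 62), (nat_lit 23), (nat_lit 1), (nat_lit 1)), ((nat_lit 64), (nat_lit 25), (nat_lit 1), (nat_lit 1)), ((nat_lit 67), (nat_lit 26), (nat_lit 1), (nat_lit 1)), ((nat_lit 78), (nat_lit 28), (nat_lit 1), (nat_lit 1)), ((nat_lit 81), (nat_lit 31), (nat_lit 1), (nat_lit 1)), ((nat_lit 85), (nat_lit 32), (nat_lit 1),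 (nat_lit 1)), ((nat_lit 93), (nat_lit 40), (nat_lit 1), (nat_lit 1)), ((nat_lit 94), (nat_lit 44), (nat_lit 1), (nat_lit 1)), ((nat_lit 97), (nat_lit 47), (nat_lit 1), (nat_lit 1)), ((nat_lit 99), (nat_lit 58), (nat_lit 1), (nat_lit 1)), ((nat_lit 100), (nat_lit 61), (nat_lit 1), (nat_lit 1)), ((nat_lit 102), (nat_lit 63), (nat_lit 1), (nat_lit 1)), ((nat_lit 104), (nat_lit 69), (nat_lit 1), (nat_lit 1)), ((nat_lit 106), (nat_lit 70), (nat_lit 1), (nat_lit 1)), ((nat_lit 108), (nat_lit 72), (nat_lit 1), (nat_lit 1)), ((nat_lit 110), (nat_lit 74), (nat_lit 1), (nat_lit 1)), ((nat_lit 112), (nat_lit 75), (nat_lit 1), (nat_lit 1)), ((nat_lit 114), (nat_lit 77), (nat_lit 1), (nat_lit 1)), ((nat_lit 119), (nat_lit 87), (nat_lit 1), (nat_lit 1)), ((nat_lit 121), (nat_lit 89), (nat_lit 1), (nat_lit 1)), ((nat_lit 122), (nat_lit 91), (nat_lit 1), (nat_lit 1)), ((nat_lit 125), (nat_lit 116), (nat_lit 1), (nat_lit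 1))]) (.leaf [((nat_lit 1), (nat_lit 12), (nat_lit 1), (nat_lit 1)), ((nat_lit 2), (nat_lit 18), (nat_lit 1), (nat_lit 1)), ((nat_lit 4), (nat_lit 23), (nat_lit 1), (nat_lit 1)), ((nat_lit 6), (nat_lit 25), (nat_lit 1), (nat_lit 1)), ((nat_lit 8), (nat_lit 27), (nat_lit 1), (nat_lit 1)), ((nat_lit 10), (nat_lit 29), (nat_lit 1), (nat_lit 1)), ((nat_lit 15), (nat_lit 31), (nat_lit 1), (nat_lit 1)), ((nat_lit 21), (nat_lit 32), (nat_lit 1), (nat_lit 1)), ((nat_lit 33), (nat_lit 57), (nat_lit 1), (nat_lit 1)), ((nat_lit 35), (nat_lit 59), (nat_lit 1), (nat_lit 1)), ((nat_lit 36), (nat_lit 62), (nat_lit 1), (nat_lit 1)), ((nat_lit 38), (nat_lit 64), (nat_lit 1), (nat_lit 1)), ((nat_lit 40), (nat_lit 69), (nat_lit 1), (nat_lit 1)), ((nat_lit 42), (nat_lit 71), (nat_lit 1), (nat_lit 1)), ((nat_lit 44), (nat_lit 74), (nat_lit 1), (nat_lit 1)), ((nat_lit 46), (nat_lit 76), (nat_lit 1), (nat_lit 1)), ((nat_lit 49),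 (nat_lit 79), (nat_lit 1), (nat_lit 1)), ((nat_lit 51), (nat_lit 81), (nat_lit 1), (nat_lit 1)), ((nat_lit 54), (nat_lit 83), (nat_lit 1), (nat_lit 1)), ((nat_lit 56), (nat_lit 85), (nat_lit 1), (nat_lit 1)), ((nat_lit 61), (nat_lit 87), (nat_lit 1), (nat_lit 1)), ((nat_lit 63), (nat_lit 89), (nat_lit 1), (nat_lit 1)), ((nat_lit 66), (nat_lit 90), (nat_lit 1), (nat_lit 1)), ((nat_lit 68), (nat_lit 92), (nat_lit 1), (nat_lit 1)), ((nat_lit 93), (nat_lit 104), (nat_lit 1), (nat_lit 1)), ((nat_lit 94), (nat_lit 110), (nat_lit 1), (nat_lit 1)), ((nat_lit 96), (nat_lit 115), (nat_lit 1), (nat_lit 1)), ((nat_lit 98), (nat_lit 117), (nat_lit 1), (nat_lit 1)), ((nat_lit 100), (nat_lit 119), (nat_lit 1), (nat_lit 1)), ((nat_lit 102), (nat_lit 121), (nat_lit 1), (nat_lit 1)), ((nat_lit 107), (nat_lit 123), (nat_lit 1), (nat_lit 1)), ((nat_lit 113), (nat_lit 124), (nat_lit 1), (nat_lit 1))])) (.node (.leaf [((nat_lit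 3), (nat_lit 2), (nat_lit 1), (nat_lit 1)), ((nat_lit 11), (nat_lit 8), (nat_lit 1), (nat_lit 1)), ((nat_lit 12), (nat_lit 9), (nat_lit 1), (nat_lit 1)), ((nat_lit 13), (nat_lit 10), (nat_lit 1), (nat_lit 1)), ((nat_lit 23), (nat_lit 20), (nat_lit 1), (nat_lit 1)), ((nat_lit 24), (nat_lit 21), (nat_lit 1), (nat_lit 1)), ((nat_lit 25), (nat_lit 22), (nat_lit 1), (nat_lit 1)), ((nat_lit 31), (nat_lit 30), (nat_lit 1), (nat_lit 1)), ((nat_lit 39), (nat_lit 36), (nat_lit 1), (nat_lit 1)), ((nat_lit 40), (nat_lit 37), (nat_lit 1), (nat_lit 1)), ((nat_lit 41), (nat_lit 38), (nat_lit 1), (nat_lit 1)), ((nat_lit 47), (nat_lit 46), (nat_lit 1), (nat_lit 1)), ((nat_lit 52), (nat_lit 51), (nat_lit 1), (nat_lit 1)), ((nat_lit 57), (nat_lit 53), (nat_lit 1), (nat_lit 1)), ((nat_lit 58), (nat_lit 54), (nat_lit 1), (nat_lit 1)), ((nat_lit 59), (nat_lit 55), (nat_lit 1), (nat_lit 1)), ((nat_lit 70), (nat_lit 66), (nat_lit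 1), (nat_lit 1)), ((nat_lit 71), (nat_lit 67), (nat_lit 1), (nat_lit 1)), ((nat_lit 72), (nat_lit 68), (nat_lit 1), (nat_lit 1)), ((nat_lit 74), (nat_lit 73), (nat_lit 1), (nat_lit 1)), ((nat_lit 79), (nat_lit 78), (nat_lit 1), (nat_lit 1)), ((nat_lit 87), (nat_lit 84), (nat_lit 1), (nat_lit 1)), ((nat_lit 88), (nat_lit 85), (nat_lit 1), (nat_lit 1)), ((nat_lit 89), (nat_lit 86), (nat_lit 1), (nat_lit 1)), ((nat_lit 95), (nat_lit 94), (nat_lit 1), (nat_lit 1)), ((nat_lit 103), (nat_lit 100), (nat_lit 1), (nat_lit 1)), ((nat_lit 104), (nat_lit 101), (nat_lit 1), (nat_lit 1)), ((nat_lit 105), (nat_lit 102), (nat_lit 1), (nat_lit 1)), ((nat_lit 115), (nat_lit 112), (nat_lit 1), (nat_lit 1)), ((nat_lit 116), (nat_lit 113), (nat_lit 1), (nat_lit 1)), ((nat_lit 117), (nat_lit 114), (nat_lit 1), (nat_lit 1)), ((nat_lit 123), (nat_lit 122), (nat_lit 1), (nat_lit 1))]) (.leaf [((nat_lit 0), (nat_lit 28), (nat_lit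 1), (nat_lit 1)), ((nat_lit 1), (nat_lit 49), (nat_lit 1), (nat_lit 1)), ((nat_lit 2), (nat_lit 54), (nat_lit 1), (nat_lit 1)), ((nat_lit 3), (nat_lit 58), (nat_lit 1), (nat_lit 1)), ((nat_lit 4), (nat_lit 61), (nat_lit 1), (nat_lit 1)), ((nat_lit 6), (nat_lit 63), (nat_lit 1), (nat_lit 1)), ((nat_lit 9), (nat_lit 78), (nat_lit 1), (nat_lit 1)), ((nat_lit 12), (nat_lit 79), (nat_lit 1), (nat_lit 1)), ((nat_lit 14), (nat_lit 80), (nat_lit 1), (nat_lit 1)), ((nat_lit 16), (nat_lit 82), (nat_lit 1), (nat_lit 1)), ((nat_lit 18), (nat_lit 83), (nat_lit 1), (nat_lit 1)), ((nat_lit 20), (nat_lit 84), (nat_lit 1), (nat_lit 1)), ((nat_lit 22), (nat_lit 86), (nat_lit 1), (nat_lit 1)), ((nat_lit 23), (nat_lit 87), (nat_lit 1), (nat_lit 1)), ((nat_lit 25), (nat_lit 89), (nat_lit 1), (nat_lit 1)), ((nat_lit 26), (nat_lit 91), (nat_lit 1), (nat_lit 1)), ((nat_lit 34), (nat_lit 99), (nat_lit 1), (nat_lit 1)), ((nat_lit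 36), (nat_lit 100), (nat_lit 1), (nat_lit 1)), ((nat_lit 38), (nat_lit 102), (nat_lit 1), (nat_lit 1)), ((nat_lit 39), (nat_lit 103), (nat_lit 1), (nat_lit 1)), ((nat_lit 41), (nat_lit 105), (nat_lit 1), (nat_lit 1)), ((nat_lit 42), (nat_lit 107), (nat_lit 1), (nat_lit 1)), ((nat_lit 43), (nat_lit 109), (nat_lit 1), (nat_lit 1)), ((nat_lit 45), (nat_lit 111), (nat_lit 1), (nat_lit 1)), ((nat_lit 46), (nat_lit 113), (nat_lit 1), (nat_lit 1)), ((nat_lit 47), (nat_lit 116), (nat_lit 1), (nat_lit 1)), ((nat_lit 62), (nat_lit 119), (nat_lit 1), (nat_lit 1)), ((nat_lit 64), (nat_lit 121), (nat_lit 1), (nat_lit 1)), ((nat_lit 67), (nat_lit 122), (nat_lit 1), (nat_lit 1)), ((nat_lit 71), (nat_lit 123), (nat_lit 1), (nat_lit 1)), ((nat_lit 76), (nat_lit 124), (nat_lit 1), (nat_lit 1)), ((nat_lit 97), (nat_lit 125), (nat_lit 1), (nat_lit 1))]))))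

def rows1 : Tr (List Entry) :=
  .node (.node (.node (.node (.leaf [((nat_lit 29), (nat_lit 0), (nat_lit 1), (nat_lit 1)), ((nat_lit 50), (nat_lit 1), (nat_lit 1), (nat_lit 1)), ((nat_lit 55), (nat_lit 2), (nat_lit 1), (nat_lit 1)), ((nat_lit 59), (nat_lit 3), (nat_lit 1), (nat_lit 1)), ((nat_lit 64), (nat_lit 5), (nat_lit 1), (nat_lit 1)), ((nat_lit 65), (nat_lit 6), (nat_lit 1), (nat_lit 1)), ((nat_lit 78), (nat_lit 8), (nat_lit 1), (nat_lit 1)), ((nat_lit 79), (nat_lit 11), (nat_lit 1), (nat_lit 1)), ((nat_lit 81), (nat_lit 14), (nat_lit 1), (nat_lit 1)), ((nat_lit 82), (nat_lit 15), (nat_lit 1), (nat_lit 1)), ((nat_lit 83), (nat_lit 17), (nat_lit 1), (nat_lit 1)), ((nat_lit 85), (nat_lit 20), (nat_lit 1), (nat_lit 1)), ((nat_lit 86), (nat_lit 21), (nat_lit 1), (nat_lit 1)), ((nat_lit 88), (nat_lit 23), (nat_lit 1), (nat_lit 1)), ((nat_lit 89), (nat_lit 24), (nat_lit 1), (nat_lit 1)), ((nat_lit 92),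 (nat_lit 26), (nat_lit 1), (nat_lit 1)), ((nat_lit 99), (nat_lit 33), (nat_lit 1), (nat_lit 1)), ((nat_lit 101), (nat_lit 36), (nat_lit 1), (nat_lit 1)), ((nat_lit 102), (nat_lit 37), (nat_lit 1), (nat_lit 1)), ((nat_lit 104), (nat_lit 39), (nat_lit 1), (nat_lit 1)), ((nat_lit 105), (nat_lit 40), (nat_lit 1), (nat_lit 1)), ((nat_lit 108), (nat_lit 42), (nat_lit 1), (nat_lit 1)), ((nat_lit 110), (nat_lit 43), (nat_lit 1), (nat_lit 1)), ((nat_lit 111), (nat_lit 44), (nat_lit 1), (nat_lit 1)), ((nat_lit 114), (nat_lit 46), (nat_lit 1), (nat_lit 1)), ((nat_lit 117), (nat_lit 47), (nat_lit 1), (nat_lit 1)), ((nat_lit 119), (nat_lit 60), (nat_lit 1), (nat_lit 1)), ((nat_lit 120), (nat_lit 61), (nat_lit 1), (nat_lit 1)), ((nat_lit 122), (nat_lit 66), (nat_lit 1), (nat_lit 1)), ((nat_lit 123), (nat_lit 70), (nat_lit 1), (nat_lit 1)), ((nat_lit 124), (nat_lit 75), (nat_lit 1), (nat_lit 1)), ((nat_lit 125), (nat_lit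 96), (nat_lit 1), (nat_lit 1))]) (.leaf [((nat_lit 3), (nat_lit 6), (nat_lit 1), (nat_lit 1)), ((nat_lit 7), (nat_lit 10), (nat_lit 1), (nat_lit 1)), ((nat_lit 11), (nat_lit 15), (nat_lit 1), (nat_lit 1)), ((nat_lit 12), (nat_lit 16), (nat_lit 1), (nat_lit 1)), ((nat_lit 17), (nat_lit 21), (nat_lit 1), (nat_lit 1)), ((nat_lit 18), (nat_lit 22), (nat_lit 1), (nat_lit 1)), ((nat_lit 23), (nat_lit 26), (nat_lit 1), (nat_lit 1)), ((nat_lit 27), (nat_lit 30), (nat_lit 1), (nat_lit 1)), ((nat_lit 33), (nat_lit 37), (nat_lit 1), (nat_lit 1)), ((nat_lit 34), (nat_lit 38), (nat_lit 1), (nat_lit 1)), ((nat_lit 39), (nat_lit 42), (nat_lit 1), (nat_lit 1)), ((nat_lit 43), (nat_lit 46), (nat_lit 1), (nat_lit 1)), ((nat_lit 48), (nat_lit 51), (nat_lit 1), (nat_lit 1)), ((nat_lit 53), (nat_lit 56), (nat_lit 1), (nat_lit 1)), ((nat_lit 58), (nat_lit 63), (nat_lit 1), (nat_lit 1)), ((nat_lit 59), (nat_lit 65), (nat_lit 1),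 (nat_lit 1)), ((nat_lit 60), (nat_lit 66), (nat_lit 1), (nat_lit 1)), ((nat_lit 62), (nat_lit 67), (nat_lit 1), (nat_lit 1)), ((nat_lit 69), (nat_lit 72), (nat_lit 1), (nat_lit 1)), ((nat_lit 74), (nat_lit 77), (nat_lit 1), (nat_lit 1)), ((nat_lit 79), (nat_lit 82), (nat_lit 1), (nat_lit 1)), ((nat_lit 83), (nat_lit 86), (nat_lit 1), (nat_lit 1)), ((nat_lit 87), (nat_lit 91), (nat_lit 1), (nat_lit 1)), ((nat_lit 88), (nat_lit 92), (nat_lit 1), (nat_lit 1)), ((nat_lit 95), (nat_lit 98), (nat_lit 1), (nat_lit 1)), ((nat_lit 99), (nat_lit 102), (nat_lit 1), (nat_lit 1)), ((nat_lit 103), (nat_lit 107), (nat_lit 1), (nat_lit 1)), ((nat_lit 104), (nat_lit 108), (nat_lit 1), (nat_lit 1)), ((nat_lit 109), (nat_lit 113), (nat_lit 1), (nat_lit 1)), ((nat_lit 110), (nat_lit 114), (nat_lit 1), (nat_lit 1)), ((nat_lit 115), (nat_lit 118), (nat_lit 1), (nat_lit 1)), ((nat_lit 119), (nat_lit 122), (nat_lit 1), (nat_lit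 1))])) (.node (.leaf [((nat_lit 13), (nat_lit 1), (nat_lit 1), (nat_lit 1)), ((nat_lit 19), (nat_lit 2), (nat_lit 1), (nat_lit 1)), ((nat_lit 24), (nat_lit 4), (nat_lit 1), (nat_lit 1)), ((nat_lit 25), (nat_lit 5), (nat_lit 1), (nat_lit 1)), ((nat_lit 28), (nat_lit 8), (nat_lit 1), (nat_lit 1)), ((nat_lit 29), (nat_lit 9), (nat_lit 1), (nat_lit 1)), ((nat_lit 31), (nat_lit 14), (nat_lit 1), (nat_lit 1)), ((nat_lit 32), (nat_lit 20), (nat_lit 1), (nat_lit 1)), ((nat_lit 58), (nat_lit 33), (nat_lit 1), (nat_lit 1)), ((nat_lit 59), (nat_lit 34), (nat_lit 1), (nat_lit 1)), ((nat_lit 63), (nat_lit 37), (nat_lit 1), (nat_lit 1)), ((nat_lit 65), (nat_lit 38), (nat_lit 1), (nat_lit 1)), ((nat_lit 69), (nat_lit 39), (nat_lit 1), (nat_lit 1)), ((nat_lit 72), (nat_lit 42), (nat_lit 1), (nat_lit 1)), ((nat_lit 74), (nat_lit 43), (nat_lit 1), (nat_lit 1)), ((nat_lit 77), (nat_lit 46), (nat_lit 1), (nat_lit 1)), ((nat_lit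 79), (nat_lit 48), (nat_lit 1), (nat_lit 1)), ((nat_lit 82), (nat_lit 51), (nat_lit 1), (nat_lit 1)), ((nat_lit 83), (nat_lit 53), (nat_lit 1), (nat_lit 1)), ((nat_lit 86), (nat_lit 56), (nat_lit 1), (nat_lit 1)), ((nat_lit 87), (nat_lit 60), (nat_lit 1), (nat_lit 1)), ((nat_lit 88), (nat_lit 62), (nat_lit 1), (nat_lit 1)), ((nat_lit 91), (nat_lit 66), (nat_lit 1), (nat_lit 1)), ((nat_lit 92), (nat_lit 67), (nat_lit 1), (nat_lit 1)), ((nat_lit 105), (nat_lit 93), (nat_lit 1), (nat_lit 1)), ((nat_lit 111), (nat_lit 94), (nat_lit 1), (nat_lit 1)), ((nat_lit 116), (nat_lit 96), (nat_lit 1), (nat_lit 1)), ((nat_lit 117), (nat_lit 97), (nat_lit 1), (nat_lit 1)), ((nat_lit 120), (nat_lit 100), (nat_lit 1), (nat_lit 1)), ((nat_lit 121), (nat_lit 101), (nat_lit 1), (nat_lit 1)), ((nat_lit 123), (nat_lit 106), (nat_lit 1), (nat_lit 1)), ((nat_lit 124), (nat_lit 112), (nat_lit 1), (nat_lit 1))]) (.leaf [((nat_lit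 0), (nat_lit 8), (nat_lit 1), (nat_lit 1)), ((nat_lit 3), (nat_lit 33), (nat_lit 1), (nat_lit 1)), ((nat_lit 5), (nat_lit 36), (nat_lit 1), (nat_lit 1)), ((nat_lit 6), (nat_lit 37), (nat_lit 1), (nat_lit 1)), ((nat_lit 12), (nat_lit 48), (nat_lit 1), (nat_lit 1)), ((nat_lit 13), (nat_lit 49), (nat_lit 1), (nat_lit 1)), ((nat_lit 16), (nat_lit 51), (nat_lit 1), (nat_lit 1)), ((nat_lit 18), (nat_lit 53), (nat_lit 1), (nat_lit 1)), ((nat_lit 19), (nat_lit 54), (nat_lit 1), (nat_lit 1)), ((nat_lit 22), (nat_lit 56), (nat_lit 1), (nat_lit 1)), ((nat_lit 23), (nat_lit 60), (nat_lit 1), (nat_lit 1)), ((nat_lit 24), (nat_lit 61), (nat_lit 1), (nat_lit 1)), ((nat_lit 26), (nat_lit 66), (nat_lit 1), (nat_lit 1)), ((nat_lit 29), (nat_lit 78), (nat_lit 1), (nat_lit 1)), ((nat_lit 31), (nat_lit 80), (nat_lit 1), (nat_lit 1)), ((nat_lit 32), (nat_lit 84), (nat_lit 1), (nat_lit 1)), ((nat_lit 41), (nat_lit 93), (nat_lit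 1), (nat_lit 1)), ((nat_lit 45), (nat_lit 94), (nat_lit 1), (nat_lit 1)), ((nat_lit 47), (nat_lit 96), (nat_lit 1), (nat_lit 1)), ((nat_lit 59), (nat_lit 99), (nat_lit 1), (nat_lit 1)), ((nat_lit 64), (nat_lit 101), (nat_lit 1), (nat_lit 1)), ((nat_lit 65), (nat_lit 102), (nat_lit 1), (nat_lit 1)), ((nat_lit 69), (nat_lit 103), (nat_lit 1), (nat_lit 1)), ((nat_lit 71), (nat_lit 106), (nat_lit 1), (nat_lit 1)), ((nat_lit 72), (nat_lit 107), (nat_lit 1), (nat_lit 1)), ((nat_lit 74), (nat_lit 109), (nat_lit 1), (nat_lit 1)), ((nat_lit 76), (nat_lit 112), (nat_lit 1), (nat_lit 1)), ((nat_lit 77), (nat_lit 113), (nat_lit 1), (nat_lit 1)), ((nat_lit 88), (nat_lit 119), (nat_lit 1), (nat_lit 1)), ((nat_lit 89), (nat_lit 120), (nat_lit 1), (nat_lit 1)), ((nat_lit 92), (nat_lit 122), (nat_lit 1), (nat_lit 1)), ((nat_lit 117), (nat_lit 125), (nat_lit 1), (nat_lit 1))]))) (.node (.node (.leaf [((nat_lit 13), (nat_lit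 0), (nat_lit 1), (nat_lit 1)), ((nat_lit 35), (nat_lit 2), (nat_lit 1), (nat_lit 1)), ((nat_lit 40), (nat_lit 4), (nat_lit 1), (nat_lit 1)), ((nat_lit 41), (nat_lit 5), (nat_lit 1), (nat_lit 1)), ((nat_lit 49), (nat_lit 8), (nat_lit 1), (nat_lit 1)), ((nat_lit 50), (nat_lit 9), (nat_lit 1), (nat_lit 1)), ((nat_lit 52), (nat_lit 14), (nat_lit 1), (nat_lit 1)), ((nat_lit 58), (nat_lit 17), (nat_lit 1), (nat_lit 1)), ((nat_lit 59), (nat_lit 18), (nat_lit 1), (nat_lit 1)), ((nat_lit 63), (nat_lit 21), (nat_lit 1), (nat_lit 1)), ((nat_lit 65), (nat_lit 22), (nat_lit 1), (nat_lit 1)), ((nat_lit 69), (nat_lit 23), (nat_lit 1), (nat_lit 1)), ((nat_lit 72), (nat_lit 26), (nat_lit 1), (nat_lit 1)), ((nat_lit 79), (nat_lit 27), (nat_lit 1), (nat_lit 1)), ((nat_lit 82), (nat_lit 30), (nat_lit 1), (nat_lit 1)), ((nat_lit 89), (nat_lit 32), (nat_lit 1), (nat_lit 1)), ((nat_lit 93), (nat_lit 36), (nat_lit 1), (nat_lit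 1)), ((nat_lit 95), (nat_lit 43), (nat_lit 1), (nat_lit 1)), ((nat_lit 98), (nat_lit 46), (nat_lit 1), (nat_lit 1)), ((nat_lit 99), (nat_lit 53), (nat_lit 1), (nat_lit 1)), ((nat_lit 102), (nat_lit 56), (nat_lit 1), (nat_lit 1)), ((nat_lit 103), (nat_lit 60), (nat_lit 1), (nat_lit 1)), ((nat_lit 104), (nat_lit 62), (nat_lit 1), (nat_lit 1)), ((nat_lit 107), (nat_lit 66), (nat_lit 1), (nat_lit 1)), ((nat_lit 108), (nat_lit 67), (nat_lit 1), (nat_lit 1)), ((nat_lit 111), (nat_lit 73), (nat_lit 1), (nat_lit 1)), ((nat_lit 116), (nat_lit 75), (nat_lit 1), (nat_lit 1)), ((nat_lit 117), (nat_lit 76), (nat_lit 1), (nat_lit 1)), ((nat_lit 120), (nat_lit 84), (nat_lit 1), (nat_lit 1)), ((nat_lit 121), (nat_lit 85), (nat_lit 1), (nat_lit 1)), ((nat_lit 123), (nat_lit 90), (nat_lit 1), (nat_lit 1)), ((nat_lit 125), (nat_lit 112), (nat_lit 1), (nat_lit 1))]) (.leaf [((nat_lit 1), (nat_lit 8), (nat_lit 1), (nat_lit 1)),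 ((nat_lit 3), (nat_lit 17), (nat_lit 1), (nat_lit 1)), ((nat_lit 5), (nat_lit 20), (nat_lit 1), (nat_lit 1)), ((nat_lit 6), (nat_lit 21), (nat_lit 1), (nat_lit 1)), ((nat_lit 12), (nat_lit 27), (nat_lit 1), (nat_lit 1)), ((nat_lit 13), (nat_lit 28), (nat_lit 1), (nat_lit 1)), ((nat_lit 16), (nat_lit 30), (nat_lit 1), (nat_lit 1)), ((nat_lit 25), (nat_lit 32), (nat_lit 1), (nat_lit 1)), ((nat_lit 34), (nat_lit 53), (nat_lit 1), (nat_lit 1)), ((nat_lit 35), (nat_lit 54), (nat_lit 1), (nat_lit 1)), ((nat_lit 38), (nat_lit 56), (nat_lit 1), (nat_lit 1)), ((nat_lit 39), (nat_lit 60), (nat_lit 1), (nat_lit 1)), ((nat_lit 40), (nat_lit 61), (nat_lit 1), (nat_lit 1)), ((nat_lit 42), (nat_lit 66), (nat_lit 1), (nat_lit 1)), ((nat_lit 45), (nat_lit 73), (nat_lit 1), (nat_lit 1)), ((nat_lit 47), (nat_lit 75), (nat_lit 1), (nat_lit 1)), ((nat_lit 50), (nat_lit 78), (nat_lit 1), (nat_lit 1)), ((nat_lit 52), (nat_lit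 80), (nat_lit 1), (nat_lit 1)), ((nat_lit 59), (nat_lit 83), (nat_lit 1), (nat_lit 1)), ((nat_lit 64), (nat_lit 85), (nat_lit 1), (nat_lit 1)), ((nat_lit 65), (nat_lit 86), (nat_lit 1), (nat_lit 1)), ((nat_lit 69), (nat_lit 87), (nat_lit 1), (nat_lit 1)), ((nat_lit 71), (nat_lit 90), (nat_lit 1), (nat_lit 1)), ((nat_lit 72), (nat_lit 91), (nat_lit 1), (nat_lit 1)), ((nat_lit 93), (nat_lit 100), (nat_lit 1), (nat_lit 1)), ((nat_lit 95), (nat_lit 109), (nat_lit 1), (nat_lit 1)), ((nat_lit 97), (nat_lit 112), (nat_lit 1), (nat_lit 1)), ((nat_lit 98), (nat_lit 113), (nat_lit 1), (nat_lit 1)), ((nat_lit 104), (nat_lit 119), (nat_lit 1), (nat_lit 1)), ((nat_lit 105), (nat_lit 120), (nat_lit 1), (nat_lit 1)), ((nat_lit 108), (nat_lit 122), (nat_lit 1), (nat_lit 1)), ((nat_lit 117), (nat_lit 124), (nat_lit 1), (nat_lit 1))])) (.node (.leaf [((nat_lit 2), (nat_lit 1), (nat_lit 1), (nat_lit 1)), ((nat_lit 17), (nat_lit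 11), (nat_lit 1), (nat_lit 1)), ((nat_lit 18), (nat_lit 12), (nat_lit 1), (nat_lit 1)), ((nat_lit 19), (nat_lit 13), (nat_lit 1), (nat_lit 1)), ((nat_lit 20), (nat_lit 14), (nat_lit 1), (nat_lit 1)), ((nat_lit 21), (nat_lit 15), (nat_lit 1), (nat_lit 1)), ((nat_lit 22), (nat_lit 16), (nat_lit 1), (nat_lit 1)), ((nat_lit 32), (nat_lit 31), (nat_lit 1), (nat_lit 1)), ((nat_lit 43), (nat_lit 39), (nat_lit 1), (nat_lit 1)), ((nat_lit 44), (nat_lit 40), (nat_lit 1), (nat_lit 1)), ((nat_lit 45), (nat_lit 41), (nat_lit 1), (nat_lit 1)), ((nat_lit 46), (nat_lit 42), (nat_lit 1), (nat_lit 1)), ((nat_lit 53), (nat_lit 48), (nat_lit 1), (nat_lit 1)), ((nat_lit 54), (nat_lit 49), (nat_lit 1), (nat_lit 1)), ((nat_lit 55), (nat_lit 50), (nat_lit 1), (nat_lit 1)), ((nat_lit 56), (nat_lit 51), (nat_lit 1), (nat_lit 1)), ((nat_lit 74), (nat_lit 69), (nat_lit 1), (nat_lit 1)), ((nat_lit 75), (nat_lit 70), (nat_lit 1), (nat_lit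 1)), ((nat_lit 76), (nat_lit 71), (nat_lit 1), (nat_lit 1)), ((nat_lit 77), (nat_lit 72), (nat_lit 1), (nat_lit 1)), ((nat_lit 83), (nat_lit 79), (nat_lit 1), (nat_lit 1)), ((nat_lit 84), (nat_lit 80), (nat_lit 1), (nat_lit 1)), ((nat_lit 85), (nat_lit 81), (nat_lit 1), (nat_lit 1)), ((nat_lit 86), (nat_lit 82), (nat_lit 1), (nat_lit 1)), ((nat_lit 94), (nat_lit 93), (nat_lit 1), (nat_lit 1)), ((nat_lit 109), (nat_lit 103), (nat_lit 1), (nat_lit 1)), ((nat_lit 110), (nat_lit 104), (nat_lit 1), (nat_lit 1)), ((nat_lit 111), (nat_lit 105), (nat_lit 1), (nat_lit 1)), ((nat_lit 112), (nat_lit 106), (nat_lit 1), (nat_lit 1)), ((nat_lit 113), (nat_lit 107), (nat_lit 1), (nat_lit 1)), ((nat_lit 114), (nat_lit 108), (nat_lit 1), (nat_lit 1)), ((nat_lit 124), (nat_lit 123), (nat_lit 1), (nat_lit 1))]) (.leaf [((nat_lit 0), (nat_lit 24), (nat_lit 1), (nat_lit 1)), ((nat_lit 1), (nat_lit 40), (nat_lit 1), (nat_lit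 1)), ((nat_lit 2), (nat_lit 44), (nat_lit 1), (nat_lit 1)), ((nat_lit 5), (nat_lit 47), (nat_lit 1), (nat_lit 1)), ((nat_lit 7), (nat_lit 58), (nat_lit 1), (nat_lit 1)), ((nat_lit 8), (nat_lit 61), (nat_lit 1), (nat_lit 1)), ((nat_lit 10), (nat_lit 63), (nat_lit 1), (nat_lit 1)), ((nat_lit 12), (nat_lit 69), (nat_lit 1), (nat_lit 1)), ((nat_lit 14), (nat_lit 70), (nat_lit 1), (nat_lit 1)), ((nat_lit 16), (nat_lit 72), (nat_lit 1), (nat_lit 1)), ((nat_lit 18), (nat_lit 74), (nat_lit 1), (nat_lit 1)), ((nat_lit 20), (nat_lit 75), (nat_lit 1), (nat_lit 1)), ((nat_lit 22), (nat_lit 77), (nat_lit 1), (nat_lit 1)), ((nat_lit 27), (nat_lit 87), (nat_lit 1), (nat_lit 1)), ((nat_lit 29), (nat_lit 89), (nat_lit 1), (nat_lit 1)), ((nat_lit 30), (nat_lit 91), (nat_lit 1), (nat_lit 1)), ((nat_lit 34), (nat_lit 95), (nat_lit 1), (nat_lit 1)), ((nat_lit 36), (nat_lit 96), (nat_lit 1), (nat_lit 1)), ((nat_lit 38), (nat_lit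 98), (nat_lit 1), (nat_lit 1)), ((nat_lit 48), (nat_lit 103), (nat_lit 1), (nat_lit 1)), ((nat_lit 50), (nat_lit 105), (nat_lit 1), (nat_lit 1)), ((nat_lit 51), (nat_lit 107), (nat_lit 1), (nat_lit 1)), ((nat_lit 53), (nat_lit 109), (nat_lit 1), (nat_lit 1)), ((nat_lit 55), (nat_lit 111), (nat_lit 1), (nat_lit 1)), ((nat_lit 56), (nat_lit 113), (nat_lit 1), (nat_lit 1)), ((nat_lit 62), (nat_lit 115), (nat_lit 1), (nat_lit 1)), ((nat_lit 64), (nat_lit 117), (nat_lit 1), (nat_lit 1)), ((nat_lit 67), (nat_lit 118), (nat_lit 1), (nat_lit 1)), ((nat_lit 78), (nat_lit 120), (nat_lit 1), (nat_lit 1)), ((nat_lit 81), (nat_lit 123), (nat_lit 1), (nat_lit 1)), ((nat_lit 85), (nat_lit 124), (nat_lit 1), (nat_lit 1)), ((nat_lit 101), (nat_lit 125), (nat_lit 1), (nat_lit 1))])))) (.node (.node (.node (.leaf [((nat_lit 21), (nat_lit 0), (nat_lit 1), (nat_lit 1)), ((nat_lit 37), (nat_lit 1), (nat_lit 1), (nat_lit 1)),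 ((nat_lit 44), (nat_lit 3), (nat_lit 1), (nat_lit 1)), ((nat_lit 46), (nat_lit 5), (nat_lit 1), (nat_lit 1)), ((nat_lit 54), (nat_lit 7), (nat_lit 1), (nat_lit 1)), ((nat_lit 56), (nat_lit 9), (nat_lit 1), (nat_lit 1)), ((nat_lit 61), (nat_lit 11), (nat_lit 1), (nat_lit 1)), ((nat_lit 63), (nat_lit 13), (nat_lit 1), (nat_lit 1)), ((nat_lit 66), (nat_lit 14), (nat_lit 1), (nat_lit 1)), ((nat_lit 68), (nat_lit 16), (nat_lit 1), (nat_lit 1)), ((nat_lit 73), (nat_lit 18), (nat_lit 1), (nat_lit 1)), ((nat_lit 75), (nat_lit 23), (nat_lit 1), (nat_lit 1)), ((nat_lit 77), (nat_lit 25), (nat_lit 1), (nat_lit 1)), ((nat_lit 84), (nat_lit 27), (nat_lit 1), (nat_lit 1)), ((nat_lit 86), (nat_lit 29), (nat_lit 1), (nat_lit 1)), ((nat_lit 91), (nat_lit 31), (nat_lit 1), (nat_lit 1)), ((nat_lit 94), (nat_lit 34), (nat_lit 1), (nat_lit 1)), ((nat_lit 96), (nat_lit 39), (nat_lit 1), (nat_lit 1)), ((nat_lit 98), (nat_lit 41),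 (nat_lit 1), (nat_lit 1)), ((nat_lit 100), (nat_lit 48), (nat_lit 1), (nat_lit 1)), ((nat_lit 102), (nat_lit 50), (nat_lit 1), (nat_lit 1)), ((nat_lit 107), (nat_lit 52), (nat_lit 1), (nat_lit 1)), ((nat_lit 109), (nat_lit 57), (nat_lit 1), (nat_lit 1)), ((nat_lit 111), (nat_lit 59), (nat_lit 1), (nat_lit 1)), ((nat_lit 112), (nat_lit 62), (nat_lit 1), (nat_lit 1)), ((nat_lit 114), (nat_lit 64), (nat_lit 1), (nat_lit 1)), ((nat_lit 116), (nat_lit 69), (nat_lit 1), (nat_lit 1)), ((nat_lit 118), (nat_lit 71), (nat_lit 1), (nat_lit 1)), ((nat_lit 120), (nat_lit 79), (nat_lit 1), (nat_lit 1)), ((nat_lit 122), (nat_lit 81), (nat_lit 1), (nat_lit 1)), ((nat_lit 124), (nat_lit 88), (nat_lit 1), (nat_lit 1)), ((nat_lit 125), (nat_lit 104), (nat_lit 1), (nat_lit 1))]) (.leaf [((nat_lit 1), (nat_lit 5), (nat_lit 1), (nat_lit 1)), ((nat_lit 7), (nat_lit 18), (nat_lit 1), (nat_lit 1)), ((nat_lit 8), (nat_lit 20), (nat_lit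 1), (nat_lit 1)), ((nat_lit 10), (nat_lit 22), (nat_lit 1), (nat_lit 1)), ((nat_lit 11), (nat_lit 23), (nat_lit 1), (nat_lit 1)), ((nat_lit 13), (nat_lit 25), (nat_lit 1), (nat_lit 1)), ((nat_lit 15), (nat_lit 26), (nat_lit 1), (nat_lit 1)), ((nat_lit 28), (nat_lit 32), (nat_lit 1), (nat_lit 1)), ((nat_lit 33), (nat_lit 43), (nat_lit 1), (nat_lit 1)), ((nat_lit 35), (nat_lit 45), (nat_lit 1), (nat_lit 1)), ((nat_lit 37), (nat_lit 46), (nat_lit 1), (nat_lit 1)), ((nat_lit 40), (nat_lit 47), (nat_lit 1), (nat_lit 1)), ((nat_lit 48), (nat_lit 62), (nat_lit 1), (nat_lit 1)), ((nat_lit 50), (nat_lit 64), (nat_lit 1), (nat_lit 1)), ((nat_lit 51), (nat_lit 67), (nat_lit 1), (nat_lit 1)), ((nat_lit 52), (nat_lit 71), (nat_lit 1), (nat_lit 1)), ((nat_lit 54), (nat_lit 73), (nat_lit 1), (nat_lit 1)), ((nat_lit 58), (nat_lit 74), (nat_lit 1), (nat_lit 1)), ((nat_lit 61), (nat_lit 75), (nat_lit 1), (nat_lit 1)), ((nat_lit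 63), (nat_lit 77), (nat_lit 1), (nat_lit 1)), ((nat_lit 78), (nat_lit 85), (nat_lit 1), (nat_lit 1)), ((nat_lit 79), (nat_lit 88), (nat_lit 1), (nat_lit 1)), ((nat_lit 80), (nat_lit 90), (nat_lit 1), (nat_lit 1)), ((nat_lit 82), (nat_lit 92), (nat_lit 1), (nat_lit 1)), ((nat_lit 93), (nat_lit 97), (nat_lit 1), (nat_lit 1)), ((nat_lit 99), (nat_lit 110), (nat_lit 1), (nat_lit 1)), ((nat_lit 100), (nat_lit 112), (nat_lit 1), (nat_lit 1)), ((nat_lit 102), (nat_lit 114), (nat_lit 1), (nat_lit 1)), ((nat_lit 103), (nat_lit 115), (nat_lit 1), (nat_lit 1)), ((nat_lit 105), (nat_lit 117), (nat_lit 1), (nat_lit 1)), ((nat_lit 107), (nat_lit 118), (nat_lit 1), (nat_lit 1)), ((nat_lit 120), (nat_lit 124), (nat_lit 1), (nat_lit 1))])) (.node (.leaf [((nat_lit 9), (nat_lit 2), (nat_lit 1), (nat_lit 1)), ((nat_lit 12), (nat_lit 3), (nat_lit 1), (nat_lit 1)), ((nat_lit 14), (nat_lit 4), (nat_lit 1), (nat_lit 1)), ((nat_lit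 16), (nat_lit 6), (nat_lit 1), (nat_lit 1)), ((nat_lit 27), (nat_lit 17), (nat_lit 1), (nat_lit 1)), ((nat_lit 29), (nat_lit 19), (nat_lit 1), (nat_lit 1)), ((nat_lit 30), (nat_lit 21), (nat_lit 1), (nat_lit 1)), ((nat_lit 31), (nat_lit 24), (nat_lit 1), (nat_lit 1)), ((nat_lit 48), (nat_lit 33), (nat_lit 1), (nat_lit 1)), ((nat_lit 50), (nat_lit 35), (nat_lit 1), (nat_lit 1)), ((nat_lit 51), (nat_lit 37), (nat_lit 1), (nat_lit 1)), ((nat_lit 52), (nat_lit 40), (nat_lit 1), (nat_lit 1)), ((nat_lit 62), (nat_lit 43), (nat_lit 1), (nat_lit 1)), ((nat_lit 64), (nat_lit 45), (nat_lit 1), (nat_lit 1)), ((nat_lit 67), (nat_lit 46), (nat_lit 1), (nat_lit 1)), ((nat_lit 71), (nat_lit 47), (nat_lit 1), (nat_lit 1)), ((nat_lit 78), (nat_lit 54), (nat_lit 1), (nat_lit 1)), ((nat_lit 79), (nat_lit 58), (nat_lit 1), (nat_lit 1)), ((nat_lit 80), (nat_lit 61), (nat_lit 1), (nat_lit 1)), ((nat_lit 82), (nat_lit 63), (nat_lit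 1), (nat_lit 1)), ((nat_lit 85), (nat_lit 73), (nat_lit 1), (nat_lit 1)), ((nat_lit 88), (nat_lit 74), (nat_lit 1), (nat_lit 1)), ((nat_lit 90), (nat_lit 75), (nat_lit 1), (nat_lit 1)), ((nat_lit 92), (nat_lit 77), (nat_lit 1), (nat_lit 1)), ((nat_lit 101), (nat_lit 94), (nat_lit 1), (nat_lit 1)), ((nat_lit 104), (nat_lit 95), (nat_lit 1), (nat_lit 1)), ((nat_lit 106), (nat_lit 96), (nat_lit 1), (nat_lit 1)), ((nat_lit 108), (nat_lit 98), (nat_lit 1), (nat_lit 1)), ((nat_lit 119), (nat_lit 109), (nat_lit 1), (nat_lit 1)), ((nat_lit 121), (nat_lit 111), (nat_lit 1), (nat_lit 1)), ((nat_lit 122), (nat_lit 113), (nat_lit 1), (nat_lit 1)), ((nat_lit 123), (nat_lit 116), (nat_lit 1), (nat_lit 1))]) (.leaf [((nat_lit 0), (nat_lit 16), (nat_lit 1), (nat_lit 1)), ((nat_lit 2), (nat_lit 38), (nat_lit 1), (nat_lit 1)), ((nat_lit 3), (nat_lit 41), (nat_lit 1), (nat_lit 1)), ((nat_lit 4), (nat_lit 42), (nat_lit 1),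 (nat_lit 1)), ((nat_lit 7), (nat_lit 50), (nat_lit 1), (nat_lit 1)), ((nat_lit 8), (nat_lit 51), (nat_lit 1), (nat_lit 1)), ((nat_lit 11), (nat_lit 52), (nat_lit 1), (nat_lit 1)), ((nat_lit 18), (nat_lit 64), (nat_lit 1), (nat_lit 1)), ((nat_lit 19), (nat_lit 65), (nat_lit 1), (nat_lit 1)), ((nat_lit 20), (nat_lit 67), (nat_lit 1), (nat_lit 1)), ((nat_lit 21), (nat_lit 68), (nat_lit 1), (nat_lit 1)), ((nat_lit 23), (nat_lit 71), (nat_lit 1), (nat_lit 1)), ((nat_lit 24), (nat_lit 72), (nat_lit 1), (nat_lit 1)), ((nat_lit 27), (nat_lit 81), (nat_lit 1), (nat_lit 1)), ((nat_lit 28), (nat_lit 82), (nat_lit 1), (nat_lit 1)), ((nat_lit 32), (nat_lit 92), (nat_lit 1), (nat_lit 1)), ((nat_lit 33), (nat_lit 93), (nat_lit 1), (nat_lit 1)), ((nat_lit 43), (nat_lit 97), (nat_lit 1), (nat_lit 1)), ((nat_lit 44), (nat_lit 98), (nat_lit 1), (nat_lit 1)), ((nat_lit 53), (nat_lit 101), (nat_lit 1), (nat_lit 1)), ((nat_lit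 54), (nat_lit 102), (nat_lit 1), (nat_lit 1)), ((nat_lit 57), (nat_lit 104), (nat_lit 1), (nat_lit 1)), ((nat_lit 58), (nat_lit 105), (nat_lit 1), (nat_lit 1)), ((nat_lit 60), (nat_lit 106), (nat_lit 1), (nat_lit 1)), ((nat_lit 61), (nat_lit 107), (nat_lit 1), (nat_lit 1)), ((nat_lit 73), (nat_lit 114), (nat_lit 1), (nat_lit 1)), ((nat_lit 74), (nat_lit 117), (nat_lit 1), (nat_lit 1)), ((nat_lit 75), (nat_lit 118), (nat_lit 1), (nat_lit 1)), ((nat_lit 83), (nat_lit 121), (nat_lit 1), (nat_lit 1)), ((nat_lit 84), (nat_lit 122), (nat_lit 1), (nat_lit 1)), ((nat_lit 87), (nat_lit 123), (nat_lit 1), (nat_lit 1)), ((nat_lit 109), (nat_lit 125), (nat_lit 1), (nat_lit 1))]))) (.node (.node (.leaf [((nat_lit 5), (nat_lit 0), (nat_lit 1), (nat_lit 1)), ((nat_lit 34), (nat_lit 7), (nat_lit 1), (nat_lit 1)), ((nat_lit 36), (nat_lit 8), (nat_lit 1), (nat_lit 1)), ((nat_lit 38), (nat_lit 10), (nat_lit 1), (nat_lit 1)),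 ((nat_lit 39), (nat_lit 11), (nat_lit 1), (nat_lit 1)), ((nat_lit 41), (nat_lit 13), (nat_lit 1), (nat_lit 1)), ((nat_lit 42), (nat_lit 15), (nat_lit 1), (nat_lit 1)), ((nat_lit 43), (nat_lit 17), (nat_lit 1), (nat_lit 1)), ((nat_lit 45), (nat_lit 19), (nat_lit 1), (nat_lit 1)), ((nat_lit 46), (nat_lit 21), (nat_lit 1), (nat_lit 1)), ((nat_lit 47), (nat_lit 24), (nat_lit 1), (nat_lit 1)), ((nat_lit 62), (nat_lit 27), (nat_lit 1), (nat_lit 1)), ((nat_lit 64), (nat_lit 29), (nat_lit 1), (nat_lit 1)), ((nat_lit 67), (nat_lit 30), (nat_lit 1), (nat_lit 1)), ((nat_lit 71), (nat_lit 31), (nat_lit 1), (nat_lit 1)), ((nat_lit 76), (nat_lit 32), (nat_lit 1), (nat_lit 1)), ((nat_lit 93), (nat_lit 49), (nat_lit 1), (nat_lit 1)), ((nat_lit 94), (nat_lit 54), (nat_lit 1), (nat_lit 1)), ((nat_lit 95), (nat_lit 58), (nat_lit 1), (nat_lit 1)), ((nat_lit 96), (nat_lit 61), (nat_lit 1), (nat_lit 1)), ((nat_lit 98), (nat_lit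 63), (nat_lit 1), (nat_lit 1)), ((nat_lit 101), (nat_lit 78), (nat_lit 1), (nat_lit 1)), ((nat_lit 104), (nat_lit 79), (nat_lit 1), (nat_lit 1)), ((nat_lit 106), (nat_lit 80), (nat_lit 1), (nat_lit 1)), ((nat_lit 108), (nat_lit 82), (nat_lit 1), (nat_lit 1)), ((nat_lit 110), (nat_lit 83), (nat_lit 1), (nat_lit 1)), ((nat_lit 112), (nat_lit 84), (nat_lit 1), (nat_lit 1)), ((nat_lit 114), (nat_lit 86), (nat_lit 1), (nat_lit 1)), ((nat_lit 115), (nat_lit 87), (nat_lit 1), (nat_lit 1)), ((nat_lit 117), (nat_lit 89), (nat_lit 1), (nat_lit 1)), ((nat_lit 118), (nat_lit 91), (nat_lit 1), (nat_lit 1)), ((nat_lit 125), (nat_lit 120), (nat_lit 1), (nat_lit 1))]) (.leaf [((nat_lit 1), (nat_lit 16), (nat_lit 1), (nat_lit 1)), ((nat_lit 2), (nat_lit 22), (nat_lit 1), (nat_lit 1)), ((nat_lit 3), (nat_lit 25), (nat_lit 1), (nat_lit 1)), ((nat_lit 4), (nat_lit 26), (nat_lit 1), (nat_lit 1)), ((nat_lit 7), (nat_lit 29),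 (nat_lit 1), (nat_lit 1)), ((nat_lit 8), (nat_lit 30), (nat_lit 1), (nat_lit 1)), ((nat_lit 11), (nat_lit 31), (nat_lit 1), (nat_lit 1)), ((nat_lit 17), (nat_lit 32), (nat_lit 1), (nat_lit 1)), ((nat_lit 34), (nat_lit 64), (nat_lit 1), (nat_lit 1)), ((nat_lit 35), (nat_lit 65), (nat_lit 1), (nat_lit 1)), ((nat_lit 36), (nat_lit 67), (nat_lit 1), (nat_lit 1)), ((nat_lit 37), (nat_lit 68), (nat_lit 1), (nat_lit 1)), ((nat_lit 39), (nat_lit 71), (nat_lit 1), (nat_lit 1)), ((nat_lit 40), (nat_lit 72), (nat_lit 1), (nat_lit 1)), ((nat_lit 43), (nat_lit 76), (nat_lit 1), (nat_lit 1)), ((nat_lit 44), (nat_lit 77), (nat_lit 1), (nat_lit 1)), ((nat_lit 48), (nat_lit 81), (nat_lit 1), (nat_lit 1)), ((nat_lit 49), (nat_lit 82), (nat_lit 1), (nat_lit 1)), ((nat_lit 53), (nat_lit 85), (nat_lit 1), (nat_lit 1)), ((nat_lit 54), (nat_lit 86), (nat_lit 1), (nat_lit 1)), ((nat_lit 57), (nat_lit 88), (nat_lit 1), (nat_lit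 1)), ((nat_lit 58), (nat_lit 89), (nat_lit 1), (nat_lit 1)), ((nat_lit 60), (nat_lit 90), (nat_lit 1), (nat_lit 1)), ((nat_lit 61), (nat_lit 91), (nat_lit 1), (nat_lit 1)), ((nat_lit 93), (nat_lit 108), (nat_lit 1), (nat_lit 1)), ((nat_lit 94), (nat_lit 114), (nat_lit 1), (nat_lit 1)), ((nat_lit 95), (nat_lit 117), (nat_lit 1), (nat_lit 1)), ((nat_lit 96), (nat_lit 118), (nat_lit 1), (nat_lit 1)), ((nat_lit 99), (nat_lit 121), (nat_lit 1), (nat_lit 1)), ((nat_lit 100), (nat_lit 122), (nat_lit 1), (nat_lit 1)), ((nat_lit 103), (nat_lit 123), (nat_lit 1), (nat_lit 1)), ((nat_lit 109), (nat_lit 124), (nat_lit 1), (nat_lit 1))])) (.node (.leaf [((nat_lit 6), (nat_lit 4), (nat_lit 1), (nat_lit 1)), ((nat_lit 10), (nat_lit 8), (nat_lit 1), (nat_lit 1)), ((nat_lit 13), (nat_lit 11), (nat_lit 1), (nat_lit 1)), ((nat_lit 16), (nat_lit 14), (nat_lit 1), (nat_lit 1)), ((nat_lit 19), (nat_lit 17), (nat_lit 1), (nat_lit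 1)), ((nat_lit 22), (nat_lit 20), (nat_lit 1), (nat_lit 1)), ((nat_lit 25), (nat_lit 23), (nat_lit 1), (nat_lit 1)), ((nat_lit 29), (nat_lit 27), (nat_lit 1), (nat_lit 1)), ((nat_lit 35), (nat_lit 33), (nat_lit 1), (nat_lit 1)), ((nat_lit 38), (nat_lit 36), (nat_lit 1), (nat_lit 1)), ((nat_lit 41), (nat_lit 39), (nat_lit 1), (nat_lit 1)), ((nat_lit 45), (nat_lit 43), (nat_lit 1), (nat_lit 1)), ((nat_lit 50), (nat_lit 48), (nat_lit 1), (nat_lit 1)), ((nat_lit 55), (nat_lit 53), (nat_lit 1), (nat_lit 1)), ((nat_lit 59), (nat_lit 57), (nat_lit 1), (nat_lit 1)), ((nat_lit 63), (nat_lit 61), (nat_lit 1), (nat_lit 1)), ((nat_lit 64), (nat_lit 62), (nat_lit 1), (nat_lit 1)), ((nat_lit 68), (nat_lit 66), (nat_lit 1), (nat_lit 1)), ((nat_lit 72), (nat_lit 70), (nat_lit 1), (nat_lit 1)), ((nat_lit 77), (nat_lit 75), (nat_lit 1), (nat_lit 1)), ((nat_lit 82), (nat_lit 80), (nat_lit 1), (nat_lit 1)), ((nat_lit 86), (nat_lit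 84), (nat_lit 1), (nat_lit 1)), ((nat_lit 89), (nat_lit 87), (nat_lit 1), (nat_lit 1)), ((nat_lit 92), (nat_lit 90), (nat_lit 1), (nat_lit 1)), ((nat_lit 98), (nat_lit 96), (nat_lit 1), (nat_lit 1)), ((nat_lit 102), (nat_lit 100), (nat_lit 1), (nat_lit 1)), ((nat_lit 105), (nat_lit 103), (nat_lit 1), (nat_lit 1)), ((nat_lit 108), (nat_lit 106), (nat_lit 1), (nat_lit 1)), ((nat_lit 111), (nat_lit 109), (nat_lit 1), (nat_lit 1)), ((nat_lit 114), (nat_lit 112), (nat_lit 1), (nat_lit 1)), ((nat_lit 117), (nat_lit 115), (nat_lit 1), (nat_lit 1)), ((nat_lit 121), (nat_lit 119), (nat_lit 1), (nat_lit 1))]) (.leaf [((nat_lit 0), (nat_lit 32), (nat_lit 1), (nat_lit 1)), ((nat_lit 2), (nat_lit 73), (nat_lit 1), (nat_lit 1)), ((nat_lit 3), (nat_lit 74), (nat_lit 1), (nat_lit 1)), ((nat_lit 4), (nat_lit 75), (nat_lit 1), (nat_lit 1)), ((nat_lit 5), (nat_lit 76), (nat_lit 1), (nat_lit 1)), ((nat_lit 6), (nat_lit 77),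 (nat_lit 1), (nat_lit 1)), ((nat_lit 7), (nat_lit 83), (nat_lit 1), (nat_lit 1)), ((nat_lit 8), (nat_lit 84), (nat_lit 1), (nat_lit 1)), ((nat_lit 9), (nat_lit 85), (nat_lit 1), (nat_lit 1)), ((nat_lit 10), (nat_lit 86), (nat_lit 1), (nat_lit 1)), ((nat_lit 11), (nat_lit 87), (nat_lit 1), (nat_lit 1)), ((nat_lit 12), (nat_lit 88), (nat_lit 1), (nat_lit 1)), ((nat_lit 13), (nat_lit 89), (nat_lit 1), (nat_lit 1)), ((nat_lit 14), (nat_lit 90), (nat_lit 1), (nat_lit 1)), ((nat_lit 15), (nat_lit 91), (nat_lit 1), (nat_lit 1)), ((nat_lit 16), (nat_lit 92), (nat_lit 1), (nat_lit 1)), ((nat_lit 33), (nat_lit 109), (nat_lit 1), (nat_lit 1)), ((nat_lit 34), (nat_lit 110), (nat_lit 1), (nat_lit 1)), ((nat_lit 35), (nat_lit 111), (nat_lit 1), (nat_lit 1)), ((nat_lit 36), (nat_lit 112), (nat_lit 1), (nat_lit 1)), ((nat_lit 37), (nat_lit 113), (nat_lit 1), (nat_lit 1)), ((nat_lit 38), (nat_lit 114), (nat_lit 1), (nat_lit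 1)), ((nat_lit 39), (nat_lit 115), (nat_lit 1), (nat_lit 1)), ((nat_lit 40), (nat_lit 116), (nat_lit 1), (nat_lit 1)), ((nat_lit 41), (nat_lit 117), (nat_lit 1), (nat_lit 1)), ((nat_lit 42), (nat_lit 118), (nat_lit 1), (nat_lit 1)), ((nat_lit 48), (nat_lit 119), (nat_lit 1), (nat_lit 1)), ((nat_lit 49), (nat_lit 120), (nat_lit 1), (nat_lit 1)), ((nat_lit 50), (nat_lit 121), (nat_lit 1), (nat_lit 1)), ((nat_lit 51), (nat_lit 122), (nat_lit 1), (nat_lit 1)), ((nat_lit 52), (nat_lit 123), (nat_lit 1), (nat_lit 1)), ((nat_lit 93), (nat_lit 125), (nat_lit 1), (nat_lit 1))]))))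

def rows2 : Tr (List Entry) :=
  .node (.node (.node (.node (.leaf [((nat_lit 31), (nat_lit 0), (nat_lit 1), (nat_lit 1)), ((nat_lit 52), (nat_lit 1), (nat_lit 1), (nat_lit 1)), ((nat_lit 69), (nat_lit 3), (nat_lit 1), (nat_lit 1)), ((nat_lit 70), (nat_lit 4), (nat_lit 1), (nat_lit 1)), ((nat_lit 71), (nat_lit 5), (nat_lit 1), (nat_lit 1)), ((nat_lit 72), (nat_lit 6), (nat_lit 1), (nat_lit 1)), ((nat_lit 79), (nat_lit 7), (nat_lit 1), (nat_lit 1)), ((nat_lit 80), (nat_lit 8), (nat_lit 1), (nat_lit 1)), ((nat_lit 81), (nat_lit 9), (nat_lit 1), (nat_lit 1)), ((nat_lit 82), (nat_lit 10), (nat_lit 1), (nat_lit 1)), ((nat_lit 87), (nat_lit 17), (nat_lit 1), (nat_lit 1)), ((nat_lit 88), (nat_lit 18), (nat_lit 1), (nat_lit 1)), ((nat_lit 89), (nat_lit 19), (nat_lit 1), (nat_lit 1)), ((nat_lit 90), (nat_lit 20), (nat_lit 1), (nat_lit 1)), ((nat_lit 91), (nat_lit 21), (nat_lit 1), (nat_lit 1)), ((nat_lit 92), (nat_lit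 22), (nat_lit 1), (nat_lit 1)), ((nat_lit 103), (nat_lit 33), (nat_lit 1), (nat_lit 1)), ((nat_lit 104), (nat_lit 34), (nat_lit 1), (nat_lit 1)), ((nat_lit 105), (nat_lit 35), (nat_lit 1), (nat_lit 1)), ((nat_lit 106), (nat_lit 36), (nat_lit 1), (nat_lit 1)), ((nat_lit 107), (nat_lit 37), (nat_lit 1), (nat_lit 1)), ((nat_lit 108), (nat_lit 38), (nat_lit 1), (nat_lit 1)), ((nat_lit 115), (nat_lit 43), (nat_lit 1), (nat_lit 1)), ((nat_lit 116), (nat_lit 44), (nat_lit 1), (nat_lit 1)), ((nat_lit 117), (nat_lit 45), (nat_lit 1), (nat_lit 1)), ((nat_lit 118), (nat_lit 46), (nat_lit 1), (nat_lit 1)), ((nat_lit 119), (nat_lit 53), (nat_lit 1), (nat_lit 1)), ((nat_lit 120), (nat_lit 54), (nat_lit 1), (nat_lit 1)), ((nat_lit 121), (nat_lit 55), (nat_lit 1), (nat_lit 1)), ((nat_lit 122), (nat_lit 56), (nat_lit 1), (nat_lit 1)), ((nat_lit 124), (nat_lit 73), (nat_lit 1), (nat_lit 1)), ((nat_lit 125), (nat_lit 94),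 (nat_lit 1), (nat_lit 1))]) (.leaf [((nat_lit 3), (nat_lit 4), (nat_lit 1), (nat_lit 1)), ((nat_lit 7), (nat_lit 8), (nat_lit 1), (nat_lit 1)), ((nat_lit 12), (nat_lit 14), (nat_lit 1), (nat_lit 1)), ((nat_lit 13), (nat_lit 15), (nat_lit 1), (nat_lit 1)), ((nat_lit 18), (nat_lit 20), (nat_lit 1), (nat_lit 1)), ((nat_lit 19), (nat_lit 21), (nat_lit 1), (nat_lit 1)), ((nat_lit 25), (nat_lit 26), (nat_lit 1), (nat_lit 1)), ((nat_lit 29), (nat_lit 30), (nat_lit 1), (nat_lit 1)), ((nat_lit 34), (nat_lit 36), (nat_lit 1), (nat_lit 1)), ((nat_lit 35), (nat_lit 37), (nat_lit 1), (nat_lit 1)), ((nat_lit 41), (nat_lit 42), (nat_lit 1), (nat_lit 1)), ((nat_lit 45), (nat_lit 46), (nat_lit 1), (nat_lit 1)), ((nat_lit 50), (nat_lit 51), (nat_lit 1), (nat_lit 1)), ((nat_lit 55), (nat_lit 56), (nat_lit 1), (nat_lit 1)), ((nat_lit 57), (nat_lit 60), (nat_lit 1), (nat_lit 1)), ((nat_lit 58), (nat_lit 61), (nat_lit 1), (nat_lit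 1)), ((nat_lit 64), (nat_lit 67), (nat_lit 1), (nat_lit 1)), ((nat_lit 65), (nat_lit 68), (nat_lit 1), (nat_lit 1)), ((nat_lit 69), (nat_lit 70), (nat_lit 1), (nat_lit 1)), ((nat_lit 74), (nat_lit 75), (nat_lit 1), (nat_lit 1)), ((nat_lit 79), (nat_lit 80), (nat_lit 1), (nat_lit 1)), ((nat_lit 83), (nat_lit 84), (nat_lit 1), (nat_lit 1)), ((nat_lit 88), (nat_lit 90), (nat_lit 1), (nat_lit 1)), ((nat_lit 89), (nat_lit 91), (nat_lit 1), (nat_lit 1)), ((nat_lit 95), (nat_lit 96), (nat_lit 1), (nat_lit 1)), ((nat_lit 99), (nat_lit 100), (nat_lit 1), (nat_lit 1)), ((nat_lit 104), (nat_lit 106), (nat_lit 1), (nat_lit 1)), ((nat_lit 105), (nat_lit 107), (nat_lit 1), (nat_lit 1)), ((nat_lit 110), (nat_lit 112), (nat_lit 1), (nat_lit 1)), ((nat_lit 111), (nat_lit 113), (nat_lit 1), (nat_lit 1)), ((nat_lit 117), (nat_lit 118), (nat_lit 1), (nat_lit 1)), ((nat_lit 121), (nat_lit 122), (nat_lit 1), (nat_lit 1))])) (.node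 (.leaf [((nat_lit 15), (nat_lit 1), (nat_lit 1), (nat_lit 1)), ((nat_lit 21), (nat_lit 2), (nat_lit 1), (nat_lit 1)), ((nat_lit 24), (nat_lit 3), (nat_lit 1), (nat_lit 1)), ((nat_lit 26), (nat_lit 5), (nat_lit 1), (nat_lit 1)), ((nat_lit 28), (nat_lit 7), (nat_lit 1), (nat_lit 1)), ((nat_lit 30), (nat_lit 9), (nat_lit 1), (nat_lit 1)), ((nat_lit 31), (nat_lit 12), (nat_lit 1), (nat_lit 1)), ((nat_lit 32), (nat_lit 18), (nat_lit 1), (nat_lit 1)), ((nat_lit 61), (nat_lit 33), (nat_lit 1), (nat_lit 1)), ((nat_lit 63), (nat_lit 35), (nat_lit 1), (nat_lit 1)), ((nat_lit 66), (nat_lit 36), (nat_lit 1), (nat_lit 1)), ((nat_lit 68), (nat_lit 38), (nat_lit 1), (nat_lit 1)), ((nat_lit 70), (nat_lit 39), (nat_lit 1), (nat_lit 1)), ((nat_lit 72), (nat_lit 41), (nat_lit 1), (nat_lit 1)), ((nat_lit 75), (nat_lit 43), (nat_lit 1), (nat_lit 1)), ((nat_lit 77), (nat_lit 45), (nat_lit 1), (nat_lit 1)), ((nat_lit 80), (nat_lit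 48), (nat_lit 1), (nat_lit 1)), ((nat_lit 82), (nat_lit 50), (nat_lit 1), (nat_lit 1)), ((nat_lit 84), (nat_lit 53), (nat_lit 1), (nat_lit 1)), ((nat_lit 86), (nat_lit 55), (nat_lit 1), (nat_lit 1)), ((nat_lit 87), (nat_lit 57), (nat_lit 1), (nat_lit 1)), ((nat_lit 89), (nat_lit 59), (nat_lit 1), (nat_lit 1)), ((nat_lit 90), (nat_lit 62), (nat_lit 1), (nat_lit 1)), ((nat_lit 92), (nat_lit 64), (nat_lit 1), (nat_lit 1)), ((nat_lit 107), (nat_lit 93), (nat_lit 1), (nat_lit 1)), ((nat_lit 113), (nat_lit 94), (nat_lit 1), (nat_lit 1)), ((nat_lit 116), (nat_lit 95), (nat_lit 1), (nat_lit 1)), ((nat_lit 118), (nat_lit 97), (nat_lit 1), (nat_lit 1)), ((nat_lit 120), (nat_lit 99), (nat_lit 1), (nat_lit 1)), ((nat_lit 122), (nat_lit 101), (nat_lit 1), (nat_lit 1)), ((nat_lit 123), (nat_lit 104), (nat_lit 1), (nat_lit 1)), ((nat_lit 124), (nat_lit 110), (nat_lit 1), (nat_lit 1))]) (.leaf [((nat_lit 0), (nat_lit 6),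 (nat_lit 1), (nat_lit 1)), ((nat_lit 7), (nat_lit 35), (nat_lit 1), (nat_lit 1)), ((nat_lit 8), (nat_lit 37), (nat_lit 1), (nat_lit 1)), ((nat_lit 9), (nat_lit 38), (nat_lit 1), (nat_lit 1)), ((nat_lit 11), (nat_lit 40), (nat_lit 1), (nat_lit 1)), ((nat_lit 12), (nat_lit 41), (nat_lit 1), (nat_lit 1)), ((nat_lit 14), (nat_lit 42), (nat_lit 1), (nat_lit 1)), ((nat_lit 17), (nat_lit 44), (nat_lit 1), (nat_lit 1)), ((nat_lit 18), (nat_lit 45), (nat_lit 1), (nat_lit 1)), ((nat_lit 20), (nat_lit 46), (nat_lit 1), (nat_lit 1)), ((nat_lit 23), (nat_lit 47), (nat_lit 1), (nat_lit 1)), ((nat_lit 28), (nat_lit 63), (nat_lit 1), (nat_lit 1)), ((nat_lit 29), (nat_lit 65), (nat_lit 1), (nat_lit 1)), ((nat_lit 30), (nat_lit 68), (nat_lit 1), (nat_lit 1)), ((nat_lit 31), (nat_lit 72), (nat_lit 1), (nat_lit 1)), ((nat_lit 32), (nat_lit 77), (nat_lit 1), (nat_lit 1)), ((nat_lit 48), (nat_lit 93), (nat_lit 1), (nat_lit 1)),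 ((nat_lit 53), (nat_lit 94), (nat_lit 1), (nat_lit 1)), ((nat_lit 57), (nat_lit 95), (nat_lit 1), (nat_lit 1)), ((nat_lit 60), (nat_lit 96), (nat_lit 1), (nat_lit 1)), ((nat_lit 62), (nat_lit 97), (nat_lit 1), (nat_lit 1)), ((nat_lit 78), (nat_lit 102), (nat_lit 1), (nat_lit 1)), ((nat_lit 79), (nat_lit 105), (nat_lit 1), (nat_lit 1)), ((nat_lit 80), (nat_lit 107), (nat_lit 1), (nat_lit 1)), ((nat_lit 81), (nat_lit 108), (nat_lit 1), (nat_lit 1)), ((nat_lit 83), (nat_lit 111), (nat_lit 1), (nat_lit 1)), ((nat_lit 84), (nat_lit 113), (nat_lit 1), (nat_lit 1)), ((nat_lit 85), (nat_lit 114), (nat_lit 1), (nat_lit 1)), ((nat_lit 87), (nat_lit 116), (nat_lit 1), (nat_lit 1)), ((nat_lit 88), (nat_lit 117), (nat_lit 1), (nat_lit 1)), ((nat_lit 90), (nat_lit 118), (nat_lit 1), (nat_lit 1)), ((nat_lit 119), (nat_lit 125), (nat_lit 1), (nat_lit 1))]))) (.node (.node (.leaf [((nat_lit 15), (nat_lit 0), (nat_lit 1),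 (nat_lit 1)), ((nat_lit 37), (nat_lit 2), (nat_lit 1), (nat_lit 1)), ((nat_lit 40), (nat_lit 3), (nat_lit 1), (nat_lit 1)), ((nat_lit 42), (nat_lit 5), (nat_lit 1), (nat_lit 1)), ((nat_lit 49), (nat_lit 7), (nat_lit 1), (nat_lit 1)), ((nat_lit 51), (nat_lit 9), (nat_lit 1), (nat_lit 1)), ((nat_lit 52), (nat_lit 12), (nat_lit 1), (nat_lit 1)), ((nat_lit 61), (nat_lit 17), (nat_lit 1), (nat_lit 1)), ((nat_lit 63), (nat_lit 19), (nat_lit 1), (nat_lit 1)), ((nat_lit 66), (nat_lit 20), (nat_lit 1), (nat_lit 1)), ((nat_lit 68), (nat_lit 22), (nat_lit 1), (nat_lit 1)), ((nat_lit 70), (nat_lit 23), (nat_lit 1), (nat_lit 1)), ((nat_lit 72), (nat_lit 25), (nat_lit 1), (nat_lit 1)), ((nat_lit 80), (nat_lit 27), (nat_lit 1), (nat_lit 1)), ((nat_lit 82), (nat_lit 29), (nat_lit 1), (nat_lit 1)), ((nat_lit 91), (nat_lit 32), (nat_lit 1), (nat_lit 1)), ((nat_lit 93), (nat_lit 34), (nat_lit 1), (nat_lit 1)), ((nat_lit 96),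 (nat_lit 43), (nat_lit 1), (nat_lit 1)), ((nat_lit 98), (nat_lit 45), (nat_lit 1), (nat_lit 1)), ((nat_lit 100), (nat_lit 53), (nat_lit 1), (nat_lit 1)), ((nat_lit 102), (nat_lit 55), (nat_lit 1), (nat_lit 1)), ((nat_lit 103), (nat_lit 57), (nat_lit 1), (nat_lit 1)), ((nat_lit 105), (nat_lit 59), (nat_lit 1), (nat_lit 1)), ((nat_lit 106), (nat_lit 62), (nat_lit 1), (nat_lit 1)), ((nat_lit 108), (nat_lit 64), (nat_lit 1), (nat_lit 1)), ((nat_lit 113), (nat_lit 73), (nat_lit 1), (nat_lit 1)), ((nat_lit 116), (nat_lit 74), (nat_lit 1), (nat_lit 1)), ((nat_lit 118), (nat_lit 76), (nat_lit 1), (nat_lit 1)), ((nat_lit 120), (nat_lit 83), (nat_lit 1), (nat_lit 1)), ((nat_lit 122), (nat_lit 85), (nat_lit 1), (nat_lit 1)), ((nat_lit 123), (nat_lit 88), (nat_lit 1), (nat_lit 1)), ((nat_lit 125), (nat_lit 110), (nat_lit 1), (nat_lit 1))]) (.leaf [((nat_lit 2), (nat_lit 10), (nat_lit 1), (nat_lit 1)), ((nat_lit 3),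 (nat_lit 13), (nat_lit 1), (nat_lit 1)), ((nat_lit 4), (nat_lit 15), (nat_lit 1), (nat_lit 1)), ((nat_lit 5), (nat_lit 16), (nat_lit 1), (nat_lit 1)), ((nat_lit 17), (nat_lit 28), (nat_lit 1), (nat_lit 1)), ((nat_lit 18), (nat_lit 29), (nat_lit 1), (nat_lit 1)), ((nat_lit 20), (nat_lit 30), (nat_lit 1), (nat_lit 1)), ((nat_lit 23), (nat_lit 31), (nat_lit 1), (nat_lit 1)), ((nat_lit 33), (nat_lit 49), (nat_lit 1), (nat_lit 1)), ((nat_lit 34), (nat_lit 50), (nat_lit 1), (nat_lit 1)), ((nat_lit 36), (nat_lit 51), (nat_lit 1), (nat_lit 1)), ((nat_lit 39), (nat_lit 52), (nat_lit 1), (nat_lit 1)), ((nat_lit 44), (nat_lit 63), (nat_lit 1), (nat_lit 1)), ((nat_lit 45), (nat_lit 65), (nat_lit 1), (nat_lit 1)), ((nat_lit 46), (nat_lit 68), (nat_lit 1), (nat_lit 1)), ((nat_lit 47), (nat_lit 72), (nat_lit 1), (nat_lit 1)), ((nat_lit 53), (nat_lit 78), (nat_lit 1), (nat_lit 1)), ((nat_lit 57), (nat_lit 79), (nat_lit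 1), (nat_lit 1)), ((nat_lit 60), (nat_lit 80), (nat_lit 1), (nat_lit 1)), ((nat_lit 62), (nat_lit 81), (nat_lit 1), (nat_lit 1)), ((nat_lit 73), (nat_lit 86), (nat_lit 1), (nat_lit 1)), ((nat_lit 74), (nat_lit 89), (nat_lit 1), (nat_lit 1)), ((nat_lit 75), (nat_lit 91), (nat_lit 1), (nat_lit 1)), ((nat_lit 76), (nat_lit 92), (nat_lit 1), (nat_lit 1)), ((nat_lit 94), (nat_lit 102), (nat_lit 1), (nat_lit 1)), ((nat_lit 95), (nat_lit 105), (nat_lit 1), (nat_lit 1)), ((nat_lit 96), (nat_lit 107), (nat_lit 1), (nat_lit 1)), ((nat_lit 97), (nat_lit 108), (nat_lit 1), (nat_lit 1)), ((nat_lit 109), (nat_lit 120), (nat_lit 1), (nat_lit 1)), ((nat_lit 110), (nat_lit 121), (nat_lit 1), (nat_lit 1)), ((nat_lit 112), (nat_lit 122), (nat_lit 1), (nat_lit 1)), ((nat_lit 115), (nat_lit 123), (nat_lit 1), (nat_lit 1))])) (.node (.leaf [((nat_lit 4), (nat_lit 1), (nat_lit 1), (nat_lit 1)), ((nat_lit 17), (nat_lit 7), (nat_lit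 1), (nat_lit 1)), ((nat_lit 20), (nat_lit 9), (nat_lit 1), (nat_lit 1)), ((nat_lit 21), (nat_lit 10), (nat_lit 1), (nat_lit 1)), ((nat_lit 23), (nat_lit 12), (nat_lit 1), (nat_lit 1)), ((nat_lit 24), (nat_lit 13), (nat_lit 1), (nat_lit 1)), ((nat_lit 26), (nat_lit 16), (nat_lit 1), (nat_lit 1)), ((nat_lit 32), (nat_lit 29), (nat_lit 1), (nat_lit 1)), ((nat_lit 43), (nat_lit 34), (nat_lit 1), (nat_lit 1)), ((nat_lit 44), (nat_lit 35), (nat_lit 1), (nat_lit 1)), ((nat_lit 46), (nat_lit 38), (nat_lit 1), (nat_lit 1)), ((nat_lit 47), (nat_lit 41), (nat_lit 1), (nat_lit 1)), ((nat_lit 60), (nat_lit 48), (nat_lit 1), (nat_lit 1)), ((nat_lit 61), (nat_lit 49), (nat_lit 1), (nat_lit 1)), ((nat_lit 66), (nat_lit 51), (nat_lit 1), (nat_lit 1)), ((nat_lit 70), (nat_lit 52), (nat_lit 1), (nat_lit 1)), ((nat_lit 73), (nat_lit 55), (nat_lit 1), (nat_lit 1)), ((nat_lit 74), (nat_lit 59), (nat_lit 1), (nat_lit 1)), ((nat_lit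 76), (nat_lit 64), (nat_lit 1), (nat_lit 1)), ((nat_lit 77), (nat_lit 65), (nat_lit 1), (nat_lit 1)), ((nat_lit 84), (nat_lit 78), (nat_lit 1), (nat_lit 1)), ((nat_lit 87), (nat_lit 79), (nat_lit 1), (nat_lit 1)), ((nat_lit 90), (nat_lit 81), (nat_lit 1), (nat_lit 1)), ((nat_lit 91), (nat_lit 82), (nat_lit 1), (nat_lit 1)), ((nat_lit 96), (nat_lit 93), (nat_lit 1), (nat_lit 1)), ((nat_lit 109), (nat_lit 99), (nat_lit 1), (nat_lit 1)), ((nat_lit 112), (nat_lit 101), (nat_lit 1), (nat_lit 1)), ((nat_lit 113), (nat_lit 102), (nat_lit 1), (nat_lit 1)), ((nat_lit 115), (nat_lit 104), (nat_lit 1), (nat_lit 1)), ((nat_lit 116), (nat_lit 105), (nat_lit 1), (nat_lit 1)), ((nat_lit 118), (nat_lit 108), (nat_lit 1), (nat_lit 1)), ((nat_lit 124), (nat_lit 121), (nat_lit 1), (nat_lit 1))]) (.leaf [((nat_lit 0), (nat_lit 22), (nat_lit 1), (nat_lit 1)), ((nat_lit 1), (nat_lit 38), (nat_lit 1), (nat_lit 1)), ((nat_lit 3),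 (nat_lit 45), (nat_lit 1), (nat_lit 1)), ((nat_lit 4), (nat_lit 46), (nat_lit 1), (nat_lit 1)), ((nat_lit 7), (nat_lit 55), (nat_lit 1), (nat_lit 1)), ((nat_lit 8), (nat_lit 56), (nat_lit 1), (nat_lit 1)), ((nat_lit 12), (nat_lit 64), (nat_lit 1), (nat_lit 1)), ((nat_lit 13), (nat_lit 65), (nat_lit 1), (nat_lit 1)), ((nat_lit 14), (nat_lit 67), (nat_lit 1), (nat_lit 1)), ((nat_lit 15), (nat_lit 68), (nat_lit 1), (nat_lit 1)), ((nat_lit 17), (nat_lit 73), (nat_lit 1), (nat_lit 1)), ((nat_lit 23), (nat_lit 76), (nat_lit 1), (nat_lit 1)), ((nat_lit 24), (nat_lit 77), (nat_lit 1), (nat_lit 1)), ((nat_lit 27), (nat_lit 85), (nat_lit 1), (nat_lit 1)), ((nat_lit 28), (nat_lit 86), (nat_lit 1), (nat_lit 1)), ((nat_lit 31), (nat_lit 92), (nat_lit 1), (nat_lit 1)), ((nat_lit 33), (nat_lit 94), (nat_lit 1), (nat_lit 1)), ((nat_lit 39), (nat_lit 97), (nat_lit 1), (nat_lit 1)), ((nat_lit 40), (nat_lit 98), (nat_lit 1),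 (nat_lit 1)), ((nat_lit 48), (nat_lit 101), (nat_lit 1), (nat_lit 1)), ((nat_lit 49), (nat_lit 102), (nat_lit 1), (nat_lit 1)), ((nat_lit 52), (nat_lit 108), (nat_lit 1), (nat_lit 1)), ((nat_lit 57), (nat_lit 110), (nat_lit 1), (nat_lit 1)), ((nat_lit 58), (nat_lit 111), (nat_lit 1), (nat_lit 1)), ((nat_lit 60), (nat_lit 112), (nat_lit 1), (nat_lit 1)), ((nat_lit 61), (nat_lit 113), (nat_lit 1), (nat_lit 1)), ((nat_lit 69), (nat_lit 117), (nat_lit 1), (nat_lit 1)), ((nat_lit 70), (nat_lit 118), (nat_lit 1), (nat_lit 1)), ((nat_lit 79), (nat_lit 121), (nat_lit 1), (nat_lit 1)), ((nat_lit 80), (nat_lit 122), (nat_lit 1), (nat_lit 1)), ((nat_lit 87), (nat_lit 124), (nat_lit 1), (nat_lit 1)), ((nat_lit 103), (nat_lit 125), (nat_lit 1), (nat_lit 1))])))) (.node (.node (.node (.leaf [((nat_lit 23), (nat_lit 0), (nat_lit 1), (nat_lit 1)), ((nat_lit 39), (nat_lit 1), (nat_lit 1), (nat_lit 1)), ((nat_lit 43), (nat_lit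 2), (nat_lit 1), (nat_lit 1)), ((nat_lit 47), (nat_lit 6), (nat_lit 1), (nat_lit 1)), ((nat_lit 57), (nat_lit 7), (nat_lit 1), (nat_lit 1)), ((nat_lit 60), (nat_lit 8), (nat_lit 1), (nat_lit 1)), ((nat_lit 62), (nat_lit 9), (nat_lit 1), (nat_lit 1)), ((nat_lit 69), (nat_lit 13), (nat_lit 1), (nat_lit 1)), ((nat_lit 70), (nat_lit 15), (nat_lit 1), (nat_lit 1)), ((nat_lit 71), (nat_lit 16), (nat_lit 1), (nat_lit 1)), ((nat_lit 74), (nat_lit 19), (nat_lit 1), (nat_lit 1)), ((nat_lit 75), (nat_lit 21), (nat_lit 1), (nat_lit 1)), ((nat_lit 76), (nat_lit 22), (nat_lit 1), (nat_lit 1)), ((nat_lit 87), (nat_lit 28), (nat_lit 1), (nat_lit 1)), ((nat_lit 88), (nat_lit 29), (nat_lit 1), (nat_lit 1)), ((nat_lit 90), (nat_lit 30), (nat_lit 1), (nat_lit 1)), ((nat_lit 95), (nat_lit 35), (nat_lit 1), (nat_lit 1)), ((nat_lit 96), (nat_lit 37), (nat_lit 1), (nat_lit 1)), ((nat_lit 97), (nat_lit 38), (nat_lit 1), (nat_lit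 1)), ((nat_lit 103), (nat_lit 49), (nat_lit 1), (nat_lit 1)), ((nat_lit 104), (nat_lit 50), (nat_lit 1), (nat_lit 1)), ((nat_lit 106), (nat_lit 51), (nat_lit 1), (nat_lit 1)), ((nat_lit 109), (nat_lit 54), (nat_lit 1), (nat_lit 1)), ((nat_lit 110), (nat_lit 55), (nat_lit 1), (nat_lit 1)), ((nat_lit 112), (nat_lit 56), (nat_lit 1), (nat_lit 1)), ((nat_lit 116), (nat_lit 63), (nat_lit 1), (nat_lit 1)), ((nat_lit 117), (nat_lit 65), (nat_lit 1), (nat_lit 1)), ((nat_lit 118), (nat_lit 68), (nat_lit 1), (nat_lit 1)), ((nat_lit 119), (nat_lit 78), (nat_lit 1), (nat_lit 1)), ((nat_lit 123), (nat_lit 82), (nat_lit 1), (nat_lit 1)), ((nat_lit 124), (nat_lit 86), (nat_lit 1), (nat_lit 1)), ((nat_lit 125), (nat_lit 102), (nat_lit 1), (nat_lit 1))]) (.leaf [((nat_lit 1), (nat_lit 3), (nat_lit 1), (nat_lit 1)), ((nat_lit 8), (nat_lit 17), (nat_lit 1), (nat_lit 1)), ((nat_lit 9), (nat_lit 18), (nat_lit 1), (nat_lit 1)),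 ((nat_lit 10), (nat_lit 19), (nat_lit 1), (nat_lit 1)), ((nat_lit 14), (nat_lit 23), (nat_lit 1), (nat_lit 1)), ((nat_lit 15), (nat_lit 24), (nat_lit 1), (nat_lit 1)), ((nat_lit 16), (nat_lit 25), (nat_lit 1), (nat_lit 1)), ((nat_lit 30), (nat_lit 32), (nat_lit 1), (nat_lit 1)), ((nat_lit 36), (nat_lit 43), (nat_lit 1), (nat_lit 1)), ((nat_lit 37), (nat_lit 44), (nat_lit 1), (nat_lit 1)), ((nat_lit 38), (nat_lit 45), (nat_lit 1), (nat_lit 1)), ((nat_lit 42), (nat_lit 47), (nat_lit 1), (nat_lit 1)), ((nat_lit 48), (nat_lit 57), (nat_lit 1), (nat_lit 1)), ((nat_lit 49), (nat_lit 58), (nat_lit 1), (nat_lit 1)), ((nat_lit 50), (nat_lit 59), (nat_lit 1), (nat_lit 1)), ((nat_lit 52), (nat_lit 69), (nat_lit 1), (nat_lit 1)), ((nat_lit 56), (nat_lit 73), (nat_lit 1), (nat_lit 1)), ((nat_lit 66), (nat_lit 75), (nat_lit 1), (nat_lit 1)), ((nat_lit 67), (nat_lit 76), (nat_lit 1), (nat_lit 1)), ((nat_lit 68), (nat_lit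 77), (nat_lit 1), (nat_lit 1)), ((nat_lit 78), (nat_lit 83), (nat_lit 1), (nat_lit 1)), ((nat_lit 80), (nat_lit 87), (nat_lit 1), (nat_lit 1)), ((nat_lit 81), (nat_lit 88), (nat_lit 1), (nat_lit 1)), ((nat_lit 82), (nat_lit 89), (nat_lit 1), (nat_lit 1)), ((nat_lit 93), (nat_lit 95), (nat_lit 1), (nat_lit 1)), ((nat_lit 100), (nat_lit 109), (nat_lit 1), (nat_lit 1)), ((nat_lit 101), (nat_lit 110), (nat_lit 1), (nat_lit 1)), ((nat_lit 102), (nat_lit 111), (nat_lit 1), (nat_lit 1)), ((nat_lit 106), (nat_lit 115), (nat_lit 1), (nat_lit 1)), ((nat_lit 107), (nat_lit 116), (nat_lit 1), (nat_lit 1)), ((nat_lit 108), (nat_lit 117), (nat_lit 1), (nat_lit 1)), ((nat_lit 122), (nat_lit 124), (nat_lit 1), (nat_lit 1))])) (.node (.leaf [((nat_lit 7), (nat_lit 1), (nat_lit 1), (nat_lit 1)), ((nat_lit 17), (nat_lit 4), (nat_lit 1), (nat_lit 1)), ((nat_lit 18), (nat_lit 5), (nat_lit 1), (nat_lit 1)), ((nat_lit 19), (nat_lit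 6), (nat_lit 1), (nat_lit 1)), ((nat_lit 27), (nat_lit 14), (nat_lit 1), (nat_lit 1)), ((nat_lit 28), (nat_lit 15), (nat_lit 1), (nat_lit 1)), ((nat_lit 29), (nat_lit 16), (nat_lit 1), (nat_lit 1)), ((nat_lit 32), (nat_lit 26), (nat_lit 1), (nat_lit 1)), ((nat_lit 53), (nat_lit 36), (nat_lit 1), (nat_lit 1)), ((nat_lit 54), (nat_lit 37), (nat_lit 1), (nat_lit 1)), ((nat_lit 55), (nat_lit 38), (nat_lit 1), (nat_lit 1)), ((nat_lit 57), (nat_lit 39), (nat_lit 1), (nat_lit 1)), ((nat_lit 58), (nat_lit 40), (nat_lit 1), (nat_lit 1)), ((nat_lit 59), (nat_lit 41), (nat_lit 1), (nat_lit 1)), ((nat_lit 73), (nat_lit 46), (nat_lit 1), (nat_lit 1)), ((nat_lit 74), (nat_lit 47), (nat_lit 1), (nat_lit 1)), ((nat_lit 78), (nat_lit 51), (nat_lit 1), (nat_lit 1)), ((nat_lit 79), (nat_lit 52), (nat_lit 1), (nat_lit 1)), ((nat_lit 84), (nat_lit 66), (nat_lit 1), (nat_lit 1)), ((nat_lit 85), (nat_lit 67), (nat_lit 1), (nat_lit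 1)), ((nat_lit 86), (nat_lit 68), (nat_lit 1), (nat_lit 1)), ((nat_lit 87), (nat_lit 70), (nat_lit 1), (nat_lit 1)), ((nat_lit 88), (nat_lit 71), (nat_lit 1), (nat_lit 1)), ((nat_lit 89), (nat_lit 72), (nat_lit 1), (nat_lit 1)), ((nat_lit 99), (nat_lit 93), (nat_lit 1), (nat_lit 1)), ((nat_lit 109), (nat_lit 96), (nat_lit 1), (nat_lit 1)), ((nat_lit 110), (nat_lit 97), (nat_lit 1), (nat_lit 1)), ((nat_lit 111), (nat_lit 98), (nat_lit 1), (nat_lit 1)), ((nat_lit 119), (nat_lit 106), (nat_lit 1), (nat_lit 1)), ((nat_lit 120), (nat_lit 107), (nat_lit 1), (nat_lit 1)), ((nat_lit 121), (nat_lit 108), (nat_lit 1), (nat_lit 1)), ((nat_lit 124), (nat_lit 118), (nat_lit 1), (nat_lit 1))]) (.leaf [((nat_lit 0), (nat_lit 14), (nat_lit 1), (nat_lit 1)), ((nat_lit 2), (nat_lit 36), (nat_lit 1), (nat_lit 1)), ((nat_lit 3), (nat_lit 39), (nat_lit 1), (nat_lit 1)), ((nat_lit 6), (nat_lit 42), (nat_lit 1), (nat_lit 1)),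 ((nat_lit 7), (nat_lit 48), (nat_lit 1), (nat_lit 1)), ((nat_lit 10), (nat_lit 51), (nat_lit 1), (nat_lit 1)), ((nat_lit 13), (nat_lit 52), (nat_lit 1), (nat_lit 1)), ((nat_lit 17), (nat_lit 60), (nat_lit 1), (nat_lit 1)), ((nat_lit 18), (nat_lit 62), (nat_lit 1), (nat_lit 1)), ((nat_lit 21), (nat_lit 66), (nat_lit 1), (nat_lit 1)), ((nat_lit 22), (nat_lit 67), (nat_lit 1), (nat_lit 1)), ((nat_lit 24), (nat_lit 70), (nat_lit 1), (nat_lit 1)), ((nat_lit 25), (nat_lit 71), (nat_lit 1), (nat_lit 1)), ((nat_lit 28), (nat_lit 80), (nat_lit 1), (nat_lit 1)), ((nat_lit 29), (nat_lit 81), (nat_lit 1), (nat_lit 1)), ((nat_lit 32), (nat_lit 90), (nat_lit 1), (nat_lit 1)), ((nat_lit 35), (nat_lit 93), (nat_lit 1), (nat_lit 1)), ((nat_lit 44), (nat_lit 96), (nat_lit 1), (nat_lit 1)), ((nat_lit 45), (nat_lit 97), (nat_lit 1), (nat_lit 1)), ((nat_lit 54), (nat_lit 100), (nat_lit 1), (nat_lit 1)), ((nat_lit 55), (nat_lit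 101), (nat_lit 1), (nat_lit 1)), ((nat_lit 58), (nat_lit 103), (nat_lit 1), (nat_lit 1)), ((nat_lit 59), (nat_lit 104), (nat_lit 1), (nat_lit 1)), ((nat_lit 63), (nat_lit 107), (nat_lit 1), (nat_lit 1)), ((nat_lit 65), (nat_lit 108), (nat_lit 1), (nat_lit 1)), ((nat_lit 73), (nat_lit 112), (nat_lit 1), (nat_lit 1)), ((nat_lit 74), (nat_lit 115), (nat_lit 1), (nat_lit 1)), ((nat_lit 77), (nat_lit 118), (nat_lit 1), (nat_lit 1)), ((nat_lit 83), (nat_lit 119), (nat_lit 1), (nat_lit 1)), ((nat_lit 86), (nat_lit 122), (nat_lit 1), (nat_lit 1)), ((nat_lit 89), (nat_lit 123), (nat_lit 1), (nat_lit 1)), ((nat_lit 111), (nat_lit 125), (nat_lit 1), (nat_lit 1))]))) (.node (.node (.leaf [((nat_lit 7), (nat_lit 0), (nat_lit 1), (nat_lit 1)), ((nat_lit 33), (nat_lit 4), (nat_lit 1), (nat_lit 1)), ((nat_lit 34), (nat_lit 5), (nat_lit 1), (nat_lit 1)), ((nat_lit 35), (nat_lit 6), (nat_lit 1), (nat_lit 1)), ((nat_lit 48),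 (nat_lit 14), (nat_lit 1), (nat_lit 1)), ((nat_lit 49), (nat_lit 15), (nat_lit 1), (nat_lit 1)), ((nat_lit 50), (nat_lit 16), (nat_lit 1), (nat_lit 1)), ((nat_lit 53), (nat_lit 20), (nat_lit 1), (nat_lit 1)), ((nat_lit 54), (nat_lit 21), (nat_lit 1), (nat_lit 1)), ((nat_lit 55), (nat_lit 22), (nat_lit 1), (nat_lit 1)), ((nat_lit 57), (nat_lit 23), (nat_lit 1), (nat_lit 1)), ((nat_lit 58), (nat_lit 24), (nat_lit 1), (nat_lit 1)), ((nat_lit 59), (nat_lit 25), (nat_lit 1), (nat_lit 1)), ((nat_lit 78), (nat_lit 30), (nat_lit 1), (nat_lit 1)), ((nat_lit 79), (nat_lit 31), (nat_lit 1), (nat_lit 1)), ((nat_lit 83), (nat_lit 32), (nat_lit 1), (nat_lit 1)), ((nat_lit 93), (nat_lit 42), (nat_lit 1), (nat_lit 1)), ((nat_lit 94), (nat_lit 46), (nat_lit 1), (nat_lit 1)), ((nat_lit 95), (nat_lit 47), (nat_lit 1), (nat_lit 1)), ((nat_lit 100), (nat_lit 66), (nat_lit 1), (nat_lit 1)), ((nat_lit 101), (nat_lit 67), (nat_lit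 1), (nat_lit 1)), ((nat_lit 102), (nat_lit 68), (nat_lit 1), (nat_lit 1)), ((nat_lit 103), (nat_lit 70), (nat_lit 1), (nat_lit 1)), ((nat_lit 104), (nat_lit 71), (nat_lit 1), (nat_lit 1)), ((nat_lit 105), (nat_lit 72), (nat_lit 1), (nat_lit 1)), ((nat_lit 109), (nat_lit 75), (nat_lit 1), (nat_lit 1)), ((nat_lit 110), (nat_lit 76), (nat_lit 1), (nat_lit 1)), ((nat_lit 111), (nat_lit 77), (nat_lit 1), (nat_lit 1)), ((nat_lit 119), (nat_lit 90), (nat_lit 1), (nat_lit 1)), ((nat_lit 120), (nat_lit 91), (nat_lit 1), (nat_lit 1)), ((nat_lit 121), (nat_lit 92), (nat_lit 1), (nat_lit 1)), ((nat_lit 125), (nat_lit 118), (nat_lit 1), (nat_lit 1))]) (.leaf [((nat_lit 1), (nat_lit 14), (nat_lit 1), (nat_lit 1)), ((nat_lit 2), (nat_lit 20), (nat_lit 1), (nat_lit 1)), ((nat_lit 3), (nat_lit 23), (nat_lit 1), (nat_lit 1)), ((nat_lit 6), (nat_lit 26), (nat_lit 1), (nat_lit 1)), ((nat_lit 7), (nat_lit 27), (nat_lit 1), (nat_lit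 1)), ((nat_lit 10), (nat_lit 30), (nat_lit 1), (nat_lit 1)), ((nat_lit 13), (nat_lit 31), (nat_lit 1), (nat_lit 1)), ((nat_lit 19), (nat_lit 32), (nat_lit 1), (nat_lit 1)), ((nat_lit 33), (nat_lit 60), (nat_lit 1), (nat_lit 1)), ((nat_lit 34), (nat_lit 62), (nat_lit 1), (nat_lit 1)), ((nat_lit 37), (nat_lit 66), (nat_lit 1), (nat_lit 1)), ((nat_lit 38), (nat_lit 67), (nat_lit 1), (nat_lit 1)), ((nat_lit 40), (nat_lit 70), (nat_lit 1), (nat_lit 1)), ((nat_lit 41), (nat_lit 71), (nat_lit 1), (nat_lit 1)), ((nat_lit 44), (nat_lit 75), (nat_lit 1), (nat_lit 1)), ((nat_lit 45), (nat_lit 76), (nat_lit 1), (nat_lit 1)), ((nat_lit 49), (nat_lit 80), (nat_lit 1), (nat_lit 1)), ((nat_lit 50), (nat_lit 81), (nat_lit 1), (nat_lit 1)), ((nat_lit 54), (nat_lit 84), (nat_lit 1), (nat_lit 1)), ((nat_lit 55), (nat_lit 85), (nat_lit 1), (nat_lit 1)), ((nat_lit 58), (nat_lit 87), (nat_lit 1), (nat_lit 1)), ((nat_lit 59), (nat_lit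 88), (nat_lit 1), (nat_lit 1)), ((nat_lit 63), (nat_lit 91), (nat_lit 1), (nat_lit 1)), ((nat_lit 65), (nat_lit 92), (nat_lit 1), (nat_lit 1)), ((nat_lit 93), (nat_lit 106), (nat_lit 1), (nat_lit 1)), ((nat_lit 94), (nat_lit 112), (nat_lit 1), (nat_lit 1)), ((nat_lit 95), (nat_lit 115), (nat_lit 1), (nat_lit 1)), ((nat_lit 98), (nat_lit 118), (nat_lit 1), (nat_lit 1)), ((nat_lit 99), (nat_lit 119), (nat_lit 1), (nat_lit 1)), ((nat_lit 102), (nat_lit 122), (nat_lit 1), (nat_lit 1)), ((nat_lit 105), (nat_lit 123), (nat_lit 1), (nat_lit 1)), ((nat_lit 111), (nat_lit 124), (nat_lit 1), (nat_lit 1))])) (.node (.leaf [((nat_lit 5), (nat_lit 3), (nat_lit 1), (nat_lit 1)), ((nat_lit 9), (nat_lit 7), (nat_lit 1), (nat_lit 1)), ((nat_lit 14), (nat_lit 11), (nat_lit 1), (nat_lit 1)), ((nat_lit 16), (nat_lit 13), (nat_lit 1), (nat_lit 1)), ((nat_lit 20), (nat_lit 17), (nat_lit 1), (nat_lit 1)), ((nat_lit 22), (nat_lit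 19), (nat_lit 1), (nat_lit 1)), ((nat_lit 26), (nat_lit 24), (nat_lit 1), (nat_lit 1)), ((nat_lit 30), (nat_lit 28), (nat_lit 1), (nat_lit 1)), ((nat_lit 36), (nat_lit 33), (nat_lit 1), (nat_lit 1)), ((nat_lit 38), (nat_lit 35), (nat_lit 1), (nat_lit 1)), ((nat_lit 42), (nat_lit 40), (nat_lit 1), (nat_lit 1)), ((nat_lit 46), (nat_lit 44), (nat_lit 1), (nat_lit 1)), ((nat_lit 51), (nat_lit 49), (nat_lit 1), (nat_lit 1)), ((nat_lit 56), (nat_lit 54), (nat_lit 1), (nat_lit 1)), ((nat_lit 62), (nat_lit 57), (nat_lit 1), (nat_lit 1)), ((nat_lit 64), (nat_lit 59), (nat_lit 1), (nat_lit 1)), ((nat_lit 66), (nat_lit 61), (nat_lit 1), (nat_lit 1)), ((nat_lit 68), (nat_lit 63), (nat_lit 1), (nat_lit 1)), ((nat_lit 71), (nat_lit 69), (nat_lit 1), (nat_lit 1)), ((nat_lit 76), (nat_lit 74), (nat_lit 1), (nat_lit 1)), ((nat_lit 81), (nat_lit 79), (nat_lit 1), (nat_lit 1)), ((nat_lit 85), (nat_lit 83), (nat_lit 1), (nat_lit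 1)), ((nat_lit 90), (nat_lit 87), (nat_lit 1), (nat_lit 1)), ((nat_lit 92), (nat_lit 89), (nat_lit 1), (nat_lit 1)), ((nat_lit 97), (nat_lit 95), (nat_lit 1), (nat_lit 1)), ((nat_lit 101), (nat_lit 99), (nat_lit 1), (nat_lit 1)), ((nat_lit 106), (nat_lit 103), (nat_lit 1), (nat_lit 1)), ((nat_lit 108), (nat_lit 105), (nat_lit 1), (nat_lit 1)), ((nat_lit 112), (nat_lit 109), (nat_lit 1), (nat_lit 1)), ((nat_lit 114), (nat_lit 111), (nat_lit 1), (nat_lit 1)), ((nat_lit 118), (nat_lit 116), (nat_lit 1), (nat_lit 1)), ((nat_lit 122), (nat_lit 120), (nat_lit 1), (nat_lit 1))]) (.leaf [((nat_lit 0), (nat_lit 30), (nat_lit 1), (nat_lit 1)), ((nat_lit 1), (nat_lit 51), (nat_lit 1), (nat_lit 1)), ((nat_lit 2), (nat_lit 56), (nat_lit 1), (nat_lit 1)), ((nat_lit 4), (nat_lit 66), (nat_lit 1), (nat_lit 1)), ((nat_lit 5), (nat_lit 67), (nat_lit 1), (nat_lit 1)), ((nat_lit 6), (nat_lit 68), (nat_lit 1), (nat_lit 1)),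 ((nat_lit 7), (nat_lit 78), (nat_lit 1), (nat_lit 1)), ((nat_lit 11), (nat_lit 80), (nat_lit 1), (nat_lit 1)), ((nat_lit 12), (nat_lit 81), (nat_lit 1), (nat_lit 1)), ((nat_lit 13), (nat_lit 82), (nat_lit 1), (nat_lit 1)), ((nat_lit 17), (nat_lit 84), (nat_lit 1), (nat_lit 1)), ((nat_lit 18), (nat_lit 85), (nat_lit 1), (nat_lit 1)), ((nat_lit 19), (nat_lit 86), (nat_lit 1), (nat_lit 1)), ((nat_lit 23), (nat_lit 90), (nat_lit 1), (nat_lit 1)), ((nat_lit 24), (nat_lit 91), (nat_lit 1), (nat_lit 1)), ((nat_lit 25), (nat_lit 92), (nat_lit 1), (nat_lit 1)), ((nat_lit 33), (nat_lit 100), (nat_lit 1), (nat_lit 1)), ((nat_lit 34), (nat_lit 101), (nat_lit 1), (nat_lit 1)), ((nat_lit 35), (nat_lit 102), (nat_lit 1), (nat_lit 1)), ((nat_lit 39), (nat_lit 106), (nat_lit 1), (nat_lit 1)), ((nat_lit 40), (nat_lit 107), (nat_lit 1), (nat_lit 1)), ((nat_lit 41), (nat_lit 108), (nat_lit 1), (nat_lit 1)), ((nat_lit 43), (nat_lit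 112), (nat_lit 1), (nat_lit 1)), ((nat_lit 44), (nat_lit 113), (nat_lit 1), (nat_lit 1)), ((nat_lit 45), (nat_lit 114), (nat_lit 1), (nat_lit 1)), ((nat_lit 47), (nat_lit 118), (nat_lit 1), (nat_lit 1)), ((nat_lit 57), (nat_lit 119), (nat_lit 1), (nat_lit 1)), ((nat_lit 58), (nat_lit 120), (nat_lit 1), (nat_lit 1)), ((nat_lit 59), (nat_lit 121), (nat_lit 1), (nat_lit 1)), ((nat_lit 69), (nat_lit 123), (nat_lit 1), (nat_lit 1)), ((nat_lit 74), (nat_lit 124), (nat_lit 1), (nat_lit 1)), ((nat_lit 95), (nat_lit 125), (nat_lit 1), (nat_lit 1))]))))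

def rows3 : Tr (List Entry) :=
  .node (.node (.node (.node (.leaf [((nat_lit 27), (nat_lit 0), (nat_lit 1), (nat_lit 1)), ((nat_lit 48), (nat_lit 1), (nat_lit 1), (nat_lit 1)), ((nat_lit 53), (nat_lit 2), (nat_lit 1), (nat_lit 1)), ((nat_lit 57), (nat_lit 3), (nat_lit 1), (nat_lit 1)), ((nat_lit 60), (nat_lit 4), (nat_lit 1), (nat_lit 1)), ((nat_lit 62), (nat_lit 5), (nat_lit 1), (nat_lit 1)), ((nat_lit 78), (nat_lit 10), (nat_lit 1), (nat_lit 1)), ((nat_lit 79), (nat_lit 13), (nat_lit 1), (nat_lit 1)), ((nat_lit 80), (nat_lit 15), (nat_lit 1), (nat_lit 1)), ((nat_lit 81), (nat_lit 16), (nat_lit 1), (nat_lit 1)), ((nat_lit 83), (nat_lit 19), (nat_lit 1), (nat_lit 1)), ((nat_lit 84), (nat_lit 21), (nat_lit 1), (nat_lit 1)), ((nat_lit 85), (nat_lit 22), (nat_lit 1), (nat_lit 1)), ((nat_lit 87), (nat_lit 24), (nat_lit 1), (nat_lit 1)), ((nat_lit 88), (nat_lit 25), (nat_lit 1), (nat_lit 1)), ((nat_lit 90),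 (nat_lit 26), (nat_lit 1), (nat_lit 1)), ((nat_lit 99), (nat_lit 35), (nat_lit 1), (nat_lit 1)), ((nat_lit 100), (nat_lit 37), (nat_lit 1), (nat_lit 1)), ((nat_lit 101), (nat_lit 38), (nat_lit 1), (nat_lit 1)), ((nat_lit 103), (nat_lit 40), (nat_lit 1), (nat_lit 1)), ((nat_lit 104), (nat_lit 41), (nat_lit 1), (nat_lit 1)), ((nat_lit 106), (nat_lit 42), (nat_lit 1), (nat_lit 1)), ((nat_lit 109), (nat_lit 44), (nat_lit 1), (nat_lit 1)), ((nat_lit 110), (nat_lit 45), (nat_lit 1), (nat_lit 1)), ((nat_lit 112), (nat_lit 46), (nat_lit 1), (nat_lit 1)), ((nat_lit 115), (nat_lit 47), (nat_lit 1), (nat_lit 1)), ((nat_lit 120), (nat_lit 63), (nat_lit 1), (nat_lit 1)), ((nat_lit 121), (nat_lit 65), (nat_lit 1), (nat_lit 1)), ((nat_lit 122), (nat_lit 68), (nat_lit 1), (nat_lit 1)), ((nat_lit 123), (nat_lit 72), (nat_lit 1), (nat_lit 1)), ((nat_lit 124), (nat_lit 77), (nat_lit 1), (nat_lit 1)), ((nat_lit 125), (nat_lit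 98), (nat_lit 1), (nat_lit 1))]) (.leaf [((nat_lit 2), (nat_lit 4), (nat_lit 1), (nat_lit 1)), ((nat_lit 7), (nat_lit 11), (nat_lit 1), (nat_lit 1)), ((nat_lit 9), (nat_lit 14), (nat_lit 1), (nat_lit 1)), ((nat_lit 10), (nat_lit 15), (nat_lit 1), (nat_lit 1)), ((nat_lit 18), (nat_lit 23), (nat_lit 1), (nat_lit 1)), ((nat_lit 19), (nat_lit 24), (nat_lit 1), (nat_lit 1)), ((nat_lit 22), (nat_lit 26), (nat_lit 1), (nat_lit 1)), ((nat_lit 29), (nat_lit 31), (nat_lit 1), (nat_lit 1)), ((nat_lit 34), (nat_lit 39), (nat_lit 1), (nat_lit 1)), ((nat_lit 35), (nat_lit 40), (nat_lit 1), (nat_lit 1)), ((nat_lit 38), (nat_lit 42), (nat_lit 1), (nat_lit 1)), ((nat_lit 45), (nat_lit 47), (nat_lit 1), (nat_lit 1)), ((nat_lit 50), (nat_lit 52), (nat_lit 1), (nat_lit 1)), ((nat_lit 53), (nat_lit 60), (nat_lit 1), (nat_lit 1)), ((nat_lit 54), (nat_lit 61), (nat_lit 1), (nat_lit 1)), ((nat_lit 56), (nat_lit 66), (nat_lit 1),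 (nat_lit 1)), ((nat_lit 59), (nat_lit 69), (nat_lit 1), (nat_lit 1)), ((nat_lit 64), (nat_lit 71), (nat_lit 1), (nat_lit 1)), ((nat_lit 65), (nat_lit 72), (nat_lit 1), (nat_lit 1)), ((nat_lit 73), (nat_lit 75), (nat_lit 1), (nat_lit 1)), ((nat_lit 78), (nat_lit 80), (nat_lit 1), (nat_lit 1)), ((nat_lit 83), (nat_lit 87), (nat_lit 1), (nat_lit 1)), ((nat_lit 85), (nat_lit 90), (nat_lit 1), (nat_lit 1)), ((nat_lit 86), (nat_lit 91), (nat_lit 1), (nat_lit 1)), ((nat_lit 94), (nat_lit 96), (nat_lit 1), (nat_lit 1)), ((nat_lit 99), (nat_lit 103), (nat_lit 1), (nat_lit 1)), ((nat_lit 101), (nat_lit 106), (nat_lit 1), (nat_lit 1)), ((nat_lit 102), (nat_lit 107), (nat_lit 1), (nat_lit 1)), ((nat_lit 110), (nat_lit 115), (nat_lit 1), (nat_lit 1)), ((nat_lit 111), (nat_lit 116), (nat_lit 1), (nat_lit 1)), ((nat_lit 114), (nat_lit 118), (nat_lit 1), (nat_lit 1)), ((nat_lit 121), (nat_lit 123), (nat_lit 1), (nat_lit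 1))])) (.node (.leaf [((nat_lit 11), (nat_lit 1), (nat_lit 1), (nat_lit 1)), ((nat_lit 17), (nat_lit 2), (nat_lit 1), (nat_lit 1)), ((nat_lit 23), (nat_lit 5), (nat_lit 1), (nat_lit 1)), ((nat_lit 24), (nat_lit 6), (nat_lit 1), (nat_lit 1)), ((nat_lit 27), (nat_lit 9), (nat_lit 1), (nat_lit 1)), ((nat_lit 28), (nat_lit 10), (nat_lit 1), (nat_lit 1)), ((nat_lit 31), (nat_lit 16), (nat_lit 1), (nat_lit 1)), ((nat_lit 32), (nat_lit 22), (nat_lit 1), (nat_lit 1)), ((nat_lit 57), (nat_lit 34), (nat_lit 1), (nat_lit 1)), ((nat_lit 58), (nat_lit 35), (nat_lit 1), (nat_lit 1)), ((nat_lit 60), (nat_lit 36), (nat_lit 1), (nat_lit 1)), ((nat_lit 61), (nat_lit 37), (nat_lit 1), (nat_lit 1)), ((nat_lit 69), (nat_lit 41), (nat_lit 1), (nat_lit 1)), ((nat_lit 70), (nat_lit 42), (nat_lit 1), (nat_lit 1)), ((nat_lit 74), (nat_lit 45), (nat_lit 1), (nat_lit 1)), ((nat_lit 75), (nat_lit 46), (nat_lit 1), (nat_lit 1)), ((nat_lit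 79), (nat_lit 50), (nat_lit 1), (nat_lit 1)), ((nat_lit 80), (nat_lit 51), (nat_lit 1), (nat_lit 1)), ((nat_lit 83), (nat_lit 55), (nat_lit 1), (nat_lit 1)), ((nat_lit 84), (nat_lit 56), (nat_lit 1), (nat_lit 1)), ((nat_lit 88), (nat_lit 64), (nat_lit 1), (nat_lit 1)), ((nat_lit 89), (nat_lit 65), (nat_lit 1), (nat_lit 1)), ((nat_lit 90), (nat_lit 67), (nat_lit 1), (nat_lit 1)), ((nat_lit 91), (nat_lit 68), (nat_lit 1), (nat_lit 1)), ((nat_lit 103), (nat_lit 93), (nat_lit 1), (nat_lit 1)), ((nat_lit 109), (nat_lit 94), (nat_lit 1), (nat_lit 1)), ((nat_lit 115), (nat_lit 97), (nat_lit 1), (nat_lit 1)), ((nat_lit 116), (nat_lit 98), (nat_lit 1), (nat_lit 1)), ((nat_lit 119), (nat_lit 101), (nat_lit 1), (nat_lit 1)), ((nat_lit 120), (nat_lit 102), (nat_lit 1), (nat_lit 1)), ((nat_lit 123), (nat_lit 108), (nat_lit 1), (nat_lit 1)), ((nat_lit 124), (nat_lit 114), (nat_lit 1), (nat_lit 1))]) (.leaf [((nat_lit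 0), (nat_lit 10), (nat_lit 1), (nat_lit 1)), ((nat_lit 3), (nat_lit 35), (nat_lit 1), (nat_lit 1)), ((nat_lit 4), (nat_lit 37), (nat_lit 1), (nat_lit 1)), ((nat_lit 5), (nat_lit 38), (nat_lit 1), (nat_lit 1)), ((nat_lit 11), (nat_lit 49), (nat_lit 1), (nat_lit 1)), ((nat_lit 12), (nat_lit 50), (nat_lit 1), (nat_lit 1)), ((nat_lit 14), (nat_lit 51), (nat_lit 1), (nat_lit 1)), ((nat_lit 17), (nat_lit 54), (nat_lit 1), (nat_lit 1)), ((nat_lit 18), (nat_lit 55), (nat_lit 1), (nat_lit 1)), ((nat_lit 20), (nat_lit 56), (nat_lit 1), (nat_lit 1)), ((nat_lit 24), (nat_lit 63), (nat_lit 1), (nat_lit 1)), ((nat_lit 25), (nat_lit 65), (nat_lit 1), (nat_lit 1)), ((nat_lit 26), (nat_lit 68), (nat_lit 1), (nat_lit 1)), ((nat_lit 27), (nat_lit 78), (nat_lit 1), (nat_lit 1)), ((nat_lit 31), (nat_lit 82), (nat_lit 1), (nat_lit 1)), ((nat_lit 32), (nat_lit 86), (nat_lit 1), (nat_lit 1)), ((nat_lit 39), (nat_lit 93), (nat_lit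 1), (nat_lit 1)), ((nat_lit 43), (nat_lit 94), (nat_lit 1), (nat_lit 1)), ((nat_lit 47), (nat_lit 98), (nat_lit 1), (nat_lit 1)), ((nat_lit 57), (nat_lit 99), (nat_lit 1), (nat_lit 1)), ((nat_lit 60), (nat_lit 100), (nat_lit 1), (nat_lit 1)), ((nat_lit 62), (nat_lit 101), (nat_lit 1), (nat_lit 1)), ((nat_lit 69), (nat_lit 105), (nat_lit 1), (nat_lit 1)), ((nat_lit 70), (nat_lit 107), (nat_lit 1), (nat_lit 1)), ((nat_lit 71), (nat_lit 108), (nat_lit 1), (nat_lit 1)), ((nat_lit 74), (nat_lit 111), (nat_lit 1), (nat_lit 1)), ((nat_lit 75), (nat_lit 113), (nat_lit 1), (nat_lit 1)), ((nat_lit 76), (nat_lit 114), (nat_lit 1), (nat_lit 1)), ((nat_lit 87), (nat_lit 120), (nat_lit 1), (nat_lit 1)), ((nat_lit 88), (nat_lit 121), (nat_lit 1), (nat_lit 1)), ((nat_lit 90), (nat_lit 122), (nat_lit 1), (nat_lit 1)), ((nat_lit 115), (nat_lit 125), (nat_lit 1), (nat_lit 1))]))) (.node (.node (.leaf [((nat_lit 11), (nat_lit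 0), (nat_lit 1), (nat_lit 1)), ((nat_lit 33), (nat_lit 2), (nat_lit 1), (nat_lit 1)), ((nat_lit 39), (nat_lit 5), (nat_lit 1), (nat_lit 1)), ((nat_lit 40), (nat_lit 6), (nat_lit 1), (nat_lit 1)), ((nat_lit 48), (nat_lit 9), (nat_lit 1), (nat_lit 1)), ((nat_lit 49), (nat_lit 10), (nat_lit 1), (nat_lit 1)), ((nat_lit 52), (nat_lit 16), (nat_lit 1), (nat_lit 1)), ((nat_lit 57), (nat_lit 18), (nat_lit 1), (nat_lit 1)), ((nat_lit 58), (nat_lit 19), (nat_lit 1), (nat_lit 1)), ((nat_lit 60), (nat_lit 20), (nat_lit 1), (nat_lit 1)), ((nat_lit 61), (nat_lit 21), (nat_lit 1), (nat_lit 1)), ((nat_lit 69), (nat_lit 25), (nat_lit 1), (nat_lit 1)), ((nat_lit 70), (nat_lit 26), (nat_lit 1), (nat_lit 1)), ((nat_lit 79), (nat_lit 29), (nat_lit 1), (nat_lit 1)), ((nat_lit 80), (nat_lit 30), (nat_lit 1), (nat_lit 1)), ((nat_lit 87), (nat_lit 32), (nat_lit 1), (nat_lit 1)), ((nat_lit 93), (nat_lit 38), (nat_lit 1), (nat_lit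 1)), ((nat_lit 95), (nat_lit 45), (nat_lit 1), (nat_lit 1)), ((nat_lit 96), (nat_lit 46), (nat_lit 1), (nat_lit 1)), ((nat_lit 99), (nat_lit 55), (nat_lit 1), (nat_lit 1)), ((nat_lit 100), (nat_lit 56), (nat_lit 1), (nat_lit 1)), ((nat_lit 104), (nat_lit 64), (nat_lit 1), (nat_lit 1)), ((nat_lit 105), (nat_lit 65), (nat_lit 1), (nat_lit 1)), ((nat_lit 106), (nat_lit 67), (nat_lit 1), (nat_lit 1)), ((nat_lit 107), (nat_lit 68), (nat_lit 1), (nat_lit 1)), ((nat_lit 109), (nat_lit 73), (nat_lit 1), (nat_lit 1)), ((nat_lit 115), (nat_lit 76), (nat_lit 1), (nat_lit 1)), ((nat_lit 116), (nat_lit 77), (nat_lit 1), (nat_lit 1)), ((nat_lit 119), (nat_lit 85), (nat_lit 1), (nat_lit 1)), ((nat_lit 120), (nat_lit 86), (nat_lit 1), (nat_lit 1)), ((nat_lit 123), (nat_lit 92), (nat_lit 1), (nat_lit 1)), ((nat_lit 125), (nat_lit 114), (nat_lit 1), (nat_lit 1))]) (.leaf [((nat_lit 1), (nat_lit 10), (nat_lit 1), (nat_lit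 1)), ((nat_lit 3), (nat_lit 19), (nat_lit 1), (nat_lit 1)), ((nat_lit 4), (nat_lit 21), (nat_lit 1), (nat_lit 1)), ((nat_lit 5), (nat_lit 22), (nat_lit 1), (nat_lit 1)), ((nat_lit 11), (nat_lit 28), (nat_lit 1), (nat_lit 1)), ((nat_lit 12), (nat_lit 29), (nat_lit 1), (nat_lit 1)), ((nat_lit 14), (nat_lit 30), (nat_lit 1), (nat_lit 1)), ((nat_lit 23), (nat_lit 32), (nat_lit 1), (nat_lit 1)), ((nat_lit 33), (nat_lit 54), (nat_lit 1), (nat_lit 1)), ((nat_lit 34), (nat_lit 55), (nat_lit 1), (nat_lit 1)), ((nat_lit 36), (nat_lit 56), (nat_lit 1), (nat_lit 1)), ((nat_lit 40), (nat_lit 63), (nat_lit 1), (nat_lit 1)), ((nat_lit 41), (nat_lit 65), (nat_lit 1), (nat_lit 1)), ((nat_lit 42), (nat_lit 68), (nat_lit 1), (nat_lit 1)), ((nat_lit 43), (nat_lit 73), (nat_lit 1), (nat_lit 1)), ((nat_lit 47), (nat_lit 77), (nat_lit 1), (nat_lit 1)), ((nat_lit 48), (nat_lit 78), (nat_lit 1), (nat_lit 1)), ((nat_lit 52), (nat_lit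 82), (nat_lit 1), (nat_lit 1)), ((nat_lit 57), (nat_lit 83), (nat_lit 1), (nat_lit 1)), ((nat_lit 60), (nat_lit 84), (nat_lit 1), (nat_lit 1)), ((nat_lit 62), (nat_lit 85), (nat_lit 1), (nat_lit 1)), ((nat_lit 69), (nat_lit 89), (nat_lit 1), (nat_lit 1)), ((nat_lit 70), (nat_lit 91), (nat_lit 1), (nat_lit 1)), ((nat_lit 71), (nat_lit 92), (nat_lit 1), (nat_lit 1)), ((nat_lit 93), (nat_lit 102), (nat_lit 1), (nat_lit 1)), ((nat_lit 95), (nat_lit 111), (nat_lit 1), (nat_lit 1)), ((nat_lit 96), (nat_lit 113), (nat_lit 1), (nat_lit 1)), ((nat_lit 97), (nat_lit 114), (nat_lit 1), (nat_lit 1)), ((nat_lit 103), (nat_lit 120), (nat_lit 1), (nat_lit 1)), ((nat_lit 104), (nat_lit 121), (nat_lit 1), (nat_lit 1)), ((nat_lit 106), (nat_lit 122), (nat_lit 1), (nat_lit 1)), ((nat_lit 115), (nat_lit 124), (nat_lit 1), (nat_lit 1))])) (.node (.leaf [((nat_lit 5), (nat_lit 2), (nat_lit 1), (nat_lit 1)), ((nat_lit 12), (nat_lit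 7), (nat_lit 1), (nat_lit 1)), ((nat_lit 14), (nat_lit 8), (nat_lit 1), (nat_lit 1)), ((nat_lit 16), (nat_lit 10), (nat_lit 1), (nat_lit 1)), ((nat_lit 23), (nat_lit 17), (nat_lit 1), (nat_lit 1)), ((nat_lit 25), (nat_lit 19), (nat_lit 1), (nat_lit 1)), ((nat_lit 26), (nat_lit 21), (nat_lit 1), (nat_lit 1)), ((nat_lit 31), (nat_lit 28), (nat_lit 1), (nat_lit 1)), ((nat_lit 39), (nat_lit 33), (nat_lit 1), (nat_lit 1)), ((nat_lit 41), (nat_lit 35), (nat_lit 1), (nat_lit 1)), ((nat_lit 42), (nat_lit 37), (nat_lit 1), (nat_lit 1)), ((nat_lit 47), (nat_lit 44), (nat_lit 1), (nat_lit 1)), ((nat_lit 52), (nat_lit 49), (nat_lit 1), (nat_lit 1)), ((nat_lit 62), (nat_lit 53), (nat_lit 1), (nat_lit 1)), ((nat_lit 64), (nat_lit 55), (nat_lit 1), (nat_lit 1)), ((nat_lit 67), (nat_lit 56), (nat_lit 1), (nat_lit 1)), ((nat_lit 69), (nat_lit 58), (nat_lit 1), (nat_lit 1)), ((nat_lit 70), (nat_lit 61), (nat_lit 1), (nat_lit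 1)), ((nat_lit 72), (nat_lit 63), (nat_lit 1), (nat_lit 1)), ((nat_lit 76), (nat_lit 73), (nat_lit 1), (nat_lit 1)), ((nat_lit 81), (nat_lit 78), (nat_lit 1), (nat_lit 1)), ((nat_lit 88), (nat_lit 83), (nat_lit 1), (nat_lit 1)), ((nat_lit 90), (nat_lit 84), (nat_lit 1), (nat_lit 1)), ((nat_lit 92), (nat_lit 86), (nat_lit 1), (nat_lit 1)), ((nat_lit 97), (nat_lit 94), (nat_lit 1), (nat_lit 1)), ((nat_lit 104), (nat_lit 99), (nat_lit 1), (nat_lit 1)), ((nat_lit 106), (nat_lit 100), (nat_lit 1), (nat_lit 1)), ((nat_lit 108), (nat_lit 102), (nat_lit 1), (nat_lit 1)), ((nat_lit 115), (nat_lit 109), (nat_lit 1), (nat_lit 1)), ((nat_lit 117), (nat_lit 111), (nat_lit 1), (nat_lit 1)), ((nat_lit 118), (nat_lit 113), (nat_lit 1), (nat_lit 1)), ((nat_lit 123), (nat_lit 120), (nat_lit 1), (nat_lit 1))]) (.leaf [((nat_lit 0), (nat_lit 26), (nat_lit 1), (nat_lit 1)), ((nat_lit 1), (nat_lit 42), (nat_lit 1), (nat_lit 1)),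 ((nat_lit 2), (nat_lit 46), (nat_lit 1), (nat_lit 1)), ((nat_lit 3), (nat_lit 47), (nat_lit 1), (nat_lit 1)), ((nat_lit 8), (nat_lit 66), (nat_lit 1), (nat_lit 1)), ((nat_lit 9), (nat_lit 67), (nat_lit 1), (nat_lit 1)), ((nat_lit 10), (nat_lit 68), (nat_lit 1), (nat_lit 1)), ((nat_lit 11), (nat_lit 70), (nat_lit 1), (nat_lit 1)), ((nat_lit 12), (nat_lit 71), (nat_lit 1), (nat_lit 1)), ((nat_lit 13), (nat_lit 72), (nat_lit 1), (nat_lit 1)), ((nat_lit 17), (nat_lit 75), (nat_lit 1), (nat_lit 1)), ((nat_lit 18), (nat_lit 76), (nat_lit 1), (nat_lit 1)), ((nat_lit 19), (nat_lit 77), (nat_lit 1), (nat_lit 1)), ((nat_lit 27), (nat_lit 90), (nat_lit 1), (nat_lit 1)), ((nat_lit 28), (nat_lit 91), (nat_lit 1), (nat_lit 1)), ((nat_lit 29), (nat_lit 92), (nat_lit 1), (nat_lit 1)), ((nat_lit 33), (nat_lit 96), (nat_lit 1), (nat_lit 1)), ((nat_lit 34), (nat_lit 97), (nat_lit 1), (nat_lit 1)), ((nat_lit 35), (nat_lit 98),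 (nat_lit 1), (nat_lit 1)), ((nat_lit 48), (nat_lit 106), (nat_lit 1), (nat_lit 1)), ((nat_lit 49), (nat_lit 107), (nat_lit 1), (nat_lit 1)), ((nat_lit 50), (nat_lit 108), (nat_lit 1), (nat_lit 1)), ((nat_lit 53), (nat_lit 112), (nat_lit 1), (nat_lit 1)), ((nat_lit 54), (nat_lit 113), (nat_lit 1), (nat_lit 1)), ((nat_lit 55), (nat_lit 114), (nat_lit 1), (nat_lit 1)), ((nat_lit 57), (nat_lit 115), (nat_lit 1), (nat_lit 1)), ((nat_lit 58), (nat_lit 116), (nat_lit 1), (nat_lit 1)), ((nat_lit 59), (nat_lit 117), (nat_lit 1), (nat_lit 1)), ((nat_lit 78), (nat_lit 122), (nat_lit 1), (nat_lit 1)), ((nat_lit 79), (nat_lit 123), (nat_lit 1), (nat_lit 1)), ((nat_lit 83), (nat_lit 124), (nat_lit 1), (nat_lit 1)), ((nat_lit 99), (nat_lit 125), (nat_lit 1), (nat_lit 1))])))) (.node (.node (.node (.leaf [((nat_lit 19), (nat_lit 0), (nat_lit 1), (nat_lit 1)), ((nat_lit 35), (nat_lit 1), (nat_lit 1), (nat_lit 1)), ((nat_lit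 44), (nat_lit 4), (nat_lit 1), (nat_lit 1)), ((nat_lit 45), (nat_lit 5), (nat_lit 1), (nat_lit 1)), ((nat_lit 54), (nat_lit 8), (nat_lit 1), (nat_lit 1)), ((nat_lit 55), (nat_lit 9), (nat_lit 1), (nat_lit 1)), ((nat_lit 58), (nat_lit 11), (nat_lit 1), (nat_lit 1)), ((nat_lit 59), (nat_lit 12), (nat_lit 1), (nat_lit 1)), ((nat_lit 63), (nat_lit 15), (nat_lit 1), (nat_lit 1)), ((nat_lit 65), (nat_lit 16), (nat_lit 1), (nat_lit 1)), ((nat_lit 73), (nat_lit 20), (nat_lit 1), (nat_lit 1)), ((nat_lit 74), (nat_lit 23), (nat_lit 1), (nat_lit 1)), ((nat_lit 77), (nat_lit 26), (nat_lit 1), (nat_lit 1)), ((nat_lit 83), (nat_lit 27), (nat_lit 1), (nat_lit 1)), ((nat_lit 86), (nat_lit 30), (nat_lit 1), (nat_lit 1)), ((nat_lit 89), (nat_lit 31), (nat_lit 1), (nat_lit 1)), ((nat_lit 94), (nat_lit 36), (nat_lit 1), (nat_lit 1)), ((nat_lit 95), (nat_lit 39), (nat_lit 1), (nat_lit 1)), ((nat_lit 98), (nat_lit 42), (nat_lit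 1), (nat_lit 1)), ((nat_lit 99), (nat_lit 48), (nat_lit 1), (nat_lit 1)), ((nat_lit 102), (nat_lit 51), (nat_lit 1), (nat_lit 1)), ((nat_lit 105), (nat_lit 52), (nat_lit 1), (nat_lit 1)), ((nat_lit 109), (nat_lit 60), (nat_lit 1), (nat_lit 1)), ((nat_lit 110), (nat_lit 62), (nat_lit 1), (nat_lit 1)), ((nat_lit 113), (nat_lit 66), (nat_lit 1), (nat_lit 1)), ((nat_lit 114), (nat_lit 67), (nat_lit 1), (nat_lit 1)), ((nat_lit 116), (nat_lit 70), (nat_lit 1), (nat_lit 1)), ((nat_lit 117), (nat_lit 71), (nat_lit 1), (nat_lit 1)), ((nat_lit 120), (nat_lit 80), (nat_lit 1), (nat_lit 1)), ((nat_lit 121), (nat_lit 81), (nat_lit 1), (nat_lit 1)), ((nat_lit 124), (nat_lit 90), (nat_lit 1), (nat_lit 1)), ((nat_lit 125), (nat_lit 106), (nat_lit 1), (nat_lit 1))]) (.leaf [((nat_lit 3), (nat_lit 7), (nat_lit 1), (nat_lit 1)), ((nat_lit 4), (nat_lit 8), (nat_lit 1), (nat_lit 1)), ((nat_lit 5), (nat_lit 9), (nat_lit 1), (nat_lit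 1)), ((nat_lit 6), (nat_lit 10), (nat_lit 1), (nat_lit 1)), ((nat_lit 23), (nat_lit 27), (nat_lit 1), (nat_lit 1)), ((nat_lit 24), (nat_lit 28), (nat_lit 1), (nat_lit 1)), ((nat_lit 25), (nat_lit 29), (nat_lit 1), (nat_lit 1)), ((nat_lit 26), (nat_lit 30), (nat_lit 1), (nat_lit 1)), ((nat_lit 39), (nat_lit 48), (nat_lit 1), (nat_lit 1)), ((nat_lit 40), (nat_lit 49), (nat_lit 1), (nat_lit 1)), ((nat_lit 41), (nat_lit 50), (nat_lit 1), (nat_lit 1)), ((nat_lit 42), (nat_lit 51), (nat_lit 1), (nat_lit 1)), ((nat_lit 43), (nat_lit 53), (nat_lit 1), (nat_lit 1)), ((nat_lit 44), (nat_lit 54), (nat_lit 1), (nat_lit 1)), ((nat_lit 45), (nat_lit 55), (nat_lit 1), (nat_lit 1)), ((nat_lit 46), (nat_lit 56), (nat_lit 1), (nat_lit 1)), ((nat_lit 69), (nat_lit 79), (nat_lit 1), (nat_lit 1)), ((nat_lit 70), (nat_lit 80), (nat_lit 1), (nat_lit 1)), ((nat_lit 71), (nat_lit 81), (nat_lit 1), (nat_lit 1)), ((nat_lit 72), (nat_lit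 82), (nat_lit 1), (nat_lit 1)), ((nat_lit 74), (nat_lit 83), (nat_lit 1), (nat_lit 1)), ((nat_lit 75), (nat_lit 84), (nat_lit 1), (nat_lit 1)), ((nat_lit 76), (nat_lit 85), (nat_lit 1), (nat_lit 1)), ((nat_lit 77), (nat_lit 86), (nat_lit 1), (nat_lit 1)), ((nat_lit 95), (nat_lit 99), (nat_lit 1), (nat_lit 1)), ((nat_lit 96), (nat_lit 100), (nat_lit 1), (nat_lit 1)), ((nat_lit 97), (nat_lit 101), (nat_lit 1), (nat_lit 1)), ((nat_lit 98), (nat_lit 102), (nat_lit 1), (nat_lit 1)), ((nat_lit 115), (nat_lit 119), (nat_lit 1), (nat_lit 1)), ((nat_lit 116), (nat_lit 120), (nat_lit 1), (nat_lit 1)), ((nat_lit 117), (nat_lit 121), (nat_lit 1), (nat_lit 1)), ((nat_lit 118), (nat_lit 122), (nat_lit 1), (nat_lit 1))])) (.node (.leaf [((nat_lit 7), (nat_lit 2), (nat_lit 1), (nat_lit 1)), ((nat_lit 11), (nat_lit 4), (nat_lit 1), (nat_lit 1)), ((nat_lit 12), (nat_lit 5), (nat_lit 1), (nat_lit 1)), ((nat_lit 13), (nat_lit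 6), (nat_lit 1), (nat_lit 1)), ((nat_lit 27), (nat_lit 20), (nat_lit 1), (nat_lit 1)), ((nat_lit 28), (nat_lit 21), (nat_lit 1), (nat_lit 1)), ((nat_lit 29), (nat_lit 22), (nat_lit 1), (nat_lit 1)), ((nat_lit 31), (nat_lit 26), (nat_lit 1), (nat_lit 1)), ((nat_lit 48), (nat_lit 36), (nat_lit 1), (nat_lit 1)), ((nat_lit 49), (nat_lit 37), (nat_lit 1), (nat_lit 1)), ((nat_lit 50), (nat_lit 38), (nat_lit 1), (nat_lit 1)), ((nat_lit 52), (nat_lit 42), (nat_lit 1), (nat_lit 1)), ((nat_lit 57), (nat_lit 43), (nat_lit 1), (nat_lit 1)), ((nat_lit 58), (nat_lit 44), (nat_lit 1), (nat_lit 1)), ((nat_lit 59), (nat_lit 45), (nat_lit 1), (nat_lit 1)), ((nat_lit 69), (nat_lit 47), (nat_lit 1), (nat_lit 1)), ((nat_lit 78), (nat_lit 56), (nat_lit 1), (nat_lit 1)), ((nat_lit 80), (nat_lit 66), (nat_lit 1), (nat_lit 1)), ((nat_lit 81), (nat_lit 67), (nat_lit 1), (nat_lit 1)), ((nat_lit 82), (nat_lit 68), (nat_lit 1), (nat_lit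 1)), ((nat_lit 83), (nat_lit 73), (nat_lit 1), (nat_lit 1)), ((nat_lit 87), (nat_lit 75), (nat_lit 1), (nat_lit 1)), ((nat_lit 88), (nat_lit 76), (nat_lit 1), (nat_lit 1)), ((nat_lit 89), (nat_lit 77), (nat_lit 1), (nat_lit 1)), ((nat_lit 99), (nat_lit 94), (nat_lit 1), (nat_lit 1)), ((nat_lit 103), (nat_lit 96), (nat_lit 1), (nat_lit 1)), ((nat_lit 104), (nat_lit 97), (nat_lit 1), (nat_lit 1)), ((nat_lit 105), (nat_lit 98), (nat_lit 1), (nat_lit 1)), ((nat_lit 119), (nat_lit 112), (nat_lit 1), (nat_lit 1)), ((nat_lit 120), (nat_lit 113), (nat_lit 1), (nat_lit 1)), ((nat_lit 121), (nat_lit 114), (nat_lit 1), (nat_lit 1)), ((nat_lit 123), (nat_lit 118), (nat_lit 1), (nat_lit 1))]) (.leaf [((nat_lit 0), (nat_lit 18), (nat_lit 1), (nat_lit 1)), ((nat_lit 1), (nat_lit 34), (nat_lit 1), (nat_lit 1)), ((nat_lit 4), (nat_lit 43), (nat_lit 1), (nat_lit 1)), ((nat_lit 6), (nat_lit 45), (nat_lit 1), (nat_lit 1)),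 ((nat_lit 8), (nat_lit 53), (nat_lit 1), (nat_lit 1)), ((nat_lit 10), (nat_lit 55), (nat_lit 1), (nat_lit 1)), ((nat_lit 11), (nat_lit 57), (nat_lit 1), (nat_lit 1)), ((nat_lit 13), (nat_lit 59), (nat_lit 1), (nat_lit 1)), ((nat_lit 14), (nat_lit 62), (nat_lit 1), (nat_lit 1)), ((nat_lit 16), (nat_lit 64), (nat_lit 1), (nat_lit 1)), ((nat_lit 21), (nat_lit 73), (nat_lit 1), (nat_lit 1)), ((nat_lit 24), (nat_lit 74), (nat_lit 1), (nat_lit 1)), ((nat_lit 26), (nat_lit 76), (nat_lit 1), (nat_lit 1)), ((nat_lit 28), (nat_lit 83), (nat_lit 1), (nat_lit 1)), ((nat_lit 30), (nat_lit 85), (nat_lit 1), (nat_lit 1)), ((nat_lit 31), (nat_lit 88), (nat_lit 1), (nat_lit 1)), ((nat_lit 37), (nat_lit 94), (nat_lit 1), (nat_lit 1)), ((nat_lit 40), (nat_lit 95), (nat_lit 1), (nat_lit 1)), ((nat_lit 42), (nat_lit 97), (nat_lit 1), (nat_lit 1)), ((nat_lit 49), (nat_lit 99), (nat_lit 1), (nat_lit 1)), ((nat_lit 51), (nat_lit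 101), (nat_lit 1), (nat_lit 1)), ((nat_lit 52), (nat_lit 104), (nat_lit 1), (nat_lit 1)), ((nat_lit 61), (nat_lit 109), (nat_lit 1), (nat_lit 1)), ((nat_lit 63), (nat_lit 111), (nat_lit 1), (nat_lit 1)), ((nat_lit 66), (nat_lit 112), (nat_lit 1), (nat_lit 1)), ((nat_lit 68), (nat_lit 114), (nat_lit 1), (nat_lit 1)), ((nat_lit 70), (nat_lit 115), (nat_lit 1), (nat_lit 1)), ((nat_lit 72), (nat_lit 117), (nat_lit 1), (nat_lit 1)), ((nat_lit 80), (nat_lit 119), (nat_lit 1), (nat_lit 1)), ((nat_lit 82), (nat_lit 121), (nat_lit 1), (nat_lit 1)), ((nat_lit 91), (nat_lit 124), (nat_lit 1), (nat_lit 1)), ((nat_lit 107), (nat_lit 125), (nat_lit 1), (nat_lit 1))]))) (.node (.node (.leaf [((nat_lit 3), (nat_lit 0), (nat_lit 1), (nat_lit 1)), ((nat_lit 33), (nat_lit 8), (nat_lit 1), (nat_lit 1)), ((nat_lit 34), (nat_lit 9), (nat_lit 1), (nat_lit 1)), ((nat_lit 35), (nat_lit 10), (nat_lit 1), (nat_lit 1)), ((nat_lit 39),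 (nat_lit 14), (nat_lit 1), (nat_lit 1)), ((nat_lit 40), (nat_lit 15), (nat_lit 1), (nat_lit 1)), ((nat_lit 41), (nat_lit 16), (nat_lit 1), (nat_lit 1)), ((nat_lit 43), (nat_lit 20), (nat_lit 1), (nat_lit 1)), ((nat_lit 44), (nat_lit 21), (nat_lit 1), (nat_lit 1)), ((nat_lit 45), (nat_lit 22), (nat_lit 1), (nat_lit 1)), ((nat_lit 47), (nat_lit 26), (nat_lit 1), (nat_lit 1)), ((nat_lit 57), (nat_lit 27), (nat_lit 1), (nat_lit 1)), ((nat_lit 58), (nat_lit 28), (nat_lit 1), (nat_lit 1)), ((nat_lit 59), (nat_lit 29), (nat_lit 1), (nat_lit 1)), ((nat_lit 69), (nat_lit 31), (nat_lit 1), (nat_lit 1)), ((nat_lit 74), (nat_lit 32), (nat_lit 1), (nat_lit 1)), ((nat_lit 93), (nat_lit 51), (nat_lit 1), (nat_lit 1)), ((nat_lit 94), (nat_lit 56), (nat_lit 1), (nat_lit 1)), ((nat_lit 96), (nat_lit 66), (nat_lit 1), (nat_lit 1)), ((nat_lit 97), (nat_lit 67), (nat_lit 1), (nat_lit 1)), ((nat_lit 98), (nat_lit 68), (nat_lit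 1), (nat_lit 1)), ((nat_lit 99), (nat_lit 78), (nat_lit 1), (nat_lit 1)), ((nat_lit 103), (nat_lit 80), (nat_lit 1), (nat_lit 1)), ((nat_lit 104), (nat_lit 81), (nat_lit 1), (nat_lit 1)), ((nat_lit 105), (nat_lit 82), (nat_lit 1), (nat_lit 1)), ((nat_lit 109), (nat_lit 84), (nat_lit 1), (nat_lit 1)), ((nat_lit 110), (nat_lit 85), (nat_lit 1), (nat_lit 1)), ((nat_lit 111), (nat_lit 86), (nat_lit 1), (nat_lit 1)), ((nat_lit 115), (nat_lit 90), (nat_lit 1), (nat_lit 1)), ((nat_lit 116), (nat_lit 91), (nat_lit 1), (nat_lit 1)), ((nat_lit 117), (nat_lit 92), (nat_lit 1), (nat_lit 1)), ((nat_lit 125), (nat_lit 122), (nat_lit 1), (nat_lit 1))]) (.leaf [((nat_lit 0), (nat_lit 2), (nat_lit 1), (nat_lit 1)), ((nat_lit 11), (nat_lit 33), (nat_lit 1), (nat_lit 1)), ((nat_lit 12), (nat_lit 34), (nat_lit 1), (nat_lit 1)), ((nat_lit 13), (nat_lit 35), (nat_lit 1), (nat_lit 1)), ((nat_lit 14), (nat_lit 36), (nat_lit 1),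 (nat_lit 1)), ((nat_lit 15), (nat_lit 37), (nat_lit 1), (nat_lit 1)), ((nat_lit 16), (nat_lit 38), (nat_lit 1), (nat_lit 1)), ((nat_lit 23), (nat_lit 43), (nat_lit 1), (nat_lit 1)), ((nat_lit 24), (nat_lit 44), (nat_lit 1), (nat_lit 1)), ((nat_lit 25), (nat_lit 45), (nat_lit 1), (nat_lit 1)), ((nat_lit 26), (nat_lit 46), (nat_lit 1), (nat_lit 1)), ((nat_lit 27), (nat_lit 53), (nat_lit 1), (nat_lit 1)), ((nat_lit 28), (nat_lit 54), (nat_lit 1), (nat_lit 1)), ((nat_lit 29), (nat_lit 55), (nat_lit 1), (nat_lit 1)), ((nat_lit 30), (nat_lit 56), (nat_lit 1), (nat_lit 1)), ((nat_lit 32), (nat_lit 73), (nat_lit 1), (nat_lit 1)), ((nat_lit 52), (nat_lit 93), (nat_lit 1), (nat_lit 1)), ((nat_lit 69), (nat_lit 95), (nat_lit 1), (nat_lit 1)), ((nat_lit 70), (nat_lit 96), (nat_lit 1), (nat_lit 1)), ((nat_lit 71), (nat_lit 97), (nat_lit 1), (nat_lit 1)), ((nat_lit 72), (nat_lit 98), (nat_lit 1), (nat_lit 1)), ((nat_lit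 79), (nat_lit 99), (nat_lit 1), (nat_lit 1)), ((nat_lit 80), (nat_lit 100), (nat_lit 1), (nat_lit 1)), ((nat_lit 81), (nat_lit 101), (nat_lit 1), (nat_lit 1)), ((nat_lit 82), (nat_lit 102), (nat_lit 1), (nat_lit 1)), ((nat_lit 87), (nat_lit 109), (nat_lit 1), (nat_lit 1)), ((nat_lit 88), (nat_lit 110), (nat_lit 1), (nat_lit 1)), ((nat_lit 89), (nat_lit 111), (nat_lit 1), (nat_lit 1)), ((nat_lit 90), (nat_lit 112), (nat_lit 1), (nat_lit 1)), ((nat_lit 91), (nat_lit 113), (nat_lit 1), (nat_lit 1)), ((nat_lit 92), (nat_lit 114), (nat_lit 1), (nat_lit 1)), ((nat_lit 123), (nat_lit 125), (nat_lit 1), (nat_lit 1))])) (.leaf [((nat_lit 6), (nat_lit 5), (nat_lit 1), (nat_lit 1)), ((nat_lit 10), (nat_lit 9), (nat_lit 1), (nat_lit 1)), ((nat_lit 13), (nat_lit 12), (nat_lit 1), (nat_lit 1)), ((nat_lit 15), (nat_lit 14), (nat_lit 1), (nat_lit 1)), ((nat_lit 19), (nat_lit 18), (nat_lit 1), (nat_lit 1)), ((nat_lit 21),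 (nat_lit 20), (nat_lit 1), (nat_lit 1)), ((nat_lit 24), (nat_lit 23), (nat_lit 1), (nat_lit 1)), ((nat_lit 28), (nat_lit 27), (nat_lit 1), (nat_lit 1)), ((nat_lit 35), (nat_lit 34), (nat_lit 1), (nat_lit 1)), ((nat_lit 37), (nat_lit 36), (nat_lit 1), (nat_lit 1)), ((nat_lit 40), (nat_lit 39), (nat_lit 1), (nat_lit 1)), ((nat_lit 44), (nat_lit 43), (nat_lit 1), (nat_lit 1)), ((nat_lit 49), (nat_lit 48), (nat_lit 1), (nat_lit 1)), ((nat_lit 54), (nat_lit 53), (nat_lit 1), (nat_lit 1)), ((nat_lit 58), (nat_lit 57), (nat_lit 1), (nat_lit 1)), ((nat_lit 61), (nat_lit 60), (nat_lit 1), (nat_lit 1)), ((nat_lit 65), (nat_lit 64), (nat_lit 1), (nat_lit 1)), ((nat_lit 68), (nat_lit 67), (nat_lit 1), (nat_lit 1)), ((nat_lit 72), (nat_lit 71), (nat_lit 1), (nat_lit 1)), ((nat_lit 77), (nat_lit 76), (nat_lit 1), (nat_lit 1)), ((nat_lit 82), (nat_lit 81), (nat_lit 1), (nat_lit 1)), ((nat_lit 86), (nat_lit 85), (nat_lit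 1), (nat_lit 1)), ((nat_lit 89), (nat_lit 88), (nat_lit 1), (nat_lit 1)), ((nat_lit 91), (nat_lit 90), (nat_lit 1), (nat_lit 1)), ((nat_lit 98), (nat_lit 97), (nat_lit 1), (nat_lit 1)), ((nat_lit 102), (nat_lit 101), (nat_lit 1), (nat_lit 1)), ((nat_lit 105), (nat_lit 104), (nat_lit 1), (nat_lit 1)), ((nat_lit 107), (nat_lit 106), (nat_lit 1), (nat_lit 1)), ((nat_lit 111), (nat_lit 110), (nat_lit 1), (nat_lit 1)), ((nat_lit 113), (nat_lit 112), (nat_lit 1), (nat_lit 1)), ((nat_lit 116), (nat_lit 115), (nat_lit 1), (nat_lit 1)), ((nat_lit 120), (nat_lit 119), (nat_lit 1), (nat_lit 1))])))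

def rows4 : Tr (List Entry) :=
  .node (.node (.node (.node (.leaf [((nat_lit 32), (nat_lit 0), (nat_lit 1), (nat_lit 1)), ((nat_lit 73), (nat_lit 2), (nat_lit 1), (nat_lit 1)), ((nat_lit 74), (nat_lit 3), (nat_lit 1), (nat_lit 1)), ((nat_lit 75), (nat_lit 4), (nat_lit 1), (nat_lit 1)), ((nat_lit 76), (nat_lit 5), (nat_lit 1), (nat_lit 1)), ((nat_lit 77), (nat_lit 6), (nat_lit 1), (nat_lit 1)), ((nat_lit 83), (nat_lit 7), (nat_lit 1), (nat_lit 1)), ((nat_lit 84), (nat_lit 8), (nat_lit 1), (nat_lit 1)), ((nat_lit 85), (nat_lit 9), (nat_lit 1), (nat_lit 1)), ((nat_lit 86), (nat_lit 10), (nat_lit 1), (nat_lit 1)), ((nat_lit 87), (nat_lit 11), (nat_lit 1), (nat_lit 1)), ((nat_lit 88), (nat_lit 12), (nat_lit 1), (nat_lit 1)), ((nat_lit 89), (nat_lit 13), (nat_lit 1), (nat_lit 1)), ((nat_lit 90), (nat_lit 14), (nat_lit 1), (nat_lit 1)), ((nat_lit 91), (nat_lit 15), (nat_lit 1), (nat_lit 1)), ((nat_lit 92), (nat_lit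 16), (nat_lit 1), (nat_lit 1)), ((nat_lit 109), (nat_lit 33), (nat_lit 1), (nat_lit 1)), ((nat_lit 110), (nat_lit 34), (nat_lit 1), (nat_lit 1)), ((nat_lit 111), (nat_lit 35), (nat_lit 1), (nat_lit 1)), ((nat_lit 112), (nat_lit 36), (nat_lit 1), (nat_lit 1)), ((nat_lit 113), (nat_lit 37), (nat_lit 1), (nat_lit 1)), ((nat_lit 114), (nat_lit 38), (nat_lit 1), (nat_lit 1)), ((nat_lit 115), (nat_lit 39), (nat_lit 1), (nat_lit 1)), ((nat_lit 116), (nat_lit 40), (nat_lit 1), (nat_lit 1)), ((nat_lit 117), (nat_lit 41), (nat_lit 1), (nat_lit 1)), ((nat_lit 118), (nat_lit 42), (nat_lit 1), (nat_lit 1)), ((nat_lit 119), (nat_lit 48), (nat_lit 1), (nat_lit 1)), ((nat_lit 120), (nat_lit 49), (nat_lit 1), (nat_lit 1)), ((nat_lit 121), (nat_lit 50), (nat_lit 1), (nat_lit 1)), ((nat_lit 122), (nat_lit 51), (nat_lit 1), (nat_lit 1)), ((nat_lit 123), (nat_lit 52), (nat_lit 1), (nat_lit 1)), ((nat_lit 125), (nat_lit 93),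 (nat_lit 1), (nat_lit 1))]) (.leaf [((nat_lit 4), (nat_lit 6), (nat_lit 1), (nat_lit 1)), ((nat_lit 8), (nat_lit 10), (nat_lit 1), (nat_lit 1)), ((nat_lit 11), (nat_lit 13), (nat_lit 1), (nat_lit 1)), ((nat_lit 14), (nat_lit 16), (nat_lit 1), (nat_lit 1)), ((nat_lit 17), (nat_lit 19), (nat_lit 1), (nat_lit 1)), ((nat_lit 20), (nat_lit 22), (nat_lit 1), (nat_lit 1)), ((nat_lit 23), (nat_lit 25), (nat_lit 1), (nat_lit 1)), ((nat_lit 27), (nat_lit 29), (nat_lit 1), (nat_lit 1)), ((nat_lit 33), (nat_lit 35), (nat_lit 1), (nat_lit 1)), ((nat_lit 36), (nat_lit 38), (nat_lit 1), (nat_lit 1)), ((nat_lit 39), (nat_lit 41), (nat_lit 1), (nat_lit 1)), ((nat_lit 43), (nat_lit 45), (nat_lit 1), (nat_lit 1)), ((nat_lit 48), (nat_lit 50), (nat_lit 1), (nat_lit 1)), ((nat_lit 53), (nat_lit 55), (nat_lit 1), (nat_lit 1)), ((nat_lit 57), (nat_lit 59), (nat_lit 1), (nat_lit 1)), ((nat_lit 61), (nat_lit 63), (nat_lit 1), (nat_lit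 1)), ((nat_lit 62), (nat_lit 64), (nat_lit 1), (nat_lit 1)), ((nat_lit 66), (nat_lit 68), (nat_lit 1), (nat_lit 1)), ((nat_lit 70), (nat_lit 72), (nat_lit 1), (nat_lit 1)), ((nat_lit 75), (nat_lit 77), (nat_lit 1), (nat_lit 1)), ((nat_lit 80), (nat_lit 82), (nat_lit 1), (nat_lit 1)), ((nat_lit 84), (nat_lit 86), (nat_lit 1), (nat_lit 1)), ((nat_lit 87), (nat_lit 89), (nat_lit 1), (nat_lit 1)), ((nat_lit 90), (nat_lit 92), (nat_lit 1), (nat_lit 1)), ((nat_lit 96), (nat_lit 98), (nat_lit 1), (nat_lit 1)), ((nat_lit 100), (nat_lit 102), (nat_lit 1), (nat_lit 1)), ((nat_lit 103), (nat_lit 105), (nat_lit 1), (nat_lit 1)), ((nat_lit 106), (nat_lit 108), (nat_lit 1), (nat_lit 1)), ((nat_lit 109), (nat_lit 111), (nat_lit 1), (nat_lit 1)), ((nat_lit 112), (nat_lit 114), (nat_lit 1), (nat_lit 1)), ((nat_lit 115), (nat_lit 117), (nat_lit 1), (nat_lit 1)), ((nat_lit 119), (nat_lit 121), (nat_lit 1), (nat_lit 1))]))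 (.node (.leaf [((nat_lit 16), (nat_lit 1), (nat_lit 1), (nat_lit 1)), ((nat_lit 22), (nat_lit 2), (nat_lit 1), (nat_lit 1)), ((nat_lit 25), (nat_lit 3), (nat_lit 1), (nat_lit 1)), ((nat_lit 26), (nat_lit 4), (nat_lit 1), (nat_lit 1)), ((nat_lit 29), (nat_lit 7), (nat_lit 1), (nat_lit 1)), ((nat_lit 30), (nat_lit 8), (nat_lit 1), (nat_lit 1)), ((nat_lit 31), (nat_lit 11), (nat_lit 1), (nat_lit 1)), ((nat_lit 32), (nat_lit 17), (nat_lit 1), (nat_lit 1)), ((nat_lit 64), (nat_lit 34), (nat_lit 1), (nat_lit 1)), ((nat_lit 65), (nat_lit 35), (nat_lit 1), (nat_lit 1)), ((nat_lit 67), (nat_lit 36), (nat_lit 1), (nat_lit 1)), ((nat_lit 68), (nat_lit 37), (nat_lit 1), (nat_lit 1)), ((nat_lit 71), (nat_lit 39), (nat_lit 1), (nat_lit 1)), ((nat_lit 72), (nat_lit 40), (nat_lit 1), (nat_lit 1)), ((nat_lit 76), (nat_lit 43), (nat_lit 1), (nat_lit 1)), ((nat_lit 77), (nat_lit 44), (nat_lit 1), (nat_lit 1)), ((nat_lit 81),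 (nat_lit 48), (nat_lit 1), (nat_lit 1)), ((nat_lit 82), (nat_lit 49), (nat_lit 1), (nat_lit 1)), ((nat_lit 85), (nat_lit 53), (nat_lit 1), (nat_lit 1)), ((nat_lit 86), (nat_lit 54), (nat_lit 1), (nat_lit 1)), ((nat_lit 88), (nat_lit 57), (nat_lit 1), (nat_lit 1)), ((nat_lit 89), (nat_lit 58), (nat_lit 1), (nat_lit 1)), ((nat_lit 90), (nat_lit 60), (nat_lit 1), (nat_lit 1)), ((nat_lit 91), (nat_lit 61), (nat_lit 1), (nat_lit 1)), ((nat_lit 108), (nat_lit 93), (nat_lit 1), (nat_lit 1)), ((nat_lit 114), (nat_lit 94), (nat_lit 1), (nat_lit 1)), ((nat_lit 117), (nat_lit 95), (nat_lit 1), (nat_lit 1)), ((nat_lit 118), (nat_lit 96), (nat_lit 1), (nat_lit 1)), ((nat_lit 121), (nat_lit 99), (nat_lit 1), (nat_lit 1)), ((nat_lit 122), (nat_lit 100), (nat_lit 1), (nat_lit 1)), ((nat_lit 123), (nat_lit 103), (nat_lit 1), (nat_lit 1)), ((nat_lit 124), (nat_lit 109), (nat_lit 1), (nat_lit 1))]) (.leaf [((nat_lit 0), (nat_lit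 5), (nat_lit 1), (nat_lit 1)), ((nat_lit 7), (nat_lit 34), (nat_lit 1), (nat_lit 1)), ((nat_lit 8), (nat_lit 36), (nat_lit 1), (nat_lit 1)), ((nat_lit 10), (nat_lit 38), (nat_lit 1), (nat_lit 1)), ((nat_lit 11), (nat_lit 39), (nat_lit 1), (nat_lit 1)), ((nat_lit 13), (nat_lit 41), (nat_lit 1), (nat_lit 1)), ((nat_lit 15), (nat_lit 42), (nat_lit 1), (nat_lit 1)), ((nat_lit 17), (nat_lit 43), (nat_lit 1), (nat_lit 1)), ((nat_lit 19), (nat_lit 45), (nat_lit 1), (nat_lit 1)), ((nat_lit 21), (nat_lit 46), (nat_lit 1), (nat_lit 1)), ((nat_lit 24), (nat_lit 47), (nat_lit 1), (nat_lit 1)), ((nat_lit 27), (nat_lit 62), (nat_lit 1), (nat_lit 1)), ((nat_lit 29), (nat_lit 64), (nat_lit 1), (nat_lit 1)), ((nat_lit 30), (nat_lit 67), (nat_lit 1), (nat_lit 1)), ((nat_lit 31), (nat_lit 71), (nat_lit 1), (nat_lit 1)), ((nat_lit 32), (nat_lit 76), (nat_lit 1), (nat_lit 1)), ((nat_lit 49), (nat_lit 93), (nat_lit 1), (nat_lit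 1)), ((nat_lit 54), (nat_lit 94), (nat_lit 1), (nat_lit 1)), ((nat_lit 58), (nat_lit 95), (nat_lit 1), (nat_lit 1)), ((nat_lit 61), (nat_lit 96), (nat_lit 1), (nat_lit 1)), ((nat_lit 63), (nat_lit 98), (nat_lit 1), (nat_lit 1)), ((nat_lit 78), (nat_lit 101), (nat_lit 1), (nat_lit 1)), ((nat_lit 79), (nat_lit 104), (nat_lit 1), (nat_lit 1)), ((nat_lit 80), (nat_lit 106), (nat_lit 1), (nat_lit 1)), ((nat_lit 82), (nat_lit 108), (nat_lit 1), (nat_lit 1)), ((nat_lit 83), (nat_lit 110), (nat_lit 1), (nat_lit 1)), ((nat_lit 84), (nat_lit 112), (nat_lit 1), (nat_lit 1)), ((nat_lit 86), (nat_lit 114), (nat_lit 1), (nat_lit 1)), ((nat_lit 87), (nat_lit 115), (nat_lit 1), (nat_lit 1)), ((nat_lit 89), (nat_lit 117), (nat_lit 1), (nat_lit 1)), ((nat_lit 91), (nat_lit 118), (nat_lit 1), (nat_lit 1)), ((nat_lit 120), (nat_lit 125), (nat_lit 1), (nat_lit 1))]))) (.node (.node (.leaf [((nat_lit 16), (nat_lit 0), (nat_lit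 1), (nat_lit 1)), ((nat_lit 38), (nat_lit 2), (nat_lit 1), (nat_lit 1)), ((nat_lit 41), (nat_lit 3), (nat_lit 1), (nat_lit 1)), ((nat_lit 42), (nat_lit 4), (nat_lit 1), (nat_lit 1)), ((nat_lit 50), (nat_lit 7), (nat_lit 1), (nat_lit 1)), ((nat_lit 51), (nat_lit 8), (nat_lit 1), (nat_lit 1)), ((nat_lit 52), (nat_lit 11), (nat_lit 1), (nat_lit 1)), ((nat_lit 64), (nat_lit 18), (nat_lit 1), (nat_lit 1)), ((nat_lit 65), (nat_lit 19), (nat_lit 1), (nat_lit 1)), ((nat_lit 67), (nat_lit 20), (nat_lit 1), (nat_lit 1)), ((nat_lit 68), (nat_lit 21), (nat_lit 1), (nat_lit 1)), ((nat_lit 71), (nat_lit 23), (nat_lit 1), (nat_lit 1)), ((nat_lit 72), (nat_lit 24), (nat_lit 1), (nat_lit 1)), ((nat_lit 81), (nat_lit 27), (nat_lit 1), (nat_lit 1)), ((nat_lit 82), (nat_lit 28), (nat_lit 1), (nat_lit 1)), ((nat_lit 92), (nat_lit 32), (nat_lit 1), (nat_lit 1)), ((nat_lit 93), (nat_lit 33), (nat_lit 1), (nat_lit 1)), ((nat_lit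 97), (nat_lit 43), (nat_lit 1), (nat_lit 1)), ((nat_lit 98), (nat_lit 44), (nat_lit 1), (nat_lit 1)), ((nat_lit 101), (nat_lit 53), (nat_lit 1), (nat_lit 1)), ((nat_lit 102), (nat_lit 54), (nat_lit 1), (nat_lit 1)), ((nat_lit 104), (nat_lit 57), (nat_lit 1), (nat_lit 1)), ((nat_lit 105), (nat_lit 58), (nat_lit 1), (nat_lit 1)), ((nat_lit 106), (nat_lit 60), (nat_lit 1), (nat_lit 1)), ((nat_lit 107), (nat_lit 61), (nat_lit 1), (nat_lit 1)), ((nat_lit 114), (nat_lit 73), (nat_lit 1), (nat_lit 1)), ((nat_lit 117), (nat_lit 74), (nat_lit 1), (nat_lit 1)), ((nat_lit 118), (nat_lit 75), (nat_lit 1), (nat_lit 1)), ((nat_lit 121), (nat_lit 83), (nat_lit 1), (nat_lit 1)), ((nat_lit 122), (nat_lit 84), (nat_lit 1), (nat_lit 1)), ((nat_lit 123), (nat_lit 87), (nat_lit 1), (nat_lit 1)), ((nat_lit 125), (nat_lit 109), (nat_lit 1), (nat_lit 1))]) (.leaf [((nat_lit 2), (nat_lit 9), (nat_lit 1), (nat_lit 1)), ((nat_lit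 3), (nat_lit 12), (nat_lit 1), (nat_lit 1)), ((nat_lit 4), (nat_lit 14), (nat_lit 1), (nat_lit 1)), ((nat_lit 6), (nat_lit 16), (nat_lit 1), (nat_lit 1)), ((nat_lit 17), (nat_lit 27), (nat_lit 1), (nat_lit 1)), ((nat_lit 19), (nat_lit 29), (nat_lit 1), (nat_lit 1)), ((nat_lit 21), (nat_lit 30), (nat_lit 1), (nat_lit 1)), ((nat_lit 24), (nat_lit 31), (nat_lit 1), (nat_lit 1)), ((nat_lit 33), (nat_lit 48), (nat_lit 1), (nat_lit 1)), ((nat_lit 35), (nat_lit 50), (nat_lit 1), (nat_lit 1)), ((nat_lit 37), (nat_lit 51), (nat_lit 1), (nat_lit 1)), ((nat_lit 40), (nat_lit 52), (nat_lit 1), (nat_lit 1)), ((nat_lit 43), (nat_lit 62), (nat_lit 1), (nat_lit 1)), ((nat_lit 45), (nat_lit 64), (nat_lit 1), (nat_lit 1)), ((nat_lit 46), (nat_lit 67), (nat_lit 1), (nat_lit 1)), ((nat_lit 47), (nat_lit 71), (nat_lit 1), (nat_lit 1)), ((nat_lit 54), (nat_lit 78), (nat_lit 1), (nat_lit 1)), ((nat_lit 58), (nat_lit 79), (nat_lit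 1), (nat_lit 1)), ((nat_lit 61), (nat_lit 80), (nat_lit 1), (nat_lit 1)), ((nat_lit 63), (nat_lit 82), (nat_lit 1), (nat_lit 1)), ((nat_lit 73), (nat_lit 85), (nat_lit 1), (nat_lit 1)), ((nat_lit 74), (nat_lit 88), (nat_lit 1), (nat_lit 1)), ((nat_lit 75), (nat_lit 90), (nat_lit 1), (nat_lit 1)), ((nat_lit 77), (nat_lit 92), (nat_lit 1), (nat_lit 1)), ((nat_lit 94), (nat_lit 101), (nat_lit 1), (nat_lit 1)), ((nat_lit 95), (nat_lit 104), (nat_lit 1), (nat_lit 1)), ((nat_lit 96), (nat_lit 106), (nat_lit 1), (nat_lit 1)), ((nat_lit 98), (nat_lit 108), (nat_lit 1), (nat_lit 1)), ((nat_lit 109), (nat_lit 119), (nat_lit 1), (nat_lit 1)), ((nat_lit 111), (nat_lit 121), (nat_lit 1), (nat_lit 1)), ((nat_lit 113), (nat_lit 122), (nat_lit 1), (nat_lit 1)), ((nat_lit 116), (nat_lit 123), (nat_lit 1), (nat_lit 1))])) (.node (.leaf [((nat_lit 5), (nat_lit 1), (nat_lit 1), (nat_lit 1)), ((nat_lit 18), (nat_lit 7), (nat_lit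 1), (nat_lit 1)), ((nat_lit 20), (nat_lit 8), (nat_lit 1), (nat_lit 1)), ((nat_lit 22), (nat_lit 10), (nat_lit 1), (nat_lit 1)), ((nat_lit 23), (nat_lit 11), (nat_lit 1), (nat_lit 1)), ((nat_lit 25), (nat_lit 13), (nat_lit 1), (nat_lit 1)), ((nat_lit 26), (nat_lit 15), (nat_lit 1), (nat_lit 1)), ((nat_lit 32), (nat_lit 28), (nat_lit 1), (nat_lit 1)), ((nat_lit 43), (nat_lit 33), (nat_lit 1), (nat_lit 1)), ((nat_lit 45), (nat_lit 35), (nat_lit 1), (nat_lit 1)), ((nat_lit 46), (nat_lit 37), (nat_lit 1), (nat_lit 1)), ((nat_lit 47), (nat_lit 40), (nat_lit 1), (nat_lit 1)), ((nat_lit 62), (nat_lit 48), (nat_lit 1), (nat_lit 1)), ((nat_lit 64), (nat_lit 50), (nat_lit 1), (nat_lit 1)), ((nat_lit 67), (nat_lit 51), (nat_lit 1), (nat_lit 1)), ((nat_lit 71), (nat_lit 52), (nat_lit 1), (nat_lit 1)), ((nat_lit 73), (nat_lit 54), (nat_lit 1), (nat_lit 1)), ((nat_lit 74), (nat_lit 58), (nat_lit 1), (nat_lit 1)), ((nat_lit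 75), (nat_lit 61), (nat_lit 1), (nat_lit 1)), ((nat_lit 77), (nat_lit 63), (nat_lit 1), (nat_lit 1)), ((nat_lit 85), (nat_lit 78), (nat_lit 1), (nat_lit 1)), ((nat_lit 88), (nat_lit 79), (nat_lit 1), (nat_lit 1)), ((nat_lit 90), (nat_lit 80), (nat_lit 1), (nat_lit 1)), ((nat_lit 92), (nat_lit 82), (nat_lit 1), (nat_lit 1)), ((nat_lit 97), (nat_lit 93), (nat_lit 1), (nat_lit 1)), ((nat_lit 110), (nat_lit 99), (nat_lit 1), (nat_lit 1)), ((nat_lit 112), (nat_lit 100), (nat_lit 1), (nat_lit 1)), ((nat_lit 114), (nat_lit 102), (nat_lit 1), (nat_lit 1)), ((nat_lit 115), (nat_lit 103), (nat_lit 1), (nat_lit 1)), ((nat_lit 117), (nat_lit 105), (nat_lit 1), (nat_lit 1)), ((nat_lit 118), (nat_lit 107), (nat_lit 1), (nat_lit 1)), ((nat_lit 124), (nat_lit 120), (nat_lit 1), (nat_lit 1))]) (.leaf [((nat_lit 0), (nat_lit 21), (nat_lit 1), (nat_lit 1)), ((nat_lit 1), (nat_lit 37), (nat_lit 1), (nat_lit 1)), ((nat_lit 3),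 (nat_lit 44), (nat_lit 1), (nat_lit 1)), ((nat_lit 5), (nat_lit 46), (nat_lit 1), (nat_lit 1)), ((nat_lit 7), (nat_lit 54), (nat_lit 1), (nat_lit 1)), ((nat_lit 9), (nat_lit 56), (nat_lit 1), (nat_lit 1)), ((nat_lit 11), (nat_lit 61), (nat_lit 1), (nat_lit 1)), ((nat_lit 13), (nat_lit 63), (nat_lit 1), (nat_lit 1)), ((nat_lit 14), (nat_lit 66), (nat_lit 1), (nat_lit 1)), ((nat_lit 16), (nat_lit 68), (nat_lit 1), (nat_lit 1)), ((nat_lit 18), (nat_lit 73), (nat_lit 1), (nat_lit 1)), ((nat_lit 23), (nat_lit 75), (nat_lit 1), (nat_lit 1)), ((nat_lit 25), (nat_lit 77), (nat_lit 1), (nat_lit 1)), ((nat_lit 27), (nat_lit 84), (nat_lit 1), (nat_lit 1)), ((nat_lit 29), (nat_lit 86), (nat_lit 1), (nat_lit 1)), ((nat_lit 31), (nat_lit 91), (nat_lit 1), (nat_lit 1)), ((nat_lit 34), (nat_lit 94), (nat_lit 1), (nat_lit 1)), ((nat_lit 39), (nat_lit 96), (nat_lit 1), (nat_lit 1)), ((nat_lit 41), (nat_lit 98), (nat_lit 1),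 (nat_lit 1)), ((nat_lit 48), (nat_lit 100), (nat_lit 1), (nat_lit 1)), ((nat_lit 50), (nat_lit 102), (nat_lit 1), (nat_lit 1)), ((nat_lit 52), (nat_lit 107), (nat_lit 1), (nat_lit 1)), ((nat_lit 57), (nat_lit 109), (nat_lit 1), (nat_lit 1)), ((nat_lit 59), (nat_lit 111), (nat_lit 1), (nat_lit 1)), ((nat_lit 62), (nat_lit 112), (nat_lit 1), (nat_lit 1)), ((nat_lit 64), (nat_lit 114), (nat_lit 1), (nat_lit 1)), ((nat_lit 69), (nat_lit 116), (nat_lit 1), (nat_lit 1)), ((nat_lit 71), (nat_lit 118), (nat_lit 1), (nat_lit 1)), ((nat_lit 79), (nat_lit 120), (nat_lit 1), (nat_lit 1)), ((nat_lit 81), (nat_lit 122), (nat_lit 1), (nat_lit 1)), ((nat_lit 88), (nat_lit 124), (nat_lit 1), (nat_lit 1)), ((nat_lit 104), (nat_lit 125), (nat_lit 1), (nat_lit 1))])))) (.node (.node (.node (.leaf [((nat_lit 24), (nat_lit 0), (nat_lit 1), (nat_lit 1)), ((nat_lit 40), (nat_lit 1), (nat_lit 1), (nat_lit 1)), ((nat_lit 44), (nat_lit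 2), (nat_lit 1), (nat_lit 1)), ((nat_lit 47), (nat_lit 5), (nat_lit 1), (nat_lit 1)), ((nat_lit 58), (nat_lit 7), (nat_lit 1), (nat_lit 1)), ((nat_lit 61), (nat_lit 8), (nat_lit 1), (nat_lit 1)), ((nat_lit 63), (nat_lit 10), (nat_lit 1), (nat_lit 1)), ((nat_lit 69), (nat_lit 12), (nat_lit 1), (nat_lit 1)), ((nat_lit 70), (nat_lit 14), (nat_lit 1), (nat_lit 1)), ((nat_lit 72), (nat_lit 16), (nat_lit 1), (nat_lit 1)), ((nat_lit 74), (nat_lit 18), (nat_lit 1), (nat_lit 1)), ((nat_lit 75), (nat_lit 20), (nat_lit 1), (nat_lit 1)), ((nat_lit 77), (nat_lit 22), (nat_lit 1), (nat_lit 1)), ((nat_lit 87), (nat_lit 27), (nat_lit 1), (nat_lit 1)), ((nat_lit 89), (nat_lit 29), (nat_lit 1), (nat_lit 1)), ((nat_lit 91), (nat_lit 30), (nat_lit 1), (nat_lit 1)), ((nat_lit 95), (nat_lit 34), (nat_lit 1), (nat_lit 1)), ((nat_lit 96), (nat_lit 36), (nat_lit 1), (nat_lit 1)), ((nat_lit 98), (nat_lit 38), (nat_lit 1), (nat_lit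 1)), ((nat_lit 103), (nat_lit 48), (nat_lit 1), (nat_lit 1)), ((nat_lit 105), (nat_lit 50), (nat_lit 1), (nat_lit 1)), ((nat_lit 107), (nat_lit 51), (nat_lit 1), (nat_lit 1)), ((nat_lit 109), (nat_lit 53), (nat_lit 1), (nat_lit 1)), ((nat_lit 111), (nat_lit 55), (nat_lit 1), (nat_lit 1)), ((nat_lit 113), (nat_lit 56), (nat_lit 1), (nat_lit 1)), ((nat_lit 115), (nat_lit 62), (nat_lit 1), (nat_lit 1)), ((nat_lit 117), (nat_lit 64), (nat_lit 1), (nat_lit 1)), ((nat_lit 118), (nat_lit 67), (nat_lit 1), (nat_lit 1)), ((nat_lit 120), (nat_lit 78), (nat_lit 1), (nat_lit 1)), ((nat_lit 123), (nat_lit 81), (nat_lit 1), (nat_lit 1)), ((nat_lit 124), (nat_lit 85), (nat_lit 1), (nat_lit 1)), ((nat_lit 125), (nat_lit 101), (nat_lit 1), (nat_lit 1))]) (.leaf [((nat_lit 1), (nat_lit 2), (nat_lit 1), (nat_lit 1)), ((nat_lit 11), (nat_lit 17), (nat_lit 1), (nat_lit 1)), ((nat_lit 12), (nat_lit 18), (nat_lit 1), (nat_lit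 1)), ((nat_lit 13), (nat_lit 19), (nat_lit 1), (nat_lit 1)), ((nat_lit 14), (nat_lit 20), (nat_lit 1), (nat_lit 1)), ((nat_lit 15), (nat_lit 21), (nat_lit 1), (nat_lit 1)), ((nat_lit 16), (nat_lit 22), (nat_lit 1), (nat_lit 1)), ((nat_lit 31), (nat_lit 32), (nat_lit 1), (nat_lit 1)), ((nat_lit 39), (nat_lit 43), (nat_lit 1), (nat_lit 1)), ((nat_lit 40), (nat_lit 44), (nat_lit 1), (nat_lit 1)), ((nat_lit 41), (nat_lit 45), (nat_lit 1), (nat_lit 1)), ((nat_lit 42), (nat_lit 46), (nat_lit 1), (nat_lit 1)), ((nat_lit 48), (nat_lit 53), (nat_lit 1), (nat_lit 1)), ((nat_lit 49), (nat_lit 54), (nat_lit 1), (nat_lit 1)), ((nat_lit 50), (nat_lit 55), (nat_lit 1), (nat_lit 1)), ((nat_lit 51), (nat_lit 56), (nat_lit 1), (nat_lit 1)), ((nat_lit 69), (nat_lit 74), (nat_lit 1), (nat_lit 1)), ((nat_lit 70), (nat_lit 75), (nat_lit 1), (nat_lit 1)), ((nat_lit 71), (nat_lit 76), (nat_lit 1), (nat_lit 1)), ((nat_lit 72), (nat_lit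 77), (nat_lit 1), (nat_lit 1)), ((nat_lit 79), (nat_lit 83), (nat_lit 1), (nat_lit 1)), ((nat_lit 80), (nat_lit 84), (nat_lit 1), (nat_lit 1)), ((nat_lit 81), (nat_lit 85), (nat_lit 1), (nat_lit 1)), ((nat_lit 82), (nat_lit 86), (nat_lit 1), (nat_lit 1)), ((nat_lit 93), (nat_lit 94), (nat_lit 1), (nat_lit 1)), ((nat_lit 103), (nat_lit 109), (nat_lit 1), (nat_lit 1)), ((nat_lit 104), (nat_lit 110), (nat_lit 1), (nat_lit 1)), ((nat_lit 105), (nat_lit 111), (nat_lit 1), (nat_lit 1)), ((nat_lit 106), (nat_lit 112), (nat_lit 1), (nat_lit 1)), ((nat_lit 107), (nat_lit 113), (nat_lit 1), (nat_lit 1)), ((nat_lit 108), (nat_lit 114), (nat_lit 1), (nat_lit 1)), ((nat_lit 123), (nat_lit 124), (nat_lit 1), (nat_lit 1))])) (.node (.leaf [((nat_lit 8), (nat_lit 1), (nat_lit 1), (nat_lit 1)), ((nat_lit 17), (nat_lit 3), (nat_lit 1), (nat_lit 1)), ((nat_lit 20), (nat_lit 5), (nat_lit 1), (nat_lit 1)), ((nat_lit 21), (nat_lit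 6), (nat_lit 1), (nat_lit 1)), ((nat_lit 27), (nat_lit 12), (nat_lit 1), (nat_lit 1)), ((nat_lit 28), (nat_lit 13), (nat_lit 1), (nat_lit 1)), ((nat_lit 30), (nat_lit 16), (nat_lit 1), (nat_lit 1)), ((nat_lit 32), (nat_lit 25), (nat_lit 1), (nat_lit 1)), ((nat_lit 53), (nat_lit 34), (nat_lit 1), (nat_lit 1)), ((nat_lit 54), (nat_lit 35), (nat_lit 1), (nat_lit 1)), ((nat_lit 56), (nat_lit 38), (nat_lit 1), (nat_lit 1)), ((nat_lit 60), (nat_lit 39), (nat_lit 1), (nat_lit 1)), ((nat_lit 61), (nat_lit 40), (nat_lit 1), (nat_lit 1)), ((nat_lit 66), (nat_lit 42), (nat_lit 1), (nat_lit 1)), ((nat_lit 73), (nat_lit 45), (nat_lit 1), (nat_lit 1)), ((nat_lit 75), (nat_lit 47), (nat_lit 1), (nat_lit 1)), ((nat_lit 78), (nat_lit 50), (nat_lit 1), (nat_lit 1)), ((nat_lit 80), (nat_lit 52), (nat_lit 1), (nat_lit 1)), ((nat_lit 83), (nat_lit 59), (nat_lit 1), (nat_lit 1)), ((nat_lit 85), (nat_lit 64), (nat_lit 1), (nat_lit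 1)), ((nat_lit 86), (nat_lit 65), (nat_lit 1), (nat_lit 1)), ((nat_lit 87), (nat_lit 69), (nat_lit 1), (nat_lit 1)), ((nat_lit 90), (nat_lit 71), (nat_lit 1), (nat_lit 1)), ((nat_lit 91), (nat_lit 72), (nat_lit 1), (nat_lit 1)), ((nat_lit 100), (nat_lit 93), (nat_lit 1), (nat_lit 1)), ((nat_lit 109), (nat_lit 95), (nat_lit 1), (nat_lit 1)), ((nat_lit 112), (nat_lit 97), (nat_lit 1), (nat_lit 1)), ((nat_lit 113), (nat_lit 98), (nat_lit 1), (nat_lit 1)), ((nat_lit 119), (nat_lit 104), (nat_lit 1), (nat_lit 1)), ((nat_lit 120), (nat_lit 105), (nat_lit 1), (nat_lit 1)), ((nat_lit 122), (nat_lit 108), (nat_lit 1), (nat_lit 1)), ((nat_lit 124), (nat_lit 117), (nat_lit 1), (nat_lit 1))]) (.leaf [((nat_lit 0), (nat_lit 13), (nat_lit 1), (nat_lit 1)), ((nat_lit 2), (nat_lit 35), (nat_lit 1), (nat_lit 1)), ((nat_lit 4), (nat_lit 40), (nat_lit 1), (nat_lit 1)), ((nat_lit 5), (nat_lit 41), (nat_lit 1), (nat_lit 1)),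 ((nat_lit 8), (nat_lit 49), (nat_lit 1), (nat_lit 1)), ((nat_lit 9), (nat_lit 50), (nat_lit 1), (nat_lit 1)), ((nat_lit 14), (nat_lit 52), (nat_lit 1), (nat_lit 1)), ((nat_lit 17), (nat_lit 58), (nat_lit 1), (nat_lit 1)), ((nat_lit 18), (nat_lit 59), (nat_lit 1), (nat_lit 1)), ((nat_lit 21), (nat_lit 63), (nat_lit 1), (nat_lit 1)), ((nat_lit 22), (nat_lit 65), (nat_lit 1), (nat_lit 1)), ((nat_lit 23), (nat_lit 69), (nat_lit 1), (nat_lit 1)), ((nat_lit 26), (nat_lit 72), (nat_lit 1), (nat_lit 1)), ((nat_lit 27), (nat_lit 79), (nat_lit 1), (nat_lit 1)), ((nat_lit 30), (nat_lit 82), (nat_lit 1), (nat_lit 1)), ((nat_lit 32), (nat_lit 89), (nat_lit 1), (nat_lit 1)), ((nat_lit 36), (nat_lit 93), (nat_lit 1), (nat_lit 1)), ((nat_lit 43), (nat_lit 95), (nat_lit 1), (nat_lit 1)), ((nat_lit 46), (nat_lit 98), (nat_lit 1), (nat_lit 1)), ((nat_lit 53), (nat_lit 99), (nat_lit 1), (nat_lit 1)), ((nat_lit 56), (nat_lit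 102), (nat_lit 1), (nat_lit 1)), ((nat_lit 60), (nat_lit 103), (nat_lit 1), (nat_lit 1)), ((nat_lit 62), (nat_lit 104), (nat_lit 1), (nat_lit 1)), ((nat_lit 66), (nat_lit 107), (nat_lit 1), (nat_lit 1)), ((nat_lit 67), (nat_lit 108), (nat_lit 1), (nat_lit 1)), ((nat_lit 73), (nat_lit 111), (nat_lit 1), (nat_lit 1)), ((nat_lit 75), (nat_lit 116), (nat_lit 1), (nat_lit 1)), ((nat_lit 76), (nat_lit 117), (nat_lit 1), (nat_lit 1)), ((nat_lit 84), (nat_lit 120), (nat_lit 1), (nat_lit 1)), ((nat_lit 85), (nat_lit 121), (nat_lit 1), (nat_lit 1)), ((nat_lit 90), (nat_lit 123), (nat_lit 1), (nat_lit 1)), ((nat_lit 112), (nat_lit 125), (nat_lit 1), (nat_lit 1))]))) (.node (.node (.leaf [((nat_lit 8), (nat_lit 0), (nat_lit 1), (nat_lit 1)), ((nat_lit 33), (nat_lit 3), (nat_lit 1), (nat_lit 1)), ((nat_lit 36), (nat_lit 5), (nat_lit 1), (nat_lit 1)), ((nat_lit 37), (nat_lit 6), (nat_lit 1), (nat_lit 1)), ((nat_lit 48),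 (nat_lit 12), (nat_lit 1), (nat_lit 1)), ((nat_lit 49), (nat_lit 13), (nat_lit 1), (nat_lit 1)), ((nat_lit 51), (nat_lit 16), (nat_lit 1), (nat_lit 1)), ((nat_lit 53), (nat_lit 18), (nat_lit 1), (nat_lit 1)), ((nat_lit 54), (nat_lit 19), (nat_lit 1), (nat_lit 1)), ((nat_lit 56), (nat_lit 22), (nat_lit 1), (nat_lit 1)), ((nat_lit 60), (nat_lit 23), (nat_lit 1), (nat_lit 1)), ((nat_lit 61), (nat_lit 24), (nat_lit 1), (nat_lit 1)), ((nat_lit 66), (nat_lit 26), (nat_lit 1), (nat_lit 1)), ((nat_lit 78), (nat_lit 29), (nat_lit 1), (nat_lit 1)), ((nat_lit 80), (nat_lit 31), (nat_lit 1), (nat_lit 1)), ((nat_lit 84), (nat_lit 32), (nat_lit 1), (nat_lit 1)), ((nat_lit 93), (nat_lit 41), (nat_lit 1), (nat_lit 1)), ((nat_lit 94), (nat_lit 45), (nat_lit 1), (nat_lit 1)), ((nat_lit 96), (nat_lit 47), (nat_lit 1), (nat_lit 1)), ((nat_lit 99), (nat_lit 59), (nat_lit 1), (nat_lit 1)), ((nat_lit 101), (nat_lit 64), (nat_lit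 1), (nat_lit 1)), ((nat_lit 102), (nat_lit 65), (nat_lit 1), (nat_lit 1)), ((nat_lit 103), (nat_lit 69), (nat_lit 1), (nat_lit 1)), ((nat_lit 106), (nat_lit 71), (nat_lit 1), (nat_lit 1)), ((nat_lit 107), (nat_lit 72), (nat_lit 1), (nat_lit 1)), ((nat_lit 109), (nat_lit 74), (nat_lit 1), (nat_lit 1)), ((nat_lit 112), (nat_lit 76), (nat_lit 1), (nat_lit 1)), ((nat_lit 113), (nat_lit 77), (nat_lit 1), (nat_lit 1)), ((nat_lit 119), (nat_lit 88), (nat_lit 1), (nat_lit 1)), ((nat_lit 120), (nat_lit 89), (nat_lit 1), (nat_lit 1)), ((nat_lit 122), (nat_lit 92), (nat_lit 1), (nat_lit 1)), ((nat_lit 125), (nat_lit 117), (nat_lit 1), (nat_lit 1))]) (.leaf [((nat_lit 1), (nat_lit 13), (nat_lit 1), (nat_lit 1)), ((nat_lit 2), (nat_lit 19), (nat_lit 1), (nat_lit 1)), ((nat_lit 4), (nat_lit 24), (nat_lit 1), (nat_lit 1)), ((nat_lit 5), (nat_lit 25), (nat_lit 1), (nat_lit 1)), ((nat_lit 8), (nat_lit 28), (nat_lit 1), (nat_lit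 1)), ((nat_lit 9), (nat_lit 29), (nat_lit 1), (nat_lit 1)), ((nat_lit 14), (nat_lit 31), (nat_lit 1), (nat_lit 1)), ((nat_lit 20), (nat_lit 32), (nat_lit 1), (nat_lit 1)), ((nat_lit 33), (nat_lit 58), (nat_lit 1), (nat_lit 1)), ((nat_lit 34), (nat_lit 59), (nat_lit 1), (nat_lit 1)), ((nat_lit 37), (nat_lit 63), (nat_lit 1), (nat_lit 1)), ((nat_lit 38), (nat_lit 65), (nat_lit 1), (nat_lit 1)), ((nat_lit 39), (nat_lit 69), (nat_lit 1), (nat_lit 1)), ((nat_lit 42), (nat_lit 72), (nat_lit 1), (nat_lit 1)), ((nat_lit 43), (nat_lit 74), (nat_lit 1), (nat_lit 1)), ((nat_lit 46), (nat_lit 77), (nat_lit 1), (nat_lit 1)), ((nat_lit 48), (nat_lit 79), (nat_lit 1), (nat_lit 1)), ((nat_lit 51), (nat_lit 82), (nat_lit 1), (nat_lit 1)), ((nat_lit 53), (nat_lit 83), (nat_lit 1), (nat_lit 1)), ((nat_lit 56), (nat_lit 86), (nat_lit 1), (nat_lit 1)), ((nat_lit 60), (nat_lit 87), (nat_lit 1), (nat_lit 1)), ((nat_lit 62), (nat_lit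 88), (nat_lit 1), (nat_lit 1)), ((nat_lit 66), (nat_lit 91), (nat_lit 1), (nat_lit 1)), ((nat_lit 67), (nat_lit 92), (nat_lit 1), (nat_lit 1)), ((nat_lit 93), (nat_lit 105), (nat_lit 1), (nat_lit 1)), ((nat_lit 94), (nat_lit 111), (nat_lit 1), (nat_lit 1)), ((nat_lit 96), (nat_lit 116), (nat_lit 1), (nat_lit 1)), ((nat_lit 97), (nat_lit 117), (nat_lit 1), (nat_lit 1)), ((nat_lit 100), (nat_lit 120), (nat_lit 1), (nat_lit 1)), ((nat_lit 101), (nat_lit 121), (nat_lit 1), (nat_lit 1)), ((nat_lit 106), (nat_lit 123), (nat_lit 1), (nat_lit 1)), ((nat_lit 112), (nat_lit 124), (nat_lit 1), (nat_lit 1))])) (.node (.leaf [((nat_lit 6), (nat_lit 3), (nat_lit 1), (nat_lit 1)), ((nat_lit 10), (nat_lit 7), (nat_lit 1), (nat_lit 1)), ((nat_lit 15), (nat_lit 11), (nat_lit 1), (nat_lit 1)), ((nat_lit 16), (nat_lit 12), (nat_lit 1), (nat_lit 1)), ((nat_lit 21), (nat_lit 17), (nat_lit 1), (nat_lit 1)), ((nat_lit 22), (nat_lit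 18), (nat_lit 1), (nat_lit 1)), ((nat_lit 26), (nat_lit 23), (nat_lit 1), (nat_lit 1)), ((nat_lit 30), (nat_lit 27), (nat_lit 1), (nat_lit 1)), ((nat_lit 37), (nat_lit 33), (nat_lit 1), (nat_lit 1)), ((nat_lit 38), (nat_lit 34), (nat_lit 1), (nat_lit 1)), ((nat_lit 42), (nat_lit 39), (nat_lit 1), (nat_lit 1)), ((nat_lit 46), (nat_lit 43), (nat_lit 1), (nat_lit 1)), ((nat_lit 51), (nat_lit 48), (nat_lit 1), (nat_lit 1)), ((nat_lit 56), (nat_lit 53), (nat_lit 1), (nat_lit 1)), ((nat_lit 63), (nat_lit 58), (nat_lit 1), (nat_lit 1)), ((nat_lit 65), (nat_lit 59), (nat_lit 1), (nat_lit 1)), ((nat_lit 66), (nat_lit 60), (nat_lit 1), (nat_lit 1)), ((nat_lit 67), (nat_lit 62), (nat_lit 1), (nat_lit 1)), ((nat_lit 72), (nat_lit 69), (nat_lit 1), (nat_lit 1)), ((nat_lit 77), (nat_lit 74), (nat_lit 1), (nat_lit 1)), ((nat_lit 82), (nat_lit 79), (nat_lit 1), (nat_lit 1)), ((nat_lit 86), (nat_lit 83), (nat_lit 1), (nat_lit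 1)), ((nat_lit 91), (nat_lit 87), (nat_lit 1), (nat_lit 1)), ((nat_lit 92), (nat_lit 88), (nat_lit 1), (nat_lit 1)), ((nat_lit 98), (nat_lit 95), (nat_lit 1), (nat_lit 1)), ((nat_lit 102), (nat_lit 99), (nat_lit 1), (nat_lit 1)), ((nat_lit 107), (nat_lit 103), (nat_lit 1), (nat_lit 1)), ((nat_lit 108), (nat_lit 104), (nat_lit 1), (nat_lit 1)), ((nat_lit 113), (nat_lit 109), (nat_lit 1), (nat_lit 1)), ((nat_lit 114), (nat_lit 110), (nat_lit 1), (nat_lit 1)), ((nat_lit 118), (nat_lit 115), (nat_lit 1), (nat_lit 1)), ((nat_lit 122), (nat_lit 119), (nat_lit 1), (nat_lit 1))]) (.leaf [((nat_lit 0), (nat_lit 29), (nat_lit 1), (nat_lit 1)), ((nat_lit 1), (nat_lit 50), (nat_lit 1), (nat_lit 1)), ((nat_lit 2), (nat_lit 55), (nat_lit 1), (nat_lit 1)), ((nat_lit 3), (nat_lit 59), (nat_lit 1), (nat_lit 1)), ((nat_lit 5), (nat_lit 64), (nat_lit 1), (nat_lit 1)), ((nat_lit 6), (nat_lit 65), (nat_lit 1), (nat_lit 1)),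 ((nat_lit 8), (nat_lit 78), (nat_lit 1), (nat_lit 1)), ((nat_lit 11), (nat_lit 79), (nat_lit 1), (nat_lit 1)), ((nat_lit 14), (nat_lit 81), (nat_lit 1), (nat_lit 1)), ((nat_lit 15), (nat_lit 82), (nat_lit 1), (nat_lit 1)), ((nat_lit 17), (nat_lit 83), (nat_lit 1), (nat_lit 1)), ((nat_lit 20), (nat_lit 85), (nat_lit 1), (nat_lit 1)), ((nat_lit 21), (nat_lit 86), (nat_lit 1), (nat_lit 1)), ((nat_lit 23), (nat_lit 88), (nat_lit 1), (nat_lit 1)), ((nat_lit 24), (nat_lit 89), (nat_lit 1), (nat_lit 1)), ((nat_lit 26), (nat_lit 92), (nat_lit 1), (nat_lit 1)), ((nat_lit 33), (nat_lit 99), (nat_lit 1), (nat_lit 1)), ((nat_lit 36), (nat_lit 101), (nat_lit 1), (nat_lit 1)), ((nat_lit 37), (nat_lit 102), (nat_lit 1), (nat_lit 1)), ((nat_lit 39), (nat_lit 104), (nat_lit 1), (nat_lit 1)), ((nat_lit 40), (nat_lit 105), (nat_lit 1), (nat_lit 1)), ((nat_lit 42), (nat_lit 108), (nat_lit 1), (nat_lit 1)), ((nat_lit 43), (nat_lit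 110), (nat_lit 1), (nat_lit 1)), ((nat_lit 44), (nat_lit 111), (nat_lit 1), (nat_lit 1)), ((nat_lit 46), (nat_lit 114), (nat_lit 1), (nat_lit 1)), ((nat_lit 47), (nat_lit 117), (nat_lit 1), (nat_lit 1)), ((nat_lit 60), (nat_lit 119), (nat_lit 1), (nat_lit 1)), ((nat_lit 61), (nat_lit 120), (nat_lit 1), (nat_lit 1)), ((nat_lit 66), (nat_lit 122), (nat_lit 1), (nat_lit 1)), ((nat_lit 70), (nat_lit 123), (nat_lit 1), (nat_lit 1)), ((nat_lit 75), (nat_lit 124), (nat_lit 1), (nat_lit 1)), ((nat_lit 96), (nat_lit 125), (nat_lit 1), (nat_lit 1))]))))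

def rows5 : Tr (List Entry) :=
  .node (.node (.node (.node (.leaf [((nat_lit 28), (nat_lit 0), (nat_lit 1), (nat_lit 1)), ((nat_lit 49), (nat_lit 1), (nat_lit 1), (nat_lit 1)), ((nat_lit 54), (nat_lit 2), (nat_lit 1), (nat_lit 1)), ((nat_lit 58), (nat_lit 3), (nat_lit 1), (nat_lit 1)), ((nat_lit 61), (nat_lit 4), (nat_lit 1), (nat_lit 1)), ((nat_lit 63), (nat_lit 6), (nat_lit 1), (nat_lit 1)), ((nat_lit 78), (nat_lit 9), (nat_lit 1), (nat_lit 1)), ((nat_lit 79), (nat_lit 12), (nat_lit 1), (nat_lit 1)), ((nat_lit 80), (nat_lit 14), (nat_lit 1), (nat_lit 1)), ((nat_lit 82), (nat_lit 16), (nat_lit 1), (nat_lit 1)), ((nat_lit 83), (nat_lit 18), (nat_lit 1), (nat_lit 1)), ((nat_lit 84), (nat_lit 20), (nat_lit 1), (nat_lit 1)), ((nat_lit 86), (nat_lit 22), (nat_lit 1), (nat_lit 1)), ((nat_lit 87), (nat_lit 23), (nat_lit 1), (nat_lit 1)), ((nat_lit 89), (nat_lit 25), (nat_lit 1), (nat_lit 1)), ((nat_lit 91),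 (nat_lit 26), (nat_lit 1), (nat_lit 1)), ((nat_lit 99), (nat_lit 34), (nat_lit 1), (nat_lit 1)), ((nat_lit 100), (nat_lit 36), (nat_lit 1), (nat_lit 1)), ((nat_lit 102), (nat_lit 38), (nat_lit 1), (nat_lit 1)), ((nat_lit 103), (nat_lit 39), (nat_lit 1), (nat_lit 1)), ((nat_lit 105), (nat_lit 41), (nat_lit 1), (nat_lit 1)), ((nat_lit 107), (nat_lit 42), (nat_lit 1), (nat_lit 1)), ((nat_lit 109), (nat_lit 43), (nat_lit 1), (nat_lit 1)), ((nat_lit 111), (nat_lit 45), (nat_lit 1), (nat_lit 1)), ((nat_lit 113), (nat_lit 46), (nat_lit 1), (nat_lit 1)), ((nat_lit 116), (nat_lit 47), (nat_lit 1), (nat_lit 1)), ((nat_lit 119), (nat_lit 62), (nat_lit 1), (nat_lit 1)), ((nat_lit 121), (nat_lit 64), (nat_lit 1), (nat_lit 1)), ((nat_lit 122), (nat_lit 67), (nat_lit 1), (nat_lit 1)), ((nat_lit 123), (nat_lit 71), (nat_lit 1), (nat_lit 1)), ((nat_lit 124), (nat_lit 76), (nat_lit 1), (nat_lit 1)), ((nat_lit 125), (nat_lit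 97), (nat_lit 1), (nat_lit 1))]) (.leaf [((nat_lit 2), (nat_lit 3), (nat_lit 1), (nat_lit 1)), ((nat_lit 8), (nat_lit 11), (nat_lit 1), (nat_lit 1)), ((nat_lit 9), (nat_lit 12), (nat_lit 1), (nat_lit 1)), ((nat_lit 10), (nat_lit 13), (nat_lit 1), (nat_lit 1)), ((nat_lit 20), (nat_lit 23), (nat_lit 1), (nat_lit 1)), ((nat_lit 21), (nat_lit 24), (nat_lit 1), (nat_lit 1)), ((nat_lit 22), (nat_lit 25), (nat_lit 1), (nat_lit 1)), ((nat_lit 30), (nat_lit 31), (nat_lit 1), (nat_lit 1)), ((nat_lit 36), (nat_lit 39), (nat_lit 1), (nat_lit 1)), ((nat_lit 37), (nat_lit 40), (nat_lit 1), (nat_lit 1)), ((nat_lit 38), (nat_lit 41), (nat_lit 1), (nat_lit 1)), ((nat_lit 46), (nat_lit 47), (nat_lit 1), (nat_lit 1)), ((nat_lit 51), (nat_lit 52), (nat_lit 1), (nat_lit 1)), ((nat_lit 53), (nat_lit 57), (nat_lit 1), (nat_lit 1)), ((nat_lit 54), (nat_lit 58), (nat_lit 1), (nat_lit 1)), ((nat_lit 55), (nat_lit 59), (nat_lit 1),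 (nat_lit 1)), ((nat_lit 66), (nat_lit 70), (nat_lit 1), (nat_lit 1)), ((nat_lit 67), (nat_lit 71), (nat_lit 1), (nat_lit 1)), ((nat_lit 68), (nat_lit 72), (nat_lit 1), (nat_lit 1)), ((nat_lit 73), (nat_lit 74), (nat_lit 1), (nat_lit 1)), ((nat_lit 78), (nat_lit 79), (nat_lit 1), (nat_lit 1)), ((nat_lit 84), (nat_lit 87), (nat_lit 1), (nat_lit 1)), ((nat_lit 85), (nat_lit 88), (nat_lit 1), (nat_lit 1)), ((nat_lit 86), (nat_lit 89), (nat_lit 1), (nat_lit 1)), ((nat_lit 94), (nat_lit 95), (nat_lit 1), (nat_lit 1)), ((nat_lit 100), (nat_lit 103), (nat_lit 1), (nat_lit 1)), ((nat_lit 101), (nat_lit 104), (nat_lit 1), (nat_lit 1)), ((nat_lit 102), (nat_lit 105), (nat_lit 1), (nat_lit 1)), ((nat_lit 112), (nat_lit 115), (nat_lit 1), (nat_lit 1)), ((nat_lit 113), (nat_lit 116), (nat_lit 1), (nat_lit 1)), ((nat_lit 114), (nat_lit 117), (nat_lit 1), (nat_lit 1)), ((nat_lit 122), (nat_lit 123), (nat_lit 1), (nat_lit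 1))])) (.node (.leaf [((nat_lit 12), (nat_lit 1), (nat_lit 1), (nat_lit 1)), ((nat_lit 18), (nat_lit 2), (nat_lit 1), (nat_lit 1)), ((nat_lit 23), (nat_lit 4), (nat_lit 1), (nat_lit 1)), ((nat_lit 25), (nat_lit 6), (nat_lit 1), (nat_lit 1)), ((nat_lit 27), (nat_lit 8), (nat_lit 1), (nat_lit 1)), ((nat_lit 29), (nat_lit 10), (nat_lit 1), (nat_lit 1)), ((nat_lit 31), (nat_lit 15), (nat_lit 1), (nat_lit 1)), ((nat_lit 32), (nat_lit 21), (nat_lit 1), (nat_lit 1)), ((nat_lit 57), (nat_lit 33), (nat_lit 1), (nat_lit 1)), ((nat_lit 59), (nat_lit 35), (nat_lit 1), (nat_lit 1)), ((nat_lit 62), (nat_lit 36), (nat_lit 1), (nat_lit 1)), ((nat_lit 64), (nat_lit 38), (nat_lit 1), (nat_lit 1)), ((nat_lit 69), (nat_lit 40), (nat_lit 1), (nat_lit 1)), ((nat_lit 71), (nat_lit 42), (nat_lit 1), (nat_lit 1)), ((nat_lit 74), (nat_lit 44), (nat_lit 1), (nat_lit 1)), ((nat_lit 76), (nat_lit 46), (nat_lit 1), (nat_lit 1)), ((nat_lit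 79), (nat_lit 49), (nat_lit 1), (nat_lit 1)), ((nat_lit 81), (nat_lit 51), (nat_lit 1), (nat_lit 1)), ((nat_lit 83), (nat_lit 54), (nat_lit 1), (nat_lit 1)), ((nat_lit 85), (nat_lit 56), (nat_lit 1), (nat_lit 1)), ((nat_lit 87), (nat_lit 61), (nat_lit 1), (nat_lit 1)), ((nat_lit 89), (nat_lit 63), (nat_lit 1), (nat_lit 1)), ((nat_lit 90), (nat_lit 66), (nat_lit 1), (nat_lit 1)), ((nat_lit 92), (nat_lit 68), (nat_lit 1), (nat_lit 1)), ((nat_lit 104), (nat_lit 93), (nat_lit 1), (nat_lit 1)), ((nat_lit 110), (nat_lit 94), (nat_lit 1), (nat_lit 1)), ((nat_lit 115), (nat_lit 96), (nat_lit 1), (nat_lit 1)), ((nat_lit 117), (nat_lit 98), (nat_lit 1), (nat_lit 1)), ((nat_lit 119), (nat_lit 100), (nat_lit 1), (nat_lit 1)), ((nat_lit 121), (nat_lit 102), (nat_lit 1), (nat_lit 1)), ((nat_lit 123), (nat_lit 107), (nat_lit 1), (nat_lit 1)), ((nat_lit 124), (nat_lit 113), (nat_lit 1), (nat_lit 1))]) (.leaf [((nat_lit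 0), (nat_lit 9), (nat_lit 1), (nat_lit 1)), ((nat_lit 3), (nat_lit 34), (nat_lit 1), (nat_lit 1)), ((nat_lit 4), (nat_lit 36), (nat_lit 1), (nat_lit 1)), ((nat_lit 6), (nat_lit 38), (nat_lit 1), (nat_lit 1)), ((nat_lit 11), (nat_lit 48), (nat_lit 1), (nat_lit 1)), ((nat_lit 13), (nat_lit 50), (nat_lit 1), (nat_lit 1)), ((nat_lit 15), (nat_lit 51), (nat_lit 1), (nat_lit 1)), ((nat_lit 17), (nat_lit 53), (nat_lit 1), (nat_lit 1)), ((nat_lit 19), (nat_lit 55), (nat_lit 1), (nat_lit 1)), ((nat_lit 21), (nat_lit 56), (nat_lit 1), (nat_lit 1)), ((nat_lit 23), (nat_lit 62), (nat_lit 1), (nat_lit 1)), ((nat_lit 25), (nat_lit 64), (nat_lit 1), (nat_lit 1)), ((nat_lit 26), (nat_lit 67), (nat_lit 1), (nat_lit 1)), ((nat_lit 28), (nat_lit 78), (nat_lit 1), (nat_lit 1)), ((nat_lit 31), (nat_lit 81), (nat_lit 1), (nat_lit 1)), ((nat_lit 32), (nat_lit 85), (nat_lit 1), (nat_lit 1)), ((nat_lit 40), (nat_lit 93), (nat_lit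 1), (nat_lit 1)), ((nat_lit 44), (nat_lit 94), (nat_lit 1), (nat_lit 1)), ((nat_lit 47), (nat_lit 97), (nat_lit 1), (nat_lit 1)), ((nat_lit 58), (nat_lit 99), (nat_lit 1), (nat_lit 1)), ((nat_lit 61), (nat_lit 100), (nat_lit 1), (nat_lit 1)), ((nat_lit 63), (nat_lit 102), (nat_lit 1), (nat_lit 1)), ((nat_lit 69), (nat_lit 104), (nat_lit 1), (nat_lit 1)), ((nat_lit 70), (nat_lit 106), (nat_lit 1), (nat_lit 1)), ((nat_lit 72), (nat_lit 108), (nat_lit 1), (nat_lit 1)), ((nat_lit 74), (nat_lit 110), (nat_lit 1), (nat_lit 1)), ((nat_lit 75), (nat_lit 112), (nat_lit 1), (nat_lit 1)), ((nat_lit 77), (nat_lit 114), (nat_lit 1), (nat_lit 1)), ((nat_lit 87), (nat_lit 119), (nat_lit 1), (nat_lit 1)), ((nat_lit 89), (nat_lit 121), (nat_lit 1), (nat_lit 1)), ((nat_lit 91), (nat_lit 122), (nat_lit 1), (nat_lit 1)), ((nat_lit 116), (nat_lit 125), (nat_lit 1), (nat_lit 1))]))) (.node (.node (.leaf [((nat_lit 12), (nat_lit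 0), (nat_lit 1), (nat_lit 1)), ((nat_lit 34), (nat_lit 2), (nat_lit 1), (nat_lit 1)), ((nat_lit 39), (nat_lit 4), (nat_lit 1), (nat_lit 1)), ((nat_lit 41), (nat_lit 6), (nat_lit 1), (nat_lit 1)), ((nat_lit 48), (nat_lit 8), (nat_lit 1), (nat_lit 1)), ((nat_lit 50), (nat_lit 10), (nat_lit 1), (nat_lit 1)), ((nat_lit 52), (nat_lit 15), (nat_lit 1), (nat_lit 1)), ((nat_lit 57), (nat_lit 17), (nat_lit 1), (nat_lit 1)), ((nat_lit 59), (nat_lit 19), (nat_lit 1), (nat_lit 1)), ((nat_lit 62), (nat_lit 20), (nat_lit 1), (nat_lit 1)), ((nat_lit 64), (nat_lit 22), (nat_lit 1), (nat_lit 1)), ((nat_lit 69), (nat_lit 24), (nat_lit 1), (nat_lit 1)), ((nat_lit 71), (nat_lit 26), (nat_lit 1), (nat_lit 1)), ((nat_lit 79), (nat_lit 28), (nat_lit 1), (nat_lit 1)), ((nat_lit 81), (nat_lit 30), (nat_lit 1), (nat_lit 1)), ((nat_lit 88), (nat_lit 32), (nat_lit 1), (nat_lit 1)), ((nat_lit 93), (nat_lit 37), (nat_lit 1), (nat_lit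 1)), ((nat_lit 95), (nat_lit 44), (nat_lit 1), (nat_lit 1)), ((nat_lit 97), (nat_lit 46), (nat_lit 1), (nat_lit 1)), ((nat_lit 99), (nat_lit 54), (nat_lit 1), (nat_lit 1)), ((nat_lit 101), (nat_lit 56), (nat_lit 1), (nat_lit 1)), ((nat_lit 103), (nat_lit 61), (nat_lit 1), (nat_lit 1)), ((nat_lit 105), (nat_lit 63), (nat_lit 1), (nat_lit 1)), ((nat_lit 106), (nat_lit 66), (nat_lit 1), (nat_lit 1)), ((nat_lit 108), (nat_lit 68), (nat_lit 1), (nat_lit 1)), ((nat_lit 110), (nat_lit 73), (nat_lit 1), (nat_lit 1)), ((nat_lit 115), (nat_lit 75), (nat_lit 1), (nat_lit 1)), ((nat_lit 117), (nat_lit 77), (nat_lit 1), (nat_lit 1)), ((nat_lit 119), (nat_lit 84), (nat_lit 1), (nat_lit 1)), ((nat_lit 121), (nat_lit 86), (nat_lit 1), (nat_lit 1)), ((nat_lit 123), (nat_lit 91), (nat_lit 1), (nat_lit 1)), ((nat_lit 125), (nat_lit 113), (nat_lit 1), (nat_lit 1))]) (.leaf [((nat_lit 1), (nat_lit 9), (nat_lit 1), (nat_lit 1)),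 ((nat_lit 3), (nat_lit 18), (nat_lit 1), (nat_lit 1)), ((nat_lit 4), (nat_lit 20), (nat_lit 1), (nat_lit 1)), ((nat_lit 6), (nat_lit 22), (nat_lit 1), (nat_lit 1)), ((nat_lit 11), (nat_lit 27), (nat_lit 1), (nat_lit 1)), ((nat_lit 13), (nat_lit 29), (nat_lit 1), (nat_lit 1)), ((nat_lit 15), (nat_lit 30), (nat_lit 1), (nat_lit 1)), ((nat_lit 24), (nat_lit 32), (nat_lit 1), (nat_lit 1)), ((nat_lit 33), (nat_lit 53), (nat_lit 1), (nat_lit 1)), ((nat_lit 35), (nat_lit 55), (nat_lit 1), (nat_lit 1)), ((nat_lit 37), (nat_lit 56), (nat_lit 1), (nat_lit 1)), ((nat_lit 39), (nat_lit 62), (nat_lit 1), (nat_lit 1)), ((nat_lit 41), (nat_lit 64), (nat_lit 1), (nat_lit 1)), ((nat_lit 42), (nat_lit 67), (nat_lit 1), (nat_lit 1)), ((nat_lit 44), (nat_lit 73), (nat_lit 1), (nat_lit 1)), ((nat_lit 47), (nat_lit 76), (nat_lit 1), (nat_lit 1)), ((nat_lit 49), (nat_lit 78), (nat_lit 1), (nat_lit 1)), ((nat_lit 52), (nat_lit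 81), (nat_lit 1), (nat_lit 1)), ((nat_lit 58), (nat_lit 83), (nat_lit 1), (nat_lit 1)), ((nat_lit 61), (nat_lit 84), (nat_lit 1), (nat_lit 1)), ((nat_lit 63), (nat_lit 86), (nat_lit 1), (nat_lit 1)), ((nat_lit 69), (nat_lit 88), (nat_lit 1), (nat_lit 1)), ((nat_lit 70), (nat_lit 90), (nat_lit 1), (nat_lit 1)), ((nat_lit 72), (nat_lit 92), (nat_lit 1), (nat_lit 1)), ((nat_lit 93), (nat_lit 101), (nat_lit 1), (nat_lit 1)), ((nat_lit 95), (nat_lit 110), (nat_lit 1), (nat_lit 1)), ((nat_lit 96), (nat_lit 112), (nat_lit 1), (nat_lit 1)), ((nat_lit 98), (nat_lit 114), (nat_lit 1), (nat_lit 1)), ((nat_lit 103), (nat_lit 119), (nat_lit 1), (nat_lit 1)), ((nat_lit 105), (nat_lit 121), (nat_lit 1), (nat_lit 1)), ((nat_lit 107), (nat_lit 122), (nat_lit 1), (nat_lit 1)), ((nat_lit 116), (nat_lit 124), (nat_lit 1), (nat_lit 1))])) (.node (.leaf [((nat_lit 6), (nat_lit 2), (nat_lit 1), (nat_lit 1)), ((nat_lit 13), (nat_lit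 7), (nat_lit 1), (nat_lit 1)), ((nat_lit 15), (nat_lit 8), (nat_lit 1), (nat_lit 1)), ((nat_lit 16), (nat_lit 9), (nat_lit 1), (nat_lit 1)), ((nat_lit 24), (nat_lit 17), (nat_lit 1), (nat_lit 1)), ((nat_lit 25), (nat_lit 18), (nat_lit 1), (nat_lit 1)), ((nat_lit 26), (nat_lit 20), (nat_lit 1), (nat_lit 1)), ((nat_lit 31), (nat_lit 27), (nat_lit 1), (nat_lit 1)), ((nat_lit 40), (nat_lit 33), (nat_lit 1), (nat_lit 1)), ((nat_lit 41), (nat_lit 34), (nat_lit 1), (nat_lit 1)), ((nat_lit 42), (nat_lit 36), (nat_lit 1), (nat_lit 1)), ((nat_lit 47), (nat_lit 43), (nat_lit 1), (nat_lit 1)), ((nat_lit 52), (nat_lit 48), (nat_lit 1), (nat_lit 1)), ((nat_lit 63), (nat_lit 54), (nat_lit 1), (nat_lit 1)), ((nat_lit 65), (nat_lit 55), (nat_lit 1), (nat_lit 1)), ((nat_lit 68), (nat_lit 56), (nat_lit 1), (nat_lit 1)), ((nat_lit 69), (nat_lit 57), (nat_lit 1), (nat_lit 1)), ((nat_lit 70), (nat_lit 60), (nat_lit 1), (nat_lit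 1)), ((nat_lit 71), (nat_lit 62), (nat_lit 1), (nat_lit 1)), ((nat_lit 77), (nat_lit 73), (nat_lit 1), (nat_lit 1)), ((nat_lit 82), (nat_lit 78), (nat_lit 1), (nat_lit 1)), ((nat_lit 89), (nat_lit 83), (nat_lit 1), (nat_lit 1)), ((nat_lit 91), (nat_lit 84), (nat_lit 1), (nat_lit 1)), ((nat_lit 92), (nat_lit 85), (nat_lit 1), (nat_lit 1)), ((nat_lit 98), (nat_lit 94), (nat_lit 1), (nat_lit 1)), ((nat_lit 105), (nat_lit 99), (nat_lit 1), (nat_lit 1)), ((nat_lit 107), (nat_lit 100), (nat_lit 1), (nat_lit 1)), ((nat_lit 108), (nat_lit 101), (nat_lit 1), (nat_lit 1)), ((nat_lit 116), (nat_lit 109), (nat_lit 1), (nat_lit 1)), ((nat_lit 117), (nat_lit 110), (nat_lit 1), (nat_lit 1)), ((nat_lit 118), (nat_lit 112), (nat_lit 1), (nat_lit 1)), ((nat_lit 123), (nat_lit 119), (nat_lit 1), (nat_lit 1))]) (.leaf [((nat_lit 0), (nat_lit 25), (nat_lit 1), (nat_lit 1)), ((nat_lit 1), (nat_lit 41), (nat_lit 1), (nat_lit 1)),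 ((nat_lit 2), (nat_lit 45), (nat_lit 1), (nat_lit 1)), ((nat_lit 4), (nat_lit 47), (nat_lit 1), (nat_lit 1)), ((nat_lit 7), (nat_lit 59), (nat_lit 1), (nat_lit 1)), ((nat_lit 9), (nat_lit 64), (nat_lit 1), (nat_lit 1)), ((nat_lit 10), (nat_lit 65), (nat_lit 1), (nat_lit 1)), ((nat_lit 11), (nat_lit 69), (nat_lit 1), (nat_lit 1)), ((nat_lit 14), (nat_lit 71), (nat_lit 1), (nat_lit 1)), ((nat_lit 15), (nat_lit 72), (nat_lit 1), (nat_lit 1)), ((nat_lit 17), (nat_lit 74), (nat_lit 1), (nat_lit 1)), ((nat_lit 20), (nat_lit 76), (nat_lit 1), (nat_lit 1)), ((nat_lit 21), (nat_lit 77), (nat_lit 1), (nat_lit 1)), ((nat_lit 27), (nat_lit 88), (nat_lit 1), (nat_lit 1)), ((nat_lit 28), (nat_lit 89), (nat_lit 1), (nat_lit 1)), ((nat_lit 30), (nat_lit 92), (nat_lit 1), (nat_lit 1)), ((nat_lit 33), (nat_lit 95), (nat_lit 1), (nat_lit 1)), ((nat_lit 36), (nat_lit 97), (nat_lit 1), (nat_lit 1)), ((nat_lit 37), (nat_lit 98),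 (nat_lit 1), (nat_lit 1)), ((nat_lit 48), (nat_lit 104), (nat_lit 1), (nat_lit 1)), ((nat_lit 49), (nat_lit 105), (nat_lit 1), (nat_lit 1)), ((nat_lit 51), (nat_lit 108), (nat_lit 1), (nat_lit 1)), ((nat_lit 53), (nat_lit 110), (nat_lit 1), (nat_lit 1)), ((nat_lit 54), (nat_lit 111), (nat_lit 1), (nat_lit 1)), ((nat_lit 56), (nat_lit 114), (nat_lit 1), (nat_lit 1)), ((nat_lit 60), (nat_lit 115), (nat_lit 1), (nat_lit 1)), ((nat_lit 61), (nat_lit 116), (nat_lit 1), (nat_lit 1)), ((nat_lit 66), (nat_lit 118), (nat_lit 1), (nat_lit 1)), ((nat_lit 78), (nat_lit 121), (nat_lit 1), (nat_lit 1)), ((nat_lit 80), (nat_lit 123), (nat_lit 1), (nat_lit 1)), ((nat_lit 84), (nat_lit 124), (nat_lit 1), (nat_lit 1)), ((nat_lit 100), (nat_lit 125), (nat_lit 1), (nat_lit 1))])))) (.node (.node (.node (.leaf [((nat_lit 20), (nat_lit 0), (nat_lit 1), (nat_lit 1)), ((nat_lit 36), (nat_lit 1), (nat_lit 1), (nat_lit 1)), ((nat_lit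 43), (nat_lit 3), (nat_lit 1), (nat_lit 1)), ((nat_lit 46), (nat_lit 6), (nat_lit 1), (nat_lit 1)), ((nat_lit 53), (nat_lit 7), (nat_lit 1), (nat_lit 1)), ((nat_lit 56), (nat_lit 10), (nat_lit 1), (nat_lit 1)), ((nat_lit 60), (nat_lit 11), (nat_lit 1), (nat_lit 1)), ((nat_lit 62), (nat_lit 12), (nat_lit 1), (nat_lit 1)), ((nat_lit 66), (nat_lit 15), (nat_lit 1), (nat_lit 1)), ((nat_lit 67), (nat_lit 16), (nat_lit 1), (nat_lit 1)), ((nat_lit 73), (nat_lit 19), (nat_lit 1), (nat_lit 1)), ((nat_lit 75), (nat_lit 24), (nat_lit 1), (nat_lit 1)), ((nat_lit 76), (nat_lit 25), (nat_lit 1), (nat_lit 1)), ((nat_lit 84), (nat_lit 28), (nat_lit 1), (nat_lit 1)), ((nat_lit 85), (nat_lit 29), (nat_lit 1), (nat_lit 1)), ((nat_lit 90), (nat_lit 31), (nat_lit 1), (nat_lit 1)), ((nat_lit 94), (nat_lit 35), (nat_lit 1), (nat_lit 1)), ((nat_lit 96), (nat_lit 40), (nat_lit 1), (nat_lit 1)), ((nat_lit 97), (nat_lit 41), (nat_lit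 1), (nat_lit 1)), ((nat_lit 100), (nat_lit 49), (nat_lit 1), (nat_lit 1)), ((nat_lit 101), (nat_lit 50), (nat_lit 1), (nat_lit 1)), ((nat_lit 106), (nat_lit 52), (nat_lit 1), (nat_lit 1)), ((nat_lit 109), (nat_lit 58), (nat_lit 1), (nat_lit 1)), ((nat_lit 110), (nat_lit 59), (nat_lit 1), (nat_lit 1)), ((nat_lit 113), (nat_lit 63), (nat_lit 1), (nat_lit 1)), ((nat_lit 114), (nat_lit 65), (nat_lit 1), (nat_lit 1)), ((nat_lit 115), (nat_lit 69), (nat_lit 1), (nat_lit 1)), ((nat_lit 118), (nat_lit 72), (nat_lit 1), (nat_lit 1)), ((nat_lit 119), (nat_lit 79), (nat_lit 1), (nat_lit 1)), ((nat_lit 122), (nat_lit 82), (nat_lit 1), (nat_lit 1)), ((nat_lit 124), (nat_lit 89), (nat_lit 1), (nat_lit 1)), ((nat_lit 125), (nat_lit 105), (nat_lit 1), (nat_lit 1))]) (.leaf [((nat_lit 1), (nat_lit 6), (nat_lit 1), (nat_lit 1)), ((nat_lit 7), (nat_lit 19), (nat_lit 1), (nat_lit 1)), ((nat_lit 8), (nat_lit 21), (nat_lit 1),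 (nat_lit 1)), ((nat_lit 9), (nat_lit 22), (nat_lit 1), (nat_lit 1)), ((nat_lit 11), (nat_lit 24), (nat_lit 1), (nat_lit 1)), ((nat_lit 12), (nat_lit 25), (nat_lit 1), (nat_lit 1)), ((nat_lit 14), (nat_lit 26), (nat_lit 1), (nat_lit 1)), ((nat_lit 27), (nat_lit 32), (nat_lit 1), (nat_lit 1)), ((nat_lit 33), (nat_lit 44), (nat_lit 1), (nat_lit 1)), ((nat_lit 34), (nat_lit 45), (nat_lit 1), (nat_lit 1)), ((nat_lit 36), (nat_lit 46), (nat_lit 1), (nat_lit 1)), ((nat_lit 39), (nat_lit 47), (nat_lit 1), (nat_lit 1)), ((nat_lit 49), (nat_lit 63), (nat_lit 1), (nat_lit 1)), ((nat_lit 50), (nat_lit 65), (nat_lit 1), (nat_lit 1)), ((nat_lit 51), (nat_lit 68), (nat_lit 1), (nat_lit 1)), ((nat_lit 52), (nat_lit 72), (nat_lit 1), (nat_lit 1)), ((nat_lit 53), (nat_lit 73), (nat_lit 1), (nat_lit 1)), ((nat_lit 57), (nat_lit 74), (nat_lit 1), (nat_lit 1)), ((nat_lit 60), (nat_lit 75), (nat_lit 1), (nat_lit 1)), ((nat_lit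 62), (nat_lit 76), (nat_lit 1), (nat_lit 1)), ((nat_lit 78), (nat_lit 86), (nat_lit 1), (nat_lit 1)), ((nat_lit 79), (nat_lit 89), (nat_lit 1), (nat_lit 1)), ((nat_lit 80), (nat_lit 91), (nat_lit 1), (nat_lit 1)), ((nat_lit 81), (nat_lit 92), (nat_lit 1), (nat_lit 1)), ((nat_lit 93), (nat_lit 98), (nat_lit 1), (nat_lit 1)), ((nat_lit 99), (nat_lit 111), (nat_lit 1), (nat_lit 1)), ((nat_lit 100), (nat_lit 113), (nat_lit 1), (nat_lit 1)), ((nat_lit 101), (nat_lit 114), (nat_lit 1), (nat_lit 1)), ((nat_lit 103), (nat_lit 116), (nat_lit 1), (nat_lit 1)), ((nat_lit 104), (nat_lit 117), (nat_lit 1), (nat_lit 1)), ((nat_lit 106), (nat_lit 118), (nat_lit 1), (nat_lit 1)), ((nat_lit 119), (nat_lit 124), (nat_lit 1), (nat_lit 1))])) (.node (.leaf [((nat_lit 8), (nat_lit 2), (nat_lit 1), (nat_lit 1)), ((nat_lit 11), (nat_lit 3), (nat_lit 1), (nat_lit 1)), ((nat_lit 14), (nat_lit 5), (nat_lit 1), (nat_lit 1)), ((nat_lit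 15), (nat_lit 6), (nat_lit 1), (nat_lit 1)), ((nat_lit 27), (nat_lit 18), (nat_lit 1), (nat_lit 1)), ((nat_lit 28), (nat_lit 19), (nat_lit 1), (nat_lit 1)), ((nat_lit 30), (nat_lit 22), (nat_lit 1), (nat_lit 1)), ((nat_lit 31), (nat_lit 25), (nat_lit 1), (nat_lit 1)), ((nat_lit 48), (nat_lit 34), (nat_lit 1), (nat_lit 1)), ((nat_lit 49), (nat_lit 35), (nat_lit 1), (nat_lit 1)), ((nat_lit 51), (nat_lit 38), (nat_lit 1), (nat_lit 1)), ((nat_lit 52), (nat_lit 41), (nat_lit 1), (nat_lit 1)), ((nat_lit 60), (nat_lit 43), (nat_lit 1), (nat_lit 1)), ((nat_lit 61), (nat_lit 44), (nat_lit 1), (nat_lit 1)), ((nat_lit 66), (nat_lit 46), (nat_lit 1), (nat_lit 1)), ((nat_lit 70), (nat_lit 47), (nat_lit 1), (nat_lit 1)), ((nat_lit 78), (nat_lit 55), (nat_lit 1), (nat_lit 1)), ((nat_lit 79), (nat_lit 59), (nat_lit 1), (nat_lit 1)), ((nat_lit 81), (nat_lit 64), (nat_lit 1), (nat_lit 1)), ((nat_lit 82), (nat_lit 65), (nat_lit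 1), (nat_lit 1)), ((nat_lit 84), (nat_lit 73), (nat_lit 1), (nat_lit 1)), ((nat_lit 87), (nat_lit 74), (nat_lit 1), (nat_lit 1)), ((nat_lit 90), (nat_lit 76), (nat_lit 1), (nat_lit 1)), ((nat_lit 91), (nat_lit 77), (nat_lit 1), (nat_lit 1)), ((nat_lit 100), (nat_lit 94), (nat_lit 1), (nat_lit 1)), ((nat_lit 103), (nat_lit 95), (nat_lit 1), (nat_lit 1)), ((nat_lit 106), (nat_lit 97), (nat_lit 1), (nat_lit 1)), ((nat_lit 107), (nat_lit 98), (nat_lit 1), (nat_lit 1)), ((nat_lit 119), (nat_lit 110), (nat_lit 1), (nat_lit 1)), ((nat_lit 120), (nat_lit 111), (nat_lit 1), (nat_lit 1)), ((nat_lit 122), (nat_lit 114), (nat_lit 1), (nat_lit 1)), ((nat_lit 123), (nat_lit 117), (nat_lit 1), (nat_lit 1))]) (.leaf [((nat_lit 0), (nat_lit 17), (nat_lit 1), (nat_lit 1)), ((nat_lit 1), (nat_lit 33), (nat_lit 1), (nat_lit 1)), ((nat_lit 5), (nat_lit 43), (nat_lit 1), (nat_lit 1)), ((nat_lit 6), (nat_lit 44), (nat_lit 1),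 (nat_lit 1)), ((nat_lit 9), (nat_lit 53), (nat_lit 1), (nat_lit 1)), ((nat_lit 10), (nat_lit 54), (nat_lit 1), (nat_lit 1)), ((nat_lit 12), (nat_lit 57), (nat_lit 1), (nat_lit 1)), ((nat_lit 13), (nat_lit 58), (nat_lit 1), (nat_lit 1)), ((nat_lit 14), (nat_lit 60), (nat_lit 1), (nat_lit 1)), ((nat_lit 15), (nat_lit 61), (nat_lit 1), (nat_lit 1)), ((nat_lit 22), (nat_lit 73), (nat_lit 1), (nat_lit 1)), ((nat_lit 25), (nat_lit 74), (nat_lit 1), (nat_lit 1)), ((nat_lit 26), (nat_lit 75), (nat_lit 1), (nat_lit 1)), ((nat_lit 29), (nat_lit 83), (nat_lit 1), (nat_lit 1)), ((nat_lit 30), (nat_lit 84), (nat_lit 1), (nat_lit 1)), ((nat_lit 31), (nat_lit 87), (nat_lit 1), (nat_lit 1)), ((nat_lit 38), (nat_lit 94), (nat_lit 1), (nat_lit 1)), ((nat_lit 41), (nat_lit 95), (nat_lit 1), (nat_lit 1)), ((nat_lit 42), (nat_lit 96), (nat_lit 1), (nat_lit 1)), ((nat_lit 50), (nat_lit 99), (nat_lit 1), (nat_lit 1)), ((nat_lit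 51), (nat_lit 100), (nat_lit 1), (nat_lit 1)), ((nat_lit 52), (nat_lit 103), (nat_lit 1), (nat_lit 1)), ((nat_lit 64), (nat_lit 110), (nat_lit 1), (nat_lit 1)), ((nat_lit 65), (nat_lit 111), (nat_lit 1), (nat_lit 1)), ((nat_lit 67), (nat_lit 112), (nat_lit 1), (nat_lit 1)), ((nat_lit 68), (nat_lit 113), (nat_lit 1), (nat_lit 1)), ((nat_lit 71), (nat_lit 115), (nat_lit 1), (nat_lit 1)), ((nat_lit 72), (nat_lit 116), (nat_lit 1), (nat_lit 1)), ((nat_lit 81), (nat_lit 119), (nat_lit 1), (nat_lit 1)), ((nat_lit 82), (nat_lit 120), (nat_lit 1), (nat_lit 1)), ((nat_lit 92), (nat_lit 124), (nat_lit 1), (nat_lit 1)), ((nat_lit 108), (nat_lit 125), (nat_lit 1), (nat_lit 1))]))) (.node (.node (.leaf [((nat_lit 4), (nat_lit 0), (nat_lit 1), (nat_lit 1)), ((nat_lit 33), (nat_lit 7), (nat_lit 1), (nat_lit 1)), ((nat_lit 36), (nat_lit 9), (nat_lit 1), (nat_lit 1)), ((nat_lit 37), (nat_lit 10), (nat_lit 1), (nat_lit 1)),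 ((nat_lit 39), (nat_lit 12), (nat_lit 1), (nat_lit 1)), ((nat_lit 40), (nat_lit 13), (nat_lit 1), (nat_lit 1)), ((nat_lit 42), (nat_lit 16), (nat_lit 1), (nat_lit 1)), ((nat_lit 43), (nat_lit 18), (nat_lit 1), (nat_lit 1)), ((nat_lit 44), (nat_lit 19), (nat_lit 1), (nat_lit 1)), ((nat_lit 46), (nat_lit 22), (nat_lit 1), (nat_lit 1)), ((nat_lit 47), (nat_lit 25), (nat_lit 1), (nat_lit 1)), ((nat_lit 60), (nat_lit 27), (nat_lit 1), (nat_lit 1)), ((nat_lit 61), (nat_lit 28), (nat_lit 1), (nat_lit 1)), ((nat_lit 66), (nat_lit 30), (nat_lit 1), (nat_lit 1)), ((nat_lit 70), (nat_lit 31), (nat_lit 1), (nat_lit 1)), ((nat_lit 75), (nat_lit 32), (nat_lit 1), (nat_lit 1)), ((nat_lit 93), (nat_lit 50), (nat_lit 1), (nat_lit 1)), ((nat_lit 94), (nat_lit 55), (nat_lit 1), (nat_lit 1)), ((nat_lit 95), (nat_lit 59), (nat_lit 1), (nat_lit 1)), ((nat_lit 97), (nat_lit 64), (nat_lit 1), (nat_lit 1)), ((nat_lit 98), (nat_lit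 65), (nat_lit 1), (nat_lit 1)), ((nat_lit 100), (nat_lit 78), (nat_lit 1), (nat_lit 1)), ((nat_lit 103), (nat_lit 79), (nat_lit 1), (nat_lit 1)), ((nat_lit 106), (nat_lit 81), (nat_lit 1), (nat_lit 1)), ((nat_lit 107), (nat_lit 82), (nat_lit 1), (nat_lit 1)), ((nat_lit 109), (nat_lit 83), (nat_lit 1), (nat_lit 1)), ((nat_lit 112), (nat_lit 85), (nat_lit 1), (nat_lit 1)), ((nat_lit 113), (nat_lit 86), (nat_lit 1), (nat_lit 1)), ((nat_lit 115), (nat_lit 88), (nat_lit 1), (nat_lit 1)), ((nat_lit 116), (nat_lit 89), (nat_lit 1), (nat_lit 1)), ((nat_lit 118), (nat_lit 92), (nat_lit 1), (nat_lit 1)), ((nat_lit 125), (nat_lit 121), (nat_lit 1), (nat_lit 1))]) (.leaf [((nat_lit 0), (nat_lit 1), (nat_lit 1), (nat_lit 1)), ((nat_lit 17), (nat_lit 33), (nat_lit 1), (nat_lit 1)), ((nat_lit 18), (nat_lit 34), (nat_lit 1), (nat_lit 1)), ((nat_lit 19), (nat_lit 35), (nat_lit 1), (nat_lit 1)), ((nat_lit 20), (nat_lit 36),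 (nat_lit 1), (nat_lit 1)), ((nat_lit 21), (nat_lit 37), (nat_lit 1), (nat_lit 1)), ((nat_lit 22), (nat_lit 38), (nat_lit 1), (nat_lit 1)), ((nat_lit 23), (nat_lit 39), (nat_lit 1), (nat_lit 1)), ((nat_lit 24), (nat_lit 40), (nat_lit 1), (nat_lit 1)), ((nat_lit 25), (nat_lit 41), (nat_lit 1), (nat_lit 1)), ((nat_lit 26), (nat_lit 42), (nat_lit 1), (nat_lit 1)), ((nat_lit 27), (nat_lit 48), (nat_lit 1), (nat_lit 1)), ((nat_lit 28), (nat_lit 49), (nat_lit 1), (nat_lit 1)), ((nat_lit 29), (nat_lit 50), (nat_lit 1), (nat_lit 1)), ((nat_lit 30), (nat_lit 51), (nat_lit 1), (nat_lit 1)), ((nat_lit 31), (nat_lit 52), (nat_lit 1), (nat_lit 1)), ((nat_lit 73), (nat_lit 94), (nat_lit 1), (nat_lit 1)), ((nat_lit 74), (nat_lit 95), (nat_lit 1), (nat_lit 1)), ((nat_lit 75), (nat_lit 96), (nat_lit 1), (nat_lit 1)), ((nat_lit 76), (nat_lit 97), (nat_lit 1), (nat_lit 1)), ((nat_lit 77), (nat_lit 98), (nat_lit 1), (nat_lit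 1)), ((nat_lit 83), (nat_lit 99), (nat_lit 1), (nat_lit 1)), ((nat_lit 84), (nat_lit 100), (nat_lit 1), (nat_lit 1)), ((nat_lit 85), (nat_lit 101), (nat_lit 1), (nat_lit 1)), ((nat_lit 86), (nat_lit 102), (nat_lit 1), (nat_lit 1)), ((nat_lit 87), (nat_lit 103), (nat_lit 1), (nat_lit 1)), ((nat_lit 88), (nat_lit 104), (nat_lit 1), (nat_lit 1)), ((nat_lit 89), (nat_lit 105), (nat_lit 1), (nat_lit 1)), ((nat_lit 90), (nat_lit 106), (nat_lit 1), (nat_lit 1)), ((nat_lit 91), (nat_lit 107), (nat_lit 1), (nat_lit 1)), ((nat_lit 92), (nat_lit 108), (nat_lit 1), (nat_lit 1)), ((nat_lit 124), (nat_lit 125), (nat_lit 1), (nat_lit 1))])) (.node (.leaf [((nat_lit 5), (nat_lit 4), (nat_lit 1), (nat_lit 1)), ((nat_lit 9), (nat_lit 8), (nat_lit 1), (nat_lit 1)), ((nat_lit 12), (nat_lit 11), (nat_lit 1), (nat_lit 1)), ((nat_lit 16), (nat_lit 15), (nat_lit 1), (nat_lit 1)), ((nat_lit 18), (nat_lit 17), (nat_lit 1), (nat_lit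 1)), ((nat_lit 22), (nat_lit 21), (nat_lit 1), (nat_lit 1)), ((nat_lit 25), (nat_lit 24), (nat_lit 1), (nat_lit 1)), ((nat_lit 29), (nat_lit 28), (nat_lit 1), (nat_lit 1)), ((nat_lit 34), (nat_lit 33), (nat_lit 1), (nat_lit 1)), ((nat_lit 38), (nat_lit 37), (nat_lit 1), (nat_lit 1)), ((nat_lit 41), (nat_lit 40), (nat_lit 1), (nat_lit 1)), ((nat_lit 45), (nat_lit 44), (nat_lit 1), (nat_lit 1)), ((nat_lit 50), (nat_lit 49), (nat_lit 1), (nat_lit 1)), ((nat_lit 55), (nat_lit 54), (nat_lit 1), (nat_lit 1)), ((nat_lit 59), (nat_lit 58), (nat_lit 1), (nat_lit 1)), ((nat_lit 62), (nat_lit 60), (nat_lit 1), (nat_lit 1)), ((nat_lit 65), (nat_lit 63), (nat_lit 1), (nat_lit 1)), ((nat_lit 67), (nat_lit 66), (nat_lit 1), (nat_lit 1)), ((nat_lit 71), (nat_lit 70), (nat_lit 1), (nat_lit 1)), ((nat_lit 76), (nat_lit 75), (nat_lit 1), (nat_lit 1)), ((nat_lit 81), (nat_lit 80), (nat_lit 1), (nat_lit 1)), ((nat_lit 85), (nat_lit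 84), (nat_lit 1), (nat_lit 1)), ((nat_lit 88), (nat_lit 87), (nat_lit 1), (nat_lit 1)), ((nat_lit 92), (nat_lit 91), (nat_lit 1), (nat_lit 1)), ((nat_lit 97), (nat_lit 96), (nat_lit 1), (nat_lit 1)), ((nat_lit 101), (nat_lit 100), (nat_lit 1), (nat_lit 1)), ((nat_lit 104), (nat_lit 103), (nat_lit 1), (nat_lit 1)), ((nat_lit 108), (nat_lit 107), (nat_lit 1), (nat_lit 1)), ((nat_lit 110), (nat_lit 109), (nat_lit 1), (nat_lit 1)), ((nat_lit 114), (nat_lit 113), (nat_lit 1), (nat_lit 1)), ((nat_lit 117), (nat_lit 116), (nat_lit 1), (nat_lit 1)), ((nat_lit 121), (nat_lit 120), (nat_lit 1), (nat_lit 1))]) (.leaf [((nat_lit 1), (nat_lit 93), (nat_lit 1), (nat_lit 1)), ((nat_lit 2), (nat_lit 94), (nat_lit 1), (nat_lit 1)), ((nat_lit 3), (nat_lit 95), (nat_lit 1), (nat_lit 1)), ((nat_lit 4), (nat_lit 96), (nat_lit 1), (nat_lit 1)), ((nat_lit 5), (nat_lit 97), (nat_lit 1), (nat_lit 1)), ((nat_lit 6), (nat_lit 98),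 (nat_lit 1), (nat_lit 1)), ((nat_lit 7), (nat_lit 99), (nat_lit 1), (nat_lit 1)), ((nat_lit 8), (nat_lit 100), (nat_lit 1), (nat_lit 1)), ((nat_lit 9), (nat_lit 101), (nat_lit 1), (nat_lit 1)), ((nat_lit 10), (nat_lit 102), (nat_lit 1), (nat_lit 1)), ((nat_lit 11), (nat_lit 103), (nat_lit 1), (nat_lit 1)), ((nat_lit 12), (nat_lit 104), (nat_lit 1), (nat_lit 1)), ((nat_lit 13), (nat_lit 105), (nat_lit 1), (nat_lit 1)), ((nat_lit 14), (nat_lit 106), (nat_lit 1), (nat_lit 1)), ((nat_lit 15), (nat_lit 107), (nat_lit 1), (nat_lit 1)), ((nat_lit 16), (nat_lit 108), (nat_lit 1), (nat_lit 1)), ((nat_lit 17), (nat_lit 109), (nat_lit 1), (nat_lit 1)), ((nat_lit 18), (nat_lit 110), (nat_lit 1), (nat_lit 1)), ((nat_lit 19), (nat_lit 111), (nat_lit 1), (nat_lit 1)), ((nat_lit 20), (nat_lit 112), (nat_lit 1), (nat_lit 1)), ((nat_lit 21), (nat_lit 113), (nat_lit 1), (nat_lit 1)), ((nat_lit 22), (nat_lit 114), (nat_lit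 1), (nat_lit 1)), ((nat_lit 23), (nat_lit 115), (nat_lit 1), (nat_lit 1)), ((nat_lit 24), (nat_lit 116), (nat_lit 1), (nat_lit 1)), ((nat_lit 25), (nat_lit 117), (nat_lit 1), (nat_lit 1)), ((nat_lit 26), (nat_lit 118), (nat_lit 1), (nat_lit 1)), ((nat_lit 27), (nat_lit 119), (nat_lit 1), (nat_lit 1)), ((nat_lit 28), (nat_lit 120), (nat_lit 1), (nat_lit 1)), ((nat_lit 29), (nat_lit 121), (nat_lit 1), (nat_lit 1)), ((nat_lit 30), (nat_lit 122), (nat_lit 1), (nat_lit 1)), ((nat_lit 31), (nat_lit 123), (nat_lit 1), (nat_lit 1)), ((nat_lit 32), (nat_lit 124), (nat_lit 1), (nat_lit 1))]))))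

def rows6 : Tr (List Entry) :=
  .node (.node (.node (.node (.leaf [((nat_lit 30), (nat_lit 0), (nat_lit 1), (nat_lit 1)), ((nat_lit 51), (nat_lit 1), (nat_lit 1), (nat_lit 1)), ((nat_lit 56), (nat_lit 2), (nat_lit 1), (nat_lit 1)), ((nat_lit 66), (nat_lit 4), (nat_lit 1), (nat_lit 1)), ((nat_lit 67), (nat_lit 5), (nat_lit 1), (nat_lit 1)), ((nat_lit 68), (nat_lit 6), (nat_lit 1), (nat_lit 1)), ((nat_lit 78), (nat_lit 7), (nat_lit 1), (nat_lit 1)), ((nat_lit 80), (nat_lit 11), (nat_lit 1), (nat_lit 1)), ((nat_lit 81), (nat_lit 12), (nat_lit 1), (nat_lit 1)), ((nat_lit 82), (nat_lit 13), (nat_lit 1), (nat_lit 1)), ((nat_lit 84), (nat_lit 17), (nat_lit 1), (nat_lit 1)), ((nat_lit 85), (nat_lit 18), (nat_lit 1), (nat_lit 1)), ((nat_lit 86), (nat_lit 19), (nat_lit 1), (nat_lit 1)), ((nat_lit 90), (nat_lit 23), (nat_lit 1), (nat_lit 1)), ((nat_lit 91), (nat_lit 24), (nat_lit 1), (nat_lit 1)), ((nat_lit 92),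 (nat_lit 25), (nat_lit 1), (nat_lit 1)), ((nat_lit 100), (nat_lit 33), (nat_lit 1), (nat_lit 1)), ((nat_lit 101), (nat_lit 34), (nat_lit 1), (nat_lit 1)), ((nat_lit 102), (nat_lit 35), (nat_lit 1), (nat_lit 1)), ((nat_lit 106), (nat_lit 39), (nat_lit 1), (nat_lit 1)), ((nat_lit 107), (nat_lit 40), (nat_lit 1), (nat_lit 1)), ((nat_lit 108), (nat_lit 41), (nat_lit 1), (nat_lit 1)), ((nat_lit 112), (nat_lit 43), (nat_lit 1), (nat_lit 1)), ((nat_lit 113), (nat_lit 44), (nat_lit 1), (nat_lit 1)), ((nat_lit 114), (nat_lit 45), (nat_lit 1), (nat_lit 1)), ((nat_lit 118), (nat_lit 47), (nat_lit 1), (nat_lit 1)), ((nat_lit 119), (nat_lit 57), (nat_lit 1), (nat_lit 1)), ((nat_lit 120), (nat_lit 58), (nat_lit 1), (nat_lit 1)), ((nat_lit 121), (nat_lit 59), (nat_lit 1), (nat_lit 1)), ((nat_lit 123), (nat_lit 69), (nat_lit 1), (nat_lit 1)), ((nat_lit 124), (nat_lit 74), (nat_lit 1), (nat_lit 1)), ((nat_lit 125), (nat_lit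 95), (nat_lit 1), (nat_lit 1))]) (.leaf [((nat_lit 3), (nat_lit 5), (nat_lit 1), (nat_lit 1)), ((nat_lit 7), (nat_lit 9), (nat_lit 1), (nat_lit 1)), ((nat_lit 11), (nat_lit 14), (nat_lit 1), (nat_lit 1)), ((nat_lit 13), (nat_lit 16), (nat_lit 1), (nat_lit 1)), ((nat_lit 17), (nat_lit 20), (nat_lit 1), (nat_lit 1)), ((nat_lit 19), (nat_lit 22), (nat_lit 1), (nat_lit 1)), ((nat_lit 24), (nat_lit 26), (nat_lit 1), (nat_lit 1)), ((nat_lit 28), (nat_lit 30), (nat_lit 1), (nat_lit 1)), ((nat_lit 33), (nat_lit 36), (nat_lit 1), (nat_lit 1)), ((nat_lit 35), (nat_lit 38), (nat_lit 1), (nat_lit 1)), ((nat_lit 40), (nat_lit 42), (nat_lit 1), (nat_lit 1)), ((nat_lit 44), (nat_lit 46), (nat_lit 1), (nat_lit 1)), ((nat_lit 49), (nat_lit 51), (nat_lit 1), (nat_lit 1)), ((nat_lit 54), (nat_lit 56), (nat_lit 1), (nat_lit 1)), ((nat_lit 57), (nat_lit 62), (nat_lit 1), (nat_lit 1)), ((nat_lit 59), (nat_lit 64), (nat_lit 1),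 (nat_lit 1)), ((nat_lit 61), (nat_lit 66), (nat_lit 1), (nat_lit 1)), ((nat_lit 63), (nat_lit 68), (nat_lit 1), (nat_lit 1)), ((nat_lit 69), (nat_lit 71), (nat_lit 1), (nat_lit 1)), ((nat_lit 74), (nat_lit 76), (nat_lit 1), (nat_lit 1)), ((nat_lit 79), (nat_lit 81), (nat_lit 1), (nat_lit 1)), ((nat_lit 83), (nat_lit 85), (nat_lit 1), (nat_lit 1)), ((nat_lit 87), (nat_lit 90), (nat_lit 1), (nat_lit 1)), ((nat_lit 89), (nat_lit 92), (nat_lit 1), (nat_lit 1)), ((nat_lit 95), (nat_lit 97), (nat_lit 1), (nat_lit 1)), ((nat_lit 99), (nat_lit 101), (nat_lit 1), (nat_lit 1)), ((nat_lit 103), (nat_lit 106), (nat_lit 1), (nat_lit 1)), ((nat_lit 105), (nat_lit 108), (nat_lit 1), (nat_lit 1)), ((nat_lit 109), (nat_lit 112), (nat_lit 1), (nat_lit 1)), ((nat_lit 111), (nat_lit 114), (nat_lit 1), (nat_lit 1)), ((nat_lit 116), (nat_lit 118), (nat_lit 1), (nat_lit 1)), ((nat_lit 120), (nat_lit 122), (nat_lit 1), (nat_lit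 1))])) (.node (.leaf [((nat_lit 14), (nat_lit 1), (nat_lit 1), (nat_lit 1)), ((nat_lit 20), (nat_lit 2), (nat_lit 1), (nat_lit 1)), ((nat_lit 23), (nat_lit 3), (nat_lit 1), (nat_lit 1)), ((nat_lit 26), (nat_lit 6), (nat_lit 1), (nat_lit 1)), ((nat_lit 27), (nat_lit 7), (nat_lit 1), (nat_lit 1)), ((nat_lit 30), (nat_lit 10), (nat_lit 1), (nat_lit 1)), ((nat_lit 31), (nat_lit 13), (nat_lit 1), (nat_lit 1)), ((nat_lit 32), (nat_lit 19), (nat_lit 1), (nat_lit 1)), ((nat_lit 60), (nat_lit 33), (nat_lit 1), (nat_lit 1)), ((nat_lit 62), (nat_lit 34), (nat_lit 1), (nat_lit 1)), ((nat_lit 66), (nat_lit 37), (nat_lit 1), (nat_lit 1)), ((nat_lit 67), (nat_lit 38), (nat_lit 1), (nat_lit 1)), ((nat_lit 70), (nat_lit 40), (nat_lit 1), (nat_lit 1)), ((nat_lit 71), (nat_lit 41), (nat_lit 1), (nat_lit 1)), ((nat_lit 75), (nat_lit 44), (nat_lit 1), (nat_lit 1)), ((nat_lit 76), (nat_lit 45), (nat_lit 1), (nat_lit 1)), ((nat_lit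 80), (nat_lit 49), (nat_lit 1), (nat_lit 1)), ((nat_lit 81), (nat_lit 50), (nat_lit 1), (nat_lit 1)), ((nat_lit 84), (nat_lit 54), (nat_lit 1), (nat_lit 1)), ((nat_lit 85), (nat_lit 55), (nat_lit 1), (nat_lit 1)), ((nat_lit 87), (nat_lit 58), (nat_lit 1), (nat_lit 1)), ((nat_lit 88), (nat_lit 59), (nat_lit 1), (nat_lit 1)), ((nat_lit 91), (nat_lit 63), (nat_lit 1), (nat_lit 1)), ((nat_lit 92), (nat_lit 65), (nat_lit 1), (nat_lit 1)), ((nat_lit 106), (nat_lit 93), (nat_lit 1), (nat_lit 1)), ((nat_lit 112), (nat_lit 94), (nat_lit 1), (nat_lit 1)), ((nat_lit 115), (nat_lit 95), (nat_lit 1), (nat_lit 1)), ((nat_lit 118), (nat_lit 98), (nat_lit 1), (nat_lit 1)), ((nat_lit 119), (nat_lit 99), (nat_lit 1), (nat_lit 1)), ((nat_lit 122), (nat_lit 102), (nat_lit 1), (nat_lit 1)), ((nat_lit 123), (nat_lit 105), (nat_lit 1), (nat_lit 1)), ((nat_lit 124), (nat_lit 111), (nat_lit 1), (nat_lit 1))]) (.leaf [((nat_lit 0),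 (nat_lit 7), (nat_lit 1), (nat_lit 1)), ((nat_lit 4), (nat_lit 33), (nat_lit 1), (nat_lit 1)), ((nat_lit 5), (nat_lit 34), (nat_lit 1), (nat_lit 1)), ((nat_lit 6), (nat_lit 35), (nat_lit 1), (nat_lit 1)), ((nat_lit 14), (nat_lit 48), (nat_lit 1), (nat_lit 1)), ((nat_lit 15), (nat_lit 49), (nat_lit 1), (nat_lit 1)), ((nat_lit 16), (nat_lit 50), (nat_lit 1), (nat_lit 1)), ((nat_lit 20), (nat_lit 53), (nat_lit 1), (nat_lit 1)), ((nat_lit 21), (nat_lit 54), (nat_lit 1), (nat_lit 1)), ((nat_lit 22), (nat_lit 55), (nat_lit 1), (nat_lit 1)), ((nat_lit 23), (nat_lit 57), (nat_lit 1), (nat_lit 1)), ((nat_lit 24), (nat_lit 58), (nat_lit 1), (nat_lit 1)), ((nat_lit 25), (nat_lit 59), (nat_lit 1), (nat_lit 1)), ((nat_lit 30), (nat_lit 78), (nat_lit 1), (nat_lit 1)), ((nat_lit 31), (nat_lit 79), (nat_lit 1), (nat_lit 1)), ((nat_lit 32), (nat_lit 83), (nat_lit 1), (nat_lit 1)), ((nat_lit 42), (nat_lit 93), (nat_lit 1),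 (nat_lit 1)), ((nat_lit 46), (nat_lit 94), (nat_lit 1), (nat_lit 1)), ((nat_lit 47), (nat_lit 95), (nat_lit 1), (nat_lit 1)), ((nat_lit 66), (nat_lit 100), (nat_lit 1), (nat_lit 1)), ((nat_lit 67), (nat_lit 101), (nat_lit 1), (nat_lit 1)), ((nat_lit 68), (nat_lit 102), (nat_lit 1), (nat_lit 1)), ((nat_lit 70), (nat_lit 103), (nat_lit 1), (nat_lit 1)), ((nat_lit 71), (nat_lit 104), (nat_lit 1), (nat_lit 1)), ((nat_lit 72), (nat_lit 105), (nat_lit 1), (nat_lit 1)), ((nat_lit 75), (nat_lit 109), (nat_lit 1), (nat_lit 1)), ((nat_lit 76), (nat_lit 110), (nat_lit 1), (nat_lit 1)), ((nat_lit 77), (nat_lit 111), (nat_lit 1), (nat_lit 1)), ((nat_lit 90), (nat_lit 119), (nat_lit 1), (nat_lit 1)), ((nat_lit 91), (nat_lit 120), (nat_lit 1), (nat_lit 1)), ((nat_lit 92), (nat_lit 121), (nat_lit 1), (nat_lit 1)), ((nat_lit 118), (nat_lit 125), (nat_lit 1), (nat_lit 1))]))) (.node (.node (.leaf [((nat_lit 14), (nat_lit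 0), (nat_lit 1), (nat_lit 1)), ((nat_lit 36), (nat_lit 2), (nat_lit 1), (nat_lit 1)), ((nat_lit 39), (nat_lit 3), (nat_lit 1), (nat_lit 1)), ((nat_lit 42), (nat_lit 6), (nat_lit 1), (nat_lit 1)), ((nat_lit 48), (nat_lit 7), (nat_lit 1), (nat_lit 1)), ((nat_lit 51), (nat_lit 10), (nat_lit 1), (nat_lit 1)), ((nat_lit 52), (nat_lit 13), (nat_lit 1), (nat_lit 1)), ((nat_lit 60), (nat_lit 17), (nat_lit 1), (nat_lit 1)), ((nat_lit 62), (nat_lit 18), (nat_lit 1), (nat_lit 1)), ((nat_lit 66), (nat_lit 21), (nat_lit 1), (nat_lit 1)), ((nat_lit 67), (nat_lit 22), (nat_lit 1), (nat_lit 1)), ((nat_lit 70), (nat_lit 24), (nat_lit 1), (nat_lit 1)), ((nat_lit 71), (nat_lit 25), (nat_lit 1), (nat_lit 1)), ((nat_lit 80), (nat_lit 28), (nat_lit 1), (nat_lit 1)), ((nat_lit 81), (nat_lit 29), (nat_lit 1), (nat_lit 1)), ((nat_lit 90), (nat_lit 32), (nat_lit 1), (nat_lit 1)), ((nat_lit 93), (nat_lit 35), (nat_lit 1), (nat_lit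 1)), ((nat_lit 96), (nat_lit 44), (nat_lit 1), (nat_lit 1)), ((nat_lit 97), (nat_lit 45), (nat_lit 1), (nat_lit 1)), ((nat_lit 100), (nat_lit 54), (nat_lit 1), (nat_lit 1)), ((nat_lit 101), (nat_lit 55), (nat_lit 1), (nat_lit 1)), ((nat_lit 103), (nat_lit 58), (nat_lit 1), (nat_lit 1)), ((nat_lit 104), (nat_lit 59), (nat_lit 1), (nat_lit 1)), ((nat_lit 107), (nat_lit 63), (nat_lit 1), (nat_lit 1)), ((nat_lit 108), (nat_lit 65), (nat_lit 1), (nat_lit 1)), ((nat_lit 112), (nat_lit 73), (nat_lit 1), (nat_lit 1)), ((nat_lit 115), (nat_lit 74), (nat_lit 1), (nat_lit 1)), ((nat_lit 118), (nat_lit 77), (nat_lit 1), (nat_lit 1)), ((nat_lit 119), (nat_lit 83), (nat_lit 1), (nat_lit 1)), ((nat_lit 122), (nat_lit 86), (nat_lit 1), (nat_lit 1)), ((nat_lit 123), (nat_lit 89), (nat_lit 1), (nat_lit 1)), ((nat_lit 125), (nat_lit 111), (nat_lit 1), (nat_lit 1))]) (.leaf [((nat_lit 1), (nat_lit 7), (nat_lit 1), (nat_lit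 1)), ((nat_lit 4), (nat_lit 17), (nat_lit 1), (nat_lit 1)), ((nat_lit 5), (nat_lit 18), (nat_lit 1), (nat_lit 1)), ((nat_lit 6), (nat_lit 19), (nat_lit 1), (nat_lit 1)), ((nat_lit 14), (nat_lit 27), (nat_lit 1), (nat_lit 1)), ((nat_lit 15), (nat_lit 28), (nat_lit 1), (nat_lit 1)), ((nat_lit 16), (nat_lit 29), (nat_lit 1), (nat_lit 1)), ((nat_lit 26), (nat_lit 32), (nat_lit 1), (nat_lit 1)), ((nat_lit 36), (nat_lit 53), (nat_lit 1), (nat_lit 1)), ((nat_lit 37), (nat_lit 54), (nat_lit 1), (nat_lit 1)), ((nat_lit 38), (nat_lit 55), (nat_lit 1), (nat_lit 1)), ((nat_lit 39), (nat_lit 57), (nat_lit 1), (nat_lit 1)), ((nat_lit 40), (nat_lit 58), (nat_lit 1), (nat_lit 1)), ((nat_lit 41), (nat_lit 59), (nat_lit 1), (nat_lit 1)), ((nat_lit 46), (nat_lit 73), (nat_lit 1), (nat_lit 1)), ((nat_lit 47), (nat_lit 74), (nat_lit 1), (nat_lit 1)), ((nat_lit 51), (nat_lit 78), (nat_lit 1), (nat_lit 1)), ((nat_lit 52), (nat_lit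 79), (nat_lit 1), (nat_lit 1)), ((nat_lit 66), (nat_lit 84), (nat_lit 1), (nat_lit 1)), ((nat_lit 67), (nat_lit 85), (nat_lit 1), (nat_lit 1)), ((nat_lit 68), (nat_lit 86), (nat_lit 1), (nat_lit 1)), ((nat_lit 70), (nat_lit 87), (nat_lit 1), (nat_lit 1)), ((nat_lit 71), (nat_lit 88), (nat_lit 1), (nat_lit 1)), ((nat_lit 72), (nat_lit 89), (nat_lit 1), (nat_lit 1)), ((nat_lit 93), (nat_lit 99), (nat_lit 1), (nat_lit 1)), ((nat_lit 96), (nat_lit 109), (nat_lit 1), (nat_lit 1)), ((nat_lit 97), (nat_lit 110), (nat_lit 1), (nat_lit 1)), ((nat_lit 98), (nat_lit 111), (nat_lit 1), (nat_lit 1)), ((nat_lit 106), (nat_lit 119), (nat_lit 1), (nat_lit 1)), ((nat_lit 107), (nat_lit 120), (nat_lit 1), (nat_lit 1)), ((nat_lit 108), (nat_lit 121), (nat_lit 1), (nat_lit 1)), ((nat_lit 118), (nat_lit 124), (nat_lit 1), (nat_lit 1))])) (.node (.leaf [((nat_lit 3), (nat_lit 1), (nat_lit 1), (nat_lit 1)), ((nat_lit 17), (nat_lit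 8), (nat_lit 1), (nat_lit 1)), ((nat_lit 18), (nat_lit 9), (nat_lit 1), (nat_lit 1)), ((nat_lit 19), (nat_lit 10), (nat_lit 1), (nat_lit 1)), ((nat_lit 23), (nat_lit 14), (nat_lit 1), (nat_lit 1)), ((nat_lit 24), (nat_lit 15), (nat_lit 1), (nat_lit 1)), ((nat_lit 25), (nat_lit 16), (nat_lit 1), (nat_lit 1)), ((nat_lit 32), (nat_lit 30), (nat_lit 1), (nat_lit 1)), ((nat_lit 43), (nat_lit 36), (nat_lit 1), (nat_lit 1)), ((nat_lit 44), (nat_lit 37), (nat_lit 1), (nat_lit 1)), ((nat_lit 45), (nat_lit 38), (nat_lit 1), (nat_lit 1)), ((nat_lit 47), (nat_lit 42), (nat_lit 1), (nat_lit 1)), ((nat_lit 57), (nat_lit 48), (nat_lit 1), (nat_lit 1)), ((nat_lit 58), (nat_lit 49), (nat_lit 1), (nat_lit 1)), ((nat_lit 59), (nat_lit 50), (nat_lit 1), (nat_lit 1)), ((nat_lit 69), (nat_lit 52), (nat_lit 1), (nat_lit 1)), ((nat_lit 73), (nat_lit 56), (nat_lit 1), (nat_lit 1)), ((nat_lit 75), (nat_lit 66), (nat_lit 1), (nat_lit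 1)), ((nat_lit 76), (nat_lit 67), (nat_lit 1), (nat_lit 1)), ((nat_lit 77), (nat_lit 68), (nat_lit 1), (nat_lit 1)), ((nat_lit 83), (nat_lit 78), (nat_lit 1), (nat_lit 1)), ((nat_lit 87), (nat_lit 80), (nat_lit 1), (nat_lit 1)), ((nat_lit 88), (nat_lit 81), (nat_lit 1), (nat_lit 1)), ((nat_lit 89), (nat_lit 82), (nat_lit 1), (nat_lit 1)), ((nat_lit 95), (nat_lit 93), (nat_lit 1), (nat_lit 1)), ((nat_lit 109), (nat_lit 100), (nat_lit 1), (nat_lit 1)), ((nat_lit 110), (nat_lit 101), (nat_lit 1), (nat_lit 1)), ((nat_lit 111), (nat_lit 102), (nat_lit 1), (nat_lit 1)), ((nat_lit 115), (nat_lit 106), (nat_lit 1), (nat_lit 1)), ((nat_lit 116), (nat_lit 107), (nat_lit 1), (nat_lit 1)), ((nat_lit 117), (nat_lit 108), (nat_lit 1), (nat_lit 1)), ((nat_lit 124), (nat_lit 122), (nat_lit 1), (nat_lit 1))]) (.leaf [((nat_lit 0), (nat_lit 23), (nat_lit 1), (nat_lit 1)), ((nat_lit 1), (nat_lit 39), (nat_lit 1), (nat_lit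 1)), ((nat_lit 2), (nat_lit 43), (nat_lit 1), (nat_lit 1)), ((nat_lit 6), (nat_lit 47), (nat_lit 1), (nat_lit 1)), ((nat_lit 7), (nat_lit 57), (nat_lit 1), (nat_lit 1)), ((nat_lit 8), (nat_lit 60), (nat_lit 1), (nat_lit 1)), ((nat_lit 9), (nat_lit 62), (nat_lit 1), (nat_lit 1)), ((nat_lit 13), (nat_lit 69), (nat_lit 1), (nat_lit 1)), ((nat_lit 15), (nat_lit 70), (nat_lit 1), (nat_lit 1)), ((nat_lit 16), (nat_lit 71), (nat_lit 1), (nat_lit 1)), ((nat_lit 19), (nat_lit 74), (nat_lit 1), (nat_lit 1)), ((nat_lit 21), (nat_lit 75), (nat_lit 1), (nat_lit 1)), ((nat_lit 22), (nat_lit 76), (nat_lit 1), (nat_lit 1)), ((nat_lit 28), (nat_lit 87), (nat_lit 1), (nat_lit 1)), ((nat_lit 29), (nat_lit 88), (nat_lit 1), (nat_lit 1)), ((nat_lit 30), (nat_lit 90), (nat_lit 1), (nat_lit 1)), ((nat_lit 35), (nat_lit 95), (nat_lit 1), (nat_lit 1)), ((nat_lit 37), (nat_lit 96), (nat_lit 1), (nat_lit 1)), ((nat_lit 38), (nat_lit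 97), (nat_lit 1), (nat_lit 1)), ((nat_lit 49), (nat_lit 103), (nat_lit 1), (nat_lit 1)), ((nat_lit 50), (nat_lit 104), (nat_lit 1), (nat_lit 1)), ((nat_lit 51), (nat_lit 106), (nat_lit 1), (nat_lit 1)), ((nat_lit 54), (nat_lit 109), (nat_lit 1), (nat_lit 1)), ((nat_lit 55), (nat_lit 110), (nat_lit 1), (nat_lit 1)), ((nat_lit 56), (nat_lit 112), (nat_lit 1), (nat_lit 1)), ((nat_lit 63), (nat_lit 116), (nat_lit 1), (nat_lit 1)), ((nat_lit 65), (nat_lit 117), (nat_lit 1), (nat_lit 1)), ((nat_lit 68), (nat_lit 118), (nat_lit 1), (nat_lit 1)), ((nat_lit 78), (nat_lit 119), (nat_lit 1), (nat_lit 1)), ((nat_lit 82), (nat_lit 123), (nat_lit 1), (nat_lit 1)), ((nat_lit 86), (nat_lit 124), (nat_lit 1), (nat_lit 1)), ((nat_lit 102), (nat_lit 125), (nat_lit 1), (nat_lit 1))])))) (.node (.node (.node (.leaf [((nat_lit 22), (nat_lit 0), (nat_lit 1), (nat_lit 1)), ((nat_lit 38), (nat_lit 1), (nat_lit 1), (nat_lit 1)),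 ((nat_lit 45), (nat_lit 3), (nat_lit 1), (nat_lit 1)), ((nat_lit 46), (nat_lit 4), (nat_lit 1), (nat_lit 1)), ((nat_lit 55), (nat_lit 7), (nat_lit 1), (nat_lit 1)), ((nat_lit 56), (nat_lit 8), (nat_lit 1), (nat_lit 1)), ((nat_lit 64), (nat_lit 12), (nat_lit 1), (nat_lit 1)), ((nat_lit 65), (nat_lit 13), (nat_lit 1), (nat_lit 1)), ((nat_lit 67), (nat_lit 14), (nat_lit 1), (nat_lit 1)), ((nat_lit 68), (nat_lit 15), (nat_lit 1), (nat_lit 1)), ((nat_lit 73), (nat_lit 17), (nat_lit 1), (nat_lit 1)), ((nat_lit 76), (nat_lit 23), (nat_lit 1), (nat_lit 1)), ((nat_lit 77), (nat_lit 24), (nat_lit 1), (nat_lit 1)), ((nat_lit 85), (nat_lit 27), (nat_lit 1), (nat_lit 1)), ((nat_lit 86), (nat_lit 28), (nat_lit 1), (nat_lit 1)), ((nat_lit 92), (nat_lit 31), (nat_lit 1), (nat_lit 1)), ((nat_lit 94), (nat_lit 33), (nat_lit 1), (nat_lit 1)), ((nat_lit 97), (nat_lit 39), (nat_lit 1), (nat_lit 1)), ((nat_lit 98), (nat_lit 40),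 (nat_lit 1), (nat_lit 1)), ((nat_lit 101), (nat_lit 48), (nat_lit 1), (nat_lit 1)), ((nat_lit 102), (nat_lit 49), (nat_lit 1), (nat_lit 1)), ((nat_lit 108), (nat_lit 52), (nat_lit 1), (nat_lit 1)), ((nat_lit 110), (nat_lit 57), (nat_lit 1), (nat_lit 1)), ((nat_lit 111), (nat_lit 58), (nat_lit 1), (nat_lit 1)), ((nat_lit 112), (nat_lit 60), (nat_lit 1), (nat_lit 1)), ((nat_lit 113), (nat_lit 61), (nat_lit 1), (nat_lit 1)), ((nat_lit 117), (nat_lit 69), (nat_lit 1), (nat_lit 1)), ((nat_lit 118), (nat_lit 70), (nat_lit 1), (nat_lit 1)), ((nat_lit 121), (nat_lit 79), (nat_lit 1), (nat_lit 1)), ((nat_lit 122), (nat_lit 80), (nat_lit 1), (nat_lit 1)), ((nat_lit 124), (nat_lit 87), (nat_lit 1), (nat_lit 1)), ((nat_lit 125), (nat_lit 103), (nat_lit 1), (nat_lit 1))]) (.leaf [((nat_lit 1), (nat_lit 4), (nat_lit 1), (nat_lit 1)), ((nat_lit 7), (nat_lit 17), (nat_lit 1), (nat_lit 1)), ((nat_lit 9), (nat_lit 20), (nat_lit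 1), (nat_lit 1)), ((nat_lit 10), (nat_lit 21), (nat_lit 1), (nat_lit 1)), ((nat_lit 12), (nat_lit 23), (nat_lit 1), (nat_lit 1)), ((nat_lit 13), (nat_lit 24), (nat_lit 1), (nat_lit 1)), ((nat_lit 16), (nat_lit 26), (nat_lit 1), (nat_lit 1)), ((nat_lit 29), (nat_lit 32), (nat_lit 1), (nat_lit 1)), ((nat_lit 34), (nat_lit 43), (nat_lit 1), (nat_lit 1)), ((nat_lit 35), (nat_lit 44), (nat_lit 1), (nat_lit 1)), ((nat_lit 38), (nat_lit 46), (nat_lit 1), (nat_lit 1)), ((nat_lit 41), (nat_lit 47), (nat_lit 1), (nat_lit 1)), ((nat_lit 48), (nat_lit 60), (nat_lit 1), (nat_lit 1)), ((nat_lit 49), (nat_lit 61), (nat_lit 1), (nat_lit 1)), ((nat_lit 51), (nat_lit 66), (nat_lit 1), (nat_lit 1)), ((nat_lit 52), (nat_lit 70), (nat_lit 1), (nat_lit 1)), ((nat_lit 55), (nat_lit 73), (nat_lit 1), (nat_lit 1)), ((nat_lit 59), (nat_lit 74), (nat_lit 1), (nat_lit 1)), ((nat_lit 64), (nat_lit 76), (nat_lit 1), (nat_lit 1)), ((nat_lit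 65), (nat_lit 77), (nat_lit 1), (nat_lit 1)), ((nat_lit 78), (nat_lit 84), (nat_lit 1), (nat_lit 1)), ((nat_lit 79), (nat_lit 87), (nat_lit 1), (nat_lit 1)), ((nat_lit 81), (nat_lit 90), (nat_lit 1), (nat_lit 1)), ((nat_lit 82), (nat_lit 91), (nat_lit 1), (nat_lit 1)), ((nat_lit 93), (nat_lit 96), (nat_lit 1), (nat_lit 1)), ((nat_lit 99), (nat_lit 109), (nat_lit 1), (nat_lit 1)), ((nat_lit 101), (nat_lit 112), (nat_lit 1), (nat_lit 1)), ((nat_lit 102), (nat_lit 113), (nat_lit 1), (nat_lit 1)), ((nat_lit 104), (nat_lit 115), (nat_lit 1), (nat_lit 1)), ((nat_lit 105), (nat_lit 116), (nat_lit 1), (nat_lit 1)), ((nat_lit 108), (nat_lit 118), (nat_lit 1), (nat_lit 1)), ((nat_lit 121), (nat_lit 124), (nat_lit 1), (nat_lit 1))])) (.node (.leaf [((nat_lit 10), (nat_lit 2), (nat_lit 1), (nat_lit 1)), ((nat_lit 13), (nat_lit 3), (nat_lit 1), (nat_lit 1)), ((nat_lit 15), (nat_lit 4), (nat_lit 1), (nat_lit 1)), ((nat_lit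 16), (nat_lit 5), (nat_lit 1), (nat_lit 1)), ((nat_lit 28), (nat_lit 17), (nat_lit 1), (nat_lit 1)), ((nat_lit 29), (nat_lit 18), (nat_lit 1), (nat_lit 1)), ((nat_lit 30), (nat_lit 20), (nat_lit 1), (nat_lit 1)), ((nat_lit 31), (nat_lit 23), (nat_lit 1), (nat_lit 1)), ((nat_lit 49), (nat_lit 33), (nat_lit 1), (nat_lit 1)), ((nat_lit 50), (nat_lit 34), (nat_lit 1), (nat_lit 1)), ((nat_lit 51), (nat_lit 36), (nat_lit 1), (nat_lit 1)), ((nat_lit 52), (nat_lit 39), (nat_lit 1), (nat_lit 1)), ((nat_lit 63), (nat_lit 44), (nat_lit 1), (nat_lit 1)), ((nat_lit 65), (nat_lit 45), (nat_lit 1), (nat_lit 1)), ((nat_lit 68), (nat_lit 46), (nat_lit 1), (nat_lit 1)), ((nat_lit 72), (nat_lit 47), (nat_lit 1), (nat_lit 1)), ((nat_lit 78), (nat_lit 53), (nat_lit 1), (nat_lit 1)), ((nat_lit 79), (nat_lit 57), (nat_lit 1), (nat_lit 1)), ((nat_lit 80), (nat_lit 60), (nat_lit 1), (nat_lit 1)), ((nat_lit 81), (nat_lit 62), (nat_lit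 1), (nat_lit 1)), ((nat_lit 86), (nat_lit 73), (nat_lit 1), (nat_lit 1)), ((nat_lit 89), (nat_lit 74), (nat_lit 1), (nat_lit 1)), ((nat_lit 91), (nat_lit 75), (nat_lit 1), (nat_lit 1)), ((nat_lit 92), (nat_lit 76), (nat_lit 1), (nat_lit 1)), ((nat_lit 102), (nat_lit 94), (nat_lit 1), (nat_lit 1)), ((nat_lit 105), (nat_lit 95), (nat_lit 1), (nat_lit 1)), ((nat_lit 107), (nat_lit 96), (nat_lit 1), (nat_lit 1)), ((nat_lit 108), (nat_lit 97), (nat_lit 1), (nat_lit 1)), ((nat_lit 120), (nat_lit 109), (nat_lit 1), (nat_lit 1)), ((nat_lit 121), (nat_lit 110), (nat_lit 1), (nat_lit 1)), ((nat_lit 122), (nat_lit 112), (nat_lit 1), (nat_lit 1)), ((nat_lit 123), (nat_lit 115), (nat_lit 1), (nat_lit 1))]) (.leaf [((nat_lit 0), (nat_lit 15), (nat_lit 1), (nat_lit 1)), ((nat_lit 2), (nat_lit 37), (nat_lit 1), (nat_lit 1)), ((nat_lit 3), (nat_lit 40), (nat_lit 1), (nat_lit 1)), ((nat_lit 5), (nat_lit 42), (nat_lit 1),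 (nat_lit 1)), ((nat_lit 7), (nat_lit 49), (nat_lit 1), (nat_lit 1)), ((nat_lit 9), (nat_lit 51), (nat_lit 1), (nat_lit 1)), ((nat_lit 12), (nat_lit 52), (nat_lit 1), (nat_lit 1)), ((nat_lit 17), (nat_lit 61), (nat_lit 1), (nat_lit 1)), ((nat_lit 19), (nat_lit 63), (nat_lit 1), (nat_lit 1)), ((nat_lit 20), (nat_lit 66), (nat_lit 1), (nat_lit 1)), ((nat_lit 22), (nat_lit 68), (nat_lit 1), (nat_lit 1)), ((nat_lit 23), (nat_lit 70), (nat_lit 1), (nat_lit 1)), ((nat_lit 25), (nat_lit 72), (nat_lit 1), (nat_lit 1)), ((nat_lit 27), (nat_lit 80), (nat_lit 1), (nat_lit 1)), ((nat_lit 29), (nat_lit 82), (nat_lit 1), (nat_lit 1)), ((nat_lit 32), (nat_lit 91), (nat_lit 1), (nat_lit 1)), ((nat_lit 34), (nat_lit 93), (nat_lit 1), (nat_lit 1)), ((nat_lit 43), (nat_lit 96), (nat_lit 1), (nat_lit 1)), ((nat_lit 45), (nat_lit 98), (nat_lit 1), (nat_lit 1)), ((nat_lit 53), (nat_lit 100), (nat_lit 1), (nat_lit 1)), ((nat_lit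 55), (nat_lit 102), (nat_lit 1), (nat_lit 1)), ((nat_lit 57), (nat_lit 103), (nat_lit 1), (nat_lit 1)), ((nat_lit 59), (nat_lit 105), (nat_lit 1), (nat_lit 1)), ((nat_lit 62), (nat_lit 106), (nat_lit 1), (nat_lit 1)), ((nat_lit 64), (nat_lit 108), (nat_lit 1), (nat_lit 1)), ((nat_lit 73), (nat_lit 113), (nat_lit 1), (nat_lit 1)), ((nat_lit 74), (nat_lit 116), (nat_lit 1), (nat_lit 1)), ((nat_lit 76), (nat_lit 118), (nat_lit 1), (nat_lit 1)), ((nat_lit 83), (nat_lit 120), (nat_lit 1), (nat_lit 1)), ((nat_lit 85), (nat_lit 122), (nat_lit 1), (nat_lit 1)), ((nat_lit 88), (nat_lit 123), (nat_lit 1), (nat_lit 1)), ((nat_lit 110), (nat_lit 125), (nat_lit 1), (nat_lit 1))]))) (.node (.node (.leaf [((nat_lit 6), (nat_lit 0), (nat_lit 1), (nat_lit 1)), ((nat_lit 35), (nat_lit 7), (nat_lit 1), (nat_lit 1)), ((nat_lit 37), (nat_lit 8), (nat_lit 1), (nat_lit 1)), ((nat_lit 38), (nat_lit 9), (nat_lit 1), (nat_lit 1)),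 ((nat_lit 40), (nat_lit 11), (nat_lit 1), (nat_lit 1)), ((nat_lit 41), (nat_lit 12), (nat_lit 1), (nat_lit 1)), ((nat_lit 42), (nat_lit 14), (nat_lit 1), (nat_lit 1)), ((nat_lit 44), (nat_lit 17), (nat_lit 1), (nat_lit 1)), ((nat_lit 45), (nat_lit 18), (nat_lit 1), (nat_lit 1)), ((nat_lit 46), (nat_lit 20), (nat_lit 1), (nat_lit 1)), ((nat_lit 47), (nat_lit 23), (nat_lit 1), (nat_lit 1)), ((nat_lit 63), (nat_lit 28), (nat_lit 1), (nat_lit 1)), ((nat_lit 65), (nat_lit 29), (nat_lit 1), (nat_lit 1)), ((nat_lit 68), (nat_lit 30), (nat_lit 1), (nat_lit 1)), ((nat_lit 72), (nat_lit 31), (nat_lit 1), (nat_lit 1)), ((nat_lit 77), (nat_lit 32), (nat_lit 1), (nat_lit 1)), ((nat_lit 93), (nat_lit 48), (nat_lit 1), (nat_lit 1)), ((nat_lit 94), (nat_lit 53), (nat_lit 1), (nat_lit 1)), ((nat_lit 95), (nat_lit 57), (nat_lit 1), (nat_lit 1)), ((nat_lit 96), (nat_lit 60), (nat_lit 1), (nat_lit 1)), ((nat_lit 97), (nat_lit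 62), (nat_lit 1), (nat_lit 1)), ((nat_lit 102), (nat_lit 78), (nat_lit 1), (nat_lit 1)), ((nat_lit 105), (nat_lit 79), (nat_lit 1), (nat_lit 1)), ((nat_lit 107), (nat_lit 80), (nat_lit 1), (nat_lit 1)), ((nat_lit 108), (nat_lit 81), (nat_lit 1), (nat_lit 1)), ((nat_lit 111), (nat_lit 83), (nat_lit 1), (nat_lit 1)), ((nat_lit 113), (nat_lit 84), (nat_lit 1), (nat_lit 1)), ((nat_lit 114), (nat_lit 85), (nat_lit 1), (nat_lit 1)), ((nat_lit 116), (nat_lit 87), (nat_lit 1), (nat_lit 1)), ((nat_lit 117), (nat_lit 88), (nat_lit 1), (nat_lit 1)), ((nat_lit 118), (nat_lit 90), (nat_lit 1), (nat_lit 1)), ((nat_lit 125), (nat_lit 119), (nat_lit 1), (nat_lit 1))]) (.leaf [((nat_lit 1), (nat_lit 15), (nat_lit 1), (nat_lit 1)), ((nat_lit 2), (nat_lit 21), (nat_lit 1), (nat_lit 1)), ((nat_lit 3), (nat_lit 24), (nat_lit 1), (nat_lit 1)), ((nat_lit 5), (nat_lit 26), (nat_lit 1), (nat_lit 1)), ((nat_lit 7), (nat_lit 28),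 (nat_lit 1), (nat_lit 1)), ((nat_lit 9), (nat_lit 30), (nat_lit 1), (nat_lit 1)), ((nat_lit 12), (nat_lit 31), (nat_lit 1), (nat_lit 1)), ((nat_lit 18), (nat_lit 32), (nat_lit 1), (nat_lit 1)), ((nat_lit 33), (nat_lit 61), (nat_lit 1), (nat_lit 1)), ((nat_lit 35), (nat_lit 63), (nat_lit 1), (nat_lit 1)), ((nat_lit 36), (nat_lit 66), (nat_lit 1), (nat_lit 1)), ((nat_lit 38), (nat_lit 68), (nat_lit 1), (nat_lit 1)), ((nat_lit 39), (nat_lit 70), (nat_lit 1), (nat_lit 1)), ((nat_lit 41), (nat_lit 72), (nat_lit 1), (nat_lit 1)), ((nat_lit 43), (nat_lit 75), (nat_lit 1), (nat_lit 1)), ((nat_lit 45), (nat_lit 77), (nat_lit 1), (nat_lit 1)), ((nat_lit 48), (nat_lit 80), (nat_lit 1), (nat_lit 1)), ((nat_lit 50), (nat_lit 82), (nat_lit 1), (nat_lit 1)), ((nat_lit 53), (nat_lit 84), (nat_lit 1), (nat_lit 1)), ((nat_lit 55), (nat_lit 86), (nat_lit 1), (nat_lit 1)), ((nat_lit 57), (nat_lit 87), (nat_lit 1), (nat_lit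 1)), ((nat_lit 59), (nat_lit 89), (nat_lit 1), (nat_lit 1)), ((nat_lit 62), (nat_lit 90), (nat_lit 1), (nat_lit 1)), ((nat_lit 64), (nat_lit 92), (nat_lit 1), (nat_lit 1)), ((nat_lit 93), (nat_lit 107), (nat_lit 1), (nat_lit 1)), ((nat_lit 94), (nat_lit 113), (nat_lit 1), (nat_lit 1)), ((nat_lit 95), (nat_lit 116), (nat_lit 1), (nat_lit 1)), ((nat_lit 97), (nat_lit 118), (nat_lit 1), (nat_lit 1)), ((nat_lit 99), (nat_lit 120), (nat_lit 1), (nat_lit 1)), ((nat_lit 101), (nat_lit 122), (nat_lit 1), (nat_lit 1)), ((nat_lit 104), (nat_lit 123), (nat_lit 1), (nat_lit 1)), ((nat_lit 110), (nat_lit 124), (nat_lit 1), (nat_lit 1))])) (.node (.leaf [((nat_lit 4), (nat_lit 3), (nat_lit 1), (nat_lit 1)), ((nat_lit 8), (nat_lit 7), (nat_lit 1), (nat_lit 1)), ((nat_lit 14), (nat_lit 12), (nat_lit 1), (nat_lit 1)), ((nat_lit 15), (nat_lit 13), (nat_lit 1), (nat_lit 1)), ((nat_lit 20), (nat_lit 18), (nat_lit 1), (nat_lit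 1)), ((nat_lit 21), (nat_lit 19), (nat_lit 1), (nat_lit 1)), ((nat_lit 26), (nat_lit 25), (nat_lit 1), (nat_lit 1)), ((nat_lit 30), (nat_lit 29), (nat_lit 1), (nat_lit 1)), ((nat_lit 36), (nat_lit 34), (nat_lit 1), (nat_lit 1)), ((nat_lit 37), (nat_lit 35), (nat_lit 1), (nat_lit 1)), ((nat_lit 42), (nat_lit 41), (nat_lit 1), (nat_lit 1)), ((nat_lit 46), (nat_lit 45), (nat_lit 1), (nat_lit 1)), ((nat_lit 51), (nat_lit 50), (nat_lit 1), (nat_lit 1)), ((nat_lit 56), (nat_lit 55), (nat_lit 1), (nat_lit 1)), ((nat_lit 60), (nat_lit 57), (nat_lit 1), (nat_lit 1)), ((nat_lit 61), (nat_lit 58), (nat_lit 1), (nat_lit 1)), ((nat_lit 67), (nat_lit 64), (nat_lit 1), (nat_lit 1)), ((nat_lit 68), (nat_lit 65), (nat_lit 1), (nat_lit 1)), ((nat_lit 70), (nat_lit 69), (nat_lit 1), (nat_lit 1)), ((nat_lit 75), (nat_lit 74), (nat_lit 1), (nat_lit 1)), ((nat_lit 80), (nat_lit 79), (nat_lit 1), (nat_lit 1)), ((nat_lit 84), (nat_lit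 83), (nat_lit 1), (nat_lit 1)), ((nat_lit 90), (nat_lit 88), (nat_lit 1), (nat_lit 1)), ((nat_lit 91), (nat_lit 89), (nat_lit 1), (nat_lit 1)), ((nat_lit 96), (nat_lit 95), (nat_lit 1), (nat_lit 1)), ((nat_lit 100), (nat_lit 99), (nat_lit 1), (nat_lit 1)), ((nat_lit 106), (nat_lit 104), (nat_lit 1), (nat_lit 1)), ((nat_lit 107), (nat_lit 105), (nat_lit 1), (nat_lit 1)), ((nat_lit 112), (nat_lit 110), (nat_lit 1), (nat_lit 1)), ((nat_lit 113), (nat_lit 111), (nat_lit 1), (nat_lit 1)), ((nat_lit 118), (nat_lit 117), (nat_lit 1), (nat_lit 1)), ((nat_lit 122), (nat_lit 121), (nat_lit 1), (nat_lit 1))]) (.leaf [((nat_lit 0), (nat_lit 31), (nat_lit 1), (nat_lit 1)), ((nat_lit 1), (nat_lit 52), (nat_lit 1), (nat_lit 1)), ((nat_lit 3), (nat_lit 69), (nat_lit 1), (nat_lit 1)), ((nat_lit 4), (nat_lit 70), (nat_lit 1), (nat_lit 1)), ((nat_lit 5), (nat_lit 71), (nat_lit 1), (nat_lit 1)), ((nat_lit 6), (nat_lit 72),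 (nat_lit 1), (nat_lit 1)), ((nat_lit 7), (nat_lit 79), (nat_lit 1), (nat_lit 1)), ((nat_lit 8), (nat_lit 80), (nat_lit 1), (nat_lit 1)), ((nat_lit 9), (nat_lit 81), (nat_lit 1), (nat_lit 1)), ((nat_lit 10), (nat_lit 82), (nat_lit 1), (nat_lit 1)), ((nat_lit 17), (nat_lit 87), (nat_lit 1), (nat_lit 1)), ((nat_lit 18), (nat_lit 88), (nat_lit 1), (nat_lit 1)), ((nat_lit 19), (nat_lit 89), (nat_lit 1), (nat_lit 1)), ((nat_lit 20), (nat_lit 90), (nat_lit 1), (nat_lit 1)), ((nat_lit 21), (nat_lit 91), (nat_lit 1), (nat_lit 1)), ((nat_lit 22), (nat_lit 92), (nat_lit 1), (nat_lit 1)), ((nat_lit 33), (nat_lit 103), (nat_lit 1), (nat_lit 1)), ((nat_lit 34), (nat_lit 104), (nat_lit 1), (nat_lit 1)), ((nat_lit 35), (nat_lit 105), (nat_lit 1), (nat_lit 1)), ((nat_lit 36), (nat_lit 106), (nat_lit 1), (nat_lit 1)), ((nat_lit 37), (nat_lit 107), (nat_lit 1), (nat_lit 1)), ((nat_lit 38), (nat_lit 108), (nat_lit 1), (nat_lit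 1)), ((nat_lit 43), (nat_lit 115), (nat_lit 1), (nat_lit 1)), ((nat_lit 44), (nat_lit 116), (nat_lit 1), (nat_lit 1)), ((nat_lit 45), (nat_lit 117), (nat_lit 1), (nat_lit 1)), ((nat_lit 46), (nat_lit 118), (nat_lit 1), (nat_lit 1)), ((nat_lit 53), (nat_lit 119), (nat_lit 1), (nat_lit 1)), ((nat_lit 54), (nat_lit 120), (nat_lit 1), (nat_lit 1)), ((nat_lit 55), (nat_lit 121), (nat_lit 1), (nat_lit 1)), ((nat_lit 56), (nat_lit 122), (nat_lit 1), (nat_lit 1)), ((nat_lit 73), (nat_lit 124), (nat_lit 1), (nat_lit 1)), ((nat_lit 94), (nat_lit 125), (nat_lit 1), (nat_lit 1))]))))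

def rows7 : Tr (List Entry) :=
  .node (.node (.node (.node (.leaf [((nat_lit 26), (nat_lit 0), (nat_lit 1), (nat_lit 1)), ((nat_lit 42), (nat_lit 1), (nat_lit 1), (nat_lit 1)), ((nat_lit 46), (nat_lit 2), (nat_lit 1), (nat_lit 1)), ((nat_lit 47), (nat_lit 3), (nat_lit 1), (nat_lit 1)), ((nat_lit 66), (nat_lit 8), (nat_lit 1), (nat_lit 1)), ((nat_lit 67), (nat_lit 9), (nat_lit 1), (nat_lit 1)), ((nat_lit 68), (nat_lit 10), (nat_lit 1), (nat_lit 1)), ((nat_lit 70), (nat_lit 11), (nat_lit 1), (nat_lit 1)), ((nat_lit 71), (nat_lit 12), (nat_lit 1), (nat_lit 1)), ((nat_lit 72), (nat_lit 13), (nat_lit 1), (nat_lit 1)), ((nat_lit 75), (nat_lit 17), (nat_lit 1), (nat_lit 1)), ((nat_lit 76), (nat_lit 18), (nat_lit 1), (nat_lit 1)), ((nat_lit 77), (nat_lit 19), (nat_lit 1), (nat_lit 1)), ((nat_lit 90), (nat_lit 27), (nat_lit 1), (nat_lit 1)), ((nat_lit 91), (nat_lit 28), (nat_lit 1), (nat_lit 1)), ((nat_lit 92),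 (nat_lit 29), (nat_lit 1), (nat_lit 1)), ((nat_lit 96), (nat_lit 33), (nat_lit 1), (nat_lit 1)), ((nat_lit 97), (nat_lit 34), (nat_lit 1), (nat_lit 1)), ((nat_lit 98), (nat_lit 35), (nat_lit 1), (nat_lit 1)), ((nat_lit 106), (nat_lit 48), (nat_lit 1), (nat_lit 1)), ((nat_lit 107), (nat_lit 49), (nat_lit 1), (nat_lit 1)), ((nat_lit 108), (nat_lit 50), (nat_lit 1), (nat_lit 1)), ((nat_lit 112), (nat_lit 53), (nat_lit 1), (nat_lit 1)), ((nat_lit 113), (nat_lit 54), (nat_lit 1), (nat_lit 1)), ((nat_lit 114), (nat_lit 55), (nat_lit 1), (nat_lit 1)), ((nat_lit 115), (nat_lit 57), (nat_lit 1), (nat_lit 1)), ((nat_lit 116), (nat_lit 58), (nat_lit 1), (nat_lit 1)), ((nat_lit 117), (nat_lit 59), (nat_lit 1), (nat_lit 1)), ((nat_lit 122), (nat_lit 78), (nat_lit 1), (nat_lit 1)), ((nat_lit 123), (nat_lit 79), (nat_lit 1), (nat_lit 1)), ((nat_lit 124), (nat_lit 83), (nat_lit 1), (nat_lit 1)), ((nat_lit 125), (nat_lit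 99), (nat_lit 1), (nat_lit 1))]) (.leaf [((nat_lit 2), (nat_lit 5), (nat_lit 1), (nat_lit 1)), ((nat_lit 7), (nat_lit 12), (nat_lit 1), (nat_lit 1)), ((nat_lit 8), (nat_lit 14), (nat_lit 1), (nat_lit 1)), ((nat_lit 10), (nat_lit 16), (nat_lit 1), (nat_lit 1)), ((nat_lit 17), (nat_lit 23), (nat_lit 1), (nat_lit 1)), ((nat_lit 19), (nat_lit 25), (nat_lit 1), (nat_lit 1)), ((nat_lit 21), (nat_lit 26), (nat_lit 1), (nat_lit 1)), ((nat_lit 28), (nat_lit 31), (nat_lit 1), (nat_lit 1)), ((nat_lit 33), (nat_lit 39), (nat_lit 1), (nat_lit 1)), ((nat_lit 35), (nat_lit 41), (nat_lit 1), (nat_lit 1)), ((nat_lit 37), (nat_lit 42), (nat_lit 1), (nat_lit 1)), ((nat_lit 44), (nat_lit 47), (nat_lit 1), (nat_lit 1)), ((nat_lit 49), (nat_lit 52), (nat_lit 1), (nat_lit 1)), ((nat_lit 53), (nat_lit 62), (nat_lit 1), (nat_lit 1)), ((nat_lit 55), (nat_lit 64), (nat_lit 1), (nat_lit 1)), ((nat_lit 56), (nat_lit 67), (nat_lit 1),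 (nat_lit 1)), ((nat_lit 58), (nat_lit 69), (nat_lit 1), (nat_lit 1)), ((nat_lit 61), (nat_lit 70), (nat_lit 1), (nat_lit 1)), ((nat_lit 63), (nat_lit 72), (nat_lit 1), (nat_lit 1)), ((nat_lit 73), (nat_lit 76), (nat_lit 1), (nat_lit 1)), ((nat_lit 78), (nat_lit 81), (nat_lit 1), (nat_lit 1)), ((nat_lit 83), (nat_lit 88), (nat_lit 1), (nat_lit 1)), ((nat_lit 84), (nat_lit 90), (nat_lit 1), (nat_lit 1)), ((nat_lit 86), (nat_lit 92), (nat_lit 1), (nat_lit 1)), ((nat_lit 94), (nat_lit 97), (nat_lit 1), (nat_lit 1)), ((nat_lit 99), (nat_lit 104), (nat_lit 1), (nat_lit 1)), ((nat_lit 100), (nat_lit 106), (nat_lit 1), (nat_lit 1)), ((nat_lit 102), (nat_lit 108), (nat_lit 1), (nat_lit 1)), ((nat_lit 109), (nat_lit 115), (nat_lit 1), (nat_lit 1)), ((nat_lit 111), (nat_lit 117), (nat_lit 1), (nat_lit 1)), ((nat_lit 113), (nat_lit 118), (nat_lit 1), (nat_lit 1)), ((nat_lit 120), (nat_lit 123), (nat_lit 1), (nat_lit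 1))])) (.node (.leaf [((nat_lit 10), (nat_lit 1), (nat_lit 1), (nat_lit 1)), ((nat_lit 19), (nat_lit 3), (nat_lit 1), (nat_lit 1)), ((nat_lit 21), (nat_lit 4), (nat_lit 1), (nat_lit 1)), ((nat_lit 22), (nat_lit 5), (nat_lit 1), (nat_lit 1)), ((nat_lit 28), (nat_lit 11), (nat_lit 1), (nat_lit 1)), ((nat_lit 29), (nat_lit 12), (nat_lit 1), (nat_lit 1)), ((nat_lit 30), (nat_lit 14), (nat_lit 1), (nat_lit 1)), ((nat_lit 32), (nat_lit 23), (nat_lit 1), (nat_lit 1)), ((nat_lit 54), (nat_lit 33), (nat_lit 1), (nat_lit 1)), ((nat_lit 55), (nat_lit 34), (nat_lit 1), (nat_lit 1)), ((nat_lit 56), (nat_lit 36), (nat_lit 1), (nat_lit 1)), ((nat_lit 63), (nat_lit 40), (nat_lit 1), (nat_lit 1)), ((nat_lit 65), (nat_lit 41), (nat_lit 1), (nat_lit 1)), ((nat_lit 68), (nat_lit 42), (nat_lit 1), (nat_lit 1)), ((nat_lit 73), (nat_lit 43), (nat_lit 1), (nat_lit 1)), ((nat_lit 77), (nat_lit 47), (nat_lit 1), (nat_lit 1)), ((nat_lit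 78), (nat_lit 48), (nat_lit 1), (nat_lit 1)), ((nat_lit 82), (nat_lit 52), (nat_lit 1), (nat_lit 1)), ((nat_lit 83), (nat_lit 57), (nat_lit 1), (nat_lit 1)), ((nat_lit 84), (nat_lit 60), (nat_lit 1), (nat_lit 1)), ((nat_lit 85), (nat_lit 62), (nat_lit 1), (nat_lit 1)), ((nat_lit 89), (nat_lit 69), (nat_lit 1), (nat_lit 1)), ((nat_lit 91), (nat_lit 70), (nat_lit 1), (nat_lit 1)), ((nat_lit 92), (nat_lit 71), (nat_lit 1), (nat_lit 1)), ((nat_lit 102), (nat_lit 93), (nat_lit 1), (nat_lit 1)), ((nat_lit 111), (nat_lit 95), (nat_lit 1), (nat_lit 1)), ((nat_lit 113), (nat_lit 96), (nat_lit 1), (nat_lit 1)), ((nat_lit 114), (nat_lit 97), (nat_lit 1), (nat_lit 1)), ((nat_lit 120), (nat_lit 103), (nat_lit 1), (nat_lit 1)), ((nat_lit 121), (nat_lit 104), (nat_lit 1), (nat_lit 1)), ((nat_lit 122), (nat_lit 106), (nat_lit 1), (nat_lit 1)), ((nat_lit 124), (nat_lit 115), (nat_lit 1), (nat_lit 1))]) (.leaf [((nat_lit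 0), (nat_lit 11), (nat_lit 1), (nat_lit 1)), ((nat_lit 2), (nat_lit 33), (nat_lit 1), (nat_lit 1)), ((nat_lit 5), (nat_lit 39), (nat_lit 1), (nat_lit 1)), ((nat_lit 6), (nat_lit 40), (nat_lit 1), (nat_lit 1)), ((nat_lit 9), (nat_lit 48), (nat_lit 1), (nat_lit 1)), ((nat_lit 10), (nat_lit 49), (nat_lit 1), (nat_lit 1)), ((nat_lit 16), (nat_lit 52), (nat_lit 1), (nat_lit 1)), ((nat_lit 18), (nat_lit 57), (nat_lit 1), (nat_lit 1)), ((nat_lit 19), (nat_lit 58), (nat_lit 1), (nat_lit 1)), ((nat_lit 20), (nat_lit 60), (nat_lit 1), (nat_lit 1)), ((nat_lit 21), (nat_lit 61), (nat_lit 1), (nat_lit 1)), ((nat_lit 25), (nat_lit 69), (nat_lit 1), (nat_lit 1)), ((nat_lit 26), (nat_lit 70), (nat_lit 1), (nat_lit 1)), ((nat_lit 29), (nat_lit 79), (nat_lit 1), (nat_lit 1)), ((nat_lit 30), (nat_lit 80), (nat_lit 1), (nat_lit 1)), ((nat_lit 32), (nat_lit 87), (nat_lit 1), (nat_lit 1)), ((nat_lit 38), (nat_lit 93), (nat_lit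 1), (nat_lit 1)), ((nat_lit 45), (nat_lit 95), (nat_lit 1), (nat_lit 1)), ((nat_lit 46), (nat_lit 96), (nat_lit 1), (nat_lit 1)), ((nat_lit 55), (nat_lit 99), (nat_lit 1), (nat_lit 1)), ((nat_lit 56), (nat_lit 100), (nat_lit 1), (nat_lit 1)), ((nat_lit 64), (nat_lit 104), (nat_lit 1), (nat_lit 1)), ((nat_lit 65), (nat_lit 105), (nat_lit 1), (nat_lit 1)), ((nat_lit 67), (nat_lit 106), (nat_lit 1), (nat_lit 1)), ((nat_lit 68), (nat_lit 107), (nat_lit 1), (nat_lit 1)), ((nat_lit 73), (nat_lit 109), (nat_lit 1), (nat_lit 1)), ((nat_lit 76), (nat_lit 115), (nat_lit 1), (nat_lit 1)), ((nat_lit 77), (nat_lit 116), (nat_lit 1), (nat_lit 1)), ((nat_lit 85), (nat_lit 119), (nat_lit 1), (nat_lit 1)), ((nat_lit 86), (nat_lit 120), (nat_lit 1), (nat_lit 1)), ((nat_lit 92), (nat_lit 123), (nat_lit 1), (nat_lit 1)), ((nat_lit 114), (nat_lit 125), (nat_lit 1), (nat_lit 1))]))) (.node (.node (.leaf [((nat_lit 10), (nat_lit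 0), (nat_lit 1), (nat_lit 1)), ((nat_lit 35), (nat_lit 3), (nat_lit 1), (nat_lit 1)), ((nat_lit 37), (nat_lit 4), (nat_lit 1), (nat_lit 1)), ((nat_lit 38), (nat_lit 5), (nat_lit 1), (nat_lit 1)), ((nat_lit 49), (nat_lit 11), (nat_lit 1), (nat_lit 1)), ((nat_lit 50), (nat_lit 12), (nat_lit 1), (nat_lit 1)), ((nat_lit 51), (nat_lit 14), (nat_lit 1), (nat_lit 1)), ((nat_lit 54), (nat_lit 17), (nat_lit 1), (nat_lit 1)), ((nat_lit 55), (nat_lit 18), (nat_lit 1), (nat_lit 1)), ((nat_lit 56), (nat_lit 20), (nat_lit 1), (nat_lit 1)), ((nat_lit 63), (nat_lit 24), (nat_lit 1), (nat_lit 1)), ((nat_lit 65), (nat_lit 25), (nat_lit 1), (nat_lit 1)), ((nat_lit 68), (nat_lit 26), (nat_lit 1), (nat_lit 1)), ((nat_lit 78), (nat_lit 27), (nat_lit 1), (nat_lit 1)), ((nat_lit 82), (nat_lit 31), (nat_lit 1), (nat_lit 1)), ((nat_lit 86), (nat_lit 32), (nat_lit 1), (nat_lit 1)), ((nat_lit 93), (nat_lit 39), (nat_lit 1), (nat_lit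 1)), ((nat_lit 94), (nat_lit 43), (nat_lit 1), (nat_lit 1)), ((nat_lit 98), (nat_lit 47), (nat_lit 1), (nat_lit 1)), ((nat_lit 99), (nat_lit 57), (nat_lit 1), (nat_lit 1)), ((nat_lit 100), (nat_lit 60), (nat_lit 1), (nat_lit 1)), ((nat_lit 101), (nat_lit 62), (nat_lit 1), (nat_lit 1)), ((nat_lit 105), (nat_lit 69), (nat_lit 1), (nat_lit 1)), ((nat_lit 107), (nat_lit 70), (nat_lit 1), (nat_lit 1)), ((nat_lit 108), (nat_lit 71), (nat_lit 1), (nat_lit 1)), ((nat_lit 111), (nat_lit 74), (nat_lit 1), (nat_lit 1)), ((nat_lit 113), (nat_lit 75), (nat_lit 1), (nat_lit 1)), ((nat_lit 114), (nat_lit 76), (nat_lit 1), (nat_lit 1)), ((nat_lit 120), (nat_lit 87), (nat_lit 1), (nat_lit 1)), ((nat_lit 121), (nat_lit 88), (nat_lit 1), (nat_lit 1)), ((nat_lit 122), (nat_lit 90), (nat_lit 1), (nat_lit 1)), ((nat_lit 125), (nat_lit 115), (nat_lit 1), (nat_lit 1))]) (.leaf [((nat_lit 1), (nat_lit 11), (nat_lit 1), (nat_lit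 1)), ((nat_lit 2), (nat_lit 17), (nat_lit 1), (nat_lit 1)), ((nat_lit 5), (nat_lit 23), (nat_lit 1), (nat_lit 1)), ((nat_lit 6), (nat_lit 24), (nat_lit 1), (nat_lit 1)), ((nat_lit 9), (nat_lit 27), (nat_lit 1), (nat_lit 1)), ((nat_lit 10), (nat_lit 28), (nat_lit 1), (nat_lit 1)), ((nat_lit 16), (nat_lit 31), (nat_lit 1), (nat_lit 1)), ((nat_lit 22), (nat_lit 32), (nat_lit 1), (nat_lit 1)), ((nat_lit 34), (nat_lit 57), (nat_lit 1), (nat_lit 1)), ((nat_lit 35), (nat_lit 58), (nat_lit 1), (nat_lit 1)), ((nat_lit 36), (nat_lit 60), (nat_lit 1), (nat_lit 1)), ((nat_lit 37), (nat_lit 61), (nat_lit 1), (nat_lit 1)), ((nat_lit 41), (nat_lit 69), (nat_lit 1), (nat_lit 1)), ((nat_lit 42), (nat_lit 70), (nat_lit 1), (nat_lit 1)), ((nat_lit 45), (nat_lit 74), (nat_lit 1), (nat_lit 1)), ((nat_lit 46), (nat_lit 75), (nat_lit 1), (nat_lit 1)), ((nat_lit 50), (nat_lit 79), (nat_lit 1), (nat_lit 1)), ((nat_lit 51), (nat_lit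 80), (nat_lit 1), (nat_lit 1)), ((nat_lit 55), (nat_lit 83), (nat_lit 1), (nat_lit 1)), ((nat_lit 56), (nat_lit 84), (nat_lit 1), (nat_lit 1)), ((nat_lit 64), (nat_lit 88), (nat_lit 1), (nat_lit 1)), ((nat_lit 65), (nat_lit 89), (nat_lit 1), (nat_lit 1)), ((nat_lit 67), (nat_lit 90), (nat_lit 1), (nat_lit 1)), ((nat_lit 68), (nat_lit 91), (nat_lit 1), (nat_lit 1)), ((nat_lit 93), (nat_lit 103), (nat_lit 1), (nat_lit 1)), ((nat_lit 94), (nat_lit 109), (nat_lit 1), (nat_lit 1)), ((nat_lit 97), (nat_lit 115), (nat_lit 1), (nat_lit 1)), ((nat_lit 98), (nat_lit 116), (nat_lit 1), (nat_lit 1)), ((nat_lit 101), (nat_lit 119), (nat_lit 1), (nat_lit 1)), ((nat_lit 102), (nat_lit 120), (nat_lit 1), (nat_lit 1)), ((nat_lit 108), (nat_lit 123), (nat_lit 1), (nat_lit 1)), ((nat_lit 114), (nat_lit 124), (nat_lit 1), (nat_lit 1))])) (.node (.leaf [((nat_lit 4), (nat_lit 2), (nat_lit 1), (nat_lit 1)), ((nat_lit 11), (nat_lit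 7), (nat_lit 1), (nat_lit 1)), ((nat_lit 14), (nat_lit 9), (nat_lit 1), (nat_lit 1)), ((nat_lit 15), (nat_lit 10), (nat_lit 1), (nat_lit 1)), ((nat_lit 23), (nat_lit 18), (nat_lit 1), (nat_lit 1)), ((nat_lit 24), (nat_lit 19), (nat_lit 1), (nat_lit 1)), ((nat_lit 26), (nat_lit 22), (nat_lit 1), (nat_lit 1)), ((nat_lit 31), (nat_lit 29), (nat_lit 1), (nat_lit 1)), ((nat_lit 39), (nat_lit 34), (nat_lit 1), (nat_lit 1)), ((nat_lit 40), (nat_lit 35), (nat_lit 1), (nat_lit 1)), ((nat_lit 42), (nat_lit 38), (nat_lit 1), (nat_lit 1)), ((nat_lit 47), (nat_lit 45), (nat_lit 1), (nat_lit 1)), ((nat_lit 52), (nat_lit 50), (nat_lit 1), (nat_lit 1)), ((nat_lit 60), (nat_lit 53), (nat_lit 1), (nat_lit 1)), ((nat_lit 61), (nat_lit 54), (nat_lit 1), (nat_lit 1)), ((nat_lit 66), (nat_lit 56), (nat_lit 1), (nat_lit 1)), ((nat_lit 69), (nat_lit 59), (nat_lit 1), (nat_lit 1)), ((nat_lit 71), (nat_lit 64), (nat_lit 1), (nat_lit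 1)), ((nat_lit 72), (nat_lit 65), (nat_lit 1), (nat_lit 1)), ((nat_lit 75), (nat_lit 73), (nat_lit 1), (nat_lit 1)), ((nat_lit 80), (nat_lit 78), (nat_lit 1), (nat_lit 1)), ((nat_lit 87), (nat_lit 83), (nat_lit 1), (nat_lit 1)), ((nat_lit 90), (nat_lit 85), (nat_lit 1), (nat_lit 1)), ((nat_lit 91), (nat_lit 86), (nat_lit 1), (nat_lit 1)), ((nat_lit 96), (nat_lit 94), (nat_lit 1), (nat_lit 1)), ((nat_lit 103), (nat_lit 99), (nat_lit 1), (nat_lit 1)), ((nat_lit 106), (nat_lit 101), (nat_lit 1), (nat_lit 1)), ((nat_lit 107), (nat_lit 102), (nat_lit 1), (nat_lit 1)), ((nat_lit 115), (nat_lit 110), (nat_lit 1), (nat_lit 1)), ((nat_lit 116), (nat_lit 111), (nat_lit 1), (nat_lit 1)), ((nat_lit 118), (nat_lit 114), (nat_lit 1), (nat_lit 1)), ((nat_lit 123), (nat_lit 121), (nat_lit 1), (nat_lit 1))]) (.leaf [((nat_lit 0), (nat_lit 27), (nat_lit 1), (nat_lit 1)), ((nat_lit 1), (nat_lit 48), (nat_lit 1), (nat_lit 1)),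 ((nat_lit 2), (nat_lit 53), (nat_lit 1), (nat_lit 1)), ((nat_lit 3), (nat_lit 57), (nat_lit 1), (nat_lit 1)), ((nat_lit 4), (nat_lit 60), (nat_lit 1), (nat_lit 1)), ((nat_lit 5), (nat_lit 62), (nat_lit 1), (nat_lit 1)), ((nat_lit 10), (nat_lit 78), (nat_lit 1), (nat_lit 1)), ((nat_lit 13), (nat_lit 79), (nat_lit 1), (nat_lit 1)), ((nat_lit 15), (nat_lit 80), (nat_lit 1), (nat_lit 1)), ((nat_lit 16), (nat_lit 81), (nat_lit 1), (nat_lit 1)), ((nat_lit 19), (nat_lit 83), (nat_lit 1), (nat_lit 1)), ((nat_lit 21), (nat_lit 84), (nat_lit 1), (nat_lit 1)), ((nat_lit 22), (nat_lit 85), (nat_lit 1), (nat_lit 1)), ((nat_lit 24), (nat_lit 87), (nat_lit 1), (nat_lit 1)), ((nat_lit 25), (nat_lit 88), (nat_lit 1), (nat_lit 1)), ((nat_lit 26), (nat_lit 90), (nat_lit 1), (nat_lit 1)), ((nat_lit 35), (nat_lit 99), (nat_lit 1), (nat_lit 1)), ((nat_lit 37), (nat_lit 100), (nat_lit 1), (nat_lit 1)), ((nat_lit 38), (nat_lit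 101), (nat_lit 1), (nat_lit 1)), ((nat_lit 40), (nat_lit 103), (nat_lit 1), (nat_lit 1)), ((nat_lit 41), (nat_lit 104), (nat_lit 1), (nat_lit 1)), ((nat_lit 42), (nat_lit 106), (nat_lit 1), (nat_lit 1)), ((nat_lit 44), (nat_lit 109), (nat_lit 1), (nat_lit 1)), ((nat_lit 45), (nat_lit 110), (nat_lit 1), (nat_lit 1)), ((nat_lit 46), (nat_lit 112), (nat_lit 1), (nat_lit 1)), ((nat_lit 47), (nat_lit 115), (nat_lit 1), (nat_lit 1)), ((nat_lit 63), (nat_lit 120), (nat_lit 1), (nat_lit 1)), ((nat_lit 65), (nat_lit 121), (nat_lit 1), (nat_lit 1)), ((nat_lit 68), (nat_lit 122), (nat_lit 1), (nat_lit 1)), ((nat_lit 72), (nat_lit 123), (nat_lit 1), (nat_lit 1)), ((nat_lit 77), (nat_lit 124), (nat_lit 1), (nat_lit 1)), ((nat_lit 98), (nat_lit 125), (nat_lit 1), (nat_lit 1))])))) (.node (.node (.node (.leaf [((nat_lit 18), (nat_lit 0), (nat_lit 1), (nat_lit 1)), ((nat_lit 34), (nat_lit 1), (nat_lit 1), (nat_lit 1)),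 ((nat_lit 43), (nat_lit 4), (nat_lit 1), (nat_lit 1)), ((nat_lit 45), (nat_lit 6), (nat_lit 1), (nat_lit 1)), ((nat_lit 53), (nat_lit 8), (nat_lit 1), (nat_lit 1)), ((nat_lit 55), (nat_lit 10), (nat_lit 1), (nat_lit 1)), ((nat_lit 57), (nat_lit 11), (nat_lit 1), (nat_lit 1)), ((nat_lit 59), (nat_lit 13), (nat_lit 1), (nat_lit 1)), ((nat_lit 62), (nat_lit 14), (nat_lit 1), (nat_lit 1)), ((nat_lit 64), (nat_lit 16), (nat_lit 1), (nat_lit 1)), ((nat_lit 73), (nat_lit 21), (nat_lit 1), (nat_lit 1)), ((nat_lit 74), (nat_lit 24), (nat_lit 1), (nat_lit 1)), ((nat_lit 76), (nat_lit 26), (nat_lit 1), (nat_lit 1)), ((nat_lit 83), (nat_lit 28), (nat_lit 1), (nat_lit 1)), ((nat_lit 85), (nat_lit 30), (nat_lit 1), (nat_lit 1)), ((nat_lit 88), (nat_lit 31), (nat_lit 1), (nat_lit 1)), ((nat_lit 94), (nat_lit 37), (nat_lit 1), (nat_lit 1)), ((nat_lit 95), (nat_lit 40), (nat_lit 1), (nat_lit 1)), ((nat_lit 97), (nat_lit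 42), (nat_lit 1), (nat_lit 1)), ((nat_lit 99), (nat_lit 49), (nat_lit 1), (nat_lit 1)), ((nat_lit 101), (nat_lit 51), (nat_lit 1), (nat_lit 1)), ((nat_lit 104), (nat_lit 52), (nat_lit 1), (nat_lit 1)), ((nat_lit 109), (nat_lit 61), (nat_lit 1), (nat_lit 1)), ((nat_lit 111), (nat_lit 63), (nat_lit 1), (nat_lit 1)), ((nat_lit 112), (nat_lit 66), (nat_lit 1), (nat_lit 1)), ((nat_lit 114), (nat_lit 68), (nat_lit 1), (nat_lit 1)), ((nat_lit 115), (nat_lit 70), (nat_lit 1), (nat_lit 1)), ((nat_lit 117), (nat_lit 72), (nat_lit 1), (nat_lit 1)), ((nat_lit 119), (nat_lit 80), (nat_lit 1), (nat_lit 1)), ((nat_lit 121), (nat_lit 82), (nat_lit 1), (nat_lit 1)), ((nat_lit 124), (nat_lit 91), (nat_lit 1), (nat_lit 1)), ((nat_lit 125), (nat_lit 107), (nat_lit 1), (nat_lit 1))]) (.leaf [((nat_lit 2), (nat_lit 7), (nat_lit 1), (nat_lit 1)), ((nat_lit 4), (nat_lit 11), (nat_lit 1), (nat_lit 1)), ((nat_lit 5), (nat_lit 12),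 (nat_lit 1), (nat_lit 1)), ((nat_lit 6), (nat_lit 13), (nat_lit 1), (nat_lit 1)), ((nat_lit 20), (nat_lit 27), (nat_lit 1), (nat_lit 1)), ((nat_lit 21), (nat_lit 28), (nat_lit 1), (nat_lit 1)), ((nat_lit 22), (nat_lit 29), (nat_lit 1), (nat_lit 1)), ((nat_lit 26), (nat_lit 31), (nat_lit 1), (nat_lit 1)), ((nat_lit 36), (nat_lit 48), (nat_lit 1), (nat_lit 1)), ((nat_lit 37), (nat_lit 49), (nat_lit 1), (nat_lit 1)), ((nat_lit 38), (nat_lit 50), (nat_lit 1), (nat_lit 1)), ((nat_lit 42), (nat_lit 52), (nat_lit 1), (nat_lit 1)), ((nat_lit 43), (nat_lit 57), (nat_lit 1), (nat_lit 1)), ((nat_lit 44), (nat_lit 58), (nat_lit 1), (nat_lit 1)), ((nat_lit 45), (nat_lit 59), (nat_lit 1), (nat_lit 1)), ((nat_lit 47), (nat_lit 69), (nat_lit 1), (nat_lit 1)), ((nat_lit 56), (nat_lit 78), (nat_lit 1), (nat_lit 1)), ((nat_lit 66), (nat_lit 80), (nat_lit 1), (nat_lit 1)), ((nat_lit 67), (nat_lit 81), (nat_lit 1), (nat_lit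 1)), ((nat_lit 68), (nat_lit 82), (nat_lit 1), (nat_lit 1)), ((nat_lit 73), (nat_lit 83), (nat_lit 1), (nat_lit 1)), ((nat_lit 75), (nat_lit 87), (nat_lit 1), (nat_lit 1)), ((nat_lit 76), (nat_lit 88), (nat_lit 1), (nat_lit 1)), ((nat_lit 77), (nat_lit 89), (nat_lit 1), (nat_lit 1)), ((nat_lit 94), (nat_lit 99), (nat_lit 1), (nat_lit 1)), ((nat_lit 96), (nat_lit 103), (nat_lit 1), (nat_lit 1)), ((nat_lit 97), (nat_lit 104), (nat_lit 1), (nat_lit 1)), ((nat_lit 98), (nat_lit 105), (nat_lit 1), (nat_lit 1)), ((nat_lit 112), (nat_lit 119), (nat_lit 1), (nat_lit 1)), ((nat_lit 113), (nat_lit 120), (nat_lit 1), (nat_lit 1)), ((nat_lit 114), (nat_lit 121), (nat_lit 1), (nat_lit 1)), ((nat_lit 118), (nat_lit 123), (nat_lit 1), (nat_lit 1))])) (.node (.leaf [((nat_lit 7), (nat_lit 3), (nat_lit 1), (nat_lit 1)), ((nat_lit 8), (nat_lit 4), (nat_lit 1), (nat_lit 1)), ((nat_lit 9), (nat_lit 5), (nat_lit 1), (nat_lit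 1)), ((nat_lit 10), (nat_lit 6), (nat_lit 1), (nat_lit 1)), ((nat_lit 27), (nat_lit 23), (nat_lit 1), (nat_lit 1)), ((nat_lit 28), (nat_lit 24), (nat_lit 1), (nat_lit 1)), ((nat_lit 29), (nat_lit 25), (nat_lit 1), (nat_lit 1)), ((nat_lit 30), (nat_lit 26), (nat_lit 1), (nat_lit 1)), ((nat_lit 48), (nat_lit 39), (nat_lit 1), (nat_lit 1)), ((nat_lit 49), (nat_lit 40), (nat_lit 1), (nat_lit 1)), ((nat_lit 50), (nat_lit 41), (nat_lit 1), (nat_lit 1)), ((nat_lit 51), (nat_lit 42), (nat_lit 1), (nat_lit 1)), ((nat_lit 53), (nat_lit 43), (nat_lit 1), (nat_lit 1)), ((nat_lit 54), (nat_lit 44), (nat_lit 1), (nat_lit 1)), ((nat_lit 55), (nat_lit 45), (nat_lit 1), (nat_lit 1)), ((nat_lit 56), (nat_lit 46), (nat_lit 1), (nat_lit 1)), ((nat_lit 79), (nat_lit 69), (nat_lit 1), (nat_lit 1)), ((nat_lit 80), (nat_lit 70), (nat_lit 1), (nat_lit 1)), ((nat_lit 81), (nat_lit 71), (nat_lit 1), (nat_lit 1)), ((nat_lit 82), (nat_lit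 72), (nat_lit 1), (nat_lit 1)), ((nat_lit 83), (nat_lit 74), (nat_lit 1), (nat_lit 1)), ((nat_lit 84), (nat_lit 75), (nat_lit 1), (nat_lit 1)), ((nat_lit 85), (nat_lit 76), (nat_lit 1), (nat_lit 1)), ((nat_lit 86), (nat_lit 77), (nat_lit 1), (nat_lit 1)), ((nat_lit 99), (nat_lit 95), (nat_lit 1), (nat_lit 1)), ((nat_lit 100), (nat_lit 96), (nat_lit 1), (nat_lit 1)), ((nat_lit 101), (nat_lit 97), (nat_lit 1), (nat_lit 1)), ((nat_lit 102), (nat_lit 98), (nat_lit 1), (nat_lit 1)), ((nat_lit 119), (nat_lit 115), (nat_lit 1), (nat_lit 1)), ((nat_lit 120), (nat_lit 116), (nat_lit 1), (nat_lit 1)), ((nat_lit 121), (nat_lit 117), (nat_lit 1), (nat_lit 1)), ((nat_lit 122), (nat_lit 118), (nat_lit 1), (nat_lit 1))]) (.leaf [((nat_lit 0), (nat_lit 19), (nat_lit 1), (nat_lit 1)), ((nat_lit 1), (nat_lit 35), (nat_lit 1), (nat_lit 1)), ((nat_lit 4), (nat_lit 44), (nat_lit 1), (nat_lit 1)), ((nat_lit 5), (nat_lit 45),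 (nat_lit 1), (nat_lit 1)), ((nat_lit 8), (nat_lit 54), (nat_lit 1), (nat_lit 1)), ((nat_lit 9), (nat_lit 55), (nat_lit 1), (nat_lit 1)), ((nat_lit 11), (nat_lit 58), (nat_lit 1), (nat_lit 1)), ((nat_lit 12), (nat_lit 59), (nat_lit 1), (nat_lit 1)), ((nat_lit 15), (nat_lit 63), (nat_lit 1), (nat_lit 1)), ((nat_lit 16), (nat_lit 65), (nat_lit 1), (nat_lit 1)), ((nat_lit 20), (nat_lit 73), (nat_lit 1), (nat_lit 1)), ((nat_lit 23), (nat_lit 74), (nat_lit 1), (nat_lit 1)), ((nat_lit 26), (nat_lit 77), (nat_lit 1), (nat_lit 1)), ((nat_lit 27), (nat_lit 83), (nat_lit 1), (nat_lit 1)), ((nat_lit 30), (nat_lit 86), (nat_lit 1), (nat_lit 1)), ((nat_lit 31), (nat_lit 89), (nat_lit 1), (nat_lit 1)), ((nat_lit 36), (nat_lit 94), (nat_lit 1), (nat_lit 1)), ((nat_lit 39), (nat_lit 95), (nat_lit 1), (nat_lit 1)), ((nat_lit 42), (nat_lit 98), (nat_lit 1), (nat_lit 1)), ((nat_lit 48), (nat_lit 99), (nat_lit 1), (nat_lit 1)),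 ((nat_lit 51), (nat_lit 102), (nat_lit 1), (nat_lit 1)), ((nat_lit 52), (nat_lit 105), (nat_lit 1), (nat_lit 1)), ((nat_lit 60), (nat_lit 109), (nat_lit 1), (nat_lit 1)), ((nat_lit 62), (nat_lit 110), (nat_lit 1), (nat_lit 1)), ((nat_lit 66), (nat_lit 113), (nat_lit 1), (nat_lit 1)), ((nat_lit 67), (nat_lit 114), (nat_lit 1), (nat_lit 1)), ((nat_lit 70), (nat_lit 116), (nat_lit 1), (nat_lit 1)), ((nat_lit 71), (nat_lit 117), (nat_lit 1), (nat_lit 1)), ((nat_lit 80), (nat_lit 120), (nat_lit 1), (nat_lit 1)), ((nat_lit 81), (nat_lit 121), (nat_lit 1), (nat_lit 1)), ((nat_lit 90), (nat_lit 124), (nat_lit 1), (nat_lit 1)), ((nat_lit 106), (nat_lit 125), (nat_lit 1), (nat_lit 1))]))) (.node (.node (.leaf [((nat_lit 2), (nat_lit 0), (nat_lit 1), (nat_lit 1)), ((nat_lit 33), (nat_lit 11), (nat_lit 1), (nat_lit 1)), ((nat_lit 34), (nat_lit 12), (nat_lit 1), (nat_lit 1)), ((nat_lit 35), (nat_lit 13), (nat_lit 1),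 (nat_lit 1)), ((nat_lit 36), (nat_lit 14), (nat_lit 1), (nat_lit 1)), ((nat_lit 37), (nat_lit 15), (nat_lit 1), (nat_lit 1)), ((nat_lit 38), (nat_lit 16), (nat_lit 1), (nat_lit 1)), ((nat_lit 43), (nat_lit 23), (nat_lit 1), (nat_lit 1)), ((nat_lit 44), (nat_lit 24), (nat_lit 1), (nat_lit 1)), ((nat_lit 45), (nat_lit 25), (nat_lit 1), (nat_lit 1)), ((nat_lit 46), (nat_lit 26), (nat_lit 1), (nat_lit 1)), ((nat_lit 53), (nat_lit 27), (nat_lit 1), (nat_lit 1)), ((nat_lit 54), (nat_lit 28), (nat_lit 1), (nat_lit 1)), ((nat_lit 55), (nat_lit 29), (nat_lit 1), (nat_lit 1)), ((nat_lit 56), (nat_lit 30), (nat_lit 1), (nat_lit 1)), ((nat_lit 73), (nat_lit 32), (nat_lit 1), (nat_lit 1)), ((nat_lit 93), (nat_lit 52), (nat_lit 1), (nat_lit 1)), ((nat_lit 95), (nat_lit 69), (nat_lit 1), (nat_lit 1)), ((nat_lit 96), (nat_lit 70), (nat_lit 1), (nat_lit 1)), ((nat_lit 97), (nat_lit 71), (nat_lit 1), (nat_lit 1)), ((nat_lit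 98), (nat_lit 72), (nat_lit 1), (nat_lit 1)), ((nat_lit 99), (nat_lit 79), (nat_lit 1), (nat_lit 1)), ((nat_lit 100), (nat_lit 80), (nat_lit 1), (nat_lit 1)), ((nat_lit 101), (nat_lit 81), (nat_lit 1), (nat_lit 1)), ((nat_lit 102), (nat_lit 82), (nat_lit 1), (nat_lit 1)), ((nat_lit 109), (nat_lit 87), (nat_lit 1), (nat_lit 1)), ((nat_lit 110), (nat_lit 88), (nat_lit 1), (nat_lit 1)), ((nat_lit 111), (nat_lit 89), (nat_lit 1), (nat_lit 1)), ((nat_lit 112), (nat_lit 90), (nat_lit 1), (nat_lit 1)), ((nat_lit 113), (nat_lit 91), (nat_lit 1), (nat_lit 1)), ((nat_lit 114), (nat_lit 92), (nat_lit 1), (nat_lit 1)), ((nat_lit 125), (nat_lit 123), (nat_lit 1), (nat_lit 1))]) (.leaf [((nat_lit 0), (nat_lit 3), (nat_lit 1), (nat_lit 1)), ((nat_lit 8), (nat_lit 33), (nat_lit 1), (nat_lit 1)), ((nat_lit 9), (nat_lit 34), (nat_lit 1), (nat_lit 1)), ((nat_lit 10), (nat_lit 35), (nat_lit 1), (nat_lit 1)), ((nat_lit 14),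 (nat_lit 39), (nat_lit 1), (nat_lit 1)), ((nat_lit 15), (nat_lit 40), (nat_lit 1), (nat_lit 1)), ((nat_lit 16), (nat_lit 41), (nat_lit 1), (nat_lit 1)), ((nat_lit 20), (nat_lit 43), (nat_lit 1), (nat_lit 1)), ((nat_lit 21), (nat_lit 44), (nat_lit 1), (nat_lit 1)), ((nat_lit 22), (nat_lit 45), (nat_lit 1), (nat_lit 1)), ((nat_lit 26), (nat_lit 47), (nat_lit 1), (nat_lit 1)), ((nat_lit 27), (nat_lit 57), (nat_lit 1), (nat_lit 1)), ((nat_lit 28), (nat_lit 58), (nat_lit 1), (nat_lit 1)), ((nat_lit 29), (nat_lit 59), (nat_lit 1), (nat_lit 1)), ((nat_lit 31), (nat_lit 69), (nat_lit 1), (nat_lit 1)), ((nat_lit 32), (nat_lit 74), (nat_lit 1), (nat_lit 1)), ((nat_lit 51), (nat_lit 93), (nat_lit 1), (nat_lit 1)), ((nat_lit 56), (nat_lit 94), (nat_lit 1), (nat_lit 1)), ((nat_lit 66), (nat_lit 96), (nat_lit 1), (nat_lit 1)), ((nat_lit 67), (nat_lit 97), (nat_lit 1), (nat_lit 1)), ((nat_lit 68), (nat_lit 98), (nat_lit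 1), (nat_lit 1)), ((nat_lit 78), (nat_lit 99), (nat_lit 1), (nat_lit 1)), ((nat_lit 80), (nat_lit 103), (nat_lit 1), (nat_lit 1)), ((nat_lit 81), (nat_lit 104), (nat_lit 1), (nat_lit 1)), ((nat_lit 82), (nat_lit 105), (nat_lit 1), (nat_lit 1)), ((nat_lit 84), (nat_lit 109), (nat_lit 1), (nat_lit 1)), ((nat_lit 85), (nat_lit 110), (nat_lit 1), (nat_lit 1)), ((nat_lit 86), (nat_lit 111), (nat_lit 1), (nat_lit 1)), ((nat_lit 90), (nat_lit 115), (nat_lit 1), (nat_lit 1)), ((nat_lit 91), (nat_lit 116), (nat_lit 1), (nat_lit 1)), ((nat_lit 92), (nat_lit 117), (nat_lit 1), (nat_lit 1)), ((nat_lit 122), (nat_lit 125), (nat_lit 1), (nat_lit 1))])) (.leaf [((nat_lit 5), (nat_lit 6), (nat_lit 1), (nat_lit 1)), ((nat_lit 9), (nat_lit 10), (nat_lit 1), (nat_lit 1)), ((nat_lit 12), (nat_lit 13), (nat_lit 1), (nat_lit 1)), ((nat_lit 14), (nat_lit 15), (nat_lit 1), (nat_lit 1)), ((nat_lit 18), (nat_lit 19), (nat_lit 1),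 (nat_lit 1)), ((nat_lit 20), (nat_lit 21), (nat_lit 1), (nat_lit 1)), ((nat_lit 23), (nat_lit 24), (nat_lit 1), (nat_lit 1)), ((nat_lit 27), (nat_lit 28), (nat_lit 1), (nat_lit 1)), ((nat_lit 34), (nat_lit 35), (nat_lit 1), (nat_lit 1)), ((nat_lit 36), (nat_lit 37), (nat_lit 1), (nat_lit 1)), ((nat_lit 39), (nat_lit 40), (nat_lit 1), (nat_lit 1)), ((nat_lit 43), (nat_lit 44), (nat_lit 1), (nat_lit 1)), ((nat_lit 48), (nat_lit 49), (nat_lit 1), (nat_lit 1)), ((nat_lit 53), (nat_lit 54), (nat_lit 1), (nat_lit 1)), ((nat_lit 57), (nat_lit 58), (nat_lit 1), (nat_lit 1)), ((nat_lit 60), (nat_lit 61), (nat_lit 1), (nat_lit 1)), ((nat_lit 64), (nat_lit 65), (nat_lit 1), (nat_lit 1)), ((nat_lit 67), (nat_lit 68), (nat_lit 1), (nat_lit 1)), ((nat_lit 71), (nat_lit 72), (nat_lit 1), (nat_lit 1)), ((nat_lit 76), (nat_lit 77), (nat_lit 1), (nat_lit 1)), ((nat_lit 81), (nat_lit 82), (nat_lit 1), (nat_lit 1)), ((nat_lit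 85), (nat_lit 86), (nat_lit 1), (nat_lit 1)), ((nat_lit 88), (nat_lit 89), (nat_lit 1), (nat_lit 1)), ((nat_lit 90), (nat_lit 91), (nat_lit 1), (nat_lit 1)), ((nat_lit 97), (nat_lit 98), (nat_lit 1), (nat_lit 1)), ((nat_lit 101), (nat_lit 102), (nat_lit 1), (nat_lit 1)), ((nat_lit 104), (nat_lit 105), (nat_lit 1), (nat_lit 1)), ((nat_lit 106), (nat_lit 107), (nat_lit 1), (nat_lit 1)), ((nat_lit 110), (nat_lit 111), (nat_lit 1), (nat_lit 1)), ((nat_lit 112), (nat_lit 113), (nat_lit 1), (nat_lit 1)), ((nat_lit 115), (nat_lit 116), (nat_lit 1), (nat_lit 1)), ((nat_lit 119), (nat_lit 120), (nat_lit 1), (nat_lit 1))])))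

def rows : Tr (List Entry) :=
  (.node (.node (.node rows0 rows1) (.node rows2 rows3)) (.node (.node rows4 rows5) (.node rows6 rows7)))

def decs0 : Tr (List ℕ) :=
  .node (.node (.node (.node (.leaf []) (.leaf [])) (.node (.leaf []) (.leaf [(nat_lit 9903558093214905156354703360), (nat_lit 19807041809157705115797291008), (nat_lit 39614081330919145091610181632)]))) (.node (.node (.leaf []) (.leaf [(nat_lit 303412046524374704979968), (nat_lit 604536696783609425559552)])) (.node (.leaf []) (.leaf [(nat_lit 21044980667851464673285111808), (nat_lit 79266848140492005727134547968), (nat_lit 158475667841642509253883199488), (nat_lit 1267650675786093127411026624512), (nat_lit 2535301238235390665950568120320), (nat_lit 81129638424051414661528295571456), (nat_lit 649037107317001027518901717565440), (nat_lit 1298074214633780694108918920511488)])))) (.node (.node (.node (.leaf []) (.leaf [(nat_lit 885443715538058477568),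 (nat_lit 1217485108864830406656), (nat_lit 2370406613471677382656)])) (.node (.leaf []) (.leaf [(nat_lit 10213005324104387267917774848), (nat_lit 39616499108771398055121387520), (nat_lit 158456929491438482501675253760), (nat_lit 633825302475297942183174209536), (nat_lit 2535301201046754613352112062464), (nat_lit 10141204801844281956047335194624)]))) (.node (.node (.leaf []) (.leaf [(nat_lit 680020773533228910772224), (nat_lit 2436741105160736930267136), (nat_lit 9673767740158468220256256), (nat_lit 38686216523478492296249344), (nat_lit 154742523357416608071942144)])) (.node (.leaf []) (.leaf [(nat_lit 636301180192685461298149851136), (nat_lit 1268269570247872091634152767488), (nat_lit 5070757143417828278521175212032), (nat_lit 10141282173078290548240806838272), (nat_lit 40564838550116454681961297870848), (nat_lit 162259286500619920308611407937536), (nat_lit 649037112152556732024828739977216), (nat_lit 2596148430476339633879877339316224),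 (nat_lit 10384593717674118166868307245793280), (nat_lit 83076749736859473511391598561198080), (nat_lit 664613997892457945675275566994948096)]))))

def decs1 : Tr (List ℕ) :=
  .node (.node (.node (.node (.leaf []) (.leaf [(nat_lit 110680464442257309696), (nat_lit 156797324626531188736)])) (.node (.leaf []) (.leaf [(nat_lit 9922863127396876265988292608), (nat_lit 19808249554385699027560693760), (nat_lit 79228464745719241250837626880), (nat_lit 633825300187901677043189809152)]))) (.node (.node (.leaf []) (.leaf [(nat_lit 340010386766614455386112), (nat_lit 1218370552580368465133568), (nat_lit 9671480343893328235855872)])) (.node (.leaf []) (.leaf [(nat_lit 42089961335702929346570223616), (nat_lit 79847132533907027730993512448), (nat_lit 317067392561968022908538191872), (nat_lit 10141204952941562663802272481280), (nat_lit 40564819245082272710851664281600), (nat_lit 162259276848102829323056591142912), (nat_lit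 649037107321575820049181686366208), (nat_lit 2596148429268594405885965575913472), (nat_lit 10384593717070245552871351364091904), (nat_lit 41538374868278630251616007488536576)])))) (.node (.node (.node (.leaf []) (.leaf [(nat_lit 11805916207174113034240), (nat_lit 19037039884068257267712), (nat_lit 37797378607030871261184)])) (.node (.leaf []) (.leaf [(nat_lit 14855280471424563298789490688), (nat_lit 158461160731807133703786725376), (nat_lit 316915067908696579632525213696), (nat_lit 2535301205178825285863051624448), (nat_lit 5070602403274100847421635428352), (nat_lit 20282409603946818329126604111872), (nat_lit 40564819207450914800484178984960), (nat_lit 81129638414643575183936424247296), (nat_lit 162259276829231810135651719839744)]))) (.node (.node (.leaf []) (.leaf [(nat_lit 2568967366681086996250624), (nat_lit 4911261142184431022243840), (nat_lit 38690348594151003235811328), (nat_lit 77373613638577702003802112),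 (nat_lit 309485304969250248077606912), (nat_lit 618970167216642727125975040), (nat_lit 1237940076178868422318227456), (nat_lit 2475880097017504623507800064)])) (.node (.leaf []) (.leaf [(nat_lit 649042059077010595087411637649408), (nat_lit 1298076690513785477893173880553472), (nat_lit 2596149667207453099645523063734272), (nat_lit 5192297477504847271220633778782208), (nat_lit 10384594026554665078406061383221248), (nat_lit 20769187588881815424794519679270912), (nat_lit 41538374945649873483580237814956032), (nat_lit 83076749775242868284156074858119168), (nat_lit 166153499492457297226809949330341888), (nat_lit 332306998955900374782868798467735552), (nat_lit 664613997892609052179355358787010560), (nat_lit 1329227995784991430767532974603763712), (nat_lit 2658455991569869524739477077722398720), (nat_lit 5316911983139682381081159719702233088), (nat_lit 10633823966279336427963422221533184000)]))))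

def decs2 : Tr (List ℕ) :=
  .node (.node (.node (.node (.leaf []) (.leaf [])) (.node (.leaf []) (.leaf [(nat_lit 9903671430010494027839832064), (nat_lit 19807045350932567268031201280), (nat_lit 39614081552280073976124801024), (nat_lit 79228162551157825740963053568), (nat_lit 158456325037752047223942676480)]))) (.node (.node (.leaf []) (.leaf [(nat_lit 306953821386526938890240), (nat_lit 604758057712493940178944), (nat_lit 1208962713102776593809408), (nat_lit 2417860862601295204188160)])) (.node (.leaf []) (.leaf [(nat_lit 24758800785707605497982484480), (nat_lit 158533696280984011454269095936), (nat_lit 316951335683285018507766398976), (nat_lit 2535301351572186254822053249024), (nat_lit 5070602476470781331901136240640), (nat_lit 324518553667871459748895311003648), (nat_lit 1298074214634002055037803435130880), (nat_lit 2596148429267561388217837841022976), (nat_lit 5192296858534864522018643748323328), (nat_lit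 10384593717069673703805066367991808)])))) (.node (.node (.node (.leaf []) (.leaf [(nat_lit 10035028776097996079104)])) (.node (.leaf []) (.leaf [(nat_lit 11141460353568422474092118016), (nat_lit 79230580365903566851893362688), (nat_lit 158457533954348289816262606848), (nat_lit 1267650602589412642931525812224), (nat_lit 2535301201637050423710817714176), (nat_lit 10141204801973409164563302055936), (nat_lit 20282409603725457400242089492480)]))) (.node (.node (.leaf []) (.leaf [(nat_lit 1284483683340543498125312), (nat_lit 2455630571092215511121920), (nat_lit 19345174297075501617905664), (nat_lit 38686806819288851001901056), (nat_lit 154742652484625124038803456), (nat_lit 309485083608321363562987520)])) (.node (.leaf []) (.leaf [(nat_lit 1272602360385370922596299702272), (nat_lit 2537777080535029563543204659200), (nat_lit 5071840340952202986261711945728), (nat_lit 81129715785859137032056186339328), (nat_lit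 162259315514839591059711600885760), (nat_lit 324518573001239840617222815875072), (nat_lit 5192296863370530906989013028044800), (nat_lit 10384593719487506896290251007852544), (nat_lit 20769187435348236333736614491586560), (nat_lit 332306998946531199680855422363762688), (nat_lit 664613997892458231599808709492998144), (nat_lit 1329227995784916020477759649956757504), (nat_lit 2658455991569831819594590415398895616)]))))

def decs3 : Tr (List ℕ) :=
  .node (.node (.node (.node (.leaf []) (.leaf [(nat_lit 664082786653543858176)])) (.node (.leaf []) (.leaf [(nat_lit 9980891566738378466374189056), (nat_lit 19811876331844542915084812288), (nat_lit 316912952288512254031469477888), (nat_lit 633825300409262605927704428544), (nat_lit 1267650600265122889644122308608), (nat_lit 2535301200465682175030261186560)]))) (.node (.node (.leaf []) (.leaf [(nat_lit 453347182355485940514816), (nat_lit 4845148011424255989252096), (nat_lit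 9671701704822212750475264), (nat_lit 19342850007322214214402048), (nat_lit 38685635451040170445373440)])) (.node (.leaf []) (.leaf [(nat_lit 84179922671405858693140447232), (nat_lit 160932205107099435736886149120), (nat_lit 318150590096342730649074925568), (nat_lit 81129638565722409147617651982336), (nat_lit 162259276904771227117492333707264), (nat_lit 324518553696205658646113182285824), (nat_lit 5192296858539549995013365974433792), (nat_lit 10384593717072016440302427481047040), (nat_lit 20769187434140491105742702728183808), (nat_lit 41538374868278916176149149986586624), (nat_lit 83076749736557389630440530943934464), (nat_lit 166153499473114557899952177373249536)])))) (.node (.node (.node (.leaf []) (.leaf [])) (.node (.leaf []) (.leaf [(nat_lit 20116525638387429467110768640), (nat_lit 39652766883359836930362572800), (nat_lit 158465996435085592220485550080), (nat_lit 633825375671978426662675021824), (nat_lit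 2535301219345924734471987265536), (nat_lit 20282409613096403389686541713408), (nat_lit 649037107316871900310385750704128)]))) (.node (.node (.leaf []) (.leaf [(nat_lit 9903529759016007938483421184)])) (.leaf [])))

def decs4 : Tr (List ℕ) :=
  .node (.node (.node (.node (.leaf []) (.leaf [(nat_lit 27670116110564327424)])) (.node (.leaf []) (.leaf [(nat_lit 9903595872146768113516412928), (nat_lit 19807042989749325833208594432), (nat_lit 39614081404706121386448388096), (nat_lit 79228162532711081667253501952)]))) (.node (.node (.leaf []) (.leaf [(nat_lit 304592638145092116283392), (nat_lit 604610483759904263766016), (nat_lit 1208944266358702884257792)])) (.node (.leaf []) (.leaf [(nat_lit 22282920707136844948184236032), (nat_lit 79305533766719673860725145600), (nat_lit 316931992870171184440971100160), (nat_lit 1267650751343956853325350043648), (nat_lit 5070602438691849468943974531072), (nat_lit 162259276838658096357317300715520),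 (nat_lit 649037107317148601471491393978368), (nat_lit 2596148429267487601241543002816512), (nat_lit 5192296858534836851902533183995904)])))) (.node (.node (.node (.leaf []) (.leaf [])) (.node (.leaf []) (.leaf [(nat_lit 10522490333925732336642555904), (nat_lit 39618916960410627313470799872), (nat_lit 316913254519967157688763154432), (nat_lit 633825304836481183617996816384), (nat_lit 5070602401503213416345518473216), (nat_lit 10141204801862728700121044746240), (nat_lit 20282409603660893795984106061824)]))) (.node (.node (.leaf []) (.leaf [(nat_lit 755578637259143234191360), (nat_lit 4854592744389995279679488), (nat_lit 9676128923399903042863104), (nat_lit 77371842751146625886846976), (nat_lit 154742541804160681781493760), (nat_lit 309485019044717105579556864)])) (.node (.leaf []) (.leaf [(nat_lit 638777060271256221847948099584), (nat_lit 2535920170476101493130855972864), (nat_lit 5070911885922738951055537602560),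 (nat_lit 20282486974904125760214432481280), (nat_lit 40564857892929568516028093169664), (nat_lit 324518563329833283700189418225664), (nat_lit 1298074219469410185591140781129728), (nat_lit 2596148431685265453494506514022400), (nat_lit 20769187434743773423929299904233472), (nat_lit 166153499473416715567879539828719616), (nat_lit 664613997892457973345391677559275520), (nat_lit 1329227995784915891350551133989896192)]))))

def decs5 : Tr (List ℕ) :=
  .node (.node (.node (.node (.leaf []) (.leaf [])) (.node (.leaf []) (.leaf [(nat_lit 9942205940510710332783591424), (nat_lit 19809458480205313656735399936), (nat_lit 158456627259983578844381577216), (nat_lit 633825300261688653338028015616), (nat_lit 1267650600246676145570412756992)]))) (.node (.node (.leaf []) (.leaf [(nat_lit 377789318629571617095680), (nat_lit 2427296372194997639839744), (nat_lit 9671554130869623074062336), (nat_lit 19342831560578140504850432)]))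 (.node (.leaf []) (.leaf [(nat_lit 44565841414273689896368472064), (nat_lit 159075295048171365324537462784), (nat_lit 317222135066878695442900582400), (nat_lit 20282409754767397875775898124288), (nat_lit 40564819282861204573808825991168), (nat_lit 324518553677316192714634601431040), (nat_lit 1298074214638429273615493727518720), (nat_lit 2596148429269774997506682987216896), (nat_lit 20769187434139900809932344022532096), (nat_lit 41538374868278657921732118052864000), (nat_lit 83076749736557260503232014977073152)])))) (.node (.node (.node (.leaf []) (.leaf [(nat_lit 14167099448608935641088), (nat_lit 19184613836657933680640), (nat_lit 37815825351104580812800), (nat_lit 75567087097951178194944)])) (.node (.leaf []) (.leaf [(nat_lit 19961783133476756932748378112), (nat_lit 39633424070246002863567273984), (nat_lit 79237833920821254626941599744), (nat_lit 633825337893046563705513312256), (nat_lit 1267650619117695332975284060160),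 (nat_lit 10141204811270568177712916070400)]))) (.node (.node (.leaf []) (.leaf [])) (.node (.leaf []) (.leaf [(nat_lit 973555660975280180349468061728768), (nat_lit 1460333491462920270524202092593152), (nat_lit 2677278067682020495961037169754112), (nat_lit 5232861677742130969378390831792128), (nat_lit 10404876126673306927484939909726208), (nat_lit 20779328638941136349333958942523392), (nat_lit 41543445470679533945849957446582272), (nat_lit 83079285037757698515290934673932288), (nat_lit 166154767123714712342377379238248448), (nat_lit 332307632771529082340652513421688832), (nat_lit 664614314805107993509253904315973632), (nat_lit 1329228154241240901432482247368245248), (nat_lit 2658456070797994260071951714104639488), (nat_lit 5316912022753744748747397037893353472), (nat_lit 10633823986086367611796540880628744192), (nat_lit 21267647942462174280743955163678507008)]))))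

def decs6 : Tr (List ℕ) :=
  .node (.node (.node (.node (.leaf []) (.leaf [(nat_lit 92233720368547758080)])) (.node (.leaf []) (.leaf [(nat_lit 9913191720839959232590643200), (nat_lit 19807645091475891712973340672), (nat_lit 39614383488587072454065651712)]))) (.node (.node (.leaf []) (.leaf [(nat_lit 321120920835135874531328), (nat_lit 613907642773053877780480)])) (.node (.leaf []) (.leaf [(nat_lit 40852021296417549071671099392), (nat_lit 79537647524085682662268731392), (nat_lit 158611067533439347721450291200), (nat_lit 10141204877383698937887949062144), (nat_lit 20282409641430602286904412995584), (nat_lit 81129638433496147627267585998848), (nat_lit 649037107319214636807746863759360), (nat_lit 1298074214634887498753341493608448), (nat_lit 5192296858535417924340855034871808)])))) (.node (.node (.node (.leaf []) (.leaf [(nat_lit 10625324586456701730816), (nat_lit 18963252907773419061248)])) (.node (.leaf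 []) (.leaf [(nat_lit 12379400392853802748991242240), (nat_lit 79232998217542796110242775040), (nat_lit 316913858982876965003350507520), (nat_lit 1267650604950595884366348419072), (nat_lit 5070602402093509226704224124928), (nat_lit 10141204802120983117152978468864), (nat_lit 40564819207377127824189340778496), (nat_lit 81129638414615905067825859919872)]))) (.node (.node (.leaf []) (.leaf [(nat_lit 1360041547066457821544448), (nat_lit 4873482210321473860534272), (nat_lit 19347535480316936440512512), (nat_lit 77372433046956984592498688), (nat_lit 154742800058577713715216384), (nat_lit 618970093429666432287768576), (nat_lit 1237940048508752311753900032)])) (.node (.leaf []) (.leaf [(nat_lit 10146156561982976733073222139904), (nat_lit 20284885483730241184497049534464), (nat_lit 40566057147342626228169401696256), (nat_lit 81130257384626324385926454706176), (nat_lit 162259586314223184736646735069184), (nat_lit 324518708400931637455690382966784),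 (nat_lit 41538374873114324306702487332585472), (nat_lit 83076749738975093695717199616933888), (nat_lit 166153499474323409932590511709749248), (nat_lit 332306998946833431135759079657439232), (nat_lit 664613997892462658818386399785385984), (nat_lit 1329227995784918234087048495102951424), (nat_lit 2658455991569832926399234837971992576), (nat_lit 5316911983139664081911038599827030016)]))))

def decs7 : Tr (List ℕ) :=
  .node (.node (.node (.node (.leaf []) (.leaf [(nat_lit 737869762948382064640), (nat_lit 1199038364791120855040)])) (.node (.leaf []) (.leaf [(nat_lit 10058262819193714733555384320), (nat_lit 39615290182951783425946681344), (nat_lit 79228766977174144908131303424), (nat_lit 633825301294706321465762906112), (nat_lit 1267650600818525211855408857088)]))) (.node (.node (.leaf []) (.leaf [(nat_lit 642241841670271749062656), (nat_lit 1227815285546107755560960), (nat_lit 9672587148537750808952832), (nat_lit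 19343403409644425500950528)])) (.node (.leaf []) (.leaf [(nat_lit 635063240153400081023250726912), (nat_lit 1267960085238050746565427986432), (nat_lit 2535455942961369475527768801280), (nat_lit 10141243487452062880107216240640), (nat_lit 20282428946464784258014046584832), (nat_lit 81129648086013238612822402793472), (nat_lit 649037109734705092795570390564864), (nat_lit 1298074215842632726747253257011200), (nat_lit 5192296859139290538337810916573184), (nat_lit 41538374868580852483147627927437312)])))) (.node (.node (.node (.leaf []) (.leaf [(nat_lit 302821750714015999328256)])) (.node (.leaf []) (.leaf [(nat_lit 20426010648208774535835549696), (nat_lit 39691452509587505063953170432), (nat_lit 316922321463614267407573450752), (nat_lit 633825451229842152576998440960), (nat_lit 5070602419802383537465393676288), (nat_lit 40564819216748073813633792999424), (nat_lit 649037107316890347054459460255744), (nat_lit 1298074214633716130504660937080832)])))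 (.node (.node (.leaf []) (.leaf [(nat_lit 9903539203748973677773848576), (nat_lit 19807041218861894757091639296)])) (.leaf [])))

def decs : Tr (List ℕ) :=
  (.node (.node (.node decs0 decs1) (.node decs2 decs3)) (.node (.node decs4 decs5) (.node decs6 decs7)))

def refls0 : Tr (ℕ) :=
  .node (.node (.node (.node (.node (.node (.leaf (nat_lit 1)) (.leaf (nat_lit 73))) (.node (.leaf (nat_lit 34)) (.leaf (nat_lit 110)))) (.node (.node (.leaf (nat_lit 12)) (.leaf (nat_lit 91))) (.leaf (nat_lit 53)))) (.node (.node (.node (.leaf (nat_lit 5)) (.leaf (nat_lit 86))) (.node (.leaf (nat_lit 44)) (.leaf (nat_lit 118)))) (.node (.node (.leaf (nat_lit 27)) (.leaf (nat_lit 99))) (.leaf (nat_lit 64))))) (.node (.node (.node (.node (.leaf (nat_lit 3)) (.leaf (nat_lit 77))) (.node (.leaf (nat_lit 50)) (.leaf (nat_lit 108)))) (.node (.node (.leaf (nat_lit 22)) (.leaf (nat_lit 75))) (.leaf (nat_lit 55)))) (.node (.node (.node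 (.leaf (nat_lit 13)) (.leaf (nat_lit 85))) (.node (.leaf (nat_lit 55)) (.leaf (nat_lit 122)))) (.node (.node (.leaf (nat_lit 93)) (.leaf (nat_lit 105))) (.leaf (nat_lit 65)))))) (.node (.node (.node (.node (.node (.leaf (nat_lit 1)) (.leaf (nat_lit 75))) (.node (.leaf (nat_lit 38)) (.leaf (nat_lit 112)))) (.node (.node (.leaf (nat_lit 18)) (.leaf (nat_lit 93))) (.leaf (nat_lit 57)))) (.node (.node (.node (.leaf (nat_lit 8)) (.leaf (nat_lit 83))) (.node (.leaf (nat_lit 27)) (.leaf (nat_lit 117)))) (.node (.node (.leaf (nat_lit 28)) (.leaf (nat_lit 101))) (.leaf (nat_lit 66))))) (.node (.node (.node (.node (.leaf (nat_lit 5)) (.leaf (nat_lit 80))) (.node (.leaf (nat_lit 43)) (.leaf (nat_lit 116)))) (.node (.node (.leaf (nat_lit 29)) (.leaf (nat_lit 98))) (.leaf (nat_lit 64)))) (.node (.node (.node (.leaf (nat_lit 16)) (.leaf (nat_lit 89))) (.node (.leaf (nat_lit 52)) (.leaf (nat_lit 125)))) (.node (.node (.leaf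 (nat_lit 34)) (.leaf (nat_lit 107))) (.leaf (nat_lit 70))))))

def refls1 : Tr (ℕ) :=
  .node (.node (.node (.node (.node (.node (.leaf (nat_lit 1)) (.leaf (nat_lit 69))) (.node (.leaf (nat_lit 38)) (.leaf (nat_lit 111)))) (.node (.node (.leaf (nat_lit 19)) (.leaf (nat_lit 92))) (.leaf (nat_lit 56)))) (.node (.node (.node (.leaf (nat_lit 10)) (.leaf (nat_lit 83))) (.node (.leaf (nat_lit 46)) (.leaf (nat_lit 120)))) (.node (.node (.leaf (nat_lit 28)) (.leaf (nat_lit 100))) (.leaf (nat_lit 65))))) (.node (.node (.node (.node (.leaf (nat_lit 4)) (.leaf (nat_lit 78))) (.node (.leaf (nat_lit 46)) (.leaf (nat_lit 112)))) (.node (.node (.leaf (nat_lit 40)) (.leaf (nat_lit 101))) (.leaf (nat_lit 57)))) (.node (.node (.node (.leaf (nat_lit 15)) (.leaf (nat_lit 104))) (.node (.leaf (nat_lit 52)) (.leaf (nat_lit 124)))) (.node (.node (.leaf (nat_lit 33)) (.leaf (nat_lit 112))) (.leaf (nat_lit 69)))))) (.node (.node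 (.node (.node (.node (.leaf (nat_lit 2)) (.leaf (nat_lit 76))) (.node (.leaf (nat_lit 24)) (.leaf (nat_lit 113)))) (.node (.node (.leaf (nat_lit 22)) (.leaf (nat_lit 94))) (.leaf (nat_lit 58)))) (.node (.node (.node (.leaf (nat_lit 14)) (.leaf (nat_lit 84))) (.node (.leaf (nat_lit 40)) (.leaf (nat_lit 122)))) (.node (.node (.leaf (nat_lit 30)) (.leaf (nat_lit 88))) (.leaf (nat_lit 71))))) (.node (.node (.node (.node (.leaf (nat_lit 8)) (.leaf (nat_lit 71))) (.node (.leaf (nat_lit 44)) (.leaf (nat_lit 116)))) (.node (.node (.leaf (nat_lit 26)) (.leaf (nat_lit 99))) (.leaf (nat_lit 63)))) (.node (.node (.node (.leaf (nat_lit 17)) (.leaf (nat_lit 90))) (.leaf (nat_lit 53))) (.node (.node (.leaf (nat_lit 35)) (.leaf (nat_lit 108))) (.leaf (nat_lit 72))))))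

def refls2 : Tr (ℕ) :=
  .node (.node (.node (.node (.node (.node (.leaf (nat_lit 0)) (.leaf (nat_lit 73))) (.node (.leaf (nat_lit 37)) (.leaf (nat_lit 104)))) (.node (.node (.leaf (nat_lit 19)) (.leaf (nat_lit 108))) (.leaf (nat_lit 59)))) (.node (.node (.node (.leaf (nat_lit 8)) (.leaf (nat_lit 81))) (.node (.leaf (nat_lit 42)) (.leaf (nat_lit 119)))) (.node (.node (.leaf (nat_lit 49)) (.leaf (nat_lit 97))) (.leaf (nat_lit 67))))) (.node (.node (.node (.node (.leaf (nat_lit 9)) (.leaf (nat_lit 78))) (.node (.leaf (nat_lit 40)) (.leaf (nat_lit 114)))) (.node (.node (.leaf (nat_lit 20)) (.leaf (nat_lit 95))) (.leaf (nat_lit 60)))) (.node (.node (.node (.leaf (nat_lit 20)) (.leaf (nat_lit 84))) (.node (.leaf (nat_lit 50)) (.leaf (nat_lit 125)))) (.node (.node (.leaf (nat_lit 32)) (.leaf (nat_lit 105))) (.leaf (nat_lit 79)))))) (.node (.node (.node (.node (.node (.leaf (nat_lit 2)) (.leaf (nat_lit 97))) (.node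 (.leaf (nat_lit 36)) (.leaf (nat_lit 110)))) (.node (.node (.leaf (nat_lit 21)) (.leaf (nat_lit 93))) (.leaf (nat_lit 57)))) (.node (.node (.node (.leaf (nat_lit 12)) (.leaf (nat_lit 76))) (.node (.leaf (nat_lit 48)) (.leaf (nat_lit 120)))) (.node (.node (.leaf (nat_lit 30)) (.leaf (nat_lit 100))) (.leaf (nat_lit 66))))) (.node (.node (.node (.node (.leaf (nat_lit 7)) (.leaf (nat_lit 79))) (.node (.leaf (nat_lit 44)) (.leaf (nat_lit 121)))) (.node (.node (.leaf (nat_lit 24)) (.leaf (nat_lit 97))) (.leaf (nat_lit 62)))) (.node (.node (.node (.leaf (nat_lit 16)) (.leaf (nat_lit 89))) (.leaf (nat_lit 43))) (.node (.node (.leaf (nat_lit 35)) (.leaf (nat_lit 92))) (.leaf (nat_lit 67))))))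

def refls3 : Tr (ℕ) :=
  .node (.node (.node (.node (.node (.node (.leaf (nat_lit 1)) (.leaf (nat_lit 74))) (.node (.leaf (nat_lit 38)) (.leaf (nat_lit 111)))) (.node (.node (.leaf (nat_lit 36)) (.leaf (nat_lit 93))) (.leaf (nat_lit 55)))) (.node (.node (.node (.leaf (nat_lit 9)) (.leaf (nat_lit 100))) (.node (.leaf (nat_lit 46)) (.leaf (nat_lit 120)))) (.node (.node (.leaf (nat_lit 25)) (.leaf (nat_lit 102))) (.leaf (nat_lit 63))))) (.node (.node (.node (.node (.leaf (nat_lit 6)) (.leaf (nat_lit 78))) (.node (.leaf (nat_lit 42)) (.leaf (nat_lit 116)))) (.node (.node (.leaf (nat_lit 24)) (.leaf (nat_lit 96))) (.leaf (nat_lit 61)))) (.node (.node (.node (.leaf (nat_lit 15)) (.leaf (nat_lit 90))) (.node (.leaf (nat_lit 31)) (.leaf (nat_lit 125)))) (.node (.node (.leaf (nat_lit 34)) (.leaf (nat_lit 107))) (.leaf (nat_lit 75)))))) (.node (.node (.node (.node (.node (.leaf (nat_lit 4)) (.leaf (nat_lit 86)))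 (.node (.leaf (nat_lit 40)) (.leaf (nat_lit 114)))) (.node (.node (.leaf (nat_lit 16)) (.leaf (nat_lit 94))) (.leaf (nat_lit 57)))) (.node (.node (.node (.leaf (nat_lit 13)) (.leaf (nat_lit 82))) (.node (.leaf (nat_lit 50)) (.leaf (nat_lit 122)))) (.node (.node (.leaf (nat_lit 30)) (.leaf (nat_lit 106))) (.leaf (nat_lit 68))))) (.node (.node (.node (.node (.leaf (nat_lit 7)) (.leaf (nat_lit 80))) (.node (.leaf (nat_lit 55)) (.leaf (nat_lit 118)))) (.node (.node (.leaf (nat_lit 26)) (.leaf (nat_lit 84))) (.leaf (nat_lit 63)))) (.node (.node (.node (.leaf (nat_lit 18)) (.leaf (nat_lit 91))) (.leaf (nat_lit 49))) (.node (.node (.leaf (nat_lit 20)) (.leaf (nat_lit 109))) (.leaf (nat_lit 72))))))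

def refls4 : Tr (ℕ) :=
  .node (.node (.node (.node (.node (.node (.leaf (nat_lit 0)) (.leaf (nat_lit 74))) (.node (.leaf (nat_lit 37)) (.leaf (nat_lit 110)))) (.node (.node (.leaf (nat_lit 20)) (.leaf (nat_lit 92))) (.leaf (nat_lit 45)))) (.node (.node (.node (.leaf (nat_lit 12)) (.leaf (nat_lit 82))) (.node (.leaf (nat_lit 46)) (.leaf (nat_lit 115)))) (.node (.node (.leaf (nat_lit 27)) (.leaf (nat_lit 100))) (.leaf (nat_lit 64))))) (.node (.node (.node (.node (.leaf (nat_lit 4)) (.leaf (nat_lit 78))) (.node (.leaf (nat_lit 38)) (.leaf (nat_lit 114)))) (.node (.node (.leaf (nat_lit 27)) (.leaf (nat_lit 96))) (.leaf (nat_lit 58)))) (.node (.node (.node (.leaf (nat_lit 14)) (.leaf (nat_lit 87))) (.node (.leaf (nat_lit 51)) (.leaf (nat_lit 123)))) (.node (.node (.leaf (nat_lit 31)) (.leaf (nat_lit 102))) (.leaf (nat_lit 67)))))) (.node (.node (.node (.node (.node (.leaf (nat_lit 2)) (.leaf (nat_lit 76)))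 (.node (.leaf (nat_lit 48)) (.leaf (nat_lit 106)))) (.node (.node (.leaf (nat_lit 21)) (.leaf (nat_lit 73))) (.leaf (nat_lit 53)))) (.node (.node (.node (.leaf (nat_lit 12)) (.leaf (nat_lit 84))) (.node (.leaf (nat_lit 53)) (.leaf (nat_lit 121)))) (.node (.node (.leaf (nat_lit 51)) (.leaf (nat_lit 103))) (.leaf (nat_lit 59))))) (.node (.node (.node (.node (.leaf (nat_lit 3)) (.leaf (nat_lit 84))) (.node (.leaf (nat_lit 43)) (.leaf (nat_lit 115)))) (.node (.node (.leaf (nat_lit 22)) (.leaf (nat_lit 98))) (.leaf (nat_lit 62)))) (.node (.node (.node (.leaf (nat_lit 22)) (.leaf (nat_lit 86))) (.leaf (nat_lit 52))) (.node (.node (.leaf (nat_lit 36)) (.leaf (nat_lit 108))) (.leaf (nat_lit 81))))))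

def refls5 : Tr (ℕ) :=
  .node (.node (.node (.node (.node (.node (.leaf (nat_lit 1)) (.leaf (nat_lit 75))) (.node (.leaf (nat_lit 22)) (.leaf (nat_lit 111)))) (.node (.node (.leaf (nat_lit 19)) (.leaf (nat_lit 92))) (.leaf (nat_lit 51)))) (.node (.node (.node (.leaf (nat_lit 10)) (.leaf (nat_lit 83))) (.node (.leaf (nat_lit 78)) (.leaf (nat_lit 120)))) (.node (.node (.leaf (nat_lit 27)) (.leaf (nat_lit 86))) (.leaf (nat_lit 65))))) (.node (.node (.node (.node (.leaf (nat_lit 6)) (.leaf (nat_lit 69))) (.node (.leaf (nat_lit 41)) (.leaf (nat_lit 115)))) (.node (.node (.leaf (nat_lit 24)) (.leaf (nat_lit 97))) (.leaf (nat_lit 61)))) (.node (.node (.node (.leaf (nat_lit 15)) (.leaf (nat_lit 88))) (.node (.leaf (nat_lit 51)) (.leaf (nat_lit 124)))) (.node (.node (.leaf (nat_lit 33)) (.leaf (nat_lit 104))) (.leaf (nat_lit 70)))))) (.node (.node (.node (.node (.node (.leaf (nat_lit 3)) (.leaf (nat_lit 77))) (.node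 (.leaf (nat_lit 44)) (.leaf (nat_lit 116)))) (.node (.node (.leaf (nat_lit 38)) (.leaf (nat_lit 99))) (.leaf (nat_lit 61)))) (.node (.node (.node (.leaf (nat_lit 13)) (.leaf (nat_lit 102))) (.node (.leaf (nat_lit 49)) (.leaf (nat_lit 121)))) (.node (.node (.leaf (nat_lit 31)) (.leaf (nat_lit 110))) (.leaf (nat_lit 66))))) (.node (.node (.node (.node (.leaf (nat_lit 8)) (.leaf (nat_lit 81))) (.node (.leaf (nat_lit 43)) (.leaf (nat_lit 118)))) (.node (.node (.leaf (nat_lit 25)) (.leaf (nat_lit 99))) (.leaf (nat_lit 63)))) (.node (.node (.node (.leaf (nat_lit 17)) (.leaf (nat_lit 88))) (.leaf (nat_lit 54))) (.node (.node (.leaf (nat_lit 35)) (.leaf (nat_lit 108))) (.leaf (nat_lit 77))))))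

def refls6 : Tr (ℕ) :=
  .node (.node (.node (.node (.node (.node (.leaf (nat_lit 0)) (.leaf (nat_lit 95))) (.node (.leaf (nat_lit 40)) (.leaf (nat_lit 112)))) (.node (.node (.leaf (nat_lit 19)) (.leaf (nat_lit 92))) (.leaf (nat_lit 54)))) (.node (.node (.node (.leaf (nat_lit 10)) (.leaf (nat_lit 74))) (.node (.leaf (nat_lit 45)) (.leaf (nat_lit 119)))) (.node (.node (.leaf (nat_lit 28)) (.leaf (nat_lit 104))) (.leaf (nat_lit 65))))) (.node (.node (.node (.node (.leaf (nat_lit 5)) (.leaf (nat_lit 78))) (.node (.leaf (nat_lit 26)) (.leaf (nat_lit 119)))) (.node (.node (.leaf (nat_lit 23)) (.leaf (nat_lit 96))) (.leaf (nat_lit 60)))) (.node (.node (.node (.leaf (nat_lit 12)) (.leaf (nat_lit 88))) (.node (.leaf (nat_lit 42)) (.leaf (nat_lit 123)))) (.node (.node (.leaf (nat_lit 32)) (.leaf (nat_lit 90))) (.leaf (nat_lit 56)))))) (.node (.node (.node (.node (.node (.leaf (nat_lit 7)) (.leaf (nat_lit 71))) (.node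 (.leaf (nat_lit 39)) (.leaf (nat_lit 113)))) (.node (.node (.leaf (nat_lit 24)) (.leaf (nat_lit 94))) (.leaf (nat_lit 58)))) (.node (.node (.node (.leaf (nat_lit 18)) (.leaf (nat_lit 88))) (.node (.leaf (nat_lit 49)) (.leaf (nat_lit 122)))) (.node (.node (.leaf (nat_lit 29)) (.leaf (nat_lit 104))) (.leaf (nat_lit 67))))) (.node (.node (.node (.node (.leaf (nat_lit 7)) (.leaf (nat_lit 80))) (.node (.leaf (nat_lit 40)) (.leaf (nat_lit 114)))) (.node (.node (.leaf (nat_lit 42)) (.leaf (nat_lit 95))) (.leaf (nat_lit 62)))) (.node (.node (.node (.leaf (nat_lit 16)) (.leaf (nat_lit 106))) (.leaf (nat_lit 57))) (.node (.node (.leaf (nat_lit 35)) (.leaf (nat_lit 114))) (.leaf (nat_lit 70))))))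

def refls7 : Tr (ℕ) :=
  .node (.node (.node (.node (.node (.node (.leaf (nat_lit 2)) (.leaf (nat_lit 84))) (.node (.leaf (nat_lit 38)) (.leaf (nat_lit 111)))) (.node (.node (.leaf (nat_lit 14)) (.leaf (nat_lit 93))) (.leaf (nat_lit 56)))) (.node (.node (.node (.leaf (nat_lit 11)) (.leaf (nat_lit 80))) (.node (.leaf (nat_lit 47)) (.leaf (nat_lit 119)))) (.node (.node (.leaf (nat_lit 29)) (.leaf (nat_lit 102))) (.leaf (nat_lit 66))))) (.node (.node (.node (.node (.leaf (nat_lit 6)) (.leaf (nat_lit 79))) (.node (.leaf (nat_lit 53)) (.leaf (nat_lit 116)))) (.node (.node (.leaf (nat_lit 23)) (.leaf (nat_lit 77))) (.leaf (nat_lit 61)))) (.node (.node (.node (.leaf (nat_lit 16)) (.leaf (nat_lit 89))) (.node (.leaf (nat_lit 73)) (.leaf (nat_lit 125)))) (.node (.node (.leaf (nat_lit 18)) (.leaf (nat_lit 107))) (.leaf (nat_lit 69)))))) (.node (.node (.node (.node (.node (.leaf (nat_lit 4)) (.leaf (nat_lit 77)))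 (.node (.leaf (nat_lit 39)) (.leaf (nat_lit 114)))) (.node (.node (.leaf (nat_lit 22)) (.leaf (nat_lit 95))) (.leaf (nat_lit 59)))) (.node (.node (.node (.leaf (nat_lit 10)) (.leaf (nat_lit 86))) (.node (.leaf (nat_lit 29)) (.leaf (nat_lit 123)))) (.node (.node (.leaf (nat_lit 31)) (.leaf (nat_lit 105))) (.leaf (nat_lit 68))))) (.node (.node (.node (.node (.leaf (nat_lit 8)) (.leaf (nat_lit 82))) (.node (.leaf (nat_lit 45)) (.leaf (nat_lit 117)))) (.node (.node (.leaf (nat_lit 23)) (.leaf (nat_lit 100))) (.leaf (nat_lit 65)))) (.node (.node (.node (.leaf (nat_lit 34)) (.leaf (nat_lit 91))) (.leaf (nat_lit 54))) (.node (.node (.leaf (nat_lit 36)) (.leaf (nat_lit 109))) (.leaf (nat_lit 71))))))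

def refls8 : Tr (ℕ) :=
  .node (.node (.node (.node (.node (.node (.leaf (nat_lit 0)) (.leaf (nat_lit 52))) (.node (.leaf (nat_lit 36)) (.leaf (nat_lit 109)))) (.node (.node (.leaf (nat_lit 18)) (.leaf (nat_lit 89))) (.leaf (nat_lit 55)))) (.node (.node (.node (.leaf (nat_lit 9)) (.leaf (nat_lit 82))) (.node (.leaf (nat_lit 45)) (.leaf (nat_lit 119)))) (.node (.node (.leaf (nat_lit 27)) (.leaf (nat_lit 101))) (.leaf (nat_lit 64))))) (.node (.node (.node (.node (.leaf (nat_lit 5)) (.leaf (nat_lit 76))) (.node (.leaf (nat_lit 45)) (.leaf (nat_lit 117)))) (.node (.node (.leaf (nat_lit 39)) (.leaf (nat_lit 100))) (.leaf (nat_lit 66)))) (.node (.node (.node (.leaf (nat_lit 12)) (.leaf (nat_lit 103))) (.node (.leaf (nat_lit 50)) (.leaf (nat_lit 123)))) (.node (.node (.leaf (nat_lit 32)) (.leaf (nat_lit 111))) (.leaf (nat_lit 68)))))) (.node (.node (.node (.node (.node (.leaf (nat_lit 3)) (.leaf (nat_lit 74)))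 (.node (.leaf (nat_lit 23)) (.leaf (nat_lit 112)))) (.node (.node (.leaf (nat_lit 20)) (.leaf (nat_lit 93))) (.leaf (nat_lit 57)))) (.node (.node (.node (.leaf (nat_lit 11)) (.leaf (nat_lit 85))) (.node (.leaf (nat_lit 39)) (.leaf (nat_lit 121)))) (.node (.node (.leaf (nat_lit 29)) (.leaf (nat_lit 87))) (.leaf (nat_lit 70))))) (.node (.node (.node (.node (.leaf (nat_lit 7)) (.leaf (nat_lit 70))) (.node (.leaf (nat_lit 43)) (.leaf (nat_lit 117)))) (.node (.node (.leaf (nat_lit 25)) (.leaf (nat_lit 98))) (.leaf (nat_lit 60)))) (.node (.node (.node (.leaf (nat_lit 16)) (.leaf (nat_lit 89))) (.node (.leaf (nat_lit 52)) (.leaf (nat_lit 125)))) (.node (.node (.leaf (nat_lit 34)) (.leaf (nat_lit 105))) (.leaf (nat_lit 71))))))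

def refls9 : Tr (ℕ) :=
  .node (.node (.node (.node (.node (.node (.leaf (nat_lit 2)) (.leaf (nat_lit 73))) (.node (.leaf (nat_lit 36)) (.leaf (nat_lit 111)))) (.node (.node (.leaf (nat_lit 21)) (.leaf (nat_lit 91))) (.leaf (nat_lit 46)))) (.node (.node (.node (.leaf (nat_lit 13)) (.leaf (nat_lit 84))) (.node (.leaf (nat_lit 47)) (.leaf (nat_lit 116)))) (.node (.node (.leaf (nat_lit 29)) (.leaf (nat_lit 102))) (.leaf (nat_lit 65))))) (.node (.node (.node (.node (.leaf (nat_lit 6)) (.leaf (nat_lit 79))) (.node (.leaf (nat_lit 42)) (.leaf (nat_lit 115)))) (.node (.node (.leaf (nat_lit 28)) (.leaf (nat_lit 97))) (.leaf (nat_lit 62)))) (.node (.node (.node (.leaf (nat_lit 15)) (.leaf (nat_lit 88))) (.node (.leaf (nat_lit 50)) (.leaf (nat_lit 124)))) (.node (.node (.leaf (nat_lit 33)) (.leaf (nat_lit 106))) (.leaf (nat_lit 69)))))) (.node (.node (.node (.node (.node (.leaf (nat_lit 4)) (.leaf (nat_lit 75)))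 (.node (.leaf (nat_lit 49)) (.leaf (nat_lit 107)))) (.node (.node (.leaf (nat_lit 20)) (.leaf (nat_lit 74))) (.leaf (nat_lit 54)))) (.node (.node (.node (.leaf (nat_lit 11)) (.leaf (nat_lit 86))) (.node (.leaf (nat_lit 54)) (.leaf (nat_lit 123)))) (.node (.node (.leaf (nat_lit 52)) (.leaf (nat_lit 104))) (.leaf (nat_lit 64))))) (.node (.node (.node (.node (.leaf (nat_lit 4)) (.leaf (nat_lit 85))) (.node (.leaf (nat_lit 45)) (.leaf (nat_lit 117)))) (.node (.node (.leaf (nat_lit 26)) (.leaf (nat_lit 100))) (.leaf (nat_lit 63)))) (.node (.node (.node (.leaf (nat_lit 11)) (.leaf (nat_lit 90))) (.leaf (nat_lit 54))) (.node (.node (.leaf (nat_lit 37)) (.leaf (nat_lit 107))) (.leaf (nat_lit 82))))))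

def refls10 : Tr (ℕ) :=
  .node (.node (.node (.node (.node (.node (.leaf (nat_lit 0)) (.leaf (nat_lit 73))) (.node (.leaf (nat_lit 37)) (.leaf (nat_lit 110)))) (.node (.node (.leaf (nat_lit 35)) (.leaf (nat_lit 92))) (.leaf (nat_lit 56)))) (.node (.node (.node (.leaf (nat_lit 10)) (.leaf (nat_lit 99))) (.node (.leaf (nat_lit 47)) (.leaf (nat_lit 119)))) (.node (.node (.leaf (nat_lit 24)) (.leaf (nat_lit 101))) (.leaf (nat_lit 61))))) (.node (.node (.node (.node (.leaf (nat_lit 5)) (.leaf (nat_lit 79))) (.node (.leaf (nat_lit 41)) (.leaf (nat_lit 115)))) (.node (.node (.leaf (nat_lit 23)) (.leaf (nat_lit 97))) (.leaf (nat_lit 60)))) (.node (.node (.node (.leaf (nat_lit 14)) (.leaf (nat_lit 87))) (.node (.leaf (nat_lit 30)) (.leaf (nat_lit 124)))) (.node (.node (.leaf (nat_lit 32)) (.leaf (nat_lit 104))) (.leaf (nat_lit 74)))))) (.node (.node (.node (.node (.node (.leaf (nat_lit 3)) (.leaf (nat_lit 85)))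 (.node (.leaf (nat_lit 39)) (.leaf (nat_lit 112)))) (.node (.node (.leaf (nat_lit 15)) (.leaf (nat_lit 95))) (.leaf (nat_lit 58)))) (.node (.node (.node (.leaf (nat_lit 12)) (.leaf (nat_lit 81))) (.node (.leaf (nat_lit 48)) (.leaf (nat_lit 121)))) (.node (.node (.leaf (nat_lit 31)) (.leaf (nat_lit 103))) (.leaf (nat_lit 67))))) (.node (.node (.node (.node (.leaf (nat_lit 8)) (.leaf (nat_lit 81))) (.node (.leaf (nat_lit 54)) (.leaf (nat_lit 117)))) (.node (.node (.leaf (nat_lit 25)) (.leaf (nat_lit 83))) (.leaf (nat_lit 62)))) (.node (.node (.node (.leaf (nat_lit 15)) (.leaf (nat_lit 88))) (.leaf (nat_lit 48))) (.node (.node (.leaf (nat_lit 19)) (.leaf (nat_lit 108))) (.leaf (nat_lit 71))))))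

def refls11 : Tr (ℕ) :=
  .node (.node (.node (.node (.node (.node (.leaf (nat_lit 1)) (.leaf (nat_lit 96))) (.node (.leaf (nat_lit 41)) (.leaf (nat_lit 113)))) (.node (.node (.leaf (nat_lit 20)) (.leaf (nat_lit 94))) (.leaf (nat_lit 56)))) (.node (.node (.node (.leaf (nat_lit 11)) (.leaf (nat_lit 75))) (.node (.leaf (nat_lit 47)) (.leaf (nat_lit 121)))) (.node (.node (.leaf (nat_lit 29)) (.leaf (nat_lit 105))) (.leaf (nat_lit 64))))) (.node (.node (.node (.node (.leaf (nat_lit 6)) (.leaf (nat_lit 80))) (.node (.leaf (nat_lit 43)) (.leaf (nat_lit 120)))) (.node (.node (.leaf (nat_lit 25)) (.leaf (nat_lit 98))) (.leaf (nat_lit 61)))) (.node (.node (.node (.leaf (nat_lit 13)) (.leaf (nat_lit 87))) (.node (.leaf (nat_lit 52)) (.leaf (nat_lit 125)))) (.node (.node (.leaf (nat_lit 33)) (.leaf (nat_lit 91))) (.leaf (nat_lit 66)))))) (.node (.node (.node (.node (.node (.leaf (nat_lit 8)) (.leaf (nat_lit 72)))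 (.node (.leaf (nat_lit 41)) (.leaf (nat_lit 112)))) (.node (.node (.leaf (nat_lit 25)) (.leaf (nat_lit 96))) (.leaf (nat_lit 59)))) (.node (.node (.node (.leaf (nat_lit 19)) (.leaf (nat_lit 89))) (.node (.leaf (nat_lit 48)) (.leaf (nat_lit 123)))) (.node (.node (.leaf (nat_lit 31)) (.leaf (nat_lit 103))) (.leaf (nat_lit 68))))) (.node (.node (.node (.node (.leaf (nat_lit 9)) (.leaf (nat_lit 82))) (.node (.leaf (nat_lit 41)) (.leaf (nat_lit 118)))) (.node (.node (.leaf (nat_lit 48)) (.leaf (nat_lit 96))) (.leaf (nat_lit 63)))) (.node (.node (.node (.leaf (nat_lit 17)) (.leaf (nat_lit 107))) (.leaf (nat_lit 58))) (.node (.node (.leaf (nat_lit 36)) (.leaf (nat_lit 103))) (.leaf (nat_lit 72))))))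

def refls12 : Tr (ℕ) :=
  .node (.node (.node (.node (.node (.node (.leaf (nat_lit 0)) (.leaf (nat_lit 73))) (.node (.leaf (nat_lit 21)) (.leaf (nat_lit 110)))) (.node (.node (.leaf (nat_lit 17)) (.leaf (nat_lit 90))) (.leaf (nat_lit 50)))) (.node (.node (.node (.leaf (nat_lit 9)) (.leaf (nat_lit 82))) (.node (.leaf (nat_lit 56)) (.leaf (nat_lit 119)))) (.node (.node (.leaf (nat_lit 28)) (.leaf (nat_lit 85))) (.leaf (nat_lit 64))))) (.node (.node (.node (.node (.leaf (nat_lit 5)) (.leaf (nat_lit 47))) (.node (.leaf (nat_lit 42)) (.leaf (nat_lit 113)))) (.node (.node (.leaf (nat_lit 23)) (.leaf (nat_lit 96))) (.leaf (nat_lit 59)))) (.node (.node (.node (.leaf (nat_lit 14)) (.leaf (nat_lit 87))) (.node (.leaf (nat_lit 49)) (.leaf (nat_lit 123)))) (.node (.node (.leaf (nat_lit 32)) (.leaf (nat_lit 107))) (.leaf (nat_lit 69)))))) (.node (.node (.node (.node (.node (.leaf (nat_lit 2)) (.leaf (nat_lit 75))) (.node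 (.leaf (nat_lit 43)) (.leaf (nat_lit 115)))) (.node (.node (.leaf (nat_lit 37)) (.leaf (nat_lit 94))) (.leaf (nat_lit 60)))) (.node (.node (.node (.leaf (nat_lit 11)) (.leaf (nat_lit 101))) (.node (.leaf (nat_lit 48)) (.leaf (nat_lit 122)))) (.node (.node (.leaf (nat_lit 26)) (.leaf (nat_lit 109))) (.leaf (nat_lit 67))))) (.node (.node (.node (.node (.leaf (nat_lit 7)) (.leaf (nat_lit 80))) (.node (.leaf (nat_lit 44)) (.leaf (nat_lit 117)))) (.node (.node (.leaf (nat_lit 26)) (.leaf (nat_lit 98))) (.leaf (nat_lit 62)))) (.node (.node (.node (.leaf (nat_lit 16)) (.leaf (nat_lit 91))) (.leaf (nat_lit 53))) (.node (.node (.leaf (nat_lit 33)) (.leaf (nat_lit 106))) (.leaf (nat_lit 76))))))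

def refls13 : Tr (ℕ) :=
  .node (.node (.node (.node (.node (.node (.leaf (nat_lit 1)) (.leaf (nat_lit 74))) (.node (.leaf (nat_lit 38)) (.leaf (nat_lit 105)))) (.node (.node (.leaf (nat_lit 18)) (.leaf (nat_lit 32))) (.leaf (nat_lit 69)))) (.node (.node (.node (.leaf (nat_lit 10)) (.leaf (nat_lit 83))) (.node (.leaf (nat_lit 47)) (.leaf (nat_lit 120)))) (.node (.node (.leaf (nat_lit 50)) (.leaf (nat_lit 98))) (.leaf (nat_lit 68))))) (.node (.node (.node (.node (.leaf (nat_lit 10)) (.leaf (nat_lit 83))) (.node (.leaf (nat_lit 42)) (.leaf (nat_lit 116)))) (.node (.node (.leaf (nat_lit 21)) (.leaf (nat_lit 97))) (.leaf (nat_lit 61)))) (.node (.node (.node (.leaf (nat_lit 21)) (.leaf (nat_lit 85))) (.node (.leaf (nat_lit 51)) (.leaf (nat_lit 124)))) (.node (.node (.leaf (nat_lit 33)) (.leaf (nat_lit 106))) (.leaf (nat_lit 80)))))) (.node (.node (.node (.node (.node (.leaf (nat_lit 3)) (.leaf (nat_lit 98)))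 (.node (.leaf (nat_lit 37)) (.leaf (nat_lit 111)))) (.node (.node (.leaf (nat_lit 22)) (.leaf (nat_lit 95))) (.leaf (nat_lit 59)))) (.node (.node (.node (.leaf (nat_lit 13)) (.leaf (nat_lit 77))) (.node (.leaf (nat_lit 49)) (.leaf (nat_lit 122)))) (.node (.node (.leaf (nat_lit 32)) (.leaf (nat_lit 101))) (.leaf (nat_lit 68))))) (.node (.node (.node (.node (.leaf (nat_lit 11)) (.leaf (nat_lit 81))) (.node (.leaf (nat_lit 45)) (.leaf (nat_lit 122)))) (.node (.node (.leaf (nat_lit 26)) (.leaf (nat_lit 99))) (.leaf (nat_lit 63)))) (.node (.node (.node (.leaf (nat_lit 17)) (.leaf (nat_lit 90))) (.leaf (nat_lit 44))) (.node (.node (.leaf (nat_lit 34)) (.leaf (nat_lit 109))) (.leaf (nat_lit 68))))))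

def refls14 : Tr (ℕ) :=
  .node (.node (.node (.node (.node (.node (.leaf (nat_lit 0)) (.leaf (nat_lit 83))) (.node (.leaf (nat_lit 35)) (.leaf (nat_lit 109)))) (.node (.node (.leaf (nat_lit 13)) (.leaf (nat_lit 92))) (.leaf (nat_lit 55)))) (.node (.node (.node (.leaf (nat_lit 6)) (.leaf (nat_lit 79))) (.node (.leaf (nat_lit 46)) (.leaf (nat_lit 120)))) (.node (.node (.leaf (nat_lit 28)) (.leaf (nat_lit 101))) (.leaf (nat_lit 65))))) (.node (.node (.node (.node (.leaf (nat_lit 5)) (.leaf (nat_lit 78))) (.node (.leaf (nat_lit 51)) (.leaf (nat_lit 115)))) (.node (.node (.leaf (nat_lit 24)) (.leaf (nat_lit 76))) (.leaf (nat_lit 60)))) (.node (.node (.node (.leaf (nat_lit 14)) (.leaf (nat_lit 87))) (.node (.leaf (nat_lit 56)) (.leaf (nat_lit 124)))) (.node (.node (.leaf (nat_lit 17)) (.leaf (nat_lit 106))) (.leaf (nat_lit 70)))))) (.node (.node (.node (.node (.node (.leaf (nat_lit 3)) (.leaf (nat_lit 76)))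 (.node (.leaf (nat_lit 40)) (.leaf (nat_lit 113)))) (.node (.node (.leaf (nat_lit 19)) (.leaf (nat_lit 94))) (.leaf (nat_lit 58)))) (.node (.node (.node (.leaf (nat_lit 9)) (.leaf (nat_lit 85))) (.node (.leaf (nat_lit 28)) (.leaf (nat_lit 118)))) (.node (.node (.leaf (nat_lit 30)) (.leaf (nat_lit 103))) (.leaf (nat_lit 67))))) (.node (.node (.node (.node (.leaf (nat_lit 7)) (.leaf (nat_lit 81))) (.node (.leaf (nat_lit 44)) (.leaf (nat_lit 118)))) (.node (.node (.leaf (nat_lit 30)) (.leaf (nat_lit 99))) (.leaf (nat_lit 60)))) (.node (.node (.node (.leaf (nat_lit 33)) (.leaf (nat_lit 90))) (.leaf (nat_lit 53))) (.node (.node (.leaf (nat_lit 35)) (.leaf (nat_lit 108))) (.leaf (nat_lit 72))))))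

def refls15 : Tr (ℕ) :=
  .node (.node (.node (.node (.node (.node (.leaf (nat_lit 2)) (.leaf (nat_lit 70))) (.node (.leaf (nat_lit 37)) (.leaf (nat_lit 110)))) (.node (.node (.leaf (nat_lit 23)) (.leaf (nat_lit 93))) (.leaf (nat_lit 57)))) (.node (.node (.node (.leaf (nat_lit 17)) (.leaf (nat_lit 87))) (.node (.leaf (nat_lit 47)) (.leaf (nat_lit 121)))) (.node (.node (.leaf (nat_lit 30)) (.leaf (nat_lit 102))) (.leaf (nat_lit 66))))) (.node (.node (.node (.node (.leaf (nat_lit 6)) (.leaf (nat_lit 79))) (.node (.leaf (nat_lit 39)) (.leaf (nat_lit 113)))) (.node (.node (.leaf (nat_lit 41)) (.leaf (nat_lit 102))) (.leaf (nat_lit 58)))) (.node (.node (.node (.leaf (nat_lit 14)) (.leaf (nat_lit 105))) (.node (.leaf (nat_lit 51)) (.leaf (nat_lit 125)))) (.node (.node (.leaf (nat_lit 34)) (.leaf (nat_lit 113))) (.leaf (nat_lit 71)))))) (.node (.node (.node (.node (.node (.leaf (nat_lit 4)) (.leaf (nat_lit 77)))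 (.node (.leaf (nat_lit 25)) (.leaf (nat_lit 114)))) (.node (.node (.leaf (nat_lit 21)) (.leaf (nat_lit 95))) (.leaf (nat_lit 59)))) (.node (.node (.node (.leaf (nat_lit 15)) (.leaf (nat_lit 86))) (.node (.leaf (nat_lit 41)) (.leaf (nat_lit 124)))) (.node (.node (.leaf (nat_lit 31)) (.leaf (nat_lit 89))) (.leaf (nat_lit 72))))) (.node (.node (.node (.node (.leaf (nat_lit 9)) (.leaf (nat_lit 72))) (.node (.leaf (nat_lit 46)) (.leaf (nat_lit 118)))) (.node (.node (.leaf (nat_lit 27)) (.leaf (nat_lit 103))) (.leaf (nat_lit 62)))) (.node (.node (.node (.leaf (nat_lit 18)) (.leaf (nat_lit 91))) (.leaf (nat_lit 55))) (.node (.node (.leaf (nat_lit 39)) (.leaf (nat_lit 109))) (.leaf (nat_lit 94))))))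

def refls : Tr (ℕ) :=
  (.node (.node (.node (.node refls0 refls1) (.node refls2 refls3)) (.node (.node refls4 refls5) (.node refls6 refls7))) (.node (.node (.node refls8 refls9) (.node refls10 refls11)) (.node (.node refls12 refls13) (.node refls14 refls15))))

/-- The chain table as lists. -/
def cnv (A : Array (ℕ × Array (ℕ × ℤ))) : List (ℕ × List (ℕ × ℤ)) :=
  A.toList.map fun e => (e.1, e.2.toList)

def chs0 : Tr (List (ℕ × List (ℕ × ℤ))) :=
  .node (.node (.node (.node (.leaf (cnv chevE7Chain0)) (.leaf (cnv chevE7Chain64))) (.node (.leaf (cnv chevE7Chain32)) (.leaf (cnv chevE7Chain96)))) (.node (.node (.leaf (cnv chevE7Chain16)) (.leaf (cnv chevE7Chain80))) (.node (.leaf (cnv chevE7Chain48)) (.leaf (cnv chevE7Chain112))))) (.node (.node (.node (.leaf (cnv chevE7Chain8)) (.leaf (cnv chevE7Chain72))) (.node (.leaf (cnv chevE7Chain40)) (.leaf (cnv chevE7Chain104)))) (.node (.node (.leaf (cnv chevE7Chain24))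 (.leaf (cnv chevE7Chain88))) (.node (.leaf (cnv chevE7Chain56)) (.leaf (cnv chevE7Chain120)))))

def chs1 : Tr (List (ℕ × List (ℕ × ℤ))) :=
  .node (.node (.node (.node (.leaf (cnv chevE7Chain4)) (.leaf (cnv chevE7Chain68))) (.node (.leaf (cnv chevE7Chain36)) (.leaf (cnv chevE7Chain100)))) (.node (.node (.leaf (cnv chevE7Chain20)) (.leaf (cnv chevE7Chain84))) (.node (.leaf (cnv chevE7Chain52)) (.leaf (cnv chevE7Chain116))))) (.node (.node (.node (.leaf (cnv chevE7Chain12)) (.leaf (cnv chevE7Chain76))) (.node (.leaf (cnv chevE7Chain44)) (.leaf (cnv chevE7Chain108)))) (.node (.node (.leaf (cnv chevE7Chain28)) (.leaf (cnv chevE7Chain92))) (.node (.leaf (cnv chevE7Chain60)) (.leaf (cnv chevE7Chain124)))))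

def chs2 : Tr (List (ℕ × List (ℕ × ℤ))) :=
  .node (.node (.node (.node (.leaf (cnv chevE7Chain2)) (.leaf (cnv chevE7Chain66))) (.node (.leaf (cnv chevE7Chain34)) (.leaf (cnv chevE7Chain98)))) (.node (.node (.leaf (cnv chevE7Chain18)) (.leaf (cnv chevE7Chain82))) (.node (.leaf (cnv chevE7Chain50)) (.leaf (cnv chevE7Chain114))))) (.node (.node (.node (.leaf (cnv chevE7Chain10)) (.leaf (cnv chevE7Chain74))) (.node (.leaf (cnv chevE7Chain42)) (.leaf (cnv chevE7Chain106)))) (.node (.node (.leaf (cnv chevE7Chain26)) (.leaf (cnv chevE7Chain90))) (.node (.leaf (cnv chevE7Chain58)) (.leaf (cnv chevE7Chain122)))))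

def chs3 : Tr (List (ℕ × List (ℕ × ℤ))) :=
  .node (.node (.node (.node (.leaf (cnv chevE7Chain6)) (.leaf (cnv chevE7Chain70))) (.node (.leaf (cnv chevE7Chain38)) (.leaf (cnv chevE7Chain102)))) (.node (.node (.leaf (cnv chevE7Chain22)) (.leaf (cnv chevE7Chain86))) (.node (.leaf (cnv chevE7Chain54)) (.leaf (cnv chevE7Chain118))))) (.node (.node (.node (.leaf (cnv chevE7Chain14)) (.leaf (cnv chevE7Chain78))) (.node (.leaf (cnv chevE7Chain46)) (.leaf (cnv chevE7Chain110)))) (.node (.node (.leaf (cnv chevE7Chain30)) (.leaf (cnv chevE7Chain94))) (.leaf (cnv chevE7Chain62))))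

def chs4 : Tr (List (ℕ × List (ℕ × ℤ))) :=
  .node (.node (.node (.node (.leaf (cnv chevE7Chain1)) (.leaf (cnv chevE7Chain65))) (.node (.leaf (cnv chevE7Chain33)) (.leaf (cnv chevE7Chain97)))) (.node (.node (.leaf (cnv chevE7Chain17)) (.leaf (cnv chevE7Chain81))) (.node (.leaf (cnv chevE7Chain49)) (.leaf (cnv chevE7Chain113))))) (.node (.node (.node (.leaf (cnv chevE7Chain9)) (.leaf (cnv chevE7Chain73))) (.node (.leaf (cnv chevE7Chain41)) (.leaf (cnv chevE7Chain105)))) (.node (.node (.leaf (cnv chevE7Chain25)) (.leaf (cnv chevE7Chain89))) (.node (.leaf (cnv chevE7Chain57)) (.leaf (cnv chevE7Chain121)))))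

def chs5 : Tr (List (ℕ × List (ℕ × ℤ))) :=
  .node (.node (.node (.node (.leaf (cnv chevE7Chain5)) (.leaf (cnv chevE7Chain69))) (.node (.leaf (cnv chevE7Chain37)) (.leaf (cnv chevE7Chain101)))) (.node (.node (.leaf (cnv chevE7Chain21)) (.leaf (cnv chevE7Chain85))) (.node (.leaf (cnv chevE7Chain53)) (.leaf (cnv chevE7Chain117))))) (.node (.node (.node (.leaf (cnv chevE7Chain13)) (.leaf (cnv chevE7Chain77))) (.node (.leaf (cnv chevE7Chain45)) (.leaf (cnv chevE7Chain109)))) (.node (.node (.leaf (cnv chevE7Chain29)) (.leaf (cnv chevE7Chain93))) (.node (.leaf (cnv chevE7Chain61)) (.leaf (cnv chevE7Chain125)))))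

def chs6 : Tr (List (ℕ × List (ℕ × ℤ))) :=
  .node (.node (.node (.node (.leaf (cnv chevE7Chain3)) (.leaf (cnv chevE7Chain67))) (.node (.leaf (cnv chevE7Chain35)) (.leaf (cnv chevE7Chain99)))) (.node (.node (.leaf (cnv chevE7Chain19)) (.leaf (cnv chevE7Chain83))) (.node (.leaf (cnv chevE7Chain51)) (.leaf (cnv chevE7Chain115))))) (.node (.node (.node (.leaf (cnv chevE7Chain11)) (.leaf (cnv chevE7Chain75))) (.node (.leaf (cnv chevE7Chain43)) (.leaf (cnv chevE7Chain107)))) (.node (.node (.leaf (cnv chevE7Chain27)) (.leaf (cnv chevE7Chain91))) (.node (.leaf (cnv chevE7Chain59)) (.leaf (cnv chevE7Chain123)))))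

def chs7 : Tr (List (ℕ × List (ℕ × ℤ))) :=
  .node (.node (.node (.node (.leaf (cnv chevE7Chain7)) (.leaf (cnv chevE7Chain71))) (.node (.leaf (cnv chevE7Chain39)) (.leaf (cnv chevE7Chain103)))) (.node (.node (.leaf (cnv chevE7Chain23)) (.leaf (cnv chevE7Chain87))) (.node (.leaf (cnv chevE7Chain55)) (.leaf (cnv chevE7Chain119))))) (.node (.node (.node (.leaf (cnv chevE7Chain15)) (.leaf (cnv chevE7Chain79))) (.node (.leaf (cnv chevE7Chain47)) (.leaf (cnv chevE7Chain111)))) (.node (.node (.leaf (cnv chevE7Chain31)) (.leaf (cnv chevE7Chain95))) (.leaf (cnv chevE7Chain63))))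

def chs : Tr (List (ℕ × List (ℕ × ℤ))) :=
  (.node (.node (.node chs0 chs1) (.node chs2 chs3)) (.node (.node chs4 chs5) (.node chs6 chs7)))

/-- The tables. -/
def tab : Tab := ⟨rows, decs, refls⟩

theorem row_ok0 : ((List.range' 0 30).all fun p => force p fun p => rowCOk chevE7 126 chs tab p) = true := by decide +kernel

theorem row_ok30 : ((List.range' 30 30).all fun p => force p fun p => rowCOk chevE7 126 chs tab p) = true := by decide +kernel

theorem row_ok60 : ((List.range' 60 30).all fun p => force p fun p => rowCOk chevE7 126 chs tab p) = true := by decide +kernel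

theorem row_ok90 : ((List.range' 90 30).all fun p => force p fun p => rowCOk chevE7 126 chs tab p) = true := by decide +kernel

theorem row_ok120 : ((List.range' 120 6).all fun p => force p fun p => rowCOk chevE7 126 chs tab p) = true := by decide +kernel

theorem copy_ok0 : ((List.range' 0 60).all fun p => force p fun p => copyOk chevE7 chs p) = true := by decide +kernel

theorem copy_ok60 : ((List.range' 60 60).all fun p => force p fun p => copyOk chevE7 chs p) = true := by decide +kernel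

theorem copy_ok120 : ((List.range' 120 6).all fun p => force p fun p => copyOk chevE7 chs p) = true := by decide +kernel

theorem sym_ok0 : ((List.range' 0 60).all fun p => force p fun p => symOk chs p) = true := by decide +kernel

theorem sym_ok60 : ((List.range' 60 60).all fun p => force p fun p => symOk chs p) = true := by decide +kernel

theorem sym_ok120 : ((List.range' 120 6).all fun p => force p fun p => symOk chs p) = true := by decide +kernel

theorem pos_ok63 : ((List.range' 63 30).all fun p => force p fun p => posOk chevE7 tab p) = true := by decide +kernel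

theorem pos_ok93 : ((List.range' 93 30).all fun p => force p fun p => posOk chevE7 tab p) = true := by decide +kernel

theorem pos_ok123 : ((List.range' 123 3).all fun p => force p fun p => posOk chevE7 tab p) = true := by decide +kernel

theorem refl_ok0 : ((List.range' 0 2).all fun p => force p fun p => reflCOk chevE7 126 chs tab p) = true := by decide +kernel

theorem refl_ok2 : ((List.range' 2 2).all fun p => force p fun p => reflCOk chevE7 126 chs tab p) = true := by decide +kernel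

theorem refl_ok4 : ((List.range' 4 2).all fun p => force p fun p => reflCOk chevE7 126 chs tab p) = true := by decide +kernel

theorem refl_ok6 : ((List.range' 6 1).all fun p => force p fun p => reflCOk chevE7 126 chs tab p) = true := by decide +kernel

theorem tabOk : TabOk chevE7 tab := by
  have hn : (chevE7).nroots = 126 := by decide +kernel
  have hr : (chevE7).rank = 7 := by decide +kernel
  refine ⟨fun p hp => ?_, fun p h1 h2 => ?_, fun p hp => ?_⟩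
  · exact row_of_fast (n := 126) (ch := chs) hn (fun r hr => chunkF (P := fun p => copyOk chevE7 chs p) copy_ok0 (chunkF (P := fun p => copyOk chevE7 chs p) copy_ok60 (chunkF (P := fun p => copyOk chevE7 chs p) copy_ok120 (chunk_end (n := 126) (lo := 126) le_rfl))) r (Nat.zero_le r) hr)
      (fun r hr => chunkF (P := fun p => symOk chs p) sym_ok0 (chunkF (P := fun p => symOk chs p) sym_ok60 (chunkF (P := fun p => symOk chs p) sym_ok120 (chunk_end (n := 126) (lo := 126) le_rfl))) r (Nat.zero_le r) hr) (hn ▸ hp) (chunkF (P := fun p => rowCOk chevE7 126 chs tab p) row_ok0 (chunkF (P := fun p => rowCOk chevE7 126 chs tab p) row_ok30 (chunkF (P := fun p => rowCOk chevE7 126 chs tab p) row_ok60 (chunkF (P := fun p => rowCOk chevE7 126 chs tab p) row_ok90 (chunkF (P := fun p => rowCOk chevE7 126 chs tab p) row_ok120 (chunk_end (n := 126) (lo := 126) le_rfl))))) p (Nat.zero_le p) (hn ▸ hp))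
  · rw [hn] at h1 h2
    exact chunkF (P := fun p => posOk chevE7 tab p) pos_ok63 (chunkF (P := fun p => posOk chevE7 tab p) pos_ok93 (chunkF (P := fun p => posOk chevE7 tab p) pos_ok123 (chunk_end (n := 126) (lo := 126) le_rfl))) p (le_trans (by norm_num) h1) h2
  · exact refl_of_fast (n := 126) (ch := chs) hn (fun r hr' => chunkF (P := fun p => copyOk chevE7 chs p) copy_ok0 (chunkF (P := fun p => copyOk chevE7 chs p) copy_ok60 (chunkF (P := fun p => copyOk chevE7 chs p) copy_ok120 (chunk_end (n := 126) (lo := 126) le_rfl))) r (Nat.zero_le r) hr')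
      (chunkF (P := fun p => reflCOk chevE7 126 chs tab p) refl_ok0 (chunkF (P := fun p => reflCOk chevE7 126 chs tab p) refl_ok2 (chunkF (P := fun p => reflCOk chevE7 126 chs tab p) refl_ok4 (chunkF (P := fun p => reflCOk chevE7 126 chs tab p) refl_ok6 (chunk_end (n := 7) (lo := 7) le_rfl)))) p (Nat.zero_le p) (hr ▸ hp))

end Cfsg.Agent.Small.C2Inv.Cert.E7
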