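import Cfsg.Agent.Lib.Small.Char2Invol.FastRow
import Cfsg.Agent.Lib.Lie.FactsE8

/-!
Tables of the commutator formula modulo two of type E8.
-/

set_option autoImplicit false

namespace Cfsg.Agent.Small.C2Inv.Cert.E8

open Cfsg.Lie Cfsg.Agent.Small.C2Inv.Cert

def rows0 : Tr (List Entry) :=
  .node (.node (.node (.node (.leaf [((nat_lit 120), (nat_lit 1), (nat_lit 1), (nat_lit 1)), ((nat_lit 122), (nat_lit 2), (nat_lit 1), (nat_lit 1)), ((nat_lit 125), (nat_lit 3), (nat_lit 1), (nat_lit 1)), ((nat_lit 129), (nat_lit 4), (nat_lit 1), (nat_lit 1)), ((nat_lit 134), (nat_lit 5), (nat_lit 1), (nat_lit 1)), ((nat_lit 140), (nat_lit 6), (nat_lit 1), (nat_lit 1)), ((nat_lit 146), (nat_lit 7), (nat_lit 1), (nat_lit 1)), ((nat_lit 151), (nat_lit 8), (nat_lit 1), (nat_lit 1)), ((nat_lit 155), (nat_lit 9), (nat_lit 1), (nat_lit 1)), ((nat_lit 158), (nat_lit 10), (nat_lit 1), (nat_lit 1)), ((nat_lit 160), (nat_lit 11), (nat_lit 1), (nat_lit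 1)), ((nat_lit 161), (nat_lit 12), (nat_lit 1), (nat_lit 1)), ((nat_lit 168), (nat_lit 14), (nat_lit 1), (nat_lit 1)), ((nat_lit 173), (nat_lit 15), (nat_lit 1), (nat_lit 1)), ((nat_lit 177), (nat_lit 16), (nat_lit 1), (nat_lit 1)), ((nat_lit 180), (nat_lit 17), (nat_lit 1), (nat_lit 1)), ((nat_lit 182), (nat_lit 18), (nat_lit 1), (nat_lit 1)), ((nat_lit 183), (nat_lit 19), (nat_lit 1), (nat_lit 1)), ((nat_lit 187), (nat_lit 21), (nat_lit 1), (nat_lit 1)), ((nat_lit 190), (nat_lit 22), (nat_lit 1), (nat_lit 1)), ((nat_lit 192), (nat_lit 23), (nat_lit 1), (nat_lit 1)), ((nat_lit 193), (nat_lit 24), (nat_lit 1), (nat_lit 1)), ((nat_lit 196), (nat_lit 26), (nat_lit 1), (nat_lit 1)), ((nat_lit 198), (nat_lit 27), (nat_lit 1), (nat_lit 1)), ((nat_lit 199), (nat_lit 28), (nat_lit 1), (nat_lit 1)), ((nat_lit 201), (nat_lit 30), (nat_lit 1), (nat_lit 1)), ((nat_lit 202), (nat_lit 31), (nat_lit 1), (nat_lit 1)), ((nat_lit 203), (nat_lit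 33), (nat_lit 1), (nat_lit 1)), ((nat_lit 206), (nat_lit 36), (nat_lit 1), (nat_lit 1)), ((nat_lit 208), (nat_lit 37), (nat_lit 1), (nat_lit 1)), ((nat_lit 209), (nat_lit 38), (nat_lit 1), (nat_lit 1)), ((nat_lit 211), (nat_lit 40), (nat_lit 1), (nat_lit 1)), ((nat_lit 212), (nat_lit 41), (nat_lit 1), (nat_lit 1)), ((nat_lit 213), (nat_lit 43), (nat_lit 1), (nat_lit 1)), ((nat_lit 215), (nat_lit 46), (nat_lit 1), (nat_lit 1)), ((nat_lit 216), (nat_lit 47), (nat_lit 1), (nat_lit 1)), ((nat_lit 217), (nat_lit 49), (nat_lit 1), (nat_lit 1)), ((nat_lit 218), (nat_lit 52), (nat_lit 1), (nat_lit 1)), ((nat_lit 220), (nat_lit 56), (nat_lit 1), (nat_lit 1)), ((nat_lit 221), (nat_lit 57), (nat_lit 1), (nat_lit 1)), ((nat_lit 222), (nat_lit 59), (nat_lit 1), (nat_lit 1)), ((nat_lit 223), (nat_lit 62), (nat_lit 1), (nat_lit 1)), ((nat_lit 224), (nat_lit 66), (nat_lit 1), (nat_lit 1)), ((nat_lit 225), (nat_lit 71), (nat_lit 1), (nat_lit 1)),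 ((nat_lit 227), (nat_lit 78), (nat_lit 1), (nat_lit 1)), ((nat_lit 228), (nat_lit 79), (nat_lit 1), (nat_lit 1)), ((nat_lit 229), (nat_lit 81), (nat_lit 1), (nat_lit 1)), ((nat_lit 230), (nat_lit 84), (nat_lit 1), (nat_lit 1)), ((nat_lit 231), (nat_lit 88), (nat_lit 1), (nat_lit 1)), ((nat_lit 232), (nat_lit 93), (nat_lit 1), (nat_lit 1)), ((nat_lit 233), (nat_lit 99), (nat_lit 1), (nat_lit 1)), ((nat_lit 234), (nat_lit 105), (nat_lit 1), (nat_lit 1)), ((nat_lit 235), (nat_lit 110), (nat_lit 1), (nat_lit 1)), ((nat_lit 236), (nat_lit 114), (nat_lit 1), (nat_lit 1)), ((nat_lit 237), (nat_lit 117), (nat_lit 1), (nat_lit 1)), ((nat_lit 238), (nat_lit 119), (nat_lit 1), (nat_lit 1))]) (.leaf [((nat_lit 1), (nat_lit 4), (nat_lit 1), (nat_lit 1)), ((nat_lit 9), (nat_lit 12), (nat_lit 1), (nat_lit 1)), ((nat_lit 16), (nat_lit 19), (nat_lit 1), (nat_lit 1)), ((nat_lit 21), (nat_lit 24), (nat_lit 1), (nat_lit 1)), ((nat_lit 26), (nat_lit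 31), (nat_lit 1), (nat_lit 1)), ((nat_lit 27), (nat_lit 33), (nat_lit 1), (nat_lit 1)), ((nat_lit 29), (nat_lit 35), (nat_lit 1), (nat_lit 1)), ((nat_lit 36), (nat_lit 41), (nat_lit 1), (nat_lit 1)), ((nat_lit 37), (nat_lit 43), (nat_lit 1), (nat_lit 1)), ((nat_lit 39), (nat_lit 45), (nat_lit 1), (nat_lit 1)), ((nat_lit 46), (nat_lit 52), (nat_lit 1), (nat_lit 1)), ((nat_lit 48), (nat_lit 54), (nat_lit 1), (nat_lit 1)), ((nat_lit 50), (nat_lit 55), (nat_lit 1), (nat_lit 1)), ((nat_lit 56), (nat_lit 62), (nat_lit 1), (nat_lit 1)), ((nat_lit 58), (nat_lit 64), (nat_lit 1), (nat_lit 1)), ((nat_lit 60), (nat_lit 65), (nat_lit 1), (nat_lit 1)), ((nat_lit 67), (nat_lit 70), (nat_lit 1), (nat_lit 1)), ((nat_lit 72), (nat_lit 75), (nat_lit 1), (nat_lit 1)), ((nat_lit 78), (nat_lit 84), (nat_lit 1), (nat_lit 1)), ((nat_lit 80), (nat_lit 86), (nat_lit 1), (nat_lit 1)), ((nat_lit 82), (nat_lit 87), (nat_lit 1), (nat_lit 1)), ((nat_lit 89),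 (nat_lit 92), (nat_lit 1), (nat_lit 1)), ((nat_lit 94), (nat_lit 97), (nat_lit 1), (nat_lit 1)), ((nat_lit 100), (nat_lit 103), (nat_lit 1), (nat_lit 1)), ((nat_lit 106), (nat_lit 109), (nat_lit 1), (nat_lit 1)), ((nat_lit 110), (nat_lit 119), (nat_lit 1), (nat_lit 1)), ((nat_lit 112), (nat_lit 121), (nat_lit 1), (nat_lit 1)), ((nat_lit 113), (nat_lit 124), (nat_lit 1), (nat_lit 1)), ((nat_lit 115), (nat_lit 126), (nat_lit 1), (nat_lit 1)), ((nat_lit 118), (nat_lit 127), (nat_lit 1), (nat_lit 1)), ((nat_lit 120), (nat_lit 129), (nat_lit 1), (nat_lit 1)), ((nat_lit 130), (nat_lit 133), (nat_lit 1), (nat_lit 1)), ((nat_lit 136), (nat_lit 139), (nat_lit 1), (nat_lit 1)), ((nat_lit 142), (nat_lit 145), (nat_lit 1), (nat_lit 1)), ((nat_lit 147), (nat_lit 150), (nat_lit 1), (nat_lit 1)), ((nat_lit 152), (nat_lit 157), (nat_lit 1), (nat_lit 1)), ((nat_lit 153), (nat_lit 159), (nat_lit 1), (nat_lit 1)), ((nat_lit 155), (nat_lit 161), (nat_lit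 1), (nat_lit 1)), ((nat_lit 164), (nat_lit 167), (nat_lit 1), (nat_lit 1)), ((nat_lit 169), (nat_lit 172), (nat_lit 1), (nat_lit 1)), ((nat_lit 174), (nat_lit 179), (nat_lit 1), (nat_lit 1)), ((nat_lit 175), (nat_lit 181), (nat_lit 1), (nat_lit 1)), ((nat_lit 177), (nat_lit 183), (nat_lit 1), (nat_lit 1)), ((nat_lit 184), (nat_lit 189), (nat_lit 1), (nat_lit 1)), ((nat_lit 185), (nat_lit 191), (nat_lit 1), (nat_lit 1)), ((nat_lit 187), (nat_lit 193), (nat_lit 1), (nat_lit 1)), ((nat_lit 194), (nat_lit 200), (nat_lit 1), (nat_lit 1)), ((nat_lit 196), (nat_lit 202), (nat_lit 1), (nat_lit 1)), ((nat_lit 198), (nat_lit 203), (nat_lit 1), (nat_lit 1)), ((nat_lit 204), (nat_lit 210), (nat_lit 1), (nat_lit 1)), ((nat_lit 206), (nat_lit 212), (nat_lit 1), (nat_lit 1)), ((nat_lit 208), (nat_lit 213), (nat_lit 1), (nat_lit 1)), ((nat_lit 215), (nat_lit 218), (nat_lit 1), (nat_lit 1)), ((nat_lit 220), (nat_lit 223), (nat_lit 1), (nat_lit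 1)), ((nat_lit 227), (nat_lit 230), (nat_lit 1), (nat_lit 1)), ((nat_lit 235), (nat_lit 238), (nat_lit 1), (nat_lit 1))])) (.node (.leaf [((nat_lit 16), (nat_lit 2), (nat_lit 1), (nat_lit 1)), ((nat_lit 18), (nat_lit 4), (nat_lit 1), (nat_lit 1)), ((nat_lit 27), (nat_lit 6), (nat_lit 1), (nat_lit 1)), ((nat_lit 37), (nat_lit 8), (nat_lit 1), (nat_lit 1)), ((nat_lit 46), (nat_lit 10), (nat_lit 1), (nat_lit 1)), ((nat_lit 49), (nat_lit 12), (nat_lit 1), (nat_lit 1)), ((nat_lit 50), (nat_lit 13), (nat_lit 1), (nat_lit 1)), ((nat_lit 78), (nat_lit 22), (nat_lit 1), (nat_lit 1)), ((nat_lit 81), (nat_lit 24), (nat_lit 1), (nat_lit 1)), ((nat_lit 82), (nat_lit 25), (nat_lit 1), (nat_lit 1)), ((nat_lit 88), (nat_lit 31), (nat_lit 1), (nat_lit 1)), ((nat_lit 89), (nat_lit 32), (nat_lit 1), (nat_lit 1)), ((nat_lit 91), (nat_lit 35), (nat_lit 1), (nat_lit 1)), ((nat_lit 99), (nat_lit 41), (nat_lit 1), (nat_lit 1)), ((nat_lit 100), (nat_lit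 42), (nat_lit 1), (nat_lit 1)), ((nat_lit 102), (nat_lit 45), (nat_lit 1), (nat_lit 1)), ((nat_lit 104), (nat_lit 54), (nat_lit 1), (nat_lit 1)), ((nat_lit 110), (nat_lit 57), (nat_lit 1), (nat_lit 1)), ((nat_lit 111), (nat_lit 58), (nat_lit 1), (nat_lit 1)), ((nat_lit 113), (nat_lit 61), (nat_lit 1), (nat_lit 1)), ((nat_lit 117), (nat_lit 62), (nat_lit 1), (nat_lit 1)), ((nat_lit 118), (nat_lit 63), (nat_lit 1), (nat_lit 1)), ((nat_lit 123), (nat_lit 65), (nat_lit 1), (nat_lit 1)), ((nat_lit 130), (nat_lit 68), (nat_lit 1), (nat_lit 1)), ((nat_lit 132), (nat_lit 70), (nat_lit 1), (nat_lit 1)), ((nat_lit 142), (nat_lit 73), (nat_lit 1), (nat_lit 1)), ((nat_lit 144), (nat_lit 75), (nat_lit 1), (nat_lit 1)), ((nat_lit 153), (nat_lit 77), (nat_lit 1), (nat_lit 1)), ((nat_lit 162), (nat_lit 86), (nat_lit 1), (nat_lit 1)), ((nat_lit 164), (nat_lit 95), (nat_lit 1), (nat_lit 1)), ((nat_lit 166), (nat_lit 97), (nat_lit 1), (nat_lit 1)),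 ((nat_lit 169), (nat_lit 107), (nat_lit 1), (nat_lit 1)), ((nat_lit 171), (nat_lit 109), (nat_lit 1), (nat_lit 1)), ((nat_lit 174), (nat_lit 116), (nat_lit 1), (nat_lit 1)), ((nat_lit 176), (nat_lit 121), (nat_lit 1), (nat_lit 1)), ((nat_lit 177), (nat_lit 122), (nat_lit 1), (nat_lit 1)), ((nat_lit 178), (nat_lit 126), (nat_lit 1), (nat_lit 1)), ((nat_lit 181), (nat_lit 128), (nat_lit 1), (nat_lit 1)), ((nat_lit 182), (nat_lit 129), (nat_lit 1), (nat_lit 1)), ((nat_lit 185), (nat_lit 135), (nat_lit 1), (nat_lit 1)), ((nat_lit 194), (nat_lit 137), (nat_lit 1), (nat_lit 1)), ((nat_lit 197), (nat_lit 139), (nat_lit 1), (nat_lit 1)), ((nat_lit 198), (nat_lit 140), (nat_lit 1), (nat_lit 1)), ((nat_lit 204), (nat_lit 148), (nat_lit 1), (nat_lit 1)), ((nat_lit 207), (nat_lit 150), (nat_lit 1), (nat_lit 1)), ((nat_lit 208), (nat_lit 151), (nat_lit 1), (nat_lit 1)), ((nat_lit 214), (nat_lit 157), (nat_lit 1), (nat_lit 1)), ((nat_lit 215),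 (nat_lit 158), (nat_lit 1), (nat_lit 1)), ((nat_lit 217), (nat_lit 161), (nat_lit 1), (nat_lit 1)), ((nat_lit 226), (nat_lit 189), (nat_lit 1), (nat_lit 1)), ((nat_lit 227), (nat_lit 190), (nat_lit 1), (nat_lit 1)), ((nat_lit 229), (nat_lit 193), (nat_lit 1), (nat_lit 1)), ((nat_lit 231), (nat_lit 202), (nat_lit 1), (nat_lit 1)), ((nat_lit 233), (nat_lit 212), (nat_lit 1), (nat_lit 1)), ((nat_lit 235), (nat_lit 221), (nat_lit 1), (nat_lit 1)), ((nat_lit 237), (nat_lit 223), (nat_lit 1), (nat_lit 1))]) (.leaf [((nat_lit 0), (nat_lit 23), (nat_lit 1), (nat_lit 1)), ((nat_lit 2), (nat_lit 25), (nat_lit 1), (nat_lit 1)), ((nat_lit 5), (nat_lit 34), (nat_lit 1), (nat_lit 1)), ((nat_lit 7), (nat_lit 44), (nat_lit 1), (nat_lit 1)), ((nat_lit 9), (nat_lit 60), (nat_lit 1), (nat_lit 1)), ((nat_lit 10), (nat_lit 63), (nat_lit 1), (nat_lit 1)), ((nat_lit 12), (nat_lit 65), (nat_lit 1), (nat_lit 1)), ((nat_lit 16), (nat_lit 82), (nat_lit 1),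 (nat_lit 1)), ((nat_lit 17), (nat_lit 85), (nat_lit 1), (nat_lit 1)), ((nat_lit 19), (nat_lit 87), (nat_lit 1), (nat_lit 1)), ((nat_lit 26), (nat_lit 94), (nat_lit 1), (nat_lit 1)), ((nat_lit 28), (nat_lit 96), (nat_lit 1), (nat_lit 1)), ((nat_lit 31), (nat_lit 97), (nat_lit 1), (nat_lit 1)), ((nat_lit 36), (nat_lit 106), (nat_lit 1), (nat_lit 1)), ((nat_lit 38), (nat_lit 108), (nat_lit 1), (nat_lit 1)), ((nat_lit 41), (nat_lit 109), (nat_lit 1), (nat_lit 1)), ((nat_lit 46), (nat_lit 118), (nat_lit 1), (nat_lit 1)), ((nat_lit 48), (nat_lit 120), (nat_lit 1), (nat_lit 1)), ((nat_lit 49), (nat_lit 123), (nat_lit 1), (nat_lit 1)), ((nat_lit 51), (nat_lit 125), (nat_lit 1), (nat_lit 1)), ((nat_lit 52), (nat_lit 127), (nat_lit 1), (nat_lit 1)), ((nat_lit 54), (nat_lit 129), (nat_lit 1), (nat_lit 1)), ((nat_lit 57), (nat_lit 135), (nat_lit 1), (nat_lit 1)), ((nat_lit 66), (nat_lit 138), (nat_lit 1), (nat_lit 1)), ((nat_lit 68), (nat_lit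 140), (nat_lit 1), (nat_lit 1)), ((nat_lit 71), (nat_lit 149), (nat_lit 1), (nat_lit 1)), ((nat_lit 73), (nat_lit 151), (nat_lit 1), (nat_lit 1)), ((nat_lit 76), (nat_lit 160), (nat_lit 1), (nat_lit 1)), ((nat_lit 79), (nat_lit 163), (nat_lit 1), (nat_lit 1)), ((nat_lit 88), (nat_lit 166), (nat_lit 1), (nat_lit 1)), ((nat_lit 90), (nat_lit 168), (nat_lit 1), (nat_lit 1)), ((nat_lit 99), (nat_lit 171), (nat_lit 1), (nat_lit 1)), ((nat_lit 101), (nat_lit 173), (nat_lit 1), (nat_lit 1)), ((nat_lit 104), (nat_lit 182), (nat_lit 1), (nat_lit 1)), ((nat_lit 110), (nat_lit 185), (nat_lit 1), (nat_lit 1)), ((nat_lit 112), (nat_lit 187), (nat_lit 1), (nat_lit 1)), ((nat_lit 114), (nat_lit 188), (nat_lit 1), (nat_lit 1)), ((nat_lit 116), (nat_lit 190), (nat_lit 1), (nat_lit 1)), ((nat_lit 119), (nat_lit 191), (nat_lit 1), (nat_lit 1)), ((nat_lit 121), (nat_lit 193), (nat_lit 1), (nat_lit 1)), ((nat_lit 130), (nat_lit 198), (nat_lit 1), (nat_lit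 1)), ((nat_lit 131), (nat_lit 201), (nat_lit 1), (nat_lit 1)), ((nat_lit 133), (nat_lit 203), (nat_lit 1), (nat_lit 1)), ((nat_lit 142), (nat_lit 208), (nat_lit 1), (nat_lit 1)), ((nat_lit 143), (nat_lit 211), (nat_lit 1), (nat_lit 1)), ((nat_lit 145), (nat_lit 213), (nat_lit 1), (nat_lit 1)), ((nat_lit 152), (nat_lit 220), (nat_lit 1), (nat_lit 1)), ((nat_lit 154), (nat_lit 222), (nat_lit 1), (nat_lit 1)), ((nat_lit 157), (nat_lit 223), (nat_lit 1), (nat_lit 1)), ((nat_lit 174), (nat_lit 227), (nat_lit 1), (nat_lit 1)), ((nat_lit 176), (nat_lit 229), (nat_lit 1), (nat_lit 1)), ((nat_lit 179), (nat_lit 230), (nat_lit 1), (nat_lit 1)), ((nat_lit 195), (nat_lit 232), (nat_lit 1), (nat_lit 1)), ((nat_lit 205), (nat_lit 234), (nat_lit 1), (nat_lit 1)), ((nat_lit 214), (nat_lit 237), (nat_lit 1), (nat_lit 1)), ((nat_lit 216), (nat_lit 239), (nat_lit 1), (nat_lit 1))]))) (.node (.node (.leaf [((nat_lit 37), (nat_lit 1), (nat_lit 1),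 (nat_lit 1)), ((nat_lit 38), (nat_lit 2), (nat_lit 1), (nat_lit 1)), ((nat_lit 43), (nat_lit 4), (nat_lit 1), (nat_lit 1)), ((nat_lit 49), (nat_lit 5), (nat_lit 1), (nat_lit 1)), ((nat_lit 59), (nat_lit 6), (nat_lit 1), (nat_lit 1)), ((nat_lit 71), (nat_lit 10), (nat_lit 1), (nat_lit 1)), ((nat_lit 74), (nat_lit 13), (nat_lit 1), (nat_lit 1)), ((nat_lit 81), (nat_lit 14), (nat_lit 1), (nat_lit 1)), ((nat_lit 99), (nat_lit 17), (nat_lit 1), (nat_lit 1)), ((nat_lit 102), (nat_lit 20), (nat_lit 1), (nat_lit 1)), ((nat_lit 105), (nat_lit 22), (nat_lit 1), (nat_lit 1)), ((nat_lit 108), (nat_lit 25), (nat_lit 1), (nat_lit 1)), ((nat_lit 110), (nat_lit 26), (nat_lit 1), (nat_lit 1)), ((nat_lit 113), (nat_lit 29), (nat_lit 1), (nat_lit 1)), ((nat_lit 117), (nat_lit 30), (nat_lit 1), (nat_lit 1)), ((nat_lit 119), (nat_lit 31), (nat_lit 1), (nat_lit 1)), ((nat_lit 123), (nat_lit 34), (nat_lit 1), (nat_lit 1)), ((nat_lit 124), (nat_lit 35),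 (nat_lit 1), (nat_lit 1)), ((nat_lit 141), (nat_lit 42), (nat_lit 1), (nat_lit 1)), ((nat_lit 142), (nat_lit 48), (nat_lit 1), (nat_lit 1)), ((nat_lit 144), (nat_lit 53), (nat_lit 1), (nat_lit 1)), ((nat_lit 145), (nat_lit 54), (nat_lit 1), (nat_lit 1)), ((nat_lit 147), (nat_lit 58), (nat_lit 1), (nat_lit 1)), ((nat_lit 149), (nat_lit 63), (nat_lit 1), (nat_lit 1)), ((nat_lit 150), (nat_lit 64), (nat_lit 1), (nat_lit 1)), ((nat_lit 153), (nat_lit 67), (nat_lit 1), (nat_lit 1)), ((nat_lit 154), (nat_lit 68), (nat_lit 1), (nat_lit 1)), ((nat_lit 159), (nat_lit 70), (nat_lit 1), (nat_lit 1)), ((nat_lit 169), (nat_lit 80), (nat_lit 1), (nat_lit 1)), ((nat_lit 171), (nat_lit 85), (nat_lit 1), (nat_lit 1)), ((nat_lit 172), (nat_lit 86), (nat_lit 1), (nat_lit 1)), ((nat_lit 175), (nat_lit 89), (nat_lit 1), (nat_lit 1)), ((nat_lit 176), (nat_lit 90), (nat_lit 1), (nat_lit 1)), ((nat_lit 181), (nat_lit 92), (nat_lit 1), (nat_lit 1)), ((nat_lit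 185), (nat_lit 94), (nat_lit 1), (nat_lit 1)), ((nat_lit 186), (nat_lit 95), (nat_lit 1), (nat_lit 1)), ((nat_lit 191), (nat_lit 97), (nat_lit 1), (nat_lit 1)), ((nat_lit 197), (nat_lit 98), (nat_lit 1), (nat_lit 1)), ((nat_lit 204), (nat_lit 115), (nat_lit 1), (nat_lit 1)), ((nat_lit 205), (nat_lit 116), (nat_lit 1), (nat_lit 1)), ((nat_lit 208), (nat_lit 120), (nat_lit 1), (nat_lit 1)), ((nat_lit 209), (nat_lit 122), (nat_lit 1), (nat_lit 1)), ((nat_lit 210), (nat_lit 126), (nat_lit 1), (nat_lit 1)), ((nat_lit 213), (nat_lit 129), (nat_lit 1), (nat_lit 1)), ((nat_lit 214), (nat_lit 131), (nat_lit 1), (nat_lit 1)), ((nat_lit 217), (nat_lit 134), (nat_lit 1), (nat_lit 1)), ((nat_lit 219), (nat_lit 137), (nat_lit 1), (nat_lit 1)), ((nat_lit 222), (nat_lit 140), (nat_lit 1), (nat_lit 1)), ((nat_lit 225), (nat_lit 158), (nat_lit 1), (nat_lit 1)), ((nat_lit 226), (nat_lit 165), (nat_lit 1), (nat_lit 1)), ((nat_lit 229), (nat_lit 168),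 (nat_lit 1), (nat_lit 1)), ((nat_lit 233), (nat_lit 180), (nat_lit 1), (nat_lit 1)), ((nat_lit 234), (nat_lit 190), (nat_lit 1), (nat_lit 1)), ((nat_lit 235), (nat_lit 196), (nat_lit 1), (nat_lit 1)), ((nat_lit 237), (nat_lit 201), (nat_lit 1), (nat_lit 1)), ((nat_lit 238), (nat_lit 202), (nat_lit 1), (nat_lit 1))]) (.leaf [((nat_lit 0), (nat_lit 11), (nat_lit 1), (nat_lit 1)), ((nat_lit 2), (nat_lit 13), (nat_lit 1), (nat_lit 1)), ((nat_lit 14), (nat_lit 34), (nat_lit 1), (nat_lit 1)), ((nat_lit 15), (nat_lit 44), (nat_lit 1), (nat_lit 1)), ((nat_lit 16), (nat_lit 50), (nat_lit 1), (nat_lit 1)), ((nat_lit 17), (nat_lit 53), (nat_lit 1), (nat_lit 1)), ((nat_lit 19), (nat_lit 55), (nat_lit 1), (nat_lit 1)), ((nat_lit 21), (nat_lit 60), (nat_lit 1), (nat_lit 1)), ((nat_lit 22), (nat_lit 63), (nat_lit 1), (nat_lit 1)), ((nat_lit 24), (nat_lit 65), (nat_lit 1), (nat_lit 1)), ((nat_lit 26), (nat_lit 67), (nat_lit 1), (nat_lit 1)), ((nat_lit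 28), (nat_lit 69), (nat_lit 1), (nat_lit 1)), ((nat_lit 31), (nat_lit 70), (nat_lit 1), (nat_lit 1)), ((nat_lit 36), (nat_lit 72), (nat_lit 1), (nat_lit 1)), ((nat_lit 38), (nat_lit 74), (nat_lit 1), (nat_lit 1)), ((nat_lit 41), (nat_lit 75), (nat_lit 1), (nat_lit 1)), ((nat_lit 47), (nat_lit 76), (nat_lit 1), (nat_lit 1)), ((nat_lit 57), (nat_lit 77), (nat_lit 1), (nat_lit 1)), ((nat_lit 78), (nat_lit 118), (nat_lit 1), (nat_lit 1)), ((nat_lit 80), (nat_lit 120), (nat_lit 1), (nat_lit 1)), ((nat_lit 81), (nat_lit 123), (nat_lit 1), (nat_lit 1)), ((nat_lit 83), (nat_lit 125), (nat_lit 1), (nat_lit 1)), ((nat_lit 84), (nat_lit 127), (nat_lit 1), (nat_lit 1)), ((nat_lit 86), (nat_lit 129), (nat_lit 1), (nat_lit 1)), ((nat_lit 88), (nat_lit 132), (nat_lit 1), (nat_lit 1)), ((nat_lit 90), (nat_lit 134), (nat_lit 1), (nat_lit 1)), ((nat_lit 93), (nat_lit 138), (nat_lit 1), (nat_lit 1)), ((nat_lit 95), (nat_lit 140), (nat_lit 1), (nat_lit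 1)), ((nat_lit 99), (nat_lit 144), (nat_lit 1), (nat_lit 1)), ((nat_lit 101), (nat_lit 146), (nat_lit 1), (nat_lit 1)), ((nat_lit 105), (nat_lit 149), (nat_lit 1), (nat_lit 1)), ((nat_lit 107), (nat_lit 151), (nat_lit 1), (nat_lit 1)), ((nat_lit 110), (nat_lit 153), (nat_lit 1), (nat_lit 1)), ((nat_lit 112), (nat_lit 155), (nat_lit 1), (nat_lit 1)), ((nat_lit 114), (nat_lit 156), (nat_lit 1), (nat_lit 1)), ((nat_lit 116), (nat_lit 158), (nat_lit 1), (nat_lit 1)), ((nat_lit 119), (nat_lit 159), (nat_lit 1), (nat_lit 1)), ((nat_lit 121), (nat_lit 161), (nat_lit 1), (nat_lit 1)), ((nat_lit 162), (nat_lit 182), (nat_lit 1), (nat_lit 1)), ((nat_lit 163), (nat_lit 192), (nat_lit 1), (nat_lit 1)), ((nat_lit 164), (nat_lit 198), (nat_lit 1), (nat_lit 1)), ((nat_lit 165), (nat_lit 201), (nat_lit 1), (nat_lit 1)), ((nat_lit 167), (nat_lit 203), (nat_lit 1), (nat_lit 1)), ((nat_lit 169), (nat_lit 208), (nat_lit 1), (nat_lit 1)), ((nat_lit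 170), (nat_lit 211), (nat_lit 1), (nat_lit 1)), ((nat_lit 172), (nat_lit 213), (nat_lit 1), (nat_lit 1)), ((nat_lit 174), (nat_lit 215), (nat_lit 1), (nat_lit 1)), ((nat_lit 176), (nat_lit 217), (nat_lit 1), (nat_lit 1)), ((nat_lit 179), (nat_lit 218), (nat_lit 1), (nat_lit 1)), ((nat_lit 184), (nat_lit 220), (nat_lit 1), (nat_lit 1)), ((nat_lit 186), (nat_lit 222), (nat_lit 1), (nat_lit 1)), ((nat_lit 189), (nat_lit 223), (nat_lit 1), (nat_lit 1)), ((nat_lit 195), (nat_lit 224), (nat_lit 1), (nat_lit 1)), ((nat_lit 205), (nat_lit 225), (nat_lit 1), (nat_lit 1)), ((nat_lit 226), (nat_lit 237), (nat_lit 1), (nat_lit 1)), ((nat_lit 228), (nat_lit 239), (nat_lit 1), (nat_lit 1))])) (.node (.leaf [((nat_lit 7), (nat_lit 3), (nat_lit 1), (nat_lit 1)), ((nat_lit 10), (nat_lit 6), (nat_lit 1), (nat_lit 1)), ((nat_lit 17), (nat_lit 14), (nat_lit 1), (nat_lit 1)), ((nat_lit 36), (nat_lit 21), (nat_lit 1), (nat_lit 1)), ((nat_lit 40), (nat_lit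 23), (nat_lit 1), (nat_lit 1)), ((nat_lit 41), (nat_lit 24), (nat_lit 1), (nat_lit 1)), ((nat_lit 42), (nat_lit 25), (nat_lit 1), (nat_lit 1)), ((nat_lit 46), (nat_lit 27), (nat_lit 1), (nat_lit 1)), ((nat_lit 47), (nat_lit 28), (nat_lit 1), (nat_lit 1)), ((nat_lit 48), (nat_lit 29), (nat_lit 1), (nat_lit 1)), ((nat_lit 52), (nat_lit 33), (nat_lit 1), (nat_lit 1)), ((nat_lit 53), (nat_lit 34), (nat_lit 1), (nat_lit 1)), ((nat_lit 54), (nat_lit 35), (nat_lit 1), (nat_lit 1)), ((nat_lit 71), (nat_lit 59), (nat_lit 1), (nat_lit 1)), ((nat_lit 72), (nat_lit 60), (nat_lit 1), (nat_lit 1)), ((nat_lit 73), (nat_lit 61), (nat_lit 1), (nat_lit 1)), ((nat_lit 75), (nat_lit 65), (nat_lit 1), (nat_lit 1)), ((nat_lit 76), (nat_lit 69), (nat_lit 1), (nat_lit 1)), ((nat_lit 99), (nat_lit 81), (nat_lit 1), (nat_lit 1)), ((nat_lit 100), (nat_lit 82), (nat_lit 1), (nat_lit 1)), ((nat_lit 101), (nat_lit 83), (nat_lit 1), (nat_lit 1)), ((nat_lit 103),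 (nat_lit 87), (nat_lit 1), (nat_lit 1)), ((nat_lit 104), (nat_lit 91), (nat_lit 1), (nat_lit 1)), ((nat_lit 114), (nat_lit 93), (nat_lit 1), (nat_lit 1)), ((nat_lit 115), (nat_lit 94), (nat_lit 1), (nat_lit 1)), ((nat_lit 116), (nat_lit 95), (nat_lit 1), (nat_lit 1)), ((nat_lit 126), (nat_lit 97), (nat_lit 1), (nat_lit 1)), ((nat_lit 131), (nat_lit 98), (nat_lit 1), (nat_lit 1)), ((nat_lit 141), (nat_lit 108), (nat_lit 1), (nat_lit 1)), ((nat_lit 142), (nat_lit 113), (nat_lit 1), (nat_lit 1)), ((nat_lit 144), (nat_lit 123), (nat_lit 1), (nat_lit 1)), ((nat_lit 145), (nat_lit 124), (nat_lit 1), (nat_lit 1)), ((nat_lit 146), (nat_lit 125), (nat_lit 1), (nat_lit 1)), ((nat_lit 148), (nat_lit 135), (nat_lit 1), (nat_lit 1)), ((nat_lit 152), (nat_lit 136), (nat_lit 1), (nat_lit 1)), ((nat_lit 156), (nat_lit 138), (nat_lit 1), (nat_lit 1)), ((nat_lit 157), (nat_lit 139), (nat_lit 1), (nat_lit 1)), ((nat_lit 158), (nat_lit 140), (nat_lit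 1), (nat_lit 1)), ((nat_lit 170), (nat_lit 163), (nat_lit 1), (nat_lit 1)), ((nat_lit 174), (nat_lit 164), (nat_lit 1), (nat_lit 1)), ((nat_lit 178), (nat_lit 166), (nat_lit 1), (nat_lit 1)), ((nat_lit 179), (nat_lit 167), (nat_lit 1), (nat_lit 1)), ((nat_lit 180), (nat_lit 168), (nat_lit 1), (nat_lit 1)), ((nat_lit 204), (nat_lit 185), (nat_lit 1), (nat_lit 1)), ((nat_lit 205), (nat_lit 186), (nat_lit 1), (nat_lit 1)), ((nat_lit 206), (nat_lit 187), (nat_lit 1), (nat_lit 1)), ((nat_lit 210), (nat_lit 191), (nat_lit 1), (nat_lit 1)), ((nat_lit 211), (nat_lit 192), (nat_lit 1), (nat_lit 1)), ((nat_lit 212), (nat_lit 193), (nat_lit 1), (nat_lit 1)), ((nat_lit 214), (nat_lit 197), (nat_lit 1), (nat_lit 1)), ((nat_lit 215), (nat_lit 198), (nat_lit 1), (nat_lit 1)), ((nat_lit 216), (nat_lit 199), (nat_lit 1), (nat_lit 1)), ((nat_lit 218), (nat_lit 203), (nat_lit 1), (nat_lit 1)), ((nat_lit 225), (nat_lit 222), (nat_lit 1), (nat_lit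 1)), ((nat_lit 233), (nat_lit 229), (nat_lit 1), (nat_lit 1)), ((nat_lit 236), (nat_lit 232), (nat_lit 1), (nat_lit 1))]) (.leaf [((nat_lit 0), (nat_lit 66), (nat_lit 1), (nat_lit 1)), ((nat_lit 1), (nat_lit 67), (nat_lit 1), (nat_lit 1)), ((nat_lit 2), (nat_lit 68), (nat_lit 1), (nat_lit 1)), ((nat_lit 3), (nat_lit 69), (nat_lit 1), (nat_lit 1)), ((nat_lit 4), (nat_lit 70), (nat_lit 1), (nat_lit 1)), ((nat_lit 7), (nat_lit 76), (nat_lit 1), (nat_lit 1)), ((nat_lit 8), (nat_lit 77), (nat_lit 1), (nat_lit 1)), ((nat_lit 14), (nat_lit 98), (nat_lit 1), (nat_lit 1)), ((nat_lit 16), (nat_lit 130), (nat_lit 1), (nat_lit 1)), ((nat_lit 17), (nat_lit 131), (nat_lit 1), (nat_lit 1)), ((nat_lit 18), (nat_lit 132), (nat_lit 1), (nat_lit 1)), ((nat_lit 19), (nat_lit 133), (nat_lit 1), (nat_lit 1)), ((nat_lit 20), (nat_lit 134), (nat_lit 1), (nat_lit 1)), ((nat_lit 21), (nat_lit 136), (nat_lit 1), (nat_lit 1)), ((nat_lit 22), (nat_lit 137),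 (nat_lit 1), (nat_lit 1)), ((nat_lit 23), (nat_lit 138), (nat_lit 1), (nat_lit 1)), ((nat_lit 24), (nat_lit 139), (nat_lit 1), (nat_lit 1)), ((nat_lit 25), (nat_lit 140), (nat_lit 1), (nat_lit 1)), ((nat_lit 36), (nat_lit 152), (nat_lit 1), (nat_lit 1)), ((nat_lit 37), (nat_lit 153), (nat_lit 1), (nat_lit 1)), ((nat_lit 38), (nat_lit 154), (nat_lit 1), (nat_lit 1)), ((nat_lit 39), (nat_lit 155), (nat_lit 1), (nat_lit 1)), ((nat_lit 40), (nat_lit 156), (nat_lit 1), (nat_lit 1)), ((nat_lit 41), (nat_lit 157), (nat_lit 1), (nat_lit 1)), ((nat_lit 42), (nat_lit 158), (nat_lit 1), (nat_lit 1)), ((nat_lit 43), (nat_lit 159), (nat_lit 1), (nat_lit 1)), ((nat_lit 44), (nat_lit 160), (nat_lit 1), (nat_lit 1)), ((nat_lit 45), (nat_lit 161), (nat_lit 1), (nat_lit 1)), ((nat_lit 78), (nat_lit 194), (nat_lit 1), (nat_lit 1)), ((nat_lit 79), (nat_lit 195), (nat_lit 1), (nat_lit 1)), ((nat_lit 80), (nat_lit 196), (nat_lit 1), (nat_lit 1)), ((nat_lit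 81), (nat_lit 197), (nat_lit 1), (nat_lit 1)), ((nat_lit 82), (nat_lit 198), (nat_lit 1), (nat_lit 1)), ((nat_lit 83), (nat_lit 199), (nat_lit 1), (nat_lit 1)), ((nat_lit 84), (nat_lit 200), (nat_lit 1), (nat_lit 1)), ((nat_lit 85), (nat_lit 201), (nat_lit 1), (nat_lit 1)), ((nat_lit 86), (nat_lit 202), (nat_lit 1), (nat_lit 1)), ((nat_lit 87), (nat_lit 203), (nat_lit 1), (nat_lit 1)), ((nat_lit 99), (nat_lit 214), (nat_lit 1), (nat_lit 1)), ((nat_lit 100), (nat_lit 215), (nat_lit 1), (nat_lit 1)), ((nat_lit 101), (nat_lit 216), (nat_lit 1), (nat_lit 1)), ((nat_lit 102), (nat_lit 217), (nat_lit 1), (nat_lit 1)), ((nat_lit 103), (nat_lit 218), (nat_lit 1), (nat_lit 1)), ((nat_lit 105), (nat_lit 219), (nat_lit 1), (nat_lit 1)), ((nat_lit 106), (nat_lit 220), (nat_lit 1), (nat_lit 1)), ((nat_lit 107), (nat_lit 221), (nat_lit 1), (nat_lit 1)), ((nat_lit 108), (nat_lit 222), (nat_lit 1), (nat_lit 1)), ((nat_lit 109), (nat_lit 223),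 (nat_lit 1), (nat_lit 1)), ((nat_lit 141), (nat_lit 225), (nat_lit 1), (nat_lit 1)), ((nat_lit 162), (nat_lit 231), (nat_lit 1), (nat_lit 1)), ((nat_lit 163), (nat_lit 232), (nat_lit 1), (nat_lit 1)), ((nat_lit 169), (nat_lit 235), (nat_lit 1), (nat_lit 1)), ((nat_lit 170), (nat_lit 236), (nat_lit 1), (nat_lit 1)), ((nat_lit 171), (nat_lit 237), (nat_lit 1), (nat_lit 1)), ((nat_lit 172), (nat_lit 238), (nat_lit 1), (nat_lit 1)), ((nat_lit 173), (nat_lit 239), (nat_lit 1), (nat_lit 1))])))) (.node (.node (.node (.leaf [((nat_lit 62), (nat_lit 0), (nat_lit 1), (nat_lit 1)), ((nat_lit 63), (nat_lit 1), (nat_lit 1), (nat_lit 1)), ((nat_lit 64), (nat_lit 2), (nat_lit 1), (nat_lit 1)), ((nat_lit 65), (nat_lit 3), (nat_lit 1), (nat_lit 1)), ((nat_lit 70), (nat_lit 5), (nat_lit 1), (nat_lit 1)), ((nat_lit 75), (nat_lit 7), (nat_lit 1), (nat_lit 1)), ((nat_lit 77), (nat_lit 9), (nat_lit 1), (nat_lit 1)), ((nat_lit 97), (nat_lit 14), (nat_lit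 1), (nat_lit 1)), ((nat_lit 109), (nat_lit 15), (nat_lit 1), (nat_lit 1)), ((nat_lit 126), (nat_lit 17), (nat_lit 1), (nat_lit 1)), ((nat_lit 127), (nat_lit 18), (nat_lit 1), (nat_lit 1)), ((nat_lit 128), (nat_lit 19), (nat_lit 1), (nat_lit 1)), ((nat_lit 129), (nat_lit 20), (nat_lit 1), (nat_lit 1)), ((nat_lit 135), (nat_lit 21), (nat_lit 1), (nat_lit 1)), ((nat_lit 137), (nat_lit 26), (nat_lit 1), (nat_lit 1)), ((nat_lit 138), (nat_lit 27), (nat_lit 1), (nat_lit 1)), ((nat_lit 139), (nat_lit 28), (nat_lit 1), (nat_lit 1)), ((nat_lit 140), (nat_lit 29), (nat_lit 1), (nat_lit 1)), ((nat_lit 148), (nat_lit 36), (nat_lit 1), (nat_lit 1)), ((nat_lit 149), (nat_lit 37), (nat_lit 1), (nat_lit 1)), ((nat_lit 150), (nat_lit 38), (nat_lit 1), (nat_lit 1)), ((nat_lit 151), (nat_lit 39), (nat_lit 1), (nat_lit 1)), ((nat_lit 156), (nat_lit 46), (nat_lit 1), (nat_lit 1)), ((nat_lit 157), (nat_lit 47), (nat_lit 1), (nat_lit 1)), ((nat_lit 158),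 (nat_lit 48), (nat_lit 1), (nat_lit 1)), ((nat_lit 159), (nat_lit 49), (nat_lit 1), (nat_lit 1)), ((nat_lit 160), (nat_lit 50), (nat_lit 1), (nat_lit 1)), ((nat_lit 161), (nat_lit 51), (nat_lit 1), (nat_lit 1)), ((nat_lit 188), (nat_lit 78), (nat_lit 1), (nat_lit 1)), ((nat_lit 189), (nat_lit 79), (nat_lit 1), (nat_lit 1)), ((nat_lit 190), (nat_lit 80), (nat_lit 1), (nat_lit 1)), ((nat_lit 191), (nat_lit 81), (nat_lit 1), (nat_lit 1)), ((nat_lit 192), (nat_lit 82), (nat_lit 1), (nat_lit 1)), ((nat_lit 193), (nat_lit 83), (nat_lit 1), (nat_lit 1)), ((nat_lit 200), (nat_lit 88), (nat_lit 1), (nat_lit 1)), ((nat_lit 201), (nat_lit 89), (nat_lit 1), (nat_lit 1)), ((nat_lit 202), (nat_lit 90), (nat_lit 1), (nat_lit 1)), ((nat_lit 203), (nat_lit 91), (nat_lit 1), (nat_lit 1)), ((nat_lit 210), (nat_lit 99), (nat_lit 1), (nat_lit 1)), ((nat_lit 211), (nat_lit 100), (nat_lit 1), (nat_lit 1)), ((nat_lit 212), (nat_lit 101), (nat_lit 1),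 (nat_lit 1)), ((nat_lit 213), (nat_lit 102), (nat_lit 1), (nat_lit 1)), ((nat_lit 218), (nat_lit 104), (nat_lit 1), (nat_lit 1)), ((nat_lit 219), (nat_lit 110), (nat_lit 1), (nat_lit 1)), ((nat_lit 220), (nat_lit 111), (nat_lit 1), (nat_lit 1)), ((nat_lit 221), (nat_lit 112), (nat_lit 1), (nat_lit 1)), ((nat_lit 222), (nat_lit 113), (nat_lit 1), (nat_lit 1)), ((nat_lit 224), (nat_lit 130), (nat_lit 1), (nat_lit 1)), ((nat_lit 225), (nat_lit 142), (nat_lit 1), (nat_lit 1)), ((nat_lit 230), (nat_lit 162), (nat_lit 1), (nat_lit 1)), ((nat_lit 232), (nat_lit 164), (nat_lit 1), (nat_lit 1)), ((nat_lit 234), (nat_lit 169), (nat_lit 1), (nat_lit 1)), ((nat_lit 236), (nat_lit 174), (nat_lit 1), (nat_lit 1)), ((nat_lit 237), (nat_lit 175), (nat_lit 1), (nat_lit 1)), ((nat_lit 238), (nat_lit 176), (nat_lit 1), (nat_lit 1)), ((nat_lit 239), (nat_lit 177), (nat_lit 1), (nat_lit 1))]) (.leaf [((nat_lit 2), (nat_lit 7), (nat_lit 1), (nat_lit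 1)), ((nat_lit 6), (nat_lit 11), (nat_lit 1), (nat_lit 1)), ((nat_lit 14), (nat_lit 18), (nat_lit 1), (nat_lit 1)), ((nat_lit 21), (nat_lit 37), (nat_lit 1), (nat_lit 1)), ((nat_lit 22), (nat_lit 40), (nat_lit 1), (nat_lit 1)), ((nat_lit 24), (nat_lit 43), (nat_lit 1), (nat_lit 1)), ((nat_lit 25), (nat_lit 44), (nat_lit 1), (nat_lit 1)), ((nat_lit 26), (nat_lit 46), (nat_lit 1), (nat_lit 1)), ((nat_lit 28), (nat_lit 49), (nat_lit 1), (nat_lit 1)), ((nat_lit 29), (nat_lit 50), (nat_lit 1), (nat_lit 1)), ((nat_lit 31), (nat_lit 52), (nat_lit 1), (nat_lit 1)), ((nat_lit 32), (nat_lit 53), (nat_lit 1), (nat_lit 1)), ((nat_lit 35), (nat_lit 55), (nat_lit 1), (nat_lit 1)), ((nat_lit 57), (nat_lit 71), (nat_lit 1), (nat_lit 1)), ((nat_lit 58), (nat_lit 72), (nat_lit 1), (nat_lit 1)), ((nat_lit 61), (nat_lit 74), (nat_lit 1), (nat_lit 1)), ((nat_lit 64), (nat_lit 75), (nat_lit 1), (nat_lit 1)), ((nat_lit 68), (nat_lit 76), (nat_lit 1),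 (nat_lit 1)), ((nat_lit 79), (nat_lit 99), (nat_lit 1), (nat_lit 1)), ((nat_lit 80), (nat_lit 100), (nat_lit 1), (nat_lit 1)), ((nat_lit 83), (nat_lit 102), (nat_lit 1), (nat_lit 1)), ((nat_lit 86), (nat_lit 103), (nat_lit 1), (nat_lit 1)), ((nat_lit 90), (nat_lit 104), (nat_lit 1), (nat_lit 1)), ((nat_lit 93), (nat_lit 117), (nat_lit 1), (nat_lit 1)), ((nat_lit 94), (nat_lit 118), (nat_lit 1), (nat_lit 1)), ((nat_lit 96), (nat_lit 123), (nat_lit 1), (nat_lit 1)), ((nat_lit 97), (nat_lit 127), (nat_lit 1), (nat_lit 1)), ((nat_lit 98), (nat_lit 132), (nat_lit 1), (nat_lit 1)), ((nat_lit 107), (nat_lit 141), (nat_lit 1), (nat_lit 1)), ((nat_lit 112), (nat_lit 142), (nat_lit 1), (nat_lit 1)), ((nat_lit 116), (nat_lit 143), (nat_lit 1), (nat_lit 1)), ((nat_lit 121), (nat_lit 145), (nat_lit 1), (nat_lit 1)), ((nat_lit 122), (nat_lit 146), (nat_lit 1), (nat_lit 1)), ((nat_lit 135), (nat_lit 149), (nat_lit 1), (nat_lit 1)), ((nat_lit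 136), (nat_lit 153), (nat_lit 1), (nat_lit 1)), ((nat_lit 137), (nat_lit 156), (nat_lit 1), (nat_lit 1)), ((nat_lit 139), (nat_lit 159), (nat_lit 1), (nat_lit 1)), ((nat_lit 140), (nat_lit 160), (nat_lit 1), (nat_lit 1)), ((nat_lit 163), (nat_lit 171), (nat_lit 1), (nat_lit 1)), ((nat_lit 164), (nat_lit 175), (nat_lit 1), (nat_lit 1)), ((nat_lit 165), (nat_lit 178), (nat_lit 1), (nat_lit 1)), ((nat_lit 167), (nat_lit 181), (nat_lit 1), (nat_lit 1)), ((nat_lit 168), (nat_lit 182), (nat_lit 1), (nat_lit 1)), ((nat_lit 184), (nat_lit 204), (nat_lit 1), (nat_lit 1)), ((nat_lit 186), (nat_lit 207), (nat_lit 1), (nat_lit 1)), ((nat_lit 187), (nat_lit 208), (nat_lit 1), (nat_lit 1)), ((nat_lit 189), (nat_lit 210), (nat_lit 1), (nat_lit 1)), ((nat_lit 190), (nat_lit 211), (nat_lit 1), (nat_lit 1)), ((nat_lit 193), (nat_lit 213), (nat_lit 1), (nat_lit 1)), ((nat_lit 195), (nat_lit 214), (nat_lit 1), (nat_lit 1)), ((nat_lit 196), (nat_lit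 215), (nat_lit 1), (nat_lit 1)), ((nat_lit 199), (nat_lit 217), (nat_lit 1), (nat_lit 1)), ((nat_lit 202), (nat_lit 218), (nat_lit 1), (nat_lit 1)), ((nat_lit 221), (nat_lit 225), (nat_lit 1), (nat_lit 1)), ((nat_lit 228), (nat_lit 233), (nat_lit 1), (nat_lit 1)), ((nat_lit 232), (nat_lit 237), (nat_lit 1), (nat_lit 1))])) (.node (.leaf [((nat_lit 11), (nat_lit 1), (nat_lit 1), (nat_lit 1)), ((nat_lit 12), (nat_lit 2), (nat_lit 1), (nat_lit 1)), ((nat_lit 33), (nat_lit 14), (nat_lit 1), (nat_lit 1)), ((nat_lit 43), (nat_lit 15), (nat_lit 1), (nat_lit 1)), ((nat_lit 49), (nat_lit 16), (nat_lit 1), (nat_lit 1)), ((nat_lit 52), (nat_lit 17), (nat_lit 1), (nat_lit 1)), ((nat_lit 55), (nat_lit 20), (nat_lit 1), (nat_lit 1)), ((nat_lit 59), (nat_lit 21), (nat_lit 1), (nat_lit 1)), ((nat_lit 62), (nat_lit 22), (nat_lit 1), (nat_lit 1)), ((nat_lit 65), (nat_lit 25), (nat_lit 1), (nat_lit 1)), ((nat_lit 66), (nat_lit 26), (nat_lit 1), (nat_lit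 1)), ((nat_lit 69), (nat_lit 29), (nat_lit 1), (nat_lit 1)), ((nat_lit 70), (nat_lit 32), (nat_lit 1), (nat_lit 1)), ((nat_lit 71), (nat_lit 36), (nat_lit 1), (nat_lit 1)), ((nat_lit 74), (nat_lit 39), (nat_lit 1), (nat_lit 1)), ((nat_lit 75), (nat_lit 42), (nat_lit 1), (nat_lit 1)), ((nat_lit 76), (nat_lit 48), (nat_lit 1), (nat_lit 1)), ((nat_lit 77), (nat_lit 58), (nat_lit 1), (nat_lit 1)), ((nat_lit 117), (nat_lit 78), (nat_lit 1), (nat_lit 1)), ((nat_lit 119), (nat_lit 79), (nat_lit 1), (nat_lit 1)), ((nat_lit 123), (nat_lit 82), (nat_lit 1), (nat_lit 1)), ((nat_lit 124), (nat_lit 83), (nat_lit 1), (nat_lit 1)), ((nat_lit 127), (nat_lit 85), (nat_lit 1), (nat_lit 1)), ((nat_lit 128), (nat_lit 86), (nat_lit 1), (nat_lit 1)), ((nat_lit 132), (nat_lit 89), (nat_lit 1), (nat_lit 1)), ((nat_lit 133), (nat_lit 90), (nat_lit 1), (nat_lit 1)), ((nat_lit 138), (nat_lit 94), (nat_lit 1), (nat_lit 1)), ((nat_lit 139), (nat_lit 95), (nat_lit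 1), (nat_lit 1)), ((nat_lit 144), (nat_lit 100), (nat_lit 1), (nat_lit 1)), ((nat_lit 145), (nat_lit 101), (nat_lit 1), (nat_lit 1)), ((nat_lit 149), (nat_lit 106), (nat_lit 1), (nat_lit 1)), ((nat_lit 150), (nat_lit 107), (nat_lit 1), (nat_lit 1)), ((nat_lit 153), (nat_lit 111), (nat_lit 1), (nat_lit 1)), ((nat_lit 154), (nat_lit 112), (nat_lit 1), (nat_lit 1)), ((nat_lit 156), (nat_lit 115), (nat_lit 1), (nat_lit 1)), ((nat_lit 157), (nat_lit 116), (nat_lit 1), (nat_lit 1)), ((nat_lit 160), (nat_lit 120), (nat_lit 1), (nat_lit 1)), ((nat_lit 161), (nat_lit 122), (nat_lit 1), (nat_lit 1)), ((nat_lit 181), (nat_lit 162), (nat_lit 1), (nat_lit 1)), ((nat_lit 191), (nat_lit 163), (nat_lit 1), (nat_lit 1)), ((nat_lit 197), (nat_lit 164), (nat_lit 1), (nat_lit 1)), ((nat_lit 200), (nat_lit 165), (nat_lit 1), (nat_lit 1)), ((nat_lit 203), (nat_lit 168), (nat_lit 1), (nat_lit 1)), ((nat_lit 207), (nat_lit 169), (nat_lit 1), (nat_lit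 1)), ((nat_lit 210), (nat_lit 170), (nat_lit 1), (nat_lit 1)), ((nat_lit 213), (nat_lit 173), (nat_lit 1), (nat_lit 1)), ((nat_lit 214), (nat_lit 174), (nat_lit 1), (nat_lit 1)), ((nat_lit 217), (nat_lit 177), (nat_lit 1), (nat_lit 1)), ((nat_lit 218), (nat_lit 180), (nat_lit 1), (nat_lit 1)), ((nat_lit 219), (nat_lit 184), (nat_lit 1), (nat_lit 1)), ((nat_lit 222), (nat_lit 187), (nat_lit 1), (nat_lit 1)), ((nat_lit 223), (nat_lit 190), (nat_lit 1), (nat_lit 1)), ((nat_lit 224), (nat_lit 196), (nat_lit 1), (nat_lit 1)), ((nat_lit 225), (nat_lit 206), (nat_lit 1), (nat_lit 1)), ((nat_lit 237), (nat_lit 227), (nat_lit 1), (nat_lit 1)), ((nat_lit 238), (nat_lit 228), (nat_lit 1), (nat_lit 1))]) (.leaf [((nat_lit 0), (nat_lit 37), (nat_lit 1), (nat_lit 1)), ((nat_lit 2), (nat_lit 39), (nat_lit 1), (nat_lit 1)), ((nat_lit 4), (nat_lit 44), (nat_lit 1), (nat_lit 1)), ((nat_lit 5), (nat_lit 50), (nat_lit 1), (nat_lit 1)), ((nat_lit 6),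 (nat_lit 60), (nat_lit 1), (nat_lit 1)), ((nat_lit 10), (nat_lit 72), (nat_lit 1), (nat_lit 1)), ((nat_lit 12), (nat_lit 74), (nat_lit 1), (nat_lit 1)), ((nat_lit 14), (nat_lit 82), (nat_lit 1), (nat_lit 1)), ((nat_lit 17), (nat_lit 100), (nat_lit 1), (nat_lit 1)), ((nat_lit 19), (nat_lit 102), (nat_lit 1), (nat_lit 1)), ((nat_lit 22), (nat_lit 106), (nat_lit 1), (nat_lit 1)), ((nat_lit 24), (nat_lit 108), (nat_lit 1), (nat_lit 1)), ((nat_lit 26), (nat_lit 111), (nat_lit 1), (nat_lit 1)), ((nat_lit 28), (nat_lit 113), (nat_lit 1), (nat_lit 1)), ((nat_lit 30), (nat_lit 118), (nat_lit 1), (nat_lit 1)), ((nat_lit 32), (nat_lit 120), (nat_lit 1), (nat_lit 1)), ((nat_lit 33), (nat_lit 123), (nat_lit 1), (nat_lit 1)), ((nat_lit 35), (nat_lit 125), (nat_lit 1), (nat_lit 1)), ((nat_lit 41), (nat_lit 141), (nat_lit 1), (nat_lit 1)), ((nat_lit 47), (nat_lit 142), (nat_lit 1), (nat_lit 1)), ((nat_lit 52), (nat_lit 144), (nat_lit 1), (nat_lit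 1)), ((nat_lit 54), (nat_lit 146), (nat_lit 1), (nat_lit 1)), ((nat_lit 57), (nat_lit 147), (nat_lit 1), (nat_lit 1)), ((nat_lit 62), (nat_lit 149), (nat_lit 1), (nat_lit 1)), ((nat_lit 64), (nat_lit 151), (nat_lit 1), (nat_lit 1)), ((nat_lit 66), (nat_lit 153), (nat_lit 1), (nat_lit 1)), ((nat_lit 68), (nat_lit 155), (nat_lit 1), (nat_lit 1)), ((nat_lit 70), (nat_lit 160), (nat_lit 1), (nat_lit 1)), ((nat_lit 79), (nat_lit 169), (nat_lit 1), (nat_lit 1)), ((nat_lit 84), (nat_lit 171), (nat_lit 1), (nat_lit 1)), ((nat_lit 86), (nat_lit 173), (nat_lit 1), (nat_lit 1)), ((nat_lit 88), (nat_lit 175), (nat_lit 1), (nat_lit 1)), ((nat_lit 90), (nat_lit 177), (nat_lit 1), (nat_lit 1)), ((nat_lit 92), (nat_lit 182), (nat_lit 1), (nat_lit 1)), ((nat_lit 93), (nat_lit 185), (nat_lit 1), (nat_lit 1)), ((nat_lit 95), (nat_lit 187), (nat_lit 1), (nat_lit 1)), ((nat_lit 97), (nat_lit 192), (nat_lit 1), (nat_lit 1)), ((nat_lit 98), (nat_lit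 198), (nat_lit 1), (nat_lit 1)), ((nat_lit 114), (nat_lit 204), (nat_lit 1), (nat_lit 1)), ((nat_lit 116), (nat_lit 206), (nat_lit 1), (nat_lit 1)), ((nat_lit 119), (nat_lit 207), (nat_lit 1), (nat_lit 1)), ((nat_lit 121), (nat_lit 209), (nat_lit 1), (nat_lit 1)), ((nat_lit 126), (nat_lit 211), (nat_lit 1), (nat_lit 1)), ((nat_lit 128), (nat_lit 213), (nat_lit 1), (nat_lit 1)), ((nat_lit 131), (nat_lit 215), (nat_lit 1), (nat_lit 1)), ((nat_lit 133), (nat_lit 217), (nat_lit 1), (nat_lit 1)), ((nat_lit 137), (nat_lit 220), (nat_lit 1), (nat_lit 1)), ((nat_lit 139), (nat_lit 222), (nat_lit 1), (nat_lit 1)), ((nat_lit 157), (nat_lit 225), (nat_lit 1), (nat_lit 1)), ((nat_lit 165), (nat_lit 227), (nat_lit 1), (nat_lit 1)), ((nat_lit 167), (nat_lit 229), (nat_lit 1), (nat_lit 1)), ((nat_lit 179), (nat_lit 233), (nat_lit 1), (nat_lit 1)), ((nat_lit 189), (nat_lit 234), (nat_lit 1), (nat_lit 1)), ((nat_lit 195), (nat_lit 235), (nat_lit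 1), (nat_lit 1)), ((nat_lit 200), (nat_lit 237), (nat_lit 1), (nat_lit 1)), ((nat_lit 202), (nat_lit 239), (nat_lit 1), (nat_lit 1))]))) (.node (.node (.leaf [((nat_lit 23), (nat_lit 1), (nat_lit 1), (nat_lit 1)), ((nat_lit 24), (nat_lit 2), (nat_lit 1), (nat_lit 1)), ((nat_lit 33), (nat_lit 5), (nat_lit 1), (nat_lit 1)), ((nat_lit 43), (nat_lit 7), (nat_lit 1), (nat_lit 1)), ((nat_lit 59), (nat_lit 9), (nat_lit 1), (nat_lit 1)), ((nat_lit 62), (nat_lit 10), (nat_lit 1), (nat_lit 1)), ((nat_lit 65), (nat_lit 13), (nat_lit 1), (nat_lit 1)), ((nat_lit 81), (nat_lit 16), (nat_lit 1), (nat_lit 1)), ((nat_lit 84), (nat_lit 17), (nat_lit 1), (nat_lit 1)), ((nat_lit 87), (nat_lit 20), (nat_lit 1), (nat_lit 1)), ((nat_lit 93), (nat_lit 26), (nat_lit 1), (nat_lit 1)), ((nat_lit 96), (nat_lit 29), (nat_lit 1), (nat_lit 1)), ((nat_lit 97), (nat_lit 32), (nat_lit 1), (nat_lit 1)), ((nat_lit 105), (nat_lit 36), (nat_lit 1), (nat_lit 1)), ((nat_lit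 108), (nat_lit 39), (nat_lit 1), (nat_lit 1)), ((nat_lit 109), (nat_lit 42), (nat_lit 1), (nat_lit 1)), ((nat_lit 117), (nat_lit 46), (nat_lit 1), (nat_lit 1)), ((nat_lit 119), (nat_lit 47), (nat_lit 1), (nat_lit 1)), ((nat_lit 123), (nat_lit 50), (nat_lit 1), (nat_lit 1)), ((nat_lit 124), (nat_lit 51), (nat_lit 1), (nat_lit 1)), ((nat_lit 127), (nat_lit 53), (nat_lit 1), (nat_lit 1)), ((nat_lit 128), (nat_lit 54), (nat_lit 1), (nat_lit 1)), ((nat_lit 135), (nat_lit 58), (nat_lit 1), (nat_lit 1)), ((nat_lit 138), (nat_lit 67), (nat_lit 1), (nat_lit 1)), ((nat_lit 139), (nat_lit 68), (nat_lit 1), (nat_lit 1)), ((nat_lit 149), (nat_lit 72), (nat_lit 1), (nat_lit 1)), ((nat_lit 150), (nat_lit 73), (nat_lit 1), (nat_lit 1)), ((nat_lit 159), (nat_lit 76), (nat_lit 1), (nat_lit 1)), ((nat_lit 163), (nat_lit 80), (nat_lit 1), (nat_lit 1)), ((nat_lit 166), (nat_lit 89), (nat_lit 1), (nat_lit 1)), ((nat_lit 167), (nat_lit 90), (nat_lit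 1), (nat_lit 1)), ((nat_lit 171), (nat_lit 100), (nat_lit 1), (nat_lit 1)), ((nat_lit 172), (nat_lit 101), (nat_lit 1), (nat_lit 1)), ((nat_lit 181), (nat_lit 104), (nat_lit 1), (nat_lit 1)), ((nat_lit 185), (nat_lit 111), (nat_lit 1), (nat_lit 1)), ((nat_lit 186), (nat_lit 112), (nat_lit 1), (nat_lit 1)), ((nat_lit 188), (nat_lit 115), (nat_lit 1), (nat_lit 1)), ((nat_lit 189), (nat_lit 116), (nat_lit 1), (nat_lit 1)), ((nat_lit 192), (nat_lit 120), (nat_lit 1), (nat_lit 1)), ((nat_lit 193), (nat_lit 122), (nat_lit 1), (nat_lit 1)), ((nat_lit 197), (nat_lit 130), (nat_lit 1), (nat_lit 1)), ((nat_lit 200), (nat_lit 131), (nat_lit 1), (nat_lit 1)), ((nat_lit 203), (nat_lit 134), (nat_lit 1), (nat_lit 1)), ((nat_lit 207), (nat_lit 142), (nat_lit 1), (nat_lit 1)), ((nat_lit 210), (nat_lit 143), (nat_lit 1), (nat_lit 1)), ((nat_lit 213), (nat_lit 146), (nat_lit 1), (nat_lit 1)), ((nat_lit 219), (nat_lit 152), (nat_lit 1), (nat_lit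 1)), ((nat_lit 222), (nat_lit 155), (nat_lit 1), (nat_lit 1)), ((nat_lit 223), (nat_lit 158), (nat_lit 1), (nat_lit 1)), ((nat_lit 226), (nat_lit 174), (nat_lit 1), (nat_lit 1)), ((nat_lit 229), (nat_lit 177), (nat_lit 1), (nat_lit 1)), ((nat_lit 230), (nat_lit 180), (nat_lit 1), (nat_lit 1)), ((nat_lit 232), (nat_lit 196), (nat_lit 1), (nat_lit 1)), ((nat_lit 234), (nat_lit 206), (nat_lit 1), (nat_lit 1)), ((nat_lit 237), (nat_lit 215), (nat_lit 1), (nat_lit 1)), ((nat_lit 238), (nat_lit 216), (nat_lit 1), (nat_lit 1))]) (.leaf [((nat_lit 1), (nat_lit 16), (nat_lit 1), (nat_lit 1)), ((nat_lit 4), (nat_lit 19), (nat_lit 1), (nat_lit 1)), ((nat_lit 6), (nat_lit 28), (nat_lit 1), (nat_lit 1)), ((nat_lit 8), (nat_lit 38), (nat_lit 1), (nat_lit 1)), ((nat_lit 10), (nat_lit 47), (nat_lit 1), (nat_lit 1)), ((nat_lit 11), (nat_lit 49), (nat_lit 1), (nat_lit 1)), ((nat_lit 13), (nat_lit 51), (nat_lit 1), (nat_lit 1)), ((nat_lit 22), (nat_lit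 79), (nat_lit 1), (nat_lit 1)), ((nat_lit 23), (nat_lit 81), (nat_lit 1), (nat_lit 1)), ((nat_lit 25), (nat_lit 83), (nat_lit 1), (nat_lit 1)), ((nat_lit 30), (nat_lit 88), (nat_lit 1), (nat_lit 1)), ((nat_lit 32), (nat_lit 90), (nat_lit 1), (nat_lit 1)), ((nat_lit 34), (nat_lit 91), (nat_lit 1), (nat_lit 1)), ((nat_lit 40), (nat_lit 99), (nat_lit 1), (nat_lit 1)), ((nat_lit 42), (nat_lit 101), (nat_lit 1), (nat_lit 1)), ((nat_lit 44), (nat_lit 102), (nat_lit 1), (nat_lit 1)), ((nat_lit 53), (nat_lit 104), (nat_lit 1), (nat_lit 1)), ((nat_lit 56), (nat_lit 110), (nat_lit 1), (nat_lit 1)), ((nat_lit 58), (nat_lit 112), (nat_lit 1), (nat_lit 1)), ((nat_lit 60), (nat_lit 113), (nat_lit 1), (nat_lit 1)), ((nat_lit 62), (nat_lit 119), (nat_lit 1), (nat_lit 1)), ((nat_lit 64), (nat_lit 121), (nat_lit 1), (nat_lit 1)), ((nat_lit 65), (nat_lit 124), (nat_lit 1), (nat_lit 1)), ((nat_lit 67), (nat_lit 130), (nat_lit 1), (nat_lit 1)), ((nat_lit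 70), (nat_lit 133), (nat_lit 1), (nat_lit 1)), ((nat_lit 72), (nat_lit 142), (nat_lit 1), (nat_lit 1)), ((nat_lit 75), (nat_lit 145), (nat_lit 1), (nat_lit 1)), ((nat_lit 77), (nat_lit 154), (nat_lit 1), (nat_lit 1)), ((nat_lit 85), (nat_lit 162), (nat_lit 1), (nat_lit 1)), ((nat_lit 94), (nat_lit 164), (nat_lit 1), (nat_lit 1)), ((nat_lit 97), (nat_lit 167), (nat_lit 1), (nat_lit 1)), ((nat_lit 106), (nat_lit 169), (nat_lit 1), (nat_lit 1)), ((nat_lit 109), (nat_lit 172), (nat_lit 1), (nat_lit 1)), ((nat_lit 115), (nat_lit 174), (nat_lit 1), (nat_lit 1)), ((nat_lit 118), (nat_lit 175), (nat_lit 1), (nat_lit 1)), ((nat_lit 120), (nat_lit 177), (nat_lit 1), (nat_lit 1)), ((nat_lit 126), (nat_lit 179), (nat_lit 1), (nat_lit 1)), ((nat_lit 127), (nat_lit 181), (nat_lit 1), (nat_lit 1)), ((nat_lit 129), (nat_lit 183), (nat_lit 1), (nat_lit 1)), ((nat_lit 135), (nat_lit 186), (nat_lit 1), (nat_lit 1)), ((nat_lit 137), (nat_lit 195),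 (nat_lit 1), (nat_lit 1)), ((nat_lit 138), (nat_lit 197), (nat_lit 1), (nat_lit 1)), ((nat_lit 140), (nat_lit 199), (nat_lit 1), (nat_lit 1)), ((nat_lit 148), (nat_lit 205), (nat_lit 1), (nat_lit 1)), ((nat_lit 149), (nat_lit 207), (nat_lit 1), (nat_lit 1)), ((nat_lit 151), (nat_lit 209), (nat_lit 1), (nat_lit 1)), ((nat_lit 156), (nat_lit 214), (nat_lit 1), (nat_lit 1)), ((nat_lit 158), (nat_lit 216), (nat_lit 1), (nat_lit 1)), ((nat_lit 160), (nat_lit 217), (nat_lit 1), (nat_lit 1)), ((nat_lit 188), (nat_lit 226), (nat_lit 1), (nat_lit 1)), ((nat_lit 190), (nat_lit 228), (nat_lit 1), (nat_lit 1)), ((nat_lit 192), (nat_lit 229), (nat_lit 1), (nat_lit 1)), ((nat_lit 201), (nat_lit 231), (nat_lit 1), (nat_lit 1)), ((nat_lit 211), (nat_lit 233), (nat_lit 1), (nat_lit 1)), ((nat_lit 220), (nat_lit 235), (nat_lit 1), (nat_lit 1)), ((nat_lit 223), (nat_lit 238), (nat_lit 1), (nat_lit 1))])) (.leaf [((nat_lit 4), (nat_lit 2), (nat_lit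 1), (nat_lit 1)), ((nat_lit 11), (nat_lit 9), (nat_lit 1), (nat_lit 1)), ((nat_lit 18), (nat_lit 16), (nat_lit 1), (nat_lit 1)), ((nat_lit 23), (nat_lit 21), (nat_lit 1), (nat_lit 1)), ((nat_lit 30), (nat_lit 26), (nat_lit 1), (nat_lit 1)), ((nat_lit 33), (nat_lit 28), (nat_lit 1), (nat_lit 1)), ((nat_lit 34), (nat_lit 29), (nat_lit 1), (nat_lit 1)), ((nat_lit 40), (nat_lit 36), (nat_lit 1), (nat_lit 1)), ((nat_lit 43), (nat_lit 38), (nat_lit 1), (nat_lit 1)), ((nat_lit 44), (nat_lit 39), (nat_lit 1), (nat_lit 1)), ((nat_lit 52), (nat_lit 47), (nat_lit 1), (nat_lit 1)), ((nat_lit 53), (nat_lit 48), (nat_lit 1), (nat_lit 1)), ((nat_lit 55), (nat_lit 51), (nat_lit 1), (nat_lit 1)), ((nat_lit 62), (nat_lit 57), (nat_lit 1), (nat_lit 1)), ((nat_lit 63), (nat_lit 58), (nat_lit 1), (nat_lit 1)), ((nat_lit 65), (nat_lit 61), (nat_lit 1), (nat_lit 1)), ((nat_lit 70), (nat_lit 68), (nat_lit 1), (nat_lit 1)), ((nat_lit 75), (nat_lit 73),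 (nat_lit 1), (nat_lit 1)), ((nat_lit 84), (nat_lit 79), (nat_lit 1), (nat_lit 1)), ((nat_lit 85), (nat_lit 80), (nat_lit 1), (nat_lit 1)), ((nat_lit 87), (nat_lit 83), (nat_lit 1), (nat_lit 1)), ((nat_lit 92), (nat_lit 90), (nat_lit 1), (nat_lit 1)), ((nat_lit 97), (nat_lit 95), (nat_lit 1), (nat_lit 1)), ((nat_lit 103), (nat_lit 101), (nat_lit 1), (nat_lit 1)), ((nat_lit 109), (nat_lit 107), (nat_lit 1), (nat_lit 1)), ((nat_lit 117), (nat_lit 110), (nat_lit 1), (nat_lit 1)), ((nat_lit 118), (nat_lit 111), (nat_lit 1), (nat_lit 1)), ((nat_lit 123), (nat_lit 113), (nat_lit 1), (nat_lit 1)), ((nat_lit 126), (nat_lit 116), (nat_lit 1), (nat_lit 1)), ((nat_lit 128), (nat_lit 121), (nat_lit 1), (nat_lit 1)), ((nat_lit 129), (nat_lit 122), (nat_lit 1), (nat_lit 1)), ((nat_lit 132), (nat_lit 130), (nat_lit 1), (nat_lit 1)), ((nat_lit 138), (nat_lit 136), (nat_lit 1), (nat_lit 1)), ((nat_lit 144), (nat_lit 142), (nat_lit 1), (nat_lit 1)),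 ((nat_lit 149), (nat_lit 147), (nat_lit 1), (nat_lit 1)), ((nat_lit 156), (nat_lit 152), (nat_lit 1), (nat_lit 1)), ((nat_lit 159), (nat_lit 154), (nat_lit 1), (nat_lit 1)), ((nat_lit 160), (nat_lit 155), (nat_lit 1), (nat_lit 1)), ((nat_lit 166), (nat_lit 164), (nat_lit 1), (nat_lit 1)), ((nat_lit 171), (nat_lit 169), (nat_lit 1), (nat_lit 1)), ((nat_lit 178), (nat_lit 174), (nat_lit 1), (nat_lit 1)), ((nat_lit 181), (nat_lit 176), (nat_lit 1), (nat_lit 1)), ((nat_lit 182), (nat_lit 177), (nat_lit 1), (nat_lit 1)), ((nat_lit 188), (nat_lit 184), (nat_lit 1), (nat_lit 1)), ((nat_lit 191), (nat_lit 186), (nat_lit 1), (nat_lit 1)), ((nat_lit 192), (nat_lit 187), (nat_lit 1), (nat_lit 1)), ((nat_lit 200), (nat_lit 195), (nat_lit 1), (nat_lit 1)), ((nat_lit 201), (nat_lit 196), (nat_lit 1), (nat_lit 1)), ((nat_lit 203), (nat_lit 199), (nat_lit 1), (nat_lit 1)), ((nat_lit 210), (nat_lit 205), (nat_lit 1), (nat_lit 1)), ((nat_lit 211),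 (nat_lit 206), (nat_lit 1), (nat_lit 1)), ((nat_lit 213), (nat_lit 209), (nat_lit 1), (nat_lit 1)), ((nat_lit 218), (nat_lit 216), (nat_lit 1), (nat_lit 1)), ((nat_lit 223), (nat_lit 221), (nat_lit 1), (nat_lit 1)), ((nat_lit 230), (nat_lit 228), (nat_lit 1), (nat_lit 1)), ((nat_lit 237), (nat_lit 235), (nat_lit 1), (nat_lit 1))])))

def rows1 : Tr (List Entry) :=
  .node (.node (.node (.node (.leaf [((nat_lit 88), (nat_lit 0), (nat_lit 1), (nat_lit 1)), ((nat_lit 89), (nat_lit 1), (nat_lit 1), (nat_lit 1)), ((nat_lit 90), (nat_lit 2), (nat_lit 1), (nat_lit 1)), ((nat_lit 91), (nat_lit 3), (nat_lit 1), (nat_lit 1)), ((nat_lit 92), (nat_lit 4), (nat_lit 1), (nat_lit 1)), ((nat_lit 98), (nat_lit 6), (nat_lit 1), (nat_lit 1)), ((nat_lit 104), (nat_lit 7), (nat_lit 1), (nat_lit 1)), ((nat_lit 130), (nat_lit 9), (nat_lit 1), (nat_lit 1)), ((nat_lit 131), (nat_lit 10), (nat_lit 1), (nat_lit 1)), ((nat_lit 132), (nat_lit 11), (nat_lit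 1), (nat_lit 1)), ((nat_lit 133), (nat_lit 12), (nat_lit 1), (nat_lit 1)), ((nat_lit 134), (nat_lit 13), (nat_lit 1), (nat_lit 1)), ((nat_lit 162), (nat_lit 15), (nat_lit 1), (nat_lit 1)), ((nat_lit 164), (nat_lit 21), (nat_lit 1), (nat_lit 1)), ((nat_lit 165), (nat_lit 22), (nat_lit 1), (nat_lit 1)), ((nat_lit 166), (nat_lit 23), (nat_lit 1), (nat_lit 1)), ((nat_lit 167), (nat_lit 24), (nat_lit 1), (nat_lit 1)), ((nat_lit 168), (nat_lit 25), (nat_lit 1), (nat_lit 1)), ((nat_lit 174), (nat_lit 36), (nat_lit 1), (nat_lit 1)), ((nat_lit 175), (nat_lit 37), (nat_lit 1), (nat_lit 1)), ((nat_lit 176), (nat_lit 38), (nat_lit 1), (nat_lit 1)), ((nat_lit 177), (nat_lit 39), (nat_lit 1), (nat_lit 1)), ((nat_lit 178), (nat_lit 40), (nat_lit 1), (nat_lit 1)), ((nat_lit 179), (nat_lit 41), (nat_lit 1), (nat_lit 1)), ((nat_lit 180), (nat_lit 42), (nat_lit 1), (nat_lit 1)), ((nat_lit 181), (nat_lit 43), (nat_lit 1), (nat_lit 1)), ((nat_lit 182),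 (nat_lit 44), (nat_lit 1), (nat_lit 1)), ((nat_lit 183), (nat_lit 45), (nat_lit 1), (nat_lit 1)), ((nat_lit 194), (nat_lit 56), (nat_lit 1), (nat_lit 1)), ((nat_lit 195), (nat_lit 57), (nat_lit 1), (nat_lit 1)), ((nat_lit 196), (nat_lit 58), (nat_lit 1), (nat_lit 1)), ((nat_lit 197), (nat_lit 59), (nat_lit 1), (nat_lit 1)), ((nat_lit 198), (nat_lit 60), (nat_lit 1), (nat_lit 1)), ((nat_lit 199), (nat_lit 61), (nat_lit 1), (nat_lit 1)), ((nat_lit 200), (nat_lit 62), (nat_lit 1), (nat_lit 1)), ((nat_lit 201), (nat_lit 63), (nat_lit 1), (nat_lit 1)), ((nat_lit 202), (nat_lit 64), (nat_lit 1), (nat_lit 1)), ((nat_lit 203), (nat_lit 65), (nat_lit 1), (nat_lit 1)), ((nat_lit 214), (nat_lit 71), (nat_lit 1), (nat_lit 1)), ((nat_lit 215), (nat_lit 72), (nat_lit 1), (nat_lit 1)), ((nat_lit 216), (nat_lit 73), (nat_lit 1), (nat_lit 1)), ((nat_lit 217), (nat_lit 74), (nat_lit 1), (nat_lit 1)), ((nat_lit 218), (nat_lit 75), (nat_lit 1), (nat_lit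 1)), ((nat_lit 224), (nat_lit 77), (nat_lit 1), (nat_lit 1)), ((nat_lit 226), (nat_lit 105), (nat_lit 1), (nat_lit 1)), ((nat_lit 227), (nat_lit 106), (nat_lit 1), (nat_lit 1)), ((nat_lit 228), (nat_lit 107), (nat_lit 1), (nat_lit 1)), ((nat_lit 229), (nat_lit 108), (nat_lit 1), (nat_lit 1)), ((nat_lit 230), (nat_lit 109), (nat_lit 1), (nat_lit 1)), ((nat_lit 232), (nat_lit 135), (nat_lit 1), (nat_lit 1)), ((nat_lit 233), (nat_lit 141), (nat_lit 1), (nat_lit 1)), ((nat_lit 235), (nat_lit 147), (nat_lit 1), (nat_lit 1)), ((nat_lit 236), (nat_lit 148), (nat_lit 1), (nat_lit 1)), ((nat_lit 237), (nat_lit 149), (nat_lit 1), (nat_lit 1)), ((nat_lit 238), (nat_lit 150), (nat_lit 1), (nat_lit 1)), ((nat_lit 239), (nat_lit 151), (nat_lit 1), (nat_lit 1))]) (.leaf [((nat_lit 4), (nat_lit 6), (nat_lit 1), (nat_lit 1)), ((nat_lit 7), (nat_lit 9), (nat_lit 1), (nat_lit 1)), ((nat_lit 15), (nat_lit 21), (nat_lit 1), (nat_lit 1)), ((nat_lit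 17), (nat_lit 26), (nat_lit 1), (nat_lit 1)), ((nat_lit 18), (nat_lit 27), (nat_lit 1), (nat_lit 1)), ((nat_lit 19), (nat_lit 28), (nat_lit 1), (nat_lit 1)), ((nat_lit 20), (nat_lit 29), (nat_lit 1), (nat_lit 1)), ((nat_lit 40), (nat_lit 56), (nat_lit 1), (nat_lit 1)), ((nat_lit 41), (nat_lit 57), (nat_lit 1), (nat_lit 1)), ((nat_lit 42), (nat_lit 58), (nat_lit 1), (nat_lit 1)), ((nat_lit 43), (nat_lit 59), (nat_lit 1), (nat_lit 1)), ((nat_lit 44), (nat_lit 60), (nat_lit 1), (nat_lit 1)), ((nat_lit 45), (nat_lit 61), (nat_lit 1), (nat_lit 1)), ((nat_lit 52), (nat_lit 66), (nat_lit 1), (nat_lit 1)), ((nat_lit 53), (nat_lit 67), (nat_lit 1), (nat_lit 1)), ((nat_lit 54), (nat_lit 68), (nat_lit 1), (nat_lit 1)), ((nat_lit 55), (nat_lit 69), (nat_lit 1), (nat_lit 1)), ((nat_lit 75), (nat_lit 77), (nat_lit 1), (nat_lit 1)), ((nat_lit 84), (nat_lit 93), (nat_lit 1), (nat_lit 1)), ((nat_lit 85), (nat_lit 94), (nat_lit 1), (nat_lit 1)),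 ((nat_lit 86), (nat_lit 95), (nat_lit 1), (nat_lit 1)), ((nat_lit 87), (nat_lit 96), (nat_lit 1), (nat_lit 1)), ((nat_lit 92), (nat_lit 98), (nat_lit 1), (nat_lit 1)), ((nat_lit 99), (nat_lit 110), (nat_lit 1), (nat_lit 1)), ((nat_lit 100), (nat_lit 111), (nat_lit 1), (nat_lit 1)), ((nat_lit 101), (nat_lit 112), (nat_lit 1), (nat_lit 1)), ((nat_lit 102), (nat_lit 113), (nat_lit 1), (nat_lit 1)), ((nat_lit 104), (nat_lit 130), (nat_lit 1), (nat_lit 1)), ((nat_lit 109), (nat_lit 135), (nat_lit 1), (nat_lit 1)), ((nat_lit 126), (nat_lit 137), (nat_lit 1), (nat_lit 1)), ((nat_lit 127), (nat_lit 138), (nat_lit 1), (nat_lit 1)), ((nat_lit 128), (nat_lit 139), (nat_lit 1), (nat_lit 1)), ((nat_lit 129), (nat_lit 140), (nat_lit 1), (nat_lit 1)), ((nat_lit 141), (nat_lit 147), (nat_lit 1), (nat_lit 1)), ((nat_lit 143), (nat_lit 152), (nat_lit 1), (nat_lit 1)), ((nat_lit 144), (nat_lit 153), (nat_lit 1), (nat_lit 1)), ((nat_lit 145), (nat_lit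 154), (nat_lit 1), (nat_lit 1)), ((nat_lit 146), (nat_lit 155), (nat_lit 1), (nat_lit 1)), ((nat_lit 162), (nat_lit 164), (nat_lit 1), (nat_lit 1)), ((nat_lit 170), (nat_lit 184), (nat_lit 1), (nat_lit 1)), ((nat_lit 171), (nat_lit 185), (nat_lit 1), (nat_lit 1)), ((nat_lit 172), (nat_lit 186), (nat_lit 1), (nat_lit 1)), ((nat_lit 173), (nat_lit 187), (nat_lit 1), (nat_lit 1)), ((nat_lit 178), (nat_lit 194), (nat_lit 1), (nat_lit 1)), ((nat_lit 179), (nat_lit 195), (nat_lit 1), (nat_lit 1)), ((nat_lit 180), (nat_lit 196), (nat_lit 1), (nat_lit 1)), ((nat_lit 181), (nat_lit 197), (nat_lit 1), (nat_lit 1)), ((nat_lit 182), (nat_lit 198), (nat_lit 1), (nat_lit 1)), ((nat_lit 183), (nat_lit 199), (nat_lit 1), (nat_lit 1)), ((nat_lit 210), (nat_lit 219), (nat_lit 1), (nat_lit 1)), ((nat_lit 211), (nat_lit 220), (nat_lit 1), (nat_lit 1)), ((nat_lit 212), (nat_lit 221), (nat_lit 1), (nat_lit 1)), ((nat_lit 213), (nat_lit 222), (nat_lit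 1), (nat_lit 1)), ((nat_lit 218), (nat_lit 224), (nat_lit 1), (nat_lit 1)), ((nat_lit 230), (nat_lit 232), (nat_lit 1), (nat_lit 1)), ((nat_lit 233), (nat_lit 235), (nat_lit 1), (nat_lit 1))])) (.node (.leaf [((nat_lit 14), (nat_lit 1), (nat_lit 1), (nat_lit 1)), ((nat_lit 19), (nat_lit 7), (nat_lit 1), (nat_lit 1)), ((nat_lit 24), (nat_lit 8), (nat_lit 1), (nat_lit 1)), ((nat_lit 28), (nat_lit 9), (nat_lit 1), (nat_lit 1)), ((nat_lit 31), (nat_lit 10), (nat_lit 1), (nat_lit 1)), ((nat_lit 33), (nat_lit 11), (nat_lit 1), (nat_lit 1)), ((nat_lit 35), (nat_lit 13), (nat_lit 1), (nat_lit 1)), ((nat_lit 79), (nat_lit 36), (nat_lit 1), (nat_lit 1)), ((nat_lit 81), (nat_lit 37), (nat_lit 1), (nat_lit 1)), ((nat_lit 83), (nat_lit 39), (nat_lit 1), (nat_lit 1)), ((nat_lit 84), (nat_lit 40), (nat_lit 1), (nat_lit 1)), ((nat_lit 86), (nat_lit 42), (nat_lit 1), (nat_lit 1)), ((nat_lit 87), (nat_lit 44), (nat_lit 1), (nat_lit 1)), ((nat_lit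 88), (nat_lit 46), (nat_lit 1), (nat_lit 1)), ((nat_lit 90), (nat_lit 48), (nat_lit 1), (nat_lit 1)), ((nat_lit 91), (nat_lit 50), (nat_lit 1), (nat_lit 1)), ((nat_lit 92), (nat_lit 53), (nat_lit 1), (nat_lit 1)), ((nat_lit 93), (nat_lit 56), (nat_lit 1), (nat_lit 1)), ((nat_lit 95), (nat_lit 58), (nat_lit 1), (nat_lit 1)), ((nat_lit 96), (nat_lit 60), (nat_lit 1), (nat_lit 1)), ((nat_lit 97), (nat_lit 63), (nat_lit 1), (nat_lit 1)), ((nat_lit 98), (nat_lit 67), (nat_lit 1), (nat_lit 1)), ((nat_lit 119), (nat_lit 71), (nat_lit 1), (nat_lit 1)), ((nat_lit 121), (nat_lit 73), (nat_lit 1), (nat_lit 1)), ((nat_lit 124), (nat_lit 74), (nat_lit 1), (nat_lit 1)), ((nat_lit 128), (nat_lit 75), (nat_lit 1), (nat_lit 1)), ((nat_lit 133), (nat_lit 76), (nat_lit 1), (nat_lit 1)), ((nat_lit 139), (nat_lit 77), (nat_lit 1), (nat_lit 1)), ((nat_lit 162), (nat_lit 100), (nat_lit 1), (nat_lit 1)), ((nat_lit 163), (nat_lit 106), (nat_lit 1), (nat_lit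 1)), ((nat_lit 164), (nat_lit 111), (nat_lit 1), (nat_lit 1)), ((nat_lit 165), (nat_lit 115), (nat_lit 1), (nat_lit 1)), ((nat_lit 166), (nat_lit 118), (nat_lit 1), (nat_lit 1)), ((nat_lit 168), (nat_lit 120), (nat_lit 1), (nat_lit 1)), ((nat_lit 172), (nat_lit 141), (nat_lit 1), (nat_lit 1)), ((nat_lit 176), (nat_lit 142), (nat_lit 1), (nat_lit 1)), ((nat_lit 179), (nat_lit 143), (nat_lit 1), (nat_lit 1)), ((nat_lit 181), (nat_lit 144), (nat_lit 1), (nat_lit 1)), ((nat_lit 183), (nat_lit 146), (nat_lit 1), (nat_lit 1)), ((nat_lit 186), (nat_lit 147), (nat_lit 1), (nat_lit 1)), ((nat_lit 189), (nat_lit 148), (nat_lit 1), (nat_lit 1)), ((nat_lit 191), (nat_lit 149), (nat_lit 1), (nat_lit 1)), ((nat_lit 193), (nat_lit 151), (nat_lit 1), (nat_lit 1)), ((nat_lit 195), (nat_lit 152), (nat_lit 1), (nat_lit 1)), ((nat_lit 197), (nat_lit 153), (nat_lit 1), (nat_lit 1)), ((nat_lit 199), (nat_lit 155), (nat_lit 1), (nat_lit 1)), ((nat_lit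 200), (nat_lit 156), (nat_lit 1), (nat_lit 1)), ((nat_lit 202), (nat_lit 158), (nat_lit 1), (nat_lit 1)), ((nat_lit 203), (nat_lit 160), (nat_lit 1), (nat_lit 1)), ((nat_lit 226), (nat_lit 204), (nat_lit 1), (nat_lit 1)), ((nat_lit 228), (nat_lit 206), (nat_lit 1), (nat_lit 1)), ((nat_lit 229), (nat_lit 208), (nat_lit 1), (nat_lit 1)), ((nat_lit 230), (nat_lit 211), (nat_lit 1), (nat_lit 1)), ((nat_lit 231), (nat_lit 215), (nat_lit 1), (nat_lit 1)), ((nat_lit 232), (nat_lit 220), (nat_lit 1), (nat_lit 1)), ((nat_lit 238), (nat_lit 225), (nat_lit 1), (nat_lit 1))]) (.leaf [((nat_lit 1), (nat_lit 30), (nat_lit 1), (nat_lit 1)), ((nat_lit 2), (nat_lit 31), (nat_lit 1), (nat_lit 1)), ((nat_lit 3), (nat_lit 33), (nat_lit 1), (nat_lit 1)), ((nat_lit 7), (nat_lit 52), (nat_lit 1), (nat_lit 1)), ((nat_lit 8), (nat_lit 62), (nat_lit 1), (nat_lit 1)), ((nat_lit 9), (nat_lit 66), (nat_lit 1), (nat_lit 1)), ((nat_lit 13), (nat_lit 70), (nat_lit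 1), (nat_lit 1)), ((nat_lit 15), (nat_lit 84), (nat_lit 1), (nat_lit 1)), ((nat_lit 16), (nat_lit 88), (nat_lit 1), (nat_lit 1)), ((nat_lit 20), (nat_lit 92), (nat_lit 1), (nat_lit 1)), ((nat_lit 21), (nat_lit 93), (nat_lit 1), (nat_lit 1)), ((nat_lit 25), (nat_lit 97), (nat_lit 1), (nat_lit 1)), ((nat_lit 29), (nat_lit 98), (nat_lit 1), (nat_lit 1)), ((nat_lit 36), (nat_lit 114), (nat_lit 1), (nat_lit 1)), ((nat_lit 37), (nat_lit 117), (nat_lit 1), (nat_lit 1)), ((nat_lit 38), (nat_lit 119), (nat_lit 1), (nat_lit 1)), ((nat_lit 42), (nat_lit 126), (nat_lit 1), (nat_lit 1)), ((nat_lit 44), (nat_lit 127), (nat_lit 1), (nat_lit 1)), ((nat_lit 45), (nat_lit 128), (nat_lit 1), (nat_lit 1)), ((nat_lit 48), (nat_lit 131), (nat_lit 1), (nat_lit 1)), ((nat_lit 50), (nat_lit 132), (nat_lit 1), (nat_lit 1)), ((nat_lit 51), (nat_lit 133), (nat_lit 1), (nat_lit 1)), ((nat_lit 58), (nat_lit 137), (nat_lit 1), (nat_lit 1)), ((nat_lit 60), (nat_lit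 138), (nat_lit 1), (nat_lit 1)), ((nat_lit 61), (nat_lit 139), (nat_lit 1), (nat_lit 1)), ((nat_lit 72), (nat_lit 156), (nat_lit 1), (nat_lit 1)), ((nat_lit 73), (nat_lit 157), (nat_lit 1), (nat_lit 1)), ((nat_lit 74), (nat_lit 159), (nat_lit 1), (nat_lit 1)), ((nat_lit 80), (nat_lit 165), (nat_lit 1), (nat_lit 1)), ((nat_lit 82), (nat_lit 166), (nat_lit 1), (nat_lit 1)), ((nat_lit 83), (nat_lit 167), (nat_lit 1), (nat_lit 1)), ((nat_lit 100), (nat_lit 178), (nat_lit 1), (nat_lit 1)), ((nat_lit 101), (nat_lit 179), (nat_lit 1), (nat_lit 1)), ((nat_lit 102), (nat_lit 181), (nat_lit 1), (nat_lit 1)), ((nat_lit 106), (nat_lit 188), (nat_lit 1), (nat_lit 1)), ((nat_lit 107), (nat_lit 189), (nat_lit 1), (nat_lit 1)), ((nat_lit 108), (nat_lit 191), (nat_lit 1), (nat_lit 1)), ((nat_lit 111), (nat_lit 194), (nat_lit 1), (nat_lit 1)), ((nat_lit 112), (nat_lit 195), (nat_lit 1), (nat_lit 1)), ((nat_lit 113), (nat_lit 197), (nat_lit 1), (nat_lit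 1)), ((nat_lit 120), (nat_lit 201), (nat_lit 1), (nat_lit 1)), ((nat_lit 122), (nat_lit 202), (nat_lit 1), (nat_lit 1)), ((nat_lit 125), (nat_lit 203), (nat_lit 1), (nat_lit 1)), ((nat_lit 141), (nat_lit 210), (nat_lit 1), (nat_lit 1)), ((nat_lit 142), (nat_lit 214), (nat_lit 1), (nat_lit 1)), ((nat_lit 146), (nat_lit 218), (nat_lit 1), (nat_lit 1)), ((nat_lit 147), (nat_lit 219), (nat_lit 1), (nat_lit 1)), ((nat_lit 151), (nat_lit 223), (nat_lit 1), (nat_lit 1)), ((nat_lit 155), (nat_lit 224), (nat_lit 1), (nat_lit 1)), ((nat_lit 169), (nat_lit 226), (nat_lit 1), (nat_lit 1)), ((nat_lit 173), (nat_lit 230), (nat_lit 1), (nat_lit 1)), ((nat_lit 177), (nat_lit 231), (nat_lit 1), (nat_lit 1)), ((nat_lit 187), (nat_lit 232), (nat_lit 1), (nat_lit 1)), ((nat_lit 206), (nat_lit 236), (nat_lit 1), (nat_lit 1)), ((nat_lit 208), (nat_lit 237), (nat_lit 1), (nat_lit 1)), ((nat_lit 209), (nat_lit 238), (nat_lit 1), (nat_lit 1))]))) (.node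 (.node (.leaf [((nat_lit 28), (nat_lit 0), (nat_lit 1), (nat_lit 1)), ((nat_lit 29), (nat_lit 1), (nat_lit 1), (nat_lit 1)), ((nat_lit 35), (nat_lit 4), (nat_lit 1), (nat_lit 1)), ((nat_lit 51), (nat_lit 7), (nat_lit 1), (nat_lit 1)), ((nat_lit 61), (nat_lit 8), (nat_lit 1), (nat_lit 1)), ((nat_lit 68), (nat_lit 10), (nat_lit 1), (nat_lit 1)), ((nat_lit 69), (nat_lit 11), (nat_lit 1), (nat_lit 1)), ((nat_lit 83), (nat_lit 15), (nat_lit 1), (nat_lit 1)), ((nat_lit 90), (nat_lit 17), (nat_lit 1), (nat_lit 1)), ((nat_lit 91), (nat_lit 18), (nat_lit 1), (nat_lit 1)), ((nat_lit 95), (nat_lit 22), (nat_lit 1), (nat_lit 1)), ((nat_lit 96), (nat_lit 23), (nat_lit 1), (nat_lit 1)), ((nat_lit 98), (nat_lit 30), (nat_lit 1), (nat_lit 1)), ((nat_lit 112), (nat_lit 36), (nat_lit 1), (nat_lit 1)), ((nat_lit 113), (nat_lit 37), (nat_lit 1), (nat_lit 1)), ((nat_lit 121), (nat_lit 41), (nat_lit 1), (nat_lit 1)), ((nat_lit 122), (nat_lit 42), (nat_lit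 1), (nat_lit 1)), ((nat_lit 124), (nat_lit 43), (nat_lit 1), (nat_lit 1)), ((nat_lit 125), (nat_lit 44), (nat_lit 1), (nat_lit 1)), ((nat_lit 130), (nat_lit 46), (nat_lit 1), (nat_lit 1)), ((nat_lit 133), (nat_lit 52), (nat_lit 1), (nat_lit 1)), ((nat_lit 134), (nat_lit 53), (nat_lit 1), (nat_lit 1)), ((nat_lit 136), (nat_lit 56), (nat_lit 1), (nat_lit 1)), ((nat_lit 139), (nat_lit 62), (nat_lit 1), (nat_lit 1)), ((nat_lit 140), (nat_lit 63), (nat_lit 1), (nat_lit 1)), ((nat_lit 154), (nat_lit 71), (nat_lit 1), (nat_lit 1)), ((nat_lit 155), (nat_lit 72), (nat_lit 1), (nat_lit 1)), ((nat_lit 161), (nat_lit 75), (nat_lit 1), (nat_lit 1)), ((nat_lit 164), (nat_lit 78), (nat_lit 1), (nat_lit 1)), ((nat_lit 167), (nat_lit 84), (nat_lit 1), (nat_lit 1)), ((nat_lit 168), (nat_lit 85), (nat_lit 1), (nat_lit 1)), ((nat_lit 176), (nat_lit 99), (nat_lit 1), (nat_lit 1)), ((nat_lit 177), (nat_lit 100), (nat_lit 1), (nat_lit 1)), ((nat_lit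 183), (nat_lit 103), (nat_lit 1), (nat_lit 1)), ((nat_lit 186), (nat_lit 105), (nat_lit 1), (nat_lit 1)), ((nat_lit 187), (nat_lit 106), (nat_lit 1), (nat_lit 1)), ((nat_lit 193), (nat_lit 109), (nat_lit 1), (nat_lit 1)), ((nat_lit 195), (nat_lit 114), (nat_lit 1), (nat_lit 1)), ((nat_lit 196), (nat_lit 115), (nat_lit 1), (nat_lit 1)), ((nat_lit 197), (nat_lit 117), (nat_lit 1), (nat_lit 1)), ((nat_lit 198), (nat_lit 118), (nat_lit 1), (nat_lit 1)), ((nat_lit 202), (nat_lit 126), (nat_lit 1), (nat_lit 1)), ((nat_lit 203), (nat_lit 127), (nat_lit 1), (nat_lit 1)), ((nat_lit 209), (nat_lit 141), (nat_lit 1), (nat_lit 1)), ((nat_lit 216), (nat_lit 143), (nat_lit 1), (nat_lit 1)), ((nat_lit 217), (nat_lit 144), (nat_lit 1), (nat_lit 1)), ((nat_lit 221), (nat_lit 148), (nat_lit 1), (nat_lit 1)), ((nat_lit 222), (nat_lit 149), (nat_lit 1), (nat_lit 1)), ((nat_lit 224), (nat_lit 156), (nat_lit 1), (nat_lit 1)), ((nat_lit 228), (nat_lit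 170), (nat_lit 1), (nat_lit 1)), ((nat_lit 229), (nat_lit 171), (nat_lit 1), (nat_lit 1)), ((nat_lit 231), (nat_lit 178), (nat_lit 1), (nat_lit 1)), ((nat_lit 232), (nat_lit 188), (nat_lit 1), (nat_lit 1)), ((nat_lit 235), (nat_lit 204), (nat_lit 1), (nat_lit 1)), ((nat_lit 238), (nat_lit 210), (nat_lit 1), (nat_lit 1)), ((nat_lit 239), (nat_lit 211), (nat_lit 1), (nat_lit 1))]) (.leaf [((nat_lit 0), (nat_lit 14), (nat_lit 1), (nat_lit 1)), ((nat_lit 7), (nat_lit 20), (nat_lit 1), (nat_lit 1)), ((nat_lit 8), (nat_lit 25), (nat_lit 1), (nat_lit 1)), ((nat_lit 9), (nat_lit 29), (nat_lit 1), (nat_lit 1)), ((nat_lit 10), (nat_lit 32), (nat_lit 1), (nat_lit 1)), ((nat_lit 11), (nat_lit 34), (nat_lit 1), (nat_lit 1)), ((nat_lit 12), (nat_lit 35), (nat_lit 1), (nat_lit 1)), ((nat_lit 36), (nat_lit 80), (nat_lit 1), (nat_lit 1)), ((nat_lit 37), (nat_lit 82), (nat_lit 1), (nat_lit 1)), ((nat_lit 38), (nat_lit 83), (nat_lit 1), (nat_lit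 1)), ((nat_lit 40), (nat_lit 85), (nat_lit 1), (nat_lit 1)), ((nat_lit 41), (nat_lit 86), (nat_lit 1), (nat_lit 1)), ((nat_lit 43), (nat_lit 87), (nat_lit 1), (nat_lit 1)), ((nat_lit 46), (nat_lit 89), (nat_lit 1), (nat_lit 1)), ((nat_lit 47), (nat_lit 90), (nat_lit 1), (nat_lit 1)), ((nat_lit 49), (nat_lit 91), (nat_lit 1), (nat_lit 1)), ((nat_lit 52), (nat_lit 92), (nat_lit 1), (nat_lit 1)), ((nat_lit 56), (nat_lit 94), (nat_lit 1), (nat_lit 1)), ((nat_lit 57), (nat_lit 95), (nat_lit 1), (nat_lit 1)), ((nat_lit 59), (nat_lit 96), (nat_lit 1), (nat_lit 1)), ((nat_lit 62), (nat_lit 97), (nat_lit 1), (nat_lit 1)), ((nat_lit 66), (nat_lit 98), (nat_lit 1), (nat_lit 1)), ((nat_lit 72), (nat_lit 120), (nat_lit 1), (nat_lit 1)), ((nat_lit 73), (nat_lit 122), (nat_lit 1), (nat_lit 1)), ((nat_lit 74), (nat_lit 125), (nat_lit 1), (nat_lit 1)), ((nat_lit 75), (nat_lit 129), (nat_lit 1), (nat_lit 1)), ((nat_lit 76), (nat_lit 134), (nat_lit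 1), (nat_lit 1)), ((nat_lit 77), (nat_lit 140), (nat_lit 1), (nat_lit 1)), ((nat_lit 99), (nat_lit 162), (nat_lit 1), (nat_lit 1)), ((nat_lit 105), (nat_lit 163), (nat_lit 1), (nat_lit 1)), ((nat_lit 110), (nat_lit 164), (nat_lit 1), (nat_lit 1)), ((nat_lit 114), (nat_lit 165), (nat_lit 1), (nat_lit 1)), ((nat_lit 117), (nat_lit 166), (nat_lit 1), (nat_lit 1)), ((nat_lit 119), (nat_lit 167), (nat_lit 1), (nat_lit 1)), ((nat_lit 141), (nat_lit 173), (nat_lit 1), (nat_lit 1)), ((nat_lit 142), (nat_lit 177), (nat_lit 1), (nat_lit 1)), ((nat_lit 143), (nat_lit 180), (nat_lit 1), (nat_lit 1)), ((nat_lit 144), (nat_lit 182), (nat_lit 1), (nat_lit 1)), ((nat_lit 145), (nat_lit 183), (nat_lit 1), (nat_lit 1)), ((nat_lit 147), (nat_lit 187), (nat_lit 1), (nat_lit 1)), ((nat_lit 148), (nat_lit 190), (nat_lit 1), (nat_lit 1)), ((nat_lit 149), (nat_lit 192), (nat_lit 1), (nat_lit 1)), ((nat_lit 150), (nat_lit 193), (nat_lit 1), (nat_lit 1)),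 ((nat_lit 152), (nat_lit 196), (nat_lit 1), (nat_lit 1)), ((nat_lit 153), (nat_lit 198), (nat_lit 1), (nat_lit 1)), ((nat_lit 154), (nat_lit 199), (nat_lit 1), (nat_lit 1)), ((nat_lit 156), (nat_lit 201), (nat_lit 1), (nat_lit 1)), ((nat_lit 157), (nat_lit 202), (nat_lit 1), (nat_lit 1)), ((nat_lit 159), (nat_lit 203), (nat_lit 1), (nat_lit 1)), ((nat_lit 204), (nat_lit 227), (nat_lit 1), (nat_lit 1)), ((nat_lit 205), (nat_lit 228), (nat_lit 1), (nat_lit 1)), ((nat_lit 207), (nat_lit 229), (nat_lit 1), (nat_lit 1)), ((nat_lit 210), (nat_lit 230), (nat_lit 1), (nat_lit 1)), ((nat_lit 214), (nat_lit 231), (nat_lit 1), (nat_lit 1)), ((nat_lit 219), (nat_lit 232), (nat_lit 1), (nat_lit 1)), ((nat_lit 225), (nat_lit 239), (nat_lit 1), (nat_lit 1))])) (.node (.leaf [((nat_lit 6), (nat_lit 5), (nat_lit 1), (nat_lit 1)), ((nat_lit 8), (nat_lit 7), (nat_lit 1), (nat_lit 1)), ((nat_lit 21), (nat_lit 16), (nat_lit 1), (nat_lit 1)), ((nat_lit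 22), (nat_lit 17), (nat_lit 1), (nat_lit 1)), ((nat_lit 23), (nat_lit 18), (nat_lit 1), (nat_lit 1)), ((nat_lit 24), (nat_lit 19), (nat_lit 1), (nat_lit 1)), ((nat_lit 25), (nat_lit 20), (nat_lit 1), (nat_lit 1)), ((nat_lit 56), (nat_lit 46), (nat_lit 1), (nat_lit 1)), ((nat_lit 57), (nat_lit 47), (nat_lit 1), (nat_lit 1)), ((nat_lit 58), (nat_lit 48), (nat_lit 1), (nat_lit 1)), ((nat_lit 59), (nat_lit 49), (nat_lit 1), (nat_lit 1)), ((nat_lit 60), (nat_lit 50), (nat_lit 1), (nat_lit 1)), ((nat_lit 61), (nat_lit 51), (nat_lit 1), (nat_lit 1)), ((nat_lit 62), (nat_lit 52), (nat_lit 1), (nat_lit 1)), ((nat_lit 63), (nat_lit 53), (nat_lit 1), (nat_lit 1)), ((nat_lit 64), (nat_lit 54), (nat_lit 1), (nat_lit 1)), ((nat_lit 65), (nat_lit 55), (nat_lit 1), (nat_lit 1)), ((nat_lit 77), (nat_lit 76), (nat_lit 1), (nat_lit 1)), ((nat_lit 93), (nat_lit 88), (nat_lit 1), (nat_lit 1)), ((nat_lit 94), (nat_lit 89), (nat_lit 1), (nat_lit 1)),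 ((nat_lit 95), (nat_lit 90), (nat_lit 1), (nat_lit 1)), ((nat_lit 96), (nat_lit 91), (nat_lit 1), (nat_lit 1)), ((nat_lit 97), (nat_lit 92), (nat_lit 1), (nat_lit 1)), ((nat_lit 105), (nat_lit 99), (nat_lit 1), (nat_lit 1)), ((nat_lit 106), (nat_lit 100), (nat_lit 1), (nat_lit 1)), ((nat_lit 107), (nat_lit 101), (nat_lit 1), (nat_lit 1)), ((nat_lit 108), (nat_lit 102), (nat_lit 1), (nat_lit 1)), ((nat_lit 109), (nat_lit 103), (nat_lit 1), (nat_lit 1)), ((nat_lit 136), (nat_lit 130), (nat_lit 1), (nat_lit 1)), ((nat_lit 137), (nat_lit 131), (nat_lit 1), (nat_lit 1)), ((nat_lit 138), (nat_lit 132), (nat_lit 1), (nat_lit 1)), ((nat_lit 139), (nat_lit 133), (nat_lit 1), (nat_lit 1)), ((nat_lit 140), (nat_lit 134), (nat_lit 1), (nat_lit 1)), ((nat_lit 147), (nat_lit 142), (nat_lit 1), (nat_lit 1)), ((nat_lit 148), (nat_lit 143), (nat_lit 1), (nat_lit 1)), ((nat_lit 149), (nat_lit 144), (nat_lit 1), (nat_lit 1)), ((nat_lit 150), (nat_lit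 145), (nat_lit 1), (nat_lit 1)), ((nat_lit 151), (nat_lit 146), (nat_lit 1), (nat_lit 1)), ((nat_lit 163), (nat_lit 162), (nat_lit 1), (nat_lit 1)), ((nat_lit 184), (nat_lit 174), (nat_lit 1), (nat_lit 1)), ((nat_lit 185), (nat_lit 175), (nat_lit 1), (nat_lit 1)), ((nat_lit 186), (nat_lit 176), (nat_lit 1), (nat_lit 1)), ((nat_lit 187), (nat_lit 177), (nat_lit 1), (nat_lit 1)), ((nat_lit 188), (nat_lit 178), (nat_lit 1), (nat_lit 1)), ((nat_lit 189), (nat_lit 179), (nat_lit 1), (nat_lit 1)), ((nat_lit 190), (nat_lit 180), (nat_lit 1), (nat_lit 1)), ((nat_lit 191), (nat_lit 181), (nat_lit 1), (nat_lit 1)), ((nat_lit 192), (nat_lit 182), (nat_lit 1), (nat_lit 1)), ((nat_lit 193), (nat_lit 183), (nat_lit 1), (nat_lit 1)), ((nat_lit 219), (nat_lit 214), (nat_lit 1), (nat_lit 1)), ((nat_lit 220), (nat_lit 215), (nat_lit 1), (nat_lit 1)), ((nat_lit 221), (nat_lit 216), (nat_lit 1), (nat_lit 1)), ((nat_lit 222), (nat_lit 217), (nat_lit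 1), (nat_lit 1)), ((nat_lit 223), (nat_lit 218), (nat_lit 1), (nat_lit 1)), ((nat_lit 232), (nat_lit 231), (nat_lit 1), (nat_lit 1)), ((nat_lit 234), (nat_lit 233), (nat_lit 1), (nat_lit 1))]) (.leaf [((nat_lit 0), (nat_lit 93), (nat_lit 1), (nat_lit 1)), ((nat_lit 1), (nat_lit 94), (nat_lit 1), (nat_lit 1)), ((nat_lit 2), (nat_lit 95), (nat_lit 1), (nat_lit 1)), ((nat_lit 3), (nat_lit 96), (nat_lit 1), (nat_lit 1)), ((nat_lit 4), (nat_lit 97), (nat_lit 1), (nat_lit 1)), ((nat_lit 5), (nat_lit 98), (nat_lit 1), (nat_lit 1)), ((nat_lit 8), (nat_lit 135), (nat_lit 1), (nat_lit 1)), ((nat_lit 9), (nat_lit 136), (nat_lit 1), (nat_lit 1)), ((nat_lit 10), (nat_lit 137), (nat_lit 1), (nat_lit 1)), ((nat_lit 11), (nat_lit 138), (nat_lit 1), (nat_lit 1)), ((nat_lit 12), (nat_lit 139), (nat_lit 1), (nat_lit 1)), ((nat_lit 13), (nat_lit 140), (nat_lit 1), (nat_lit 1)), ((nat_lit 15), (nat_lit 163), (nat_lit 1), (nat_lit 1)), ((nat_lit 16),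 (nat_lit 164), (nat_lit 1), (nat_lit 1)), ((nat_lit 17), (nat_lit 165), (nat_lit 1), (nat_lit 1)), ((nat_lit 18), (nat_lit 166), (nat_lit 1), (nat_lit 1)), ((nat_lit 19), (nat_lit 167), (nat_lit 1), (nat_lit 1)), ((nat_lit 20), (nat_lit 168), (nat_lit 1), (nat_lit 1)), ((nat_lit 36), (nat_lit 184), (nat_lit 1), (nat_lit 1)), ((nat_lit 37), (nat_lit 185), (nat_lit 1), (nat_lit 1)), ((nat_lit 38), (nat_lit 186), (nat_lit 1), (nat_lit 1)), ((nat_lit 39), (nat_lit 187), (nat_lit 1), (nat_lit 1)), ((nat_lit 40), (nat_lit 188), (nat_lit 1), (nat_lit 1)), ((nat_lit 41), (nat_lit 189), (nat_lit 1), (nat_lit 1)), ((nat_lit 42), (nat_lit 190), (nat_lit 1), (nat_lit 1)), ((nat_lit 43), (nat_lit 191), (nat_lit 1), (nat_lit 1)), ((nat_lit 44), (nat_lit 192), (nat_lit 1), (nat_lit 1)), ((nat_lit 45), (nat_lit 193), (nat_lit 1), (nat_lit 1)), ((nat_lit 46), (nat_lit 194), (nat_lit 1), (nat_lit 1)), ((nat_lit 47), (nat_lit 195), (nat_lit 1), (nat_lit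 1)), ((nat_lit 48), (nat_lit 196), (nat_lit 1), (nat_lit 1)), ((nat_lit 49), (nat_lit 197), (nat_lit 1), (nat_lit 1)), ((nat_lit 50), (nat_lit 198), (nat_lit 1), (nat_lit 1)), ((nat_lit 51), (nat_lit 199), (nat_lit 1), (nat_lit 1)), ((nat_lit 52), (nat_lit 200), (nat_lit 1), (nat_lit 1)), ((nat_lit 53), (nat_lit 201), (nat_lit 1), (nat_lit 1)), ((nat_lit 54), (nat_lit 202), (nat_lit 1), (nat_lit 1)), ((nat_lit 55), (nat_lit 203), (nat_lit 1), (nat_lit 1)), ((nat_lit 71), (nat_lit 219), (nat_lit 1), (nat_lit 1)), ((nat_lit 72), (nat_lit 220), (nat_lit 1), (nat_lit 1)), ((nat_lit 73), (nat_lit 221), (nat_lit 1), (nat_lit 1)), ((nat_lit 74), (nat_lit 222), (nat_lit 1), (nat_lit 1)), ((nat_lit 75), (nat_lit 223), (nat_lit 1), (nat_lit 1)), ((nat_lit 76), (nat_lit 224), (nat_lit 1), (nat_lit 1)), ((nat_lit 99), (nat_lit 226), (nat_lit 1), (nat_lit 1)), ((nat_lit 100), (nat_lit 227), (nat_lit 1), (nat_lit 1)), ((nat_lit 101), (nat_lit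 228), (nat_lit 1), (nat_lit 1)), ((nat_lit 102), (nat_lit 229), (nat_lit 1), (nat_lit 1)), ((nat_lit 103), (nat_lit 230), (nat_lit 1), (nat_lit 1)), ((nat_lit 104), (nat_lit 231), (nat_lit 1), (nat_lit 1)), ((nat_lit 141), (nat_lit 234), (nat_lit 1), (nat_lit 1)), ((nat_lit 142), (nat_lit 235), (nat_lit 1), (nat_lit 1)), ((nat_lit 143), (nat_lit 236), (nat_lit 1), (nat_lit 1)), ((nat_lit 144), (nat_lit 237), (nat_lit 1), (nat_lit 1)), ((nat_lit 145), (nat_lit 238), (nat_lit 1), (nat_lit 1)), ((nat_lit 146), (nat_lit 239), (nat_lit 1), (nat_lit 1))])))) (.node (.node (.node (.leaf [((nat_lit 46), (nat_lit 0), (nat_lit 1), (nat_lit 1)), ((nat_lit 48), (nat_lit 2), (nat_lit 1), (nat_lit 1)), ((nat_lit 50), (nat_lit 3), (nat_lit 1), (nat_lit 1)), ((nat_lit 53), (nat_lit 4), (nat_lit 1), (nat_lit 1)), ((nat_lit 67), (nat_lit 6), (nat_lit 1), (nat_lit 1)), ((nat_lit 72), (nat_lit 8), (nat_lit 1), (nat_lit 1)), ((nat_lit 76), (nat_lit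 12), (nat_lit 1), (nat_lit 1)), ((nat_lit 89), (nat_lit 14), (nat_lit 1), (nat_lit 1)), ((nat_lit 100), (nat_lit 15), (nat_lit 1), (nat_lit 1)), ((nat_lit 104), (nat_lit 19), (nat_lit 1), (nat_lit 1)), ((nat_lit 111), (nat_lit 21), (nat_lit 1), (nat_lit 1)), ((nat_lit 115), (nat_lit 22), (nat_lit 1), (nat_lit 1)), ((nat_lit 118), (nat_lit 23), (nat_lit 1), (nat_lit 1)), ((nat_lit 120), (nat_lit 25), (nat_lit 1), (nat_lit 1)), ((nat_lit 130), (nat_lit 28), (nat_lit 1), (nat_lit 1)), ((nat_lit 131), (nat_lit 31), (nat_lit 1), (nat_lit 1)), ((nat_lit 132), (nat_lit 33), (nat_lit 1), (nat_lit 1)), ((nat_lit 134), (nat_lit 35), (nat_lit 1), (nat_lit 1)), ((nat_lit 142), (nat_lit 38), (nat_lit 1), (nat_lit 1)), ((nat_lit 143), (nat_lit 41), (nat_lit 1), (nat_lit 1)), ((nat_lit 144), (nat_lit 43), (nat_lit 1), (nat_lit 1)), ((nat_lit 146), (nat_lit 45), (nat_lit 1), (nat_lit 1)), ((nat_lit 152), (nat_lit 57), (nat_lit 1), (nat_lit 1)),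 ((nat_lit 153), (nat_lit 59), (nat_lit 1), (nat_lit 1)), ((nat_lit 155), (nat_lit 61), (nat_lit 1), (nat_lit 1)), ((nat_lit 156), (nat_lit 62), (nat_lit 1), (nat_lit 1)), ((nat_lit 158), (nat_lit 64), (nat_lit 1), (nat_lit 1)), ((nat_lit 160), (nat_lit 65), (nat_lit 1), (nat_lit 1)), ((nat_lit 174), (nat_lit 79), (nat_lit 1), (nat_lit 1)), ((nat_lit 175), (nat_lit 81), (nat_lit 1), (nat_lit 1)), ((nat_lit 177), (nat_lit 83), (nat_lit 1), (nat_lit 1)), ((nat_lit 178), (nat_lit 84), (nat_lit 1), (nat_lit 1)), ((nat_lit 180), (nat_lit 86), (nat_lit 1), (nat_lit 1)), ((nat_lit 182), (nat_lit 87), (nat_lit 1), (nat_lit 1)), ((nat_lit 194), (nat_lit 93), (nat_lit 1), (nat_lit 1)), ((nat_lit 196), (nat_lit 95), (nat_lit 1), (nat_lit 1)), ((nat_lit 198), (nat_lit 96), (nat_lit 1), (nat_lit 1)), ((nat_lit 201), (nat_lit 97), (nat_lit 1), (nat_lit 1)), ((nat_lit 204), (nat_lit 105), (nat_lit 1), (nat_lit 1)), ((nat_lit 206), (nat_lit 107),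 (nat_lit 1), (nat_lit 1)), ((nat_lit 208), (nat_lit 108), (nat_lit 1), (nat_lit 1)), ((nat_lit 211), (nat_lit 109), (nat_lit 1), (nat_lit 1)), ((nat_lit 214), (nat_lit 119), (nat_lit 1), (nat_lit 1)), ((nat_lit 216), (nat_lit 121), (nat_lit 1), (nat_lit 1)), ((nat_lit 217), (nat_lit 124), (nat_lit 1), (nat_lit 1)), ((nat_lit 218), (nat_lit 128), (nat_lit 1), (nat_lit 1)), ((nat_lit 220), (nat_lit 135), (nat_lit 1), (nat_lit 1)), ((nat_lit 224), (nat_lit 139), (nat_lit 1), (nat_lit 1)), ((nat_lit 225), (nat_lit 150), (nat_lit 1), (nat_lit 1)), ((nat_lit 227), (nat_lit 163), (nat_lit 1), (nat_lit 1)), ((nat_lit 231), (nat_lit 167), (nat_lit 1), (nat_lit 1)), ((nat_lit 233), (nat_lit 172), (nat_lit 1), (nat_lit 1)), ((nat_lit 235), (nat_lit 186), (nat_lit 1), (nat_lit 1)), ((nat_lit 236), (nat_lit 189), (nat_lit 1), (nat_lit 1)), ((nat_lit 237), (nat_lit 191), (nat_lit 1), (nat_lit 1)), ((nat_lit 239), (nat_lit 193), (nat_lit 1),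 (nat_lit 1))]) (.leaf [((nat_lit 3), (nat_lit 9), (nat_lit 1), (nat_lit 1)), ((nat_lit 4), (nat_lit 10), (nat_lit 1), (nat_lit 1)), ((nat_lit 14), (nat_lit 26), (nat_lit 1), (nat_lit 1)), ((nat_lit 15), (nat_lit 36), (nat_lit 1), (nat_lit 1)), ((nat_lit 18), (nat_lit 46), (nat_lit 1), (nat_lit 1)), ((nat_lit 19), (nat_lit 47), (nat_lit 1), (nat_lit 1)), ((nat_lit 20), (nat_lit 48), (nat_lit 1), (nat_lit 1)), ((nat_lit 23), (nat_lit 56), (nat_lit 1), (nat_lit 1)), ((nat_lit 24), (nat_lit 57), (nat_lit 1), (nat_lit 1)), ((nat_lit 25), (nat_lit 58), (nat_lit 1), (nat_lit 1)), ((nat_lit 33), (nat_lit 66), (nat_lit 1), (nat_lit 1)), ((nat_lit 34), (nat_lit 67), (nat_lit 1), (nat_lit 1)), ((nat_lit 35), (nat_lit 68), (nat_lit 1), (nat_lit 1)), ((nat_lit 43), (nat_lit 71), (nat_lit 1), (nat_lit 1)), ((nat_lit 44), (nat_lit 72), (nat_lit 1), (nat_lit 1)), ((nat_lit 45), (nat_lit 73), (nat_lit 1), (nat_lit 1)), ((nat_lit 55), (nat_lit 76),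 (nat_lit 1), (nat_lit 1)), ((nat_lit 65), (nat_lit 77), (nat_lit 1), (nat_lit 1)), ((nat_lit 81), (nat_lit 110), (nat_lit 1), (nat_lit 1)), ((nat_lit 82), (nat_lit 111), (nat_lit 1), (nat_lit 1)), ((nat_lit 83), (nat_lit 112), (nat_lit 1), (nat_lit 1)), ((nat_lit 84), (nat_lit 114), (nat_lit 1), (nat_lit 1)), ((nat_lit 85), (nat_lit 115), (nat_lit 1), (nat_lit 1)), ((nat_lit 86), (nat_lit 116), (nat_lit 1), (nat_lit 1)), ((nat_lit 91), (nat_lit 130), (nat_lit 1), (nat_lit 1)), ((nat_lit 92), (nat_lit 131), (nat_lit 1), (nat_lit 1)), ((nat_lit 96), (nat_lit 136), (nat_lit 1), (nat_lit 1)), ((nat_lit 97), (nat_lit 137), (nat_lit 1), (nat_lit 1)), ((nat_lit 102), (nat_lit 142), (nat_lit 1), (nat_lit 1)), ((nat_lit 103), (nat_lit 143), (nat_lit 1), (nat_lit 1)), ((nat_lit 108), (nat_lit 147), (nat_lit 1), (nat_lit 1)), ((nat_lit 109), (nat_lit 148), (nat_lit 1), (nat_lit 1)), ((nat_lit 123), (nat_lit 153), (nat_lit 1), (nat_lit 1)),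 ((nat_lit 124), (nat_lit 154), (nat_lit 1), (nat_lit 1)), ((nat_lit 125), (nat_lit 155), (nat_lit 1), (nat_lit 1)), ((nat_lit 127), (nat_lit 156), (nat_lit 1), (nat_lit 1)), ((nat_lit 128), (nat_lit 157), (nat_lit 1), (nat_lit 1)), ((nat_lit 129), (nat_lit 158), (nat_lit 1), (nat_lit 1)), ((nat_lit 162), (nat_lit 174), (nat_lit 1), (nat_lit 1)), ((nat_lit 163), (nat_lit 184), (nat_lit 1), (nat_lit 1)), ((nat_lit 166), (nat_lit 194), (nat_lit 1), (nat_lit 1)), ((nat_lit 167), (nat_lit 195), (nat_lit 1), (nat_lit 1)), ((nat_lit 168), (nat_lit 196), (nat_lit 1), (nat_lit 1)), ((nat_lit 171), (nat_lit 204), (nat_lit 1), (nat_lit 1)), ((nat_lit 172), (nat_lit 205), (nat_lit 1), (nat_lit 1)), ((nat_lit 173), (nat_lit 206), (nat_lit 1), (nat_lit 1)), ((nat_lit 181), (nat_lit 214), (nat_lit 1), (nat_lit 1)), ((nat_lit 182), (nat_lit 215), (nat_lit 1), (nat_lit 1)), ((nat_lit 183), (nat_lit 216), (nat_lit 1), (nat_lit 1)), ((nat_lit 191),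 (nat_lit 219), (nat_lit 1), (nat_lit 1)), ((nat_lit 192), (nat_lit 220), (nat_lit 1), (nat_lit 1)), ((nat_lit 193), (nat_lit 221), (nat_lit 1), (nat_lit 1)), ((nat_lit 203), (nat_lit 224), (nat_lit 1), (nat_lit 1)), ((nat_lit 213), (nat_lit 225), (nat_lit 1), (nat_lit 1)), ((nat_lit 229), (nat_lit 235), (nat_lit 1), (nat_lit 1)), ((nat_lit 230), (nat_lit 236), (nat_lit 1), (nat_lit 1))])) (.node (.leaf [((nat_lit 8), (nat_lit 0), (nat_lit 1), (nat_lit 1)), ((nat_lit 13), (nat_lit 5), (nat_lit 1), (nat_lit 1)), ((nat_lit 25), (nat_lit 14), (nat_lit 1), (nat_lit 1)), ((nat_lit 39), (nat_lit 16), (nat_lit 1), (nat_lit 1)), ((nat_lit 42), (nat_lit 17), (nat_lit 1), (nat_lit 1)), ((nat_lit 44), (nat_lit 18), (nat_lit 1), (nat_lit 1)), ((nat_lit 45), (nat_lit 19), (nat_lit 1), (nat_lit 1)), ((nat_lit 58), (nat_lit 26), (nat_lit 1), (nat_lit 1)), ((nat_lit 60), (nat_lit 27), (nat_lit 1), (nat_lit 1)), ((nat_lit 61), (nat_lit 28), (nat_lit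 1), (nat_lit 1)), ((nat_lit 63), (nat_lit 30), (nat_lit 1), (nat_lit 1)), ((nat_lit 64), (nat_lit 31), (nat_lit 1), (nat_lit 1)), ((nat_lit 65), (nat_lit 33), (nat_lit 1), (nat_lit 1)), ((nat_lit 72), (nat_lit 46), (nat_lit 1), (nat_lit 1)), ((nat_lit 73), (nat_lit 47), (nat_lit 1), (nat_lit 1)), ((nat_lit 74), (nat_lit 49), (nat_lit 1), (nat_lit 1)), ((nat_lit 75), (nat_lit 52), (nat_lit 1), (nat_lit 1)), ((nat_lit 77), (nat_lit 66), (nat_lit 1), (nat_lit 1)), ((nat_lit 106), (nat_lit 78), (nat_lit 1), (nat_lit 1)), ((nat_lit 107), (nat_lit 79), (nat_lit 1), (nat_lit 1)), ((nat_lit 108), (nat_lit 81), (nat_lit 1), (nat_lit 1)), ((nat_lit 109), (nat_lit 84), (nat_lit 1), (nat_lit 1)), ((nat_lit 120), (nat_lit 89), (nat_lit 1), (nat_lit 1)), ((nat_lit 122), (nat_lit 90), (nat_lit 1), (nat_lit 1)), ((nat_lit 125), (nat_lit 91), (nat_lit 1), (nat_lit 1)), ((nat_lit 129), (nat_lit 92), (nat_lit 1), (nat_lit 1)), ((nat_lit 135), (nat_lit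 93), (nat_lit 1), (nat_lit 1)), ((nat_lit 140), (nat_lit 98), (nat_lit 1), (nat_lit 1)), ((nat_lit 141), (nat_lit 99), (nat_lit 1), (nat_lit 1)), ((nat_lit 146), (nat_lit 104), (nat_lit 1), (nat_lit 1)), ((nat_lit 147), (nat_lit 110), (nat_lit 1), (nat_lit 1)), ((nat_lit 148), (nat_lit 114), (nat_lit 1), (nat_lit 1)), ((nat_lit 149), (nat_lit 117), (nat_lit 1), (nat_lit 1)), ((nat_lit 150), (nat_lit 119), (nat_lit 1), (nat_lit 1)), ((nat_lit 155), (nat_lit 130), (nat_lit 1), (nat_lit 1)), ((nat_lit 158), (nat_lit 131), (nat_lit 1), (nat_lit 1)), ((nat_lit 160), (nat_lit 132), (nat_lit 1), (nat_lit 1)), ((nat_lit 161), (nat_lit 133), (nat_lit 1), (nat_lit 1)), ((nat_lit 173), (nat_lit 162), (nat_lit 1), (nat_lit 1)), ((nat_lit 187), (nat_lit 164), (nat_lit 1), (nat_lit 1)), ((nat_lit 190), (nat_lit 165), (nat_lit 1), (nat_lit 1)), ((nat_lit 192), (nat_lit 166), (nat_lit 1), (nat_lit 1)), ((nat_lit 193), (nat_lit 167), (nat_lit 1),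 (nat_lit 1)), ((nat_lit 206), (nat_lit 174), (nat_lit 1), (nat_lit 1)), ((nat_lit 208), (nat_lit 175), (nat_lit 1), (nat_lit 1)), ((nat_lit 209), (nat_lit 176), (nat_lit 1), (nat_lit 1)), ((nat_lit 211), (nat_lit 178), (nat_lit 1), (nat_lit 1)), ((nat_lit 212), (nat_lit 179), (nat_lit 1), (nat_lit 1)), ((nat_lit 213), (nat_lit 181), (nat_lit 1), (nat_lit 1)), ((nat_lit 220), (nat_lit 194), (nat_lit 1), (nat_lit 1)), ((nat_lit 221), (nat_lit 195), (nat_lit 1), (nat_lit 1)), ((nat_lit 222), (nat_lit 197), (nat_lit 1), (nat_lit 1)), ((nat_lit 223), (nat_lit 200), (nat_lit 1), (nat_lit 1)), ((nat_lit 225), (nat_lit 214), (nat_lit 1), (nat_lit 1)), ((nat_lit 234), (nat_lit 226), (nat_lit 1), (nat_lit 1)), ((nat_lit 239), (nat_lit 231), (nat_lit 1), (nat_lit 1))]) (.leaf [((nat_lit 0), (nat_lit 47), (nat_lit 1), (nat_lit 1)), ((nat_lit 1), (nat_lit 48), (nat_lit 1), (nat_lit 1)), ((nat_lit 3), (nat_lit 51), (nat_lit 1), (nat_lit 1)),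 ((nat_lit 4), (nat_lit 54), (nat_lit 1), (nat_lit 1)), ((nat_lit 6), (nat_lit 68), (nat_lit 1), (nat_lit 1)), ((nat_lit 8), (nat_lit 73), (nat_lit 1), (nat_lit 1)), ((nat_lit 11), (nat_lit 76), (nat_lit 1), (nat_lit 1)), ((nat_lit 14), (nat_lit 90), (nat_lit 1), (nat_lit 1)), ((nat_lit 15), (nat_lit 101), (nat_lit 1), (nat_lit 1)), ((nat_lit 18), (nat_lit 104), (nat_lit 1), (nat_lit 1)), ((nat_lit 21), (nat_lit 112), (nat_lit 1), (nat_lit 1)), ((nat_lit 22), (nat_lit 116), (nat_lit 1), (nat_lit 1)), ((nat_lit 24), (nat_lit 121), (nat_lit 1), (nat_lit 1)), ((nat_lit 25), (nat_lit 122), (nat_lit 1), (nat_lit 1)), ((nat_lit 27), (nat_lit 130), (nat_lit 1), (nat_lit 1)), ((nat_lit 30), (nat_lit 131), (nat_lit 1), (nat_lit 1)), ((nat_lit 33), (nat_lit 133), (nat_lit 1), (nat_lit 1)), ((nat_lit 34), (nat_lit 134), (nat_lit 1), (nat_lit 1)), ((nat_lit 37), (nat_lit 142), (nat_lit 1), (nat_lit 1)), ((nat_lit 40), (nat_lit 143), (nat_lit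 1), (nat_lit 1)), ((nat_lit 43), (nat_lit 145), (nat_lit 1), (nat_lit 1)), ((nat_lit 44), (nat_lit 146), (nat_lit 1), (nat_lit 1)), ((nat_lit 56), (nat_lit 152), (nat_lit 1), (nat_lit 1)), ((nat_lit 59), (nat_lit 154), (nat_lit 1), (nat_lit 1)), ((nat_lit 60), (nat_lit 155), (nat_lit 1), (nat_lit 1)), ((nat_lit 62), (nat_lit 157), (nat_lit 1), (nat_lit 1)), ((nat_lit 63), (nat_lit 158), (nat_lit 1), (nat_lit 1)), ((nat_lit 65), (nat_lit 161), (nat_lit 1), (nat_lit 1)), ((nat_lit 78), (nat_lit 174), (nat_lit 1), (nat_lit 1)), ((nat_lit 81), (nat_lit 176), (nat_lit 1), (nat_lit 1)), ((nat_lit 82), (nat_lit 177), (nat_lit 1), (nat_lit 1)), ((nat_lit 84), (nat_lit 179), (nat_lit 1), (nat_lit 1)), ((nat_lit 85), (nat_lit 180), (nat_lit 1), (nat_lit 1)), ((nat_lit 87), (nat_lit 183), (nat_lit 1), (nat_lit 1)), ((nat_lit 93), (nat_lit 195), (nat_lit 1), (nat_lit 1)), ((nat_lit 94), (nat_lit 196), (nat_lit 1), (nat_lit 1)), ((nat_lit 96),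 (nat_lit 199), (nat_lit 1), (nat_lit 1)), ((nat_lit 97), (nat_lit 202), (nat_lit 1), (nat_lit 1)), ((nat_lit 105), (nat_lit 205), (nat_lit 1), (nat_lit 1)), ((nat_lit 106), (nat_lit 206), (nat_lit 1), (nat_lit 1)), ((nat_lit 108), (nat_lit 209), (nat_lit 1), (nat_lit 1)), ((nat_lit 109), (nat_lit 212), (nat_lit 1), (nat_lit 1)), ((nat_lit 117), (nat_lit 214), (nat_lit 1), (nat_lit 1)), ((nat_lit 118), (nat_lit 215), (nat_lit 1), (nat_lit 1)), ((nat_lit 123), (nat_lit 217), (nat_lit 1), (nat_lit 1)), ((nat_lit 127), (nat_lit 218), (nat_lit 1), (nat_lit 1)), ((nat_lit 135), (nat_lit 221), (nat_lit 1), (nat_lit 1)), ((nat_lit 138), (nat_lit 224), (nat_lit 1), (nat_lit 1)), ((nat_lit 149), (nat_lit 225), (nat_lit 1), (nat_lit 1)), ((nat_lit 163), (nat_lit 228), (nat_lit 1), (nat_lit 1)), ((nat_lit 166), (nat_lit 231), (nat_lit 1), (nat_lit 1)), ((nat_lit 171), (nat_lit 233), (nat_lit 1), (nat_lit 1)), ((nat_lit 185), (nat_lit 235),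 (nat_lit 1), (nat_lit 1)), ((nat_lit 188), (nat_lit 236), (nat_lit 1), (nat_lit 1)), ((nat_lit 191), (nat_lit 238), (nat_lit 1), (nat_lit 1)), ((nat_lit 192), (nat_lit 239), (nat_lit 1), (nat_lit 1))]))) (.node (.node (.leaf [((nat_lit 19), (nat_lit 0), (nat_lit 1), (nat_lit 1)), ((nat_lit 20), (nat_lit 1), (nat_lit 1), (nat_lit 1)), ((nat_lit 35), (nat_lit 6), (nat_lit 1), (nat_lit 1)), ((nat_lit 45), (nat_lit 8), (nat_lit 1), (nat_lit 1)), ((nat_lit 51), (nat_lit 9), (nat_lit 1), (nat_lit 1)), ((nat_lit 54), (nat_lit 10), (nat_lit 1), (nat_lit 1)), ((nat_lit 55), (nat_lit 11), (nat_lit 1), (nat_lit 1)), ((nat_lit 83), (nat_lit 21), (nat_lit 1), (nat_lit 1)), ((nat_lit 86), (nat_lit 22), (nat_lit 1), (nat_lit 1)), ((nat_lit 87), (nat_lit 23), (nat_lit 1), (nat_lit 1)), ((nat_lit 90), (nat_lit 26), (nat_lit 1), (nat_lit 1)), ((nat_lit 91), (nat_lit 27), (nat_lit 1), (nat_lit 1)), ((nat_lit 92), (nat_lit 30), (nat_lit 1), (nat_lit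 1)), ((nat_lit 101), (nat_lit 36), (nat_lit 1), (nat_lit 1)), ((nat_lit 102), (nat_lit 37), (nat_lit 1), (nat_lit 1)), ((nat_lit 103), (nat_lit 40), (nat_lit 1), (nat_lit 1)), ((nat_lit 104), (nat_lit 46), (nat_lit 1), (nat_lit 1)), ((nat_lit 121), (nat_lit 57), (nat_lit 1), (nat_lit 1)), ((nat_lit 122), (nat_lit 58), (nat_lit 1), (nat_lit 1)), ((nat_lit 124), (nat_lit 59), (nat_lit 1), (nat_lit 1)), ((nat_lit 125), (nat_lit 60), (nat_lit 1), (nat_lit 1)), ((nat_lit 128), (nat_lit 62), (nat_lit 1), (nat_lit 1)), ((nat_lit 129), (nat_lit 63), (nat_lit 1), (nat_lit 1)), ((nat_lit 133), (nat_lit 66), (nat_lit 1), (nat_lit 1)), ((nat_lit 134), (nat_lit 67), (nat_lit 1), (nat_lit 1)), ((nat_lit 145), (nat_lit 71), (nat_lit 1), (nat_lit 1)), ((nat_lit 146), (nat_lit 72), (nat_lit 1), (nat_lit 1)), ((nat_lit 161), (nat_lit 77), (nat_lit 1), (nat_lit 1)), ((nat_lit 162), (nat_lit 78), (nat_lit 1), (nat_lit 1)), ((nat_lit 167), (nat_lit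 93), (nat_lit 1), (nat_lit 1)), ((nat_lit 168), (nat_lit 94), (nat_lit 1), (nat_lit 1)), ((nat_lit 172), (nat_lit 105), (nat_lit 1), (nat_lit 1)), ((nat_lit 173), (nat_lit 106), (nat_lit 1), (nat_lit 1)), ((nat_lit 176), (nat_lit 110), (nat_lit 1), (nat_lit 1)), ((nat_lit 177), (nat_lit 111), (nat_lit 1), (nat_lit 1)), ((nat_lit 179), (nat_lit 114), (nat_lit 1), (nat_lit 1)), ((nat_lit 180), (nat_lit 115), (nat_lit 1), (nat_lit 1)), ((nat_lit 181), (nat_lit 117), (nat_lit 1), (nat_lit 1)), ((nat_lit 182), (nat_lit 118), (nat_lit 1), (nat_lit 1)), ((nat_lit 193), (nat_lit 135), (nat_lit 1), (nat_lit 1)), ((nat_lit 199), (nat_lit 136), (nat_lit 1), (nat_lit 1)), ((nat_lit 202), (nat_lit 137), (nat_lit 1), (nat_lit 1)), ((nat_lit 203), (nat_lit 138), (nat_lit 1), (nat_lit 1)), ((nat_lit 209), (nat_lit 147), (nat_lit 1), (nat_lit 1)), ((nat_lit 212), (nat_lit 148), (nat_lit 1), (nat_lit 1)), ((nat_lit 213), (nat_lit 149), (nat_lit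 1), (nat_lit 1)), ((nat_lit 216), (nat_lit 152), (nat_lit 1), (nat_lit 1)), ((nat_lit 217), (nat_lit 153), (nat_lit 1), (nat_lit 1)), ((nat_lit 218), (nat_lit 156), (nat_lit 1), (nat_lit 1)), ((nat_lit 228), (nat_lit 184), (nat_lit 1), (nat_lit 1)), ((nat_lit 229), (nat_lit 185), (nat_lit 1), (nat_lit 1)), ((nat_lit 230), (nat_lit 188), (nat_lit 1), (nat_lit 1)), ((nat_lit 231), (nat_lit 194), (nat_lit 1), (nat_lit 1)), ((nat_lit 233), (nat_lit 204), (nat_lit 1), (nat_lit 1)), ((nat_lit 238), (nat_lit 219), (nat_lit 1), (nat_lit 1)), ((nat_lit 239), (nat_lit 220), (nat_lit 1), (nat_lit 1))]) (.leaf [((nat_lit 3), (nat_lit 21), (nat_lit 1), (nat_lit 1)), ((nat_lit 4), (nat_lit 22), (nat_lit 1), (nat_lit 1)), ((nat_lit 5), (nat_lit 26), (nat_lit 1), (nat_lit 1)), ((nat_lit 7), (nat_lit 36), (nat_lit 1), (nat_lit 1)), ((nat_lit 11), (nat_lit 56), (nat_lit 1), (nat_lit 1)), ((nat_lit 12), (nat_lit 57), (nat_lit 1), (nat_lit 1)), ((nat_lit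 13), (nat_lit 58), (nat_lit 1), (nat_lit 1)), ((nat_lit 18), (nat_lit 78), (nat_lit 1), (nat_lit 1)), ((nat_lit 19), (nat_lit 79), (nat_lit 1), (nat_lit 1)), ((nat_lit 20), (nat_lit 80), (nat_lit 1), (nat_lit 1)), ((nat_lit 33), (nat_lit 93), (nat_lit 1), (nat_lit 1)), ((nat_lit 34), (nat_lit 94), (nat_lit 1), (nat_lit 1)), ((nat_lit 35), (nat_lit 95), (nat_lit 1), (nat_lit 1)), ((nat_lit 43), (nat_lit 105), (nat_lit 1), (nat_lit 1)), ((nat_lit 44), (nat_lit 106), (nat_lit 1), (nat_lit 1)), ((nat_lit 45), (nat_lit 107), (nat_lit 1), (nat_lit 1)), ((nat_lit 49), (nat_lit 110), (nat_lit 1), (nat_lit 1)), ((nat_lit 50), (nat_lit 111), (nat_lit 1), (nat_lit 1)), ((nat_lit 51), (nat_lit 112), (nat_lit 1), (nat_lit 1)), ((nat_lit 52), (nat_lit 114), (nat_lit 1), (nat_lit 1)), ((nat_lit 53), (nat_lit 115), (nat_lit 1), (nat_lit 1)), ((nat_lit 54), (nat_lit 116), (nat_lit 1), (nat_lit 1)), ((nat_lit 65), (nat_lit 135), (nat_lit 1), (nat_lit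 1)), ((nat_lit 69), (nat_lit 136), (nat_lit 1), (nat_lit 1)), ((nat_lit 70), (nat_lit 137), (nat_lit 1), (nat_lit 1)), ((nat_lit 74), (nat_lit 147), (nat_lit 1), (nat_lit 1)), ((nat_lit 75), (nat_lit 148), (nat_lit 1), (nat_lit 1)), ((nat_lit 76), (nat_lit 152), (nat_lit 1), (nat_lit 1)), ((nat_lit 87), (nat_lit 163), (nat_lit 1), (nat_lit 1)), ((nat_lit 91), (nat_lit 164), (nat_lit 1), (nat_lit 1)), ((nat_lit 92), (nat_lit 165), (nat_lit 1), (nat_lit 1)), ((nat_lit 102), (nat_lit 169), (nat_lit 1), (nat_lit 1)), ((nat_lit 103), (nat_lit 170), (nat_lit 1), (nat_lit 1)), ((nat_lit 104), (nat_lit 174), (nat_lit 1), (nat_lit 1)), ((nat_lit 123), (nat_lit 185), (nat_lit 1), (nat_lit 1)), ((nat_lit 124), (nat_lit 186), (nat_lit 1), (nat_lit 1)), ((nat_lit 125), (nat_lit 187), (nat_lit 1), (nat_lit 1)), ((nat_lit 127), (nat_lit 188), (nat_lit 1), (nat_lit 1)), ((nat_lit 128), (nat_lit 189), (nat_lit 1), (nat_lit 1)), ((nat_lit 129),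 (nat_lit 190), (nat_lit 1), (nat_lit 1)), ((nat_lit 132), (nat_lit 194), (nat_lit 1), (nat_lit 1)), ((nat_lit 133), (nat_lit 195), (nat_lit 1), (nat_lit 1)), ((nat_lit 134), (nat_lit 196), (nat_lit 1), (nat_lit 1)), ((nat_lit 144), (nat_lit 204), (nat_lit 1), (nat_lit 1)), ((nat_lit 145), (nat_lit 205), (nat_lit 1), (nat_lit 1)), ((nat_lit 146), (nat_lit 206), (nat_lit 1), (nat_lit 1)), ((nat_lit 159), (nat_lit 219), (nat_lit 1), (nat_lit 1)), ((nat_lit 160), (nat_lit 220), (nat_lit 1), (nat_lit 1)), ((nat_lit 161), (nat_lit 221), (nat_lit 1), (nat_lit 1)), ((nat_lit 181), (nat_lit 226), (nat_lit 1), (nat_lit 1)), ((nat_lit 182), (nat_lit 227), (nat_lit 1), (nat_lit 1)), ((nat_lit 183), (nat_lit 228), (nat_lit 1), (nat_lit 1)), ((nat_lit 203), (nat_lit 232), (nat_lit 1), (nat_lit 1)), ((nat_lit 213), (nat_lit 234), (nat_lit 1), (nat_lit 1)), ((nat_lit 217), (nat_lit 235), (nat_lit 1), (nat_lit 1)), ((nat_lit 218), (nat_lit 236),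 (nat_lit 1), (nat_lit 1))])) (.leaf [((nat_lit 0), (nat_lit 1), (nat_lit 1), (nat_lit 1)), ((nat_lit 12), (nat_lit 13), (nat_lit 1), (nat_lit 1)), ((nat_lit 19), (nat_lit 20), (nat_lit 1), (nat_lit 1)), ((nat_lit 24), (nat_lit 25), (nat_lit 1), (nat_lit 1)), ((nat_lit 28), (nat_lit 29), (nat_lit 1), (nat_lit 1)), ((nat_lit 31), (nat_lit 32), (nat_lit 1), (nat_lit 1)), ((nat_lit 33), (nat_lit 34), (nat_lit 1), (nat_lit 1)), ((nat_lit 38), (nat_lit 39), (nat_lit 1), (nat_lit 1)), ((nat_lit 41), (nat_lit 42), (nat_lit 1), (nat_lit 1)), ((nat_lit 43), (nat_lit 44), (nat_lit 1), (nat_lit 1)), ((nat_lit 47), (nat_lit 48), (nat_lit 1), (nat_lit 1)), ((nat_lit 49), (nat_lit 50), (nat_lit 1), (nat_lit 1)), ((nat_lit 52), (nat_lit 53), (nat_lit 1), (nat_lit 1)), ((nat_lit 57), (nat_lit 58), (nat_lit 1), (nat_lit 1)), ((nat_lit 59), (nat_lit 60), (nat_lit 1), (nat_lit 1)), ((nat_lit 62), (nat_lit 63), (nat_lit 1), (nat_lit 1)), ((nat_lit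 66), (nat_lit 67), (nat_lit 1), (nat_lit 1)), ((nat_lit 71), (nat_lit 72), (nat_lit 1), (nat_lit 1)), ((nat_lit 79), (nat_lit 80), (nat_lit 1), (nat_lit 1)), ((nat_lit 81), (nat_lit 82), (nat_lit 1), (nat_lit 1)), ((nat_lit 84), (nat_lit 85), (nat_lit 1), (nat_lit 1)), ((nat_lit 88), (nat_lit 89), (nat_lit 1), (nat_lit 1)), ((nat_lit 93), (nat_lit 94), (nat_lit 1), (nat_lit 1)), ((nat_lit 99), (nat_lit 100), (nat_lit 1), (nat_lit 1)), ((nat_lit 105), (nat_lit 106), (nat_lit 1), (nat_lit 1)), ((nat_lit 110), (nat_lit 111), (nat_lit 1), (nat_lit 1)), ((nat_lit 114), (nat_lit 115), (nat_lit 1), (nat_lit 1)), ((nat_lit 117), (nat_lit 118), (nat_lit 1), (nat_lit 1)), ((nat_lit 121), (nat_lit 122), (nat_lit 1), (nat_lit 1)), ((nat_lit 124), (nat_lit 125), (nat_lit 1), (nat_lit 1)), ((nat_lit 128), (nat_lit 129), (nat_lit 1), (nat_lit 1)), ((nat_lit 133), (nat_lit 134), (nat_lit 1), (nat_lit 1)), ((nat_lit 139), (nat_lit 140), (nat_lit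 1), (nat_lit 1)), ((nat_lit 145), (nat_lit 146), (nat_lit 1), (nat_lit 1)), ((nat_lit 150), (nat_lit 151), (nat_lit 1), (nat_lit 1)), ((nat_lit 154), (nat_lit 155), (nat_lit 1), (nat_lit 1)), ((nat_lit 157), (nat_lit 158), (nat_lit 1), (nat_lit 1)), ((nat_lit 159), (nat_lit 160), (nat_lit 1), (nat_lit 1)), ((nat_lit 167), (nat_lit 168), (nat_lit 1), (nat_lit 1)), ((nat_lit 172), (nat_lit 173), (nat_lit 1), (nat_lit 1)), ((nat_lit 176), (nat_lit 177), (nat_lit 1), (nat_lit 1)), ((nat_lit 179), (nat_lit 180), (nat_lit 1), (nat_lit 1)), ((nat_lit 181), (nat_lit 182), (nat_lit 1), (nat_lit 1)), ((nat_lit 186), (nat_lit 187), (nat_lit 1), (nat_lit 1)), ((nat_lit 189), (nat_lit 190), (nat_lit 1), (nat_lit 1)), ((nat_lit 191), (nat_lit 192), (nat_lit 1), (nat_lit 1)), ((nat_lit 195), (nat_lit 196), (nat_lit 1), (nat_lit 1)), ((nat_lit 197), (nat_lit 198), (nat_lit 1), (nat_lit 1)), ((nat_lit 200), (nat_lit 201), (nat_lit 1), (nat_lit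 1)), ((nat_lit 205), (nat_lit 206), (nat_lit 1), (nat_lit 1)), ((nat_lit 207), (nat_lit 208), (nat_lit 1), (nat_lit 1)), ((nat_lit 210), (nat_lit 211), (nat_lit 1), (nat_lit 1)), ((nat_lit 214), (nat_lit 215), (nat_lit 1), (nat_lit 1)), ((nat_lit 219), (nat_lit 220), (nat_lit 1), (nat_lit 1)), ((nat_lit 226), (nat_lit 227), (nat_lit 1), (nat_lit 1)), ((nat_lit 238), (nat_lit 239), (nat_lit 1), (nat_lit 1))])))

def rows2 : Tr (List Entry) :=
  .node (.node (.node (.node (.leaf [((nat_lit 110), (nat_lit 0), (nat_lit 1), (nat_lit 1)), ((nat_lit 111), (nat_lit 1), (nat_lit 1), (nat_lit 1)), ((nat_lit 112), (nat_lit 2), (nat_lit 1), (nat_lit 1)), ((nat_lit 113), (nat_lit 3), (nat_lit 1), (nat_lit 1)), ((nat_lit 130), (nat_lit 5), (nat_lit 1), (nat_lit 1)), ((nat_lit 136), (nat_lit 6), (nat_lit 1), (nat_lit 1)), ((nat_lit 142), (nat_lit 7), (nat_lit 1), (nat_lit 1)), ((nat_lit 147), (nat_lit 8), (nat_lit 1), (nat_lit 1)), ((nat_lit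 152), (nat_lit 10), (nat_lit 1), (nat_lit 1)), ((nat_lit 153), (nat_lit 11), (nat_lit 1), (nat_lit 1)), ((nat_lit 154), (nat_lit 12), (nat_lit 1), (nat_lit 1)), ((nat_lit 155), (nat_lit 13), (nat_lit 1), (nat_lit 1)), ((nat_lit 164), (nat_lit 14), (nat_lit 1), (nat_lit 1)), ((nat_lit 169), (nat_lit 15), (nat_lit 1), (nat_lit 1)), ((nat_lit 174), (nat_lit 17), (nat_lit 1), (nat_lit 1)), ((nat_lit 175), (nat_lit 18), (nat_lit 1), (nat_lit 1)), ((nat_lit 176), (nat_lit 19), (nat_lit 1), (nat_lit 1)), ((nat_lit 177), (nat_lit 20), (nat_lit 1), (nat_lit 1)), ((nat_lit 184), (nat_lit 22), (nat_lit 1), (nat_lit 1)), ((nat_lit 185), (nat_lit 23), (nat_lit 1), (nat_lit 1)), ((nat_lit 186), (nat_lit 24), (nat_lit 1), (nat_lit 1)), ((nat_lit 187), (nat_lit 25), (nat_lit 1), (nat_lit 1)), ((nat_lit 194), (nat_lit 30), (nat_lit 1), (nat_lit 1)), ((nat_lit 195), (nat_lit 31), (nat_lit 1), (nat_lit 1)), ((nat_lit 196), (nat_lit 32), (nat_lit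 1), (nat_lit 1)), ((nat_lit 197), (nat_lit 33), (nat_lit 1), (nat_lit 1)), ((nat_lit 198), (nat_lit 34), (nat_lit 1), (nat_lit 1)), ((nat_lit 199), (nat_lit 35), (nat_lit 1), (nat_lit 1)), ((nat_lit 204), (nat_lit 40), (nat_lit 1), (nat_lit 1)), ((nat_lit 205), (nat_lit 41), (nat_lit 1), (nat_lit 1)), ((nat_lit 206), (nat_lit 42), (nat_lit 1), (nat_lit 1)), ((nat_lit 207), (nat_lit 43), (nat_lit 1), (nat_lit 1)), ((nat_lit 208), (nat_lit 44), (nat_lit 1), (nat_lit 1)), ((nat_lit 209), (nat_lit 45), (nat_lit 1), (nat_lit 1)), ((nat_lit 214), (nat_lit 52), (nat_lit 1), (nat_lit 1)), ((nat_lit 215), (nat_lit 53), (nat_lit 1), (nat_lit 1)), ((nat_lit 216), (nat_lit 54), (nat_lit 1), (nat_lit 1)), ((nat_lit 217), (nat_lit 55), (nat_lit 1), (nat_lit 1)), ((nat_lit 219), (nat_lit 62), (nat_lit 1), (nat_lit 1)), ((nat_lit 220), (nat_lit 63), (nat_lit 1), (nat_lit 1)), ((nat_lit 221), (nat_lit 64), (nat_lit 1), (nat_lit 1)), ((nat_lit 222),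 (nat_lit 65), (nat_lit 1), (nat_lit 1)), ((nat_lit 224), (nat_lit 70), (nat_lit 1), (nat_lit 1)), ((nat_lit 225), (nat_lit 75), (nat_lit 1), (nat_lit 1)), ((nat_lit 226), (nat_lit 84), (nat_lit 1), (nat_lit 1)), ((nat_lit 227), (nat_lit 85), (nat_lit 1), (nat_lit 1)), ((nat_lit 228), (nat_lit 86), (nat_lit 1), (nat_lit 1)), ((nat_lit 229), (nat_lit 87), (nat_lit 1), (nat_lit 1)), ((nat_lit 231), (nat_lit 92), (nat_lit 1), (nat_lit 1)), ((nat_lit 232), (nat_lit 97), (nat_lit 1), (nat_lit 1)), ((nat_lit 233), (nat_lit 103), (nat_lit 1), (nat_lit 1)), ((nat_lit 234), (nat_lit 109), (nat_lit 1), (nat_lit 1)), ((nat_lit 236), (nat_lit 126), (nat_lit 1), (nat_lit 1)), ((nat_lit 237), (nat_lit 127), (nat_lit 1), (nat_lit 1)), ((nat_lit 238), (nat_lit 128), (nat_lit 1), (nat_lit 1)), ((nat_lit 239), (nat_lit 129), (nat_lit 1), (nat_lit 1))]) (.leaf [((nat_lit 2), (nat_lit 5), (nat_lit 1), (nat_lit 1)), ((nat_lit 8), (nat_lit 11), (nat_lit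 1), (nat_lit 1)), ((nat_lit 15), (nat_lit 18), (nat_lit 1), (nat_lit 1)), ((nat_lit 21), (nat_lit 27), (nat_lit 1), (nat_lit 1)), ((nat_lit 22), (nat_lit 30), (nat_lit 1), (nat_lit 1)), ((nat_lit 24), (nat_lit 33), (nat_lit 1), (nat_lit 1)), ((nat_lit 25), (nat_lit 34), (nat_lit 1), (nat_lit 1)), ((nat_lit 36), (nat_lit 46), (nat_lit 1), (nat_lit 1)), ((nat_lit 38), (nat_lit 49), (nat_lit 1), (nat_lit 1)), ((nat_lit 39), (nat_lit 50), (nat_lit 1), (nat_lit 1)), ((nat_lit 41), (nat_lit 52), (nat_lit 1), (nat_lit 1)), ((nat_lit 42), (nat_lit 53), (nat_lit 1), (nat_lit 1)), ((nat_lit 45), (nat_lit 55), (nat_lit 1), (nat_lit 1)), ((nat_lit 57), (nat_lit 66), (nat_lit 1), (nat_lit 1)), ((nat_lit 58), (nat_lit 67), (nat_lit 1), (nat_lit 1)), ((nat_lit 61), (nat_lit 69), (nat_lit 1), (nat_lit 1)), ((nat_lit 64), (nat_lit 70), (nat_lit 1), (nat_lit 1)), ((nat_lit 73), (nat_lit 76), (nat_lit 1), (nat_lit 1)), ((nat_lit 79), (nat_lit 88),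 (nat_lit 1), (nat_lit 1)), ((nat_lit 80), (nat_lit 89), (nat_lit 1), (nat_lit 1)), ((nat_lit 83), (nat_lit 91), (nat_lit 1), (nat_lit 1)), ((nat_lit 86), (nat_lit 92), (nat_lit 1), (nat_lit 1)), ((nat_lit 95), (nat_lit 98), (nat_lit 1), (nat_lit 1)), ((nat_lit 101), (nat_lit 104), (nat_lit 1), (nat_lit 1)), ((nat_lit 105), (nat_lit 117), (nat_lit 1), (nat_lit 1)), ((nat_lit 106), (nat_lit 118), (nat_lit 1), (nat_lit 1)), ((nat_lit 108), (nat_lit 123), (nat_lit 1), (nat_lit 1)), ((nat_lit 109), (nat_lit 127), (nat_lit 1), (nat_lit 1)), ((nat_lit 112), (nat_lit 130), (nat_lit 1), (nat_lit 1)), ((nat_lit 116), (nat_lit 131), (nat_lit 1), (nat_lit 1)), ((nat_lit 121), (nat_lit 133), (nat_lit 1), (nat_lit 1)), ((nat_lit 122), (nat_lit 134), (nat_lit 1), (nat_lit 1)), ((nat_lit 135), (nat_lit 138), (nat_lit 1), (nat_lit 1)), ((nat_lit 141), (nat_lit 144), (nat_lit 1), (nat_lit 1)), ((nat_lit 147), (nat_lit 153), (nat_lit 1), (nat_lit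 1)), ((nat_lit 148), (nat_lit 156), (nat_lit 1), (nat_lit 1)), ((nat_lit 150), (nat_lit 159), (nat_lit 1), (nat_lit 1)), ((nat_lit 151), (nat_lit 160), (nat_lit 1), (nat_lit 1)), ((nat_lit 163), (nat_lit 166), (nat_lit 1), (nat_lit 1)), ((nat_lit 169), (nat_lit 175), (nat_lit 1), (nat_lit 1)), ((nat_lit 170), (nat_lit 178), (nat_lit 1), (nat_lit 1)), ((nat_lit 172), (nat_lit 181), (nat_lit 1), (nat_lit 1)), ((nat_lit 173), (nat_lit 182), (nat_lit 1), (nat_lit 1)), ((nat_lit 184), (nat_lit 194), (nat_lit 1), (nat_lit 1)), ((nat_lit 186), (nat_lit 197), (nat_lit 1), (nat_lit 1)), ((nat_lit 187), (nat_lit 198), (nat_lit 1), (nat_lit 1)), ((nat_lit 189), (nat_lit 200), (nat_lit 1), (nat_lit 1)), ((nat_lit 190), (nat_lit 201), (nat_lit 1), (nat_lit 1)), ((nat_lit 193), (nat_lit 203), (nat_lit 1), (nat_lit 1)), ((nat_lit 205), (nat_lit 214), (nat_lit 1), (nat_lit 1)), ((nat_lit 206), (nat_lit 215), (nat_lit 1), (nat_lit 1)), ((nat_lit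 209), (nat_lit 217), (nat_lit 1), (nat_lit 1)), ((nat_lit 212), (nat_lit 218), (nat_lit 1), (nat_lit 1)), ((nat_lit 221), (nat_lit 224), (nat_lit 1), (nat_lit 1)), ((nat_lit 228), (nat_lit 231), (nat_lit 1), (nat_lit 1)), ((nat_lit 234), (nat_lit 237), (nat_lit 1), (nat_lit 1))])) (.node (.leaf [((nat_lit 15), (nat_lit 2), (nat_lit 1), (nat_lit 1)), ((nat_lit 18), (nat_lit 5), (nat_lit 1), (nat_lit 1)), ((nat_lit 23), (nat_lit 6), (nat_lit 1), (nat_lit 1)), ((nat_lit 37), (nat_lit 9), (nat_lit 1), (nat_lit 1)), ((nat_lit 40), (nat_lit 10), (nat_lit 1), (nat_lit 1)), ((nat_lit 43), (nat_lit 12), (nat_lit 1), (nat_lit 1)), ((nat_lit 44), (nat_lit 13), (nat_lit 1), (nat_lit 1)), ((nat_lit 78), (nat_lit 26), (nat_lit 1), (nat_lit 1)), ((nat_lit 81), (nat_lit 28), (nat_lit 1), (nat_lit 1)), ((nat_lit 82), (nat_lit 29), (nat_lit 1), (nat_lit 1)), ((nat_lit 84), (nat_lit 31), (nat_lit 1), (nat_lit 1)), ((nat_lit 85), (nat_lit 32), (nat_lit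 1), (nat_lit 1)), ((nat_lit 87), (nat_lit 35), (nat_lit 1), (nat_lit 1)), ((nat_lit 99), (nat_lit 47), (nat_lit 1), (nat_lit 1)), ((nat_lit 100), (nat_lit 48), (nat_lit 1), (nat_lit 1)), ((nat_lit 102), (nat_lit 51), (nat_lit 1), (nat_lit 1)), ((nat_lit 103), (nat_lit 54), (nat_lit 1), (nat_lit 1)), ((nat_lit 105), (nat_lit 57), (nat_lit 1), (nat_lit 1)), ((nat_lit 106), (nat_lit 58), (nat_lit 1), (nat_lit 1)), ((nat_lit 108), (nat_lit 61), (nat_lit 1), (nat_lit 1)), ((nat_lit 109), (nat_lit 64), (nat_lit 1), (nat_lit 1)), ((nat_lit 117), (nat_lit 66), (nat_lit 1), (nat_lit 1)), ((nat_lit 118), (nat_lit 67), (nat_lit 1), (nat_lit 1)), ((nat_lit 123), (nat_lit 69), (nat_lit 1), (nat_lit 1)), ((nat_lit 127), (nat_lit 70), (nat_lit 1), (nat_lit 1)), ((nat_lit 141), (nat_lit 73), (nat_lit 1), (nat_lit 1)), ((nat_lit 144), (nat_lit 76), (nat_lit 1), (nat_lit 1)), ((nat_lit 149), (nat_lit 77), (nat_lit 1), (nat_lit 1)), ((nat_lit 162),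 (nat_lit 90), (nat_lit 1), (nat_lit 1)), ((nat_lit 163), (nat_lit 95), (nat_lit 1), (nat_lit 1)), ((nat_lit 166), (nat_lit 98), (nat_lit 1), (nat_lit 1)), ((nat_lit 169), (nat_lit 112), (nat_lit 1), (nat_lit 1)), ((nat_lit 170), (nat_lit 116), (nat_lit 1), (nat_lit 1)), ((nat_lit 172), (nat_lit 121), (nat_lit 1), (nat_lit 1)), ((nat_lit 173), (nat_lit 122), (nat_lit 1), (nat_lit 1)), ((nat_lit 175), (nat_lit 130), (nat_lit 1), (nat_lit 1)), ((nat_lit 178), (nat_lit 131), (nat_lit 1), (nat_lit 1)), ((nat_lit 181), (nat_lit 133), (nat_lit 1), (nat_lit 1)), ((nat_lit 182), (nat_lit 134), (nat_lit 1), (nat_lit 1)), ((nat_lit 185), (nat_lit 136), (nat_lit 1), (nat_lit 1)), ((nat_lit 188), (nat_lit 137), (nat_lit 1), (nat_lit 1)), ((nat_lit 191), (nat_lit 139), (nat_lit 1), (nat_lit 1)), ((nat_lit 192), (nat_lit 140), (nat_lit 1), (nat_lit 1)), ((nat_lit 204), (nat_lit 152), (nat_lit 1), (nat_lit 1)), ((nat_lit 207), (nat_lit 154), (nat_lit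 1), (nat_lit 1)), ((nat_lit 208), (nat_lit 155), (nat_lit 1), (nat_lit 1)), ((nat_lit 210), (nat_lit 157), (nat_lit 1), (nat_lit 1)), ((nat_lit 211), (nat_lit 158), (nat_lit 1), (nat_lit 1)), ((nat_lit 213), (nat_lit 161), (nat_lit 1), (nat_lit 1)), ((nat_lit 226), (nat_lit 195), (nat_lit 1), (nat_lit 1)), ((nat_lit 227), (nat_lit 196), (nat_lit 1), (nat_lit 1)), ((nat_lit 229), (nat_lit 199), (nat_lit 1), (nat_lit 1)), ((nat_lit 230), (nat_lit 202), (nat_lit 1), (nat_lit 1)), ((nat_lit 233), (nat_lit 216), (nat_lit 1), (nat_lit 1)), ((nat_lit 234), (nat_lit 221), (nat_lit 1), (nat_lit 1)), ((nat_lit 237), (nat_lit 224), (nat_lit 1), (nat_lit 1))]) (.leaf [((nat_lit 0), (nat_lit 26), (nat_lit 1), (nat_lit 1)), ((nat_lit 3), (nat_lit 29), (nat_lit 1), (nat_lit 1)), ((nat_lit 4), (nat_lit 32), (nat_lit 1), (nat_lit 1)), ((nat_lit 7), (nat_lit 48), (nat_lit 1), (nat_lit 1)), ((nat_lit 8), (nat_lit 58), (nat_lit 1), (nat_lit 1)), ((nat_lit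 11), (nat_lit 67), (nat_lit 1), (nat_lit 1)), ((nat_lit 12), (nat_lit 68), (nat_lit 1), (nat_lit 1)), ((nat_lit 15), (nat_lit 80), (nat_lit 1), (nat_lit 1)), ((nat_lit 18), (nat_lit 89), (nat_lit 1), (nat_lit 1)), ((nat_lit 19), (nat_lit 90), (nat_lit 1), (nat_lit 1)), ((nat_lit 23), (nat_lit 94), (nat_lit 1), (nat_lit 1)), ((nat_lit 24), (nat_lit 95), (nat_lit 1), (nat_lit 1)), ((nat_lit 33), (nat_lit 98), (nat_lit 1), (nat_lit 1)), ((nat_lit 37), (nat_lit 111), (nat_lit 1), (nat_lit 1)), ((nat_lit 38), (nat_lit 112), (nat_lit 1), (nat_lit 1)), ((nat_lit 40), (nat_lit 115), (nat_lit 1), (nat_lit 1)), ((nat_lit 41), (nat_lit 116), (nat_lit 1), (nat_lit 1)), ((nat_lit 44), (nat_lit 120), (nat_lit 1), (nat_lit 1)), ((nat_lit 45), (nat_lit 122), (nat_lit 1), (nat_lit 1)), ((nat_lit 49), (nat_lit 130), (nat_lit 1), (nat_lit 1)), ((nat_lit 52), (nat_lit 131), (nat_lit 1), (nat_lit 1)), ((nat_lit 55), (nat_lit 134), (nat_lit 1), (nat_lit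 1)), ((nat_lit 59), (nat_lit 136), (nat_lit 1), (nat_lit 1)), ((nat_lit 62), (nat_lit 137), (nat_lit 1), (nat_lit 1)), ((nat_lit 65), (nat_lit 140), (nat_lit 1), (nat_lit 1)), ((nat_lit 71), (nat_lit 152), (nat_lit 1), (nat_lit 1)), ((nat_lit 74), (nat_lit 155), (nat_lit 1), (nat_lit 1)), ((nat_lit 75), (nat_lit 158), (nat_lit 1), (nat_lit 1)), ((nat_lit 81), (nat_lit 164), (nat_lit 1), (nat_lit 1)), ((nat_lit 84), (nat_lit 165), (nat_lit 1), (nat_lit 1)), ((nat_lit 87), (nat_lit 168), (nat_lit 1), (nat_lit 1)), ((nat_lit 99), (nat_lit 174), (nat_lit 1), (nat_lit 1)), ((nat_lit 102), (nat_lit 177), (nat_lit 1), (nat_lit 1)), ((nat_lit 103), (nat_lit 180), (nat_lit 1), (nat_lit 1)), ((nat_lit 105), (nat_lit 184), (nat_lit 1), (nat_lit 1)), ((nat_lit 108), (nat_lit 187), (nat_lit 1), (nat_lit 1)), ((nat_lit 109), (nat_lit 190), (nat_lit 1), (nat_lit 1)), ((nat_lit 117), (nat_lit 194), (nat_lit 1), (nat_lit 1)), ((nat_lit 119), (nat_lit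 195), (nat_lit 1), (nat_lit 1)), ((nat_lit 123), (nat_lit 198), (nat_lit 1), (nat_lit 1)), ((nat_lit 124), (nat_lit 199), (nat_lit 1), (nat_lit 1)), ((nat_lit 127), (nat_lit 201), (nat_lit 1), (nat_lit 1)), ((nat_lit 128), (nat_lit 202), (nat_lit 1), (nat_lit 1)), ((nat_lit 141), (nat_lit 206), (nat_lit 1), (nat_lit 1)), ((nat_lit 144), (nat_lit 215), (nat_lit 1), (nat_lit 1)), ((nat_lit 145), (nat_lit 216), (nat_lit 1), (nat_lit 1)), ((nat_lit 149), (nat_lit 220), (nat_lit 1), (nat_lit 1)), ((nat_lit 150), (nat_lit 221), (nat_lit 1), (nat_lit 1)), ((nat_lit 159), (nat_lit 224), (nat_lit 1), (nat_lit 1)), ((nat_lit 171), (nat_lit 227), (nat_lit 1), (nat_lit 1)), ((nat_lit 172), (nat_lit 228), (nat_lit 1), (nat_lit 1)), ((nat_lit 181), (nat_lit 231), (nat_lit 1), (nat_lit 1)), ((nat_lit 191), (nat_lit 232), (nat_lit 1), (nat_lit 1)), ((nat_lit 207), (nat_lit 235), (nat_lit 1), (nat_lit 1)), ((nat_lit 210), (nat_lit 236), (nat_lit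 1), (nat_lit 1)), ((nat_lit 213), (nat_lit 239), (nat_lit 1), (nat_lit 1))]))) (.node (.node (.leaf [((nat_lit 33), (nat_lit 0), (nat_lit 1), (nat_lit 1)), ((nat_lit 34), (nat_lit 1), (nat_lit 1), (nat_lit 1)), ((nat_lit 35), (nat_lit 2), (nat_lit 1), (nat_lit 1)), ((nat_lit 55), (nat_lit 7), (nat_lit 1), (nat_lit 1)), ((nat_lit 65), (nat_lit 8), (nat_lit 1), (nat_lit 1)), ((nat_lit 69), (nat_lit 9), (nat_lit 1), (nat_lit 1)), ((nat_lit 70), (nat_lit 10), (nat_lit 1), (nat_lit 1)), ((nat_lit 87), (nat_lit 15), (nat_lit 1), (nat_lit 1)), ((nat_lit 91), (nat_lit 16), (nat_lit 1), (nat_lit 1)), ((nat_lit 92), (nat_lit 17), (nat_lit 1), (nat_lit 1)), ((nat_lit 96), (nat_lit 21), (nat_lit 1), (nat_lit 1)), ((nat_lit 97), (nat_lit 22), (nat_lit 1), (nat_lit 1)), ((nat_lit 98), (nat_lit 26), (nat_lit 1), (nat_lit 1)), ((nat_lit 123), (nat_lit 37), (nat_lit 1), (nat_lit 1)), ((nat_lit 124), (nat_lit 38), (nat_lit 1), (nat_lit 1)), ((nat_lit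 125), (nat_lit 39), (nat_lit 1), (nat_lit 1)), ((nat_lit 127), (nat_lit 40), (nat_lit 1), (nat_lit 1)), ((nat_lit 128), (nat_lit 41), (nat_lit 1), (nat_lit 1)), ((nat_lit 129), (nat_lit 42), (nat_lit 1), (nat_lit 1)), ((nat_lit 132), (nat_lit 46), (nat_lit 1), (nat_lit 1)), ((nat_lit 133), (nat_lit 47), (nat_lit 1), (nat_lit 1)), ((nat_lit 134), (nat_lit 48), (nat_lit 1), (nat_lit 1)), ((nat_lit 138), (nat_lit 56), (nat_lit 1), (nat_lit 1)), ((nat_lit 139), (nat_lit 57), (nat_lit 1), (nat_lit 1)), ((nat_lit 140), (nat_lit 58), (nat_lit 1), (nat_lit 1)), ((nat_lit 159), (nat_lit 71), (nat_lit 1), (nat_lit 1)), ((nat_lit 160), (nat_lit 72), (nat_lit 1), (nat_lit 1)), ((nat_lit 161), (nat_lit 73), (nat_lit 1), (nat_lit 1)), ((nat_lit 166), (nat_lit 78), (nat_lit 1), (nat_lit 1)), ((nat_lit 167), (nat_lit 79), (nat_lit 1), (nat_lit 1)), ((nat_lit 168), (nat_lit 80), (nat_lit 1), (nat_lit 1)), ((nat_lit 181), (nat_lit 99), (nat_lit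 1), (nat_lit 1)), ((nat_lit 182), (nat_lit 100), (nat_lit 1), (nat_lit 1)), ((nat_lit 183), (nat_lit 101), (nat_lit 1), (nat_lit 1)), ((nat_lit 191), (nat_lit 105), (nat_lit 1), (nat_lit 1)), ((nat_lit 192), (nat_lit 106), (nat_lit 1), (nat_lit 1)), ((nat_lit 193), (nat_lit 107), (nat_lit 1), (nat_lit 1)), ((nat_lit 197), (nat_lit 110), (nat_lit 1), (nat_lit 1)), ((nat_lit 198), (nat_lit 111), (nat_lit 1), (nat_lit 1)), ((nat_lit 199), (nat_lit 112), (nat_lit 1), (nat_lit 1)), ((nat_lit 200), (nat_lit 114), (nat_lit 1), (nat_lit 1)), ((nat_lit 201), (nat_lit 115), (nat_lit 1), (nat_lit 1)), ((nat_lit 202), (nat_lit 116), (nat_lit 1), (nat_lit 1)), ((nat_lit 213), (nat_lit 141), (nat_lit 1), (nat_lit 1)), ((nat_lit 217), (nat_lit 142), (nat_lit 1), (nat_lit 1)), ((nat_lit 218), (nat_lit 143), (nat_lit 1), (nat_lit 1)), ((nat_lit 222), (nat_lit 147), (nat_lit 1), (nat_lit 1)), ((nat_lit 223), (nat_lit 148), (nat_lit 1), (nat_lit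 1)), ((nat_lit 224), (nat_lit 152), (nat_lit 1), (nat_lit 1)), ((nat_lit 229), (nat_lit 169), (nat_lit 1), (nat_lit 1)), ((nat_lit 230), (nat_lit 170), (nat_lit 1), (nat_lit 1)), ((nat_lit 231), (nat_lit 174), (nat_lit 1), (nat_lit 1)), ((nat_lit 232), (nat_lit 184), (nat_lit 1), (nat_lit 1)), ((nat_lit 237), (nat_lit 204), (nat_lit 1), (nat_lit 1)), ((nat_lit 238), (nat_lit 205), (nat_lit 1), (nat_lit 1)), ((nat_lit 239), (nat_lit 206), (nat_lit 1), (nat_lit 1))]) (.leaf [((nat_lit 4), (nat_lit 14), (nat_lit 1), (nat_lit 1)), ((nat_lit 7), (nat_lit 16), (nat_lit 1), (nat_lit 1)), ((nat_lit 8), (nat_lit 21), (nat_lit 1), (nat_lit 1)), ((nat_lit 10), (nat_lit 26), (nat_lit 1), (nat_lit 1)), ((nat_lit 11), (nat_lit 27), (nat_lit 1), (nat_lit 1)), ((nat_lit 12), (nat_lit 28), (nat_lit 1), (nat_lit 1)), ((nat_lit 13), (nat_lit 29), (nat_lit 1), (nat_lit 1)), ((nat_lit 40), (nat_lit 78), (nat_lit 1), (nat_lit 1)), ((nat_lit 41), (nat_lit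 79), (nat_lit 1), (nat_lit 1)), ((nat_lit 42), (nat_lit 80), (nat_lit 1), (nat_lit 1)), ((nat_lit 43), (nat_lit 81), (nat_lit 1), (nat_lit 1)), ((nat_lit 44), (nat_lit 82), (nat_lit 1), (nat_lit 1)), ((nat_lit 45), (nat_lit 83), (nat_lit 1), (nat_lit 1)), ((nat_lit 52), (nat_lit 88), (nat_lit 1), (nat_lit 1)), ((nat_lit 53), (nat_lit 89), (nat_lit 1), (nat_lit 1)), ((nat_lit 54), (nat_lit 90), (nat_lit 1), (nat_lit 1)), ((nat_lit 55), (nat_lit 91), (nat_lit 1), (nat_lit 1)), ((nat_lit 62), (nat_lit 93), (nat_lit 1), (nat_lit 1)), ((nat_lit 63), (nat_lit 94), (nat_lit 1), (nat_lit 1)), ((nat_lit 64), (nat_lit 95), (nat_lit 1), (nat_lit 1)), ((nat_lit 65), (nat_lit 96), (nat_lit 1), (nat_lit 1)), ((nat_lit 70), (nat_lit 98), (nat_lit 1), (nat_lit 1)), ((nat_lit 71), (nat_lit 110), (nat_lit 1), (nat_lit 1)), ((nat_lit 72), (nat_lit 111), (nat_lit 1), (nat_lit 1)), ((nat_lit 73), (nat_lit 112), (nat_lit 1), (nat_lit 1)), ((nat_lit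 74), (nat_lit 113), (nat_lit 1), (nat_lit 1)), ((nat_lit 76), (nat_lit 130), (nat_lit 1), (nat_lit 1)), ((nat_lit 77), (nat_lit 136), (nat_lit 1), (nat_lit 1)), ((nat_lit 103), (nat_lit 162), (nat_lit 1), (nat_lit 1)), ((nat_lit 109), (nat_lit 163), (nat_lit 1), (nat_lit 1)), ((nat_lit 126), (nat_lit 165), (nat_lit 1), (nat_lit 1)), ((nat_lit 127), (nat_lit 166), (nat_lit 1), (nat_lit 1)), ((nat_lit 128), (nat_lit 167), (nat_lit 1), (nat_lit 1)), ((nat_lit 129), (nat_lit 168), (nat_lit 1), (nat_lit 1)), ((nat_lit 141), (nat_lit 169), (nat_lit 1), (nat_lit 1)), ((nat_lit 143), (nat_lit 174), (nat_lit 1), (nat_lit 1)), ((nat_lit 144), (nat_lit 175), (nat_lit 1), (nat_lit 1)), ((nat_lit 145), (nat_lit 176), (nat_lit 1), (nat_lit 1)), ((nat_lit 146), (nat_lit 177), (nat_lit 1), (nat_lit 1)), ((nat_lit 148), (nat_lit 184), (nat_lit 1), (nat_lit 1)), ((nat_lit 149), (nat_lit 185), (nat_lit 1), (nat_lit 1)), ((nat_lit 150), (nat_lit 186),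 (nat_lit 1), (nat_lit 1)), ((nat_lit 151), (nat_lit 187), (nat_lit 1), (nat_lit 1)), ((nat_lit 156), (nat_lit 194), (nat_lit 1), (nat_lit 1)), ((nat_lit 157), (nat_lit 195), (nat_lit 1), (nat_lit 1)), ((nat_lit 158), (nat_lit 196), (nat_lit 1), (nat_lit 1)), ((nat_lit 159), (nat_lit 197), (nat_lit 1), (nat_lit 1)), ((nat_lit 160), (nat_lit 198), (nat_lit 1), (nat_lit 1)), ((nat_lit 161), (nat_lit 199), (nat_lit 1), (nat_lit 1)), ((nat_lit 210), (nat_lit 226), (nat_lit 1), (nat_lit 1)), ((nat_lit 211), (nat_lit 227), (nat_lit 1), (nat_lit 1)), ((nat_lit 212), (nat_lit 228), (nat_lit 1), (nat_lit 1)), ((nat_lit 213), (nat_lit 229), (nat_lit 1), (nat_lit 1)), ((nat_lit 218), (nat_lit 231), (nat_lit 1), (nat_lit 1)), ((nat_lit 223), (nat_lit 232), (nat_lit 1), (nat_lit 1)), ((nat_lit 225), (nat_lit 235), (nat_lit 1), (nat_lit 1))])) (.node (.leaf [((nat_lit 6), (nat_lit 1), (nat_lit 1), (nat_lit 1)), ((nat_lit 12), (nat_lit 7), (nat_lit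 1), (nat_lit 1)), ((nat_lit 24), (nat_lit 15), (nat_lit 1), (nat_lit 1)), ((nat_lit 28), (nat_lit 16), (nat_lit 1), (nat_lit 1)), ((nat_lit 31), (nat_lit 17), (nat_lit 1), (nat_lit 1)), ((nat_lit 33), (nat_lit 18), (nat_lit 1), (nat_lit 1)), ((nat_lit 35), (nat_lit 20), (nat_lit 1), (nat_lit 1)), ((nat_lit 57), (nat_lit 36), (nat_lit 1), (nat_lit 1)), ((nat_lit 59), (nat_lit 37), (nat_lit 1), (nat_lit 1)), ((nat_lit 61), (nat_lit 39), (nat_lit 1), (nat_lit 1)), ((nat_lit 62), (nat_lit 40), (nat_lit 1), (nat_lit 1)), ((nat_lit 64), (nat_lit 42), (nat_lit 1), (nat_lit 1)), ((nat_lit 65), (nat_lit 44), (nat_lit 1), (nat_lit 1)), ((nat_lit 66), (nat_lit 46), (nat_lit 1), (nat_lit 1)), ((nat_lit 68), (nat_lit 48), (nat_lit 1), (nat_lit 1)), ((nat_lit 69), (nat_lit 50), (nat_lit 1), (nat_lit 1)), ((nat_lit 70), (nat_lit 53), (nat_lit 1), (nat_lit 1)), ((nat_lit 77), (nat_lit 72), (nat_lit 1), (nat_lit 1)), ((nat_lit 93), (nat_lit 78),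 (nat_lit 1), (nat_lit 1)), ((nat_lit 95), (nat_lit 80), (nat_lit 1), (nat_lit 1)), ((nat_lit 96), (nat_lit 82), (nat_lit 1), (nat_lit 1)), ((nat_lit 97), (nat_lit 85), (nat_lit 1), (nat_lit 1)), ((nat_lit 98), (nat_lit 89), (nat_lit 1), (nat_lit 1)), ((nat_lit 119), (nat_lit 99), (nat_lit 1), (nat_lit 1)), ((nat_lit 121), (nat_lit 101), (nat_lit 1), (nat_lit 1)), ((nat_lit 124), (nat_lit 102), (nat_lit 1), (nat_lit 1)), ((nat_lit 128), (nat_lit 103), (nat_lit 1), (nat_lit 1)), ((nat_lit 133), (nat_lit 104), (nat_lit 1), (nat_lit 1)), ((nat_lit 135), (nat_lit 106), (nat_lit 1), (nat_lit 1)), ((nat_lit 136), (nat_lit 111), (nat_lit 1), (nat_lit 1)), ((nat_lit 137), (nat_lit 115), (nat_lit 1), (nat_lit 1)), ((nat_lit 138), (nat_lit 118), (nat_lit 1), (nat_lit 1)), ((nat_lit 140), (nat_lit 120), (nat_lit 1), (nat_lit 1)), ((nat_lit 150), (nat_lit 141), (nat_lit 1), (nat_lit 1)), ((nat_lit 154), (nat_lit 142), (nat_lit 1), (nat_lit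 1)), ((nat_lit 157), (nat_lit 143), (nat_lit 1), (nat_lit 1)), ((nat_lit 159), (nat_lit 144), (nat_lit 1), (nat_lit 1)), ((nat_lit 161), (nat_lit 146), (nat_lit 1), (nat_lit 1)), ((nat_lit 167), (nat_lit 162), (nat_lit 1), (nat_lit 1)), ((nat_lit 186), (nat_lit 169), (nat_lit 1), (nat_lit 1)), ((nat_lit 189), (nat_lit 170), (nat_lit 1), (nat_lit 1)), ((nat_lit 191), (nat_lit 171), (nat_lit 1), (nat_lit 1)), ((nat_lit 193), (nat_lit 173), (nat_lit 1), (nat_lit 1)), ((nat_lit 195), (nat_lit 174), (nat_lit 1), (nat_lit 1)), ((nat_lit 197), (nat_lit 175), (nat_lit 1), (nat_lit 1)), ((nat_lit 199), (nat_lit 177), (nat_lit 1), (nat_lit 1)), ((nat_lit 200), (nat_lit 178), (nat_lit 1), (nat_lit 1)), ((nat_lit 202), (nat_lit 180), (nat_lit 1), (nat_lit 1)), ((nat_lit 203), (nat_lit 182), (nat_lit 1), (nat_lit 1)), ((nat_lit 219), (nat_lit 204), (nat_lit 1), (nat_lit 1)), ((nat_lit 221), (nat_lit 206), (nat_lit 1), (nat_lit 1)), ((nat_lit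 222), (nat_lit 208), (nat_lit 1), (nat_lit 1)), ((nat_lit 223), (nat_lit 211), (nat_lit 1), (nat_lit 1)), ((nat_lit 224), (nat_lit 215), (nat_lit 1), (nat_lit 1)), ((nat_lit 232), (nat_lit 227), (nat_lit 1), (nat_lit 1)), ((nat_lit 238), (nat_lit 233), (nat_lit 1), (nat_lit 1))]) (.leaf [((nat_lit 0), (nat_lit 79), (nat_lit 1), (nat_lit 1)), ((nat_lit 1), (nat_lit 80), (nat_lit 1), (nat_lit 1)), ((nat_lit 3), (nat_lit 83), (nat_lit 1), (nat_lit 1)), ((nat_lit 4), (nat_lit 86), (nat_lit 1), (nat_lit 1)), ((nat_lit 5), (nat_lit 90), (nat_lit 1), (nat_lit 1)), ((nat_lit 6), (nat_lit 95), (nat_lit 1), (nat_lit 1)), ((nat_lit 7), (nat_lit 101), (nat_lit 1), (nat_lit 1)), ((nat_lit 8), (nat_lit 107), (nat_lit 1), (nat_lit 1)), ((nat_lit 9), (nat_lit 112), (nat_lit 1), (nat_lit 1)), ((nat_lit 10), (nat_lit 116), (nat_lit 1), (nat_lit 1)), ((nat_lit 12), (nat_lit 121), (nat_lit 1), (nat_lit 1)), ((nat_lit 13), (nat_lit 122), (nat_lit 1),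 (nat_lit 1)), ((nat_lit 18), (nat_lit 162), (nat_lit 1), (nat_lit 1)), ((nat_lit 23), (nat_lit 163), (nat_lit 1), (nat_lit 1)), ((nat_lit 27), (nat_lit 164), (nat_lit 1), (nat_lit 1)), ((nat_lit 30), (nat_lit 165), (nat_lit 1), (nat_lit 1)), ((nat_lit 33), (nat_lit 167), (nat_lit 1), (nat_lit 1)), ((nat_lit 34), (nat_lit 168), (nat_lit 1), (nat_lit 1)), ((nat_lit 37), (nat_lit 169), (nat_lit 1), (nat_lit 1)), ((nat_lit 40), (nat_lit 170), (nat_lit 1), (nat_lit 1)), ((nat_lit 43), (nat_lit 172), (nat_lit 1), (nat_lit 1)), ((nat_lit 44), (nat_lit 173), (nat_lit 1), (nat_lit 1)), ((nat_lit 46), (nat_lit 174), (nat_lit 1), (nat_lit 1)), ((nat_lit 49), (nat_lit 176), (nat_lit 1), (nat_lit 1)), ((nat_lit 50), (nat_lit 177), (nat_lit 1), (nat_lit 1)), ((nat_lit 52), (nat_lit 179), (nat_lit 1), (nat_lit 1)), ((nat_lit 53), (nat_lit 180), (nat_lit 1), (nat_lit 1)), ((nat_lit 55), (nat_lit 183), (nat_lit 1), (nat_lit 1)), ((nat_lit 56),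 (nat_lit 184), (nat_lit 1), (nat_lit 1)), ((nat_lit 59), (nat_lit 186), (nat_lit 1), (nat_lit 1)), ((nat_lit 60), (nat_lit 187), (nat_lit 1), (nat_lit 1)), ((nat_lit 62), (nat_lit 189), (nat_lit 1), (nat_lit 1)), ((nat_lit 63), (nat_lit 190), (nat_lit 1), (nat_lit 1)), ((nat_lit 65), (nat_lit 193), (nat_lit 1), (nat_lit 1)), ((nat_lit 66), (nat_lit 195), (nat_lit 1), (nat_lit 1)), ((nat_lit 67), (nat_lit 196), (nat_lit 1), (nat_lit 1)), ((nat_lit 69), (nat_lit 199), (nat_lit 1), (nat_lit 1)), ((nat_lit 70), (nat_lit 202), (nat_lit 1), (nat_lit 1)), ((nat_lit 71), (nat_lit 205), (nat_lit 1), (nat_lit 1)), ((nat_lit 72), (nat_lit 206), (nat_lit 1), (nat_lit 1)), ((nat_lit 74), (nat_lit 209), (nat_lit 1), (nat_lit 1)), ((nat_lit 75), (nat_lit 212), (nat_lit 1), (nat_lit 1)), ((nat_lit 76), (nat_lit 216), (nat_lit 1), (nat_lit 1)), ((nat_lit 77), (nat_lit 221), (nat_lit 1), (nat_lit 1)), ((nat_lit 117), (nat_lit 226), (nat_lit 1),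 (nat_lit 1)), ((nat_lit 118), (nat_lit 227), (nat_lit 1), (nat_lit 1)), ((nat_lit 123), (nat_lit 229), (nat_lit 1), (nat_lit 1)), ((nat_lit 127), (nat_lit 230), (nat_lit 1), (nat_lit 1)), ((nat_lit 132), (nat_lit 231), (nat_lit 1), (nat_lit 1)), ((nat_lit 138), (nat_lit 232), (nat_lit 1), (nat_lit 1)), ((nat_lit 144), (nat_lit 233), (nat_lit 1), (nat_lit 1)), ((nat_lit 149), (nat_lit 234), (nat_lit 1), (nat_lit 1)), ((nat_lit 153), (nat_lit 235), (nat_lit 1), (nat_lit 1)), ((nat_lit 156), (nat_lit 236), (nat_lit 1), (nat_lit 1)), ((nat_lit 159), (nat_lit 238), (nat_lit 1), (nat_lit 1)), ((nat_lit 160), (nat_lit 239), (nat_lit 1), (nat_lit 1))])))) (.node (.node (.node (.leaf [((nat_lit 56), (nat_lit 1), (nat_lit 1), (nat_lit 1)), ((nat_lit 57), (nat_lit 2), (nat_lit 1), (nat_lit 1)), ((nat_lit 59), (nat_lit 3), (nat_lit 1), (nat_lit 1)), ((nat_lit 62), (nat_lit 4), (nat_lit 1), (nat_lit 1)), ((nat_lit 66), (nat_lit 5), (nat_lit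 1), (nat_lit 1)), ((nat_lit 71), (nat_lit 7), (nat_lit 1), (nat_lit 1)), ((nat_lit 77), (nat_lit 13), (nat_lit 1), (nat_lit 1)), ((nat_lit 93), (nat_lit 14), (nat_lit 1), (nat_lit 1)), ((nat_lit 105), (nat_lit 15), (nat_lit 1), (nat_lit 1)), ((nat_lit 110), (nat_lit 16), (nat_lit 1), (nat_lit 1)), ((nat_lit 114), (nat_lit 17), (nat_lit 1), (nat_lit 1)), ((nat_lit 117), (nat_lit 18), (nat_lit 1), (nat_lit 1)), ((nat_lit 119), (nat_lit 19), (nat_lit 1), (nat_lit 1)), ((nat_lit 135), (nat_lit 25), (nat_lit 1), (nat_lit 1)), ((nat_lit 136), (nat_lit 29), (nat_lit 1), (nat_lit 1)), ((nat_lit 137), (nat_lit 32), (nat_lit 1), (nat_lit 1)), ((nat_lit 138), (nat_lit 34), (nat_lit 1), (nat_lit 1)), ((nat_lit 139), (nat_lit 35), (nat_lit 1), (nat_lit 1)), ((nat_lit 147), (nat_lit 39), (nat_lit 1), (nat_lit 1)), ((nat_lit 148), (nat_lit 42), (nat_lit 1), (nat_lit 1)), ((nat_lit 149), (nat_lit 44), (nat_lit 1), (nat_lit 1)), ((nat_lit 150),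 (nat_lit 45), (nat_lit 1), (nat_lit 1)), ((nat_lit 152), (nat_lit 48), (nat_lit 1), (nat_lit 1)), ((nat_lit 153), (nat_lit 50), (nat_lit 1), (nat_lit 1)), ((nat_lit 154), (nat_lit 51), (nat_lit 1), (nat_lit 1)), ((nat_lit 156), (nat_lit 53), (nat_lit 1), (nat_lit 1)), ((nat_lit 157), (nat_lit 54), (nat_lit 1), (nat_lit 1)), ((nat_lit 159), (nat_lit 55), (nat_lit 1), (nat_lit 1)), ((nat_lit 184), (nat_lit 80), (nat_lit 1), (nat_lit 1)), ((nat_lit 185), (nat_lit 82), (nat_lit 1), (nat_lit 1)), ((nat_lit 186), (nat_lit 83), (nat_lit 1), (nat_lit 1)), ((nat_lit 188), (nat_lit 85), (nat_lit 1), (nat_lit 1)), ((nat_lit 189), (nat_lit 86), (nat_lit 1), (nat_lit 1)), ((nat_lit 191), (nat_lit 87), (nat_lit 1), (nat_lit 1)), ((nat_lit 194), (nat_lit 89), (nat_lit 1), (nat_lit 1)), ((nat_lit 195), (nat_lit 90), (nat_lit 1), (nat_lit 1)), ((nat_lit 197), (nat_lit 91), (nat_lit 1), (nat_lit 1)), ((nat_lit 200), (nat_lit 92), (nat_lit 1), (nat_lit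 1)), ((nat_lit 204), (nat_lit 100), (nat_lit 1), (nat_lit 1)), ((nat_lit 205), (nat_lit 101), (nat_lit 1), (nat_lit 1)), ((nat_lit 207), (nat_lit 102), (nat_lit 1), (nat_lit 1)), ((nat_lit 210), (nat_lit 103), (nat_lit 1), (nat_lit 1)), ((nat_lit 214), (nat_lit 104), (nat_lit 1), (nat_lit 1)), ((nat_lit 220), (nat_lit 120), (nat_lit 1), (nat_lit 1)), ((nat_lit 221), (nat_lit 122), (nat_lit 1), (nat_lit 1)), ((nat_lit 222), (nat_lit 125), (nat_lit 1), (nat_lit 1)), ((nat_lit 223), (nat_lit 129), (nat_lit 1), (nat_lit 1)), ((nat_lit 224), (nat_lit 134), (nat_lit 1), (nat_lit 1)), ((nat_lit 225), (nat_lit 146), (nat_lit 1), (nat_lit 1)), ((nat_lit 226), (nat_lit 162), (nat_lit 1), (nat_lit 1)), ((nat_lit 232), (nat_lit 168), (nat_lit 1), (nat_lit 1)), ((nat_lit 234), (nat_lit 173), (nat_lit 1), (nat_lit 1)), ((nat_lit 235), (nat_lit 177), (nat_lit 1), (nat_lit 1)), ((nat_lit 236), (nat_lit 180), (nat_lit 1), (nat_lit 1)), ((nat_lit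 237), (nat_lit 182), (nat_lit 1), (nat_lit 1)), ((nat_lit 238), (nat_lit 183), (nat_lit 1), (nat_lit 1))]) (.leaf [((nat_lit 3), (nat_lit 8), (nat_lit 1), (nat_lit 1)), ((nat_lit 5), (nat_lit 10), (nat_lit 1), (nat_lit 1)), ((nat_lit 14), (nat_lit 22), (nat_lit 1), (nat_lit 1)), ((nat_lit 16), (nat_lit 36), (nat_lit 1), (nat_lit 1)), ((nat_lit 18), (nat_lit 40), (nat_lit 1), (nat_lit 1)), ((nat_lit 19), (nat_lit 41), (nat_lit 1), (nat_lit 1)), ((nat_lit 20), (nat_lit 42), (nat_lit 1), (nat_lit 1)), ((nat_lit 27), (nat_lit 56), (nat_lit 1), (nat_lit 1)), ((nat_lit 28), (nat_lit 57), (nat_lit 1), (nat_lit 1)), ((nat_lit 29), (nat_lit 58), (nat_lit 1), (nat_lit 1)), ((nat_lit 33), (nat_lit 62), (nat_lit 1), (nat_lit 1)), ((nat_lit 34), (nat_lit 63), (nat_lit 1), (nat_lit 1)), ((nat_lit 35), (nat_lit 64), (nat_lit 1), (nat_lit 1)), ((nat_lit 49), (nat_lit 71), (nat_lit 1), (nat_lit 1)), ((nat_lit 50), (nat_lit 72), (nat_lit 1), (nat_lit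 1)), ((nat_lit 51), (nat_lit 73), (nat_lit 1), (nat_lit 1)), ((nat_lit 55), (nat_lit 75), (nat_lit 1), (nat_lit 1)), ((nat_lit 69), (nat_lit 77), (nat_lit 1), (nat_lit 1)), ((nat_lit 81), (nat_lit 105), (nat_lit 1), (nat_lit 1)), ((nat_lit 82), (nat_lit 106), (nat_lit 1), (nat_lit 1)), ((nat_lit 83), (nat_lit 107), (nat_lit 1), (nat_lit 1)), ((nat_lit 87), (nat_lit 109), (nat_lit 1), (nat_lit 1)), ((nat_lit 88), (nat_lit 114), (nat_lit 1), (nat_lit 1)), ((nat_lit 89), (nat_lit 115), (nat_lit 1), (nat_lit 1)), ((nat_lit 90), (nat_lit 116), (nat_lit 1), (nat_lit 1)), ((nat_lit 92), (nat_lit 126), (nat_lit 1), (nat_lit 1)), ((nat_lit 96), (nat_lit 135), (nat_lit 1), (nat_lit 1)), ((nat_lit 98), (nat_lit 137), (nat_lit 1), (nat_lit 1)), ((nat_lit 102), (nat_lit 141), (nat_lit 1), (nat_lit 1)), ((nat_lit 104), (nat_lit 143), (nat_lit 1), (nat_lit 1)), ((nat_lit 113), (nat_lit 147), (nat_lit 1), (nat_lit 1)), ((nat_lit 123), (nat_lit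 149), (nat_lit 1), (nat_lit 1)), ((nat_lit 124), (nat_lit 150), (nat_lit 1), (nat_lit 1)), ((nat_lit 125), (nat_lit 151), (nat_lit 1), (nat_lit 1)), ((nat_lit 130), (nat_lit 152), (nat_lit 1), (nat_lit 1)), ((nat_lit 132), (nat_lit 156), (nat_lit 1), (nat_lit 1)), ((nat_lit 133), (nat_lit 157), (nat_lit 1), (nat_lit 1)), ((nat_lit 134), (nat_lit 158), (nat_lit 1), (nat_lit 1)), ((nat_lit 162), (nat_lit 170), (nat_lit 1), (nat_lit 1)), ((nat_lit 164), (nat_lit 184), (nat_lit 1), (nat_lit 1)), ((nat_lit 166), (nat_lit 188), (nat_lit 1), (nat_lit 1)), ((nat_lit 167), (nat_lit 189), (nat_lit 1), (nat_lit 1)), ((nat_lit 168), (nat_lit 190), (nat_lit 1), (nat_lit 1)), ((nat_lit 175), (nat_lit 204), (nat_lit 1), (nat_lit 1)), ((nat_lit 176), (nat_lit 205), (nat_lit 1), (nat_lit 1)), ((nat_lit 177), (nat_lit 206), (nat_lit 1), (nat_lit 1)), ((nat_lit 181), (nat_lit 210), (nat_lit 1), (nat_lit 1)), ((nat_lit 182), (nat_lit 211), (nat_lit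 1), (nat_lit 1)), ((nat_lit 183), (nat_lit 212), (nat_lit 1), (nat_lit 1)), ((nat_lit 197), (nat_lit 219), (nat_lit 1), (nat_lit 1)), ((nat_lit 198), (nat_lit 220), (nat_lit 1), (nat_lit 1)), ((nat_lit 199), (nat_lit 221), (nat_lit 1), (nat_lit 1)), ((nat_lit 203), (nat_lit 223), (nat_lit 1), (nat_lit 1)), ((nat_lit 217), (nat_lit 225), (nat_lit 1), (nat_lit 1)), ((nat_lit 229), (nat_lit 234), (nat_lit 1), (nat_lit 1)), ((nat_lit 231), (nat_lit 236), (nat_lit 1), (nat_lit 1))])) (.node (.leaf [((nat_lit 9), (nat_lit 0), (nat_lit 1), (nat_lit 1)), ((nat_lit 13), (nat_lit 4), (nat_lit 1), (nat_lit 1)), ((nat_lit 29), (nat_lit 14), (nat_lit 1), (nat_lit 1)), ((nat_lit 39), (nat_lit 15), (nat_lit 1), (nat_lit 1)), ((nat_lit 48), (nat_lit 17), (nat_lit 1), (nat_lit 1)), ((nat_lit 50), (nat_lit 18), (nat_lit 1), (nat_lit 1)), ((nat_lit 51), (nat_lit 19), (nat_lit 1), (nat_lit 1)), ((nat_lit 58), (nat_lit 22), (nat_lit 1), (nat_lit 1)),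 ((nat_lit 60), (nat_lit 23), (nat_lit 1), (nat_lit 1)), ((nat_lit 61), (nat_lit 24), (nat_lit 1), (nat_lit 1)), ((nat_lit 67), (nat_lit 30), (nat_lit 1), (nat_lit 1)), ((nat_lit 68), (nat_lit 31), (nat_lit 1), (nat_lit 1)), ((nat_lit 69), (nat_lit 33), (nat_lit 1), (nat_lit 1)), ((nat_lit 72), (nat_lit 40), (nat_lit 1), (nat_lit 1)), ((nat_lit 73), (nat_lit 41), (nat_lit 1), (nat_lit 1)), ((nat_lit 74), (nat_lit 43), (nat_lit 1), (nat_lit 1)), ((nat_lit 76), (nat_lit 52), (nat_lit 1), (nat_lit 1)), ((nat_lit 77), (nat_lit 62), (nat_lit 1), (nat_lit 1)), ((nat_lit 111), (nat_lit 78), (nat_lit 1), (nat_lit 1)), ((nat_lit 112), (nat_lit 79), (nat_lit 1), (nat_lit 1)), ((nat_lit 113), (nat_lit 81), (nat_lit 1), (nat_lit 1)), ((nat_lit 120), (nat_lit 85), (nat_lit 1), (nat_lit 1)), ((nat_lit 122), (nat_lit 86), (nat_lit 1), (nat_lit 1)), ((nat_lit 125), (nat_lit 87), (nat_lit 1), (nat_lit 1)), ((nat_lit 130), (nat_lit 88), (nat_lit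 1), (nat_lit 1)), ((nat_lit 134), (nat_lit 92), (nat_lit 1), (nat_lit 1)), ((nat_lit 136), (nat_lit 93), (nat_lit 1), (nat_lit 1)), ((nat_lit 140), (nat_lit 97), (nat_lit 1), (nat_lit 1)), ((nat_lit 142), (nat_lit 99), (nat_lit 1), (nat_lit 1)), ((nat_lit 146), (nat_lit 103), (nat_lit 1), (nat_lit 1)), ((nat_lit 147), (nat_lit 105), (nat_lit 1), (nat_lit 1)), ((nat_lit 151), (nat_lit 109), (nat_lit 1), (nat_lit 1)), ((nat_lit 152), (nat_lit 114), (nat_lit 1), (nat_lit 1)), ((nat_lit 153), (nat_lit 117), (nat_lit 1), (nat_lit 1)), ((nat_lit 154), (nat_lit 119), (nat_lit 1), (nat_lit 1)), ((nat_lit 158), (nat_lit 126), (nat_lit 1), (nat_lit 1)), ((nat_lit 160), (nat_lit 127), (nat_lit 1), (nat_lit 1)), ((nat_lit 161), (nat_lit 128), (nat_lit 1), (nat_lit 1)), ((nat_lit 177), (nat_lit 162), (nat_lit 1), (nat_lit 1)), ((nat_lit 187), (nat_lit 163), (nat_lit 1), (nat_lit 1)), ((nat_lit 196), (nat_lit 165), (nat_lit 1), (nat_lit 1)),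 ((nat_lit 198), (nat_lit 166), (nat_lit 1), (nat_lit 1)), ((nat_lit 199), (nat_lit 167), (nat_lit 1), (nat_lit 1)), ((nat_lit 206), (nat_lit 170), (nat_lit 1), (nat_lit 1)), ((nat_lit 208), (nat_lit 171), (nat_lit 1), (nat_lit 1)), ((nat_lit 209), (nat_lit 172), (nat_lit 1), (nat_lit 1)), ((nat_lit 215), (nat_lit 178), (nat_lit 1), (nat_lit 1)), ((nat_lit 216), (nat_lit 179), (nat_lit 1), (nat_lit 1)), ((nat_lit 217), (nat_lit 181), (nat_lit 1), (nat_lit 1)), ((nat_lit 220), (nat_lit 188), (nat_lit 1), (nat_lit 1)), ((nat_lit 221), (nat_lit 189), (nat_lit 1), (nat_lit 1)), ((nat_lit 222), (nat_lit 191), (nat_lit 1), (nat_lit 1)), ((nat_lit 224), (nat_lit 200), (nat_lit 1), (nat_lit 1)), ((nat_lit 225), (nat_lit 210), (nat_lit 1), (nat_lit 1)), ((nat_lit 235), (nat_lit 226), (nat_lit 1), (nat_lit 1)), ((nat_lit 239), (nat_lit 230), (nat_lit 1), (nat_lit 1))]) (.leaf [((nat_lit 0), (nat_lit 41), (nat_lit 1), (nat_lit 1)), ((nat_lit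 1), (nat_lit 42), (nat_lit 1), (nat_lit 1)), ((nat_lit 3), (nat_lit 45), (nat_lit 1), (nat_lit 1)), ((nat_lit 5), (nat_lit 54), (nat_lit 1), (nat_lit 1)), ((nat_lit 6), (nat_lit 64), (nat_lit 1), (nat_lit 1)), ((nat_lit 9), (nat_lit 73), (nat_lit 1), (nat_lit 1)), ((nat_lit 11), (nat_lit 75), (nat_lit 1), (nat_lit 1)), ((nat_lit 14), (nat_lit 86), (nat_lit 1), (nat_lit 1)), ((nat_lit 16), (nat_lit 101), (nat_lit 1), (nat_lit 1)), ((nat_lit 18), (nat_lit 103), (nat_lit 1), (nat_lit 1)), ((nat_lit 21), (nat_lit 107), (nat_lit 1), (nat_lit 1)), ((nat_lit 23), (nat_lit 109), (nat_lit 1), (nat_lit 1)), ((nat_lit 26), (nat_lit 116), (nat_lit 1), (nat_lit 1)), ((nat_lit 28), (nat_lit 121), (nat_lit 1), (nat_lit 1)), ((nat_lit 29), (nat_lit 122), (nat_lit 1), (nat_lit 1)), ((nat_lit 30), (nat_lit 126), (nat_lit 1), (nat_lit 1)), ((nat_lit 33), (nat_lit 128), (nat_lit 1), (nat_lit 1)), ((nat_lit 34), (nat_lit 129), (nat_lit 1), (nat_lit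 1)), ((nat_lit 37), (nat_lit 141), (nat_lit 1), (nat_lit 1)), ((nat_lit 46), (nat_lit 143), (nat_lit 1), (nat_lit 1)), ((nat_lit 49), (nat_lit 145), (nat_lit 1), (nat_lit 1)), ((nat_lit 50), (nat_lit 146), (nat_lit 1), (nat_lit 1)), ((nat_lit 56), (nat_lit 148), (nat_lit 1), (nat_lit 1)), ((nat_lit 59), (nat_lit 150), (nat_lit 1), (nat_lit 1)), ((nat_lit 60), (nat_lit 151), (nat_lit 1), (nat_lit 1)), ((nat_lit 66), (nat_lit 157), (nat_lit 1), (nat_lit 1)), ((nat_lit 67), (nat_lit 158), (nat_lit 1), (nat_lit 1)), ((nat_lit 69), (nat_lit 161), (nat_lit 1), (nat_lit 1)), ((nat_lit 78), (nat_lit 170), (nat_lit 1), (nat_lit 1)), ((nat_lit 81), (nat_lit 172), (nat_lit 1), (nat_lit 1)), ((nat_lit 82), (nat_lit 173), (nat_lit 1), (nat_lit 1)), ((nat_lit 88), (nat_lit 179), (nat_lit 1), (nat_lit 1)), ((nat_lit 89), (nat_lit 180), (nat_lit 1), (nat_lit 1)), ((nat_lit 91), (nat_lit 183), (nat_lit 1), (nat_lit 1)), ((nat_lit 93), (nat_lit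 189), (nat_lit 1), (nat_lit 1)), ((nat_lit 94), (nat_lit 190), (nat_lit 1), (nat_lit 1)), ((nat_lit 96), (nat_lit 193), (nat_lit 1), (nat_lit 1)), ((nat_lit 98), (nat_lit 202), (nat_lit 1), (nat_lit 1)), ((nat_lit 110), (nat_lit 205), (nat_lit 1), (nat_lit 1)), ((nat_lit 111), (nat_lit 206), (nat_lit 1), (nat_lit 1)), ((nat_lit 113), (nat_lit 209), (nat_lit 1), (nat_lit 1)), ((nat_lit 117), (nat_lit 210), (nat_lit 1), (nat_lit 1)), ((nat_lit 118), (nat_lit 211), (nat_lit 1), (nat_lit 1)), ((nat_lit 123), (nat_lit 213), (nat_lit 1), (nat_lit 1)), ((nat_lit 130), (nat_lit 216), (nat_lit 1), (nat_lit 1)), ((nat_lit 132), (nat_lit 218), (nat_lit 1), (nat_lit 1)), ((nat_lit 136), (nat_lit 221), (nat_lit 1), (nat_lit 1)), ((nat_lit 138), (nat_lit 223), (nat_lit 1), (nat_lit 1)), ((nat_lit 153), (nat_lit 225), (nat_lit 1), (nat_lit 1)), ((nat_lit 164), (nat_lit 228), (nat_lit 1), (nat_lit 1)), ((nat_lit 166), (nat_lit 230), (nat_lit 1),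 (nat_lit 1)), ((nat_lit 175), (nat_lit 233), (nat_lit 1), (nat_lit 1)), ((nat_lit 185), (nat_lit 234), (nat_lit 1), (nat_lit 1)), ((nat_lit 194), (nat_lit 236), (nat_lit 1), (nat_lit 1)), ((nat_lit 197), (nat_lit 238), (nat_lit 1), (nat_lit 1)), ((nat_lit 198), (nat_lit 239), (nat_lit 1), (nat_lit 1))]))) (.node (.node (.leaf [((nat_lit 21), (nat_lit 0), (nat_lit 1), (nat_lit 1)), ((nat_lit 25), (nat_lit 4), (nat_lit 1), (nat_lit 1)), ((nat_lit 29), (nat_lit 5), (nat_lit 1), (nat_lit 1)), ((nat_lit 39), (nat_lit 7), (nat_lit 1), (nat_lit 1)), ((nat_lit 58), (nat_lit 10), (nat_lit 1), (nat_lit 1)), ((nat_lit 60), (nat_lit 11), (nat_lit 1), (nat_lit 1)), ((nat_lit 61), (nat_lit 12), (nat_lit 1), (nat_lit 1)), ((nat_lit 80), (nat_lit 17), (nat_lit 1), (nat_lit 1)), ((nat_lit 82), (nat_lit 18), (nat_lit 1), (nat_lit 1)), ((nat_lit 83), (nat_lit 19), (nat_lit 1), (nat_lit 1)), ((nat_lit 94), (nat_lit 30), (nat_lit 1), (nat_lit 1)),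 ((nat_lit 95), (nat_lit 31), (nat_lit 1), (nat_lit 1)), ((nat_lit 96), (nat_lit 33), (nat_lit 1), (nat_lit 1)), ((nat_lit 106), (nat_lit 40), (nat_lit 1), (nat_lit 1)), ((nat_lit 107), (nat_lit 41), (nat_lit 1), (nat_lit 1)), ((nat_lit 108), (nat_lit 43), (nat_lit 1), (nat_lit 1)), ((nat_lit 111), (nat_lit 46), (nat_lit 1), (nat_lit 1)), ((nat_lit 112), (nat_lit 47), (nat_lit 1), (nat_lit 1)), ((nat_lit 113), (nat_lit 49), (nat_lit 1), (nat_lit 1)), ((nat_lit 120), (nat_lit 53), (nat_lit 1), (nat_lit 1)), ((nat_lit 122), (nat_lit 54), (nat_lit 1), (nat_lit 1)), ((nat_lit 125), (nat_lit 55), (nat_lit 1), (nat_lit 1)), ((nat_lit 135), (nat_lit 62), (nat_lit 1), (nat_lit 1)), ((nat_lit 136), (nat_lit 66), (nat_lit 1), (nat_lit 1)), ((nat_lit 140), (nat_lit 70), (nat_lit 1), (nat_lit 1)), ((nat_lit 147), (nat_lit 71), (nat_lit 1), (nat_lit 1)), ((nat_lit 151), (nat_lit 75), (nat_lit 1), (nat_lit 1)), ((nat_lit 155), (nat_lit 76), (nat_lit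 1), (nat_lit 1)), ((nat_lit 163), (nat_lit 84), (nat_lit 1), (nat_lit 1)), ((nat_lit 164), (nat_lit 88), (nat_lit 1), (nat_lit 1)), ((nat_lit 168), (nat_lit 92), (nat_lit 1), (nat_lit 1)), ((nat_lit 169), (nat_lit 99), (nat_lit 1), (nat_lit 1)), ((nat_lit 173), (nat_lit 103), (nat_lit 1), (nat_lit 1)), ((nat_lit 177), (nat_lit 104), (nat_lit 1), (nat_lit 1)), ((nat_lit 184), (nat_lit 114), (nat_lit 1), (nat_lit 1)), ((nat_lit 185), (nat_lit 117), (nat_lit 1), (nat_lit 1)), ((nat_lit 186), (nat_lit 119), (nat_lit 1), (nat_lit 1)), ((nat_lit 190), (nat_lit 126), (nat_lit 1), (nat_lit 1)), ((nat_lit 192), (nat_lit 127), (nat_lit 1), (nat_lit 1)), ((nat_lit 193), (nat_lit 128), (nat_lit 1), (nat_lit 1)), ((nat_lit 196), (nat_lit 131), (nat_lit 1), (nat_lit 1)), ((nat_lit 198), (nat_lit 132), (nat_lit 1), (nat_lit 1)), ((nat_lit 199), (nat_lit 133), (nat_lit 1), (nat_lit 1)), ((nat_lit 206), (nat_lit 143), (nat_lit 1), (nat_lit 1)),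 ((nat_lit 208), (nat_lit 144), (nat_lit 1), (nat_lit 1)), ((nat_lit 209), (nat_lit 145), (nat_lit 1), (nat_lit 1)), ((nat_lit 220), (nat_lit 156), (nat_lit 1), (nat_lit 1)), ((nat_lit 221), (nat_lit 157), (nat_lit 1), (nat_lit 1)), ((nat_lit 222), (nat_lit 159), (nat_lit 1), (nat_lit 1)), ((nat_lit 227), (nat_lit 178), (nat_lit 1), (nat_lit 1)), ((nat_lit 228), (nat_lit 179), (nat_lit 1), (nat_lit 1)), ((nat_lit 229), (nat_lit 181), (nat_lit 1), (nat_lit 1)), ((nat_lit 232), (nat_lit 200), (nat_lit 1), (nat_lit 1)), ((nat_lit 234), (nat_lit 210), (nat_lit 1), (nat_lit 1)), ((nat_lit 235), (nat_lit 214), (nat_lit 1), (nat_lit 1)), ((nat_lit 239), (nat_lit 218), (nat_lit 1), (nat_lit 1))]) (.leaf [((nat_lit 0), (nat_lit 17), (nat_lit 1), (nat_lit 1)), ((nat_lit 3), (nat_lit 20), (nat_lit 1), (nat_lit 1)), ((nat_lit 6), (nat_lit 32), (nat_lit 1), (nat_lit 1)), ((nat_lit 8), (nat_lit 42), (nat_lit 1), (nat_lit 1)), ((nat_lit 9), (nat_lit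 48), (nat_lit 1), (nat_lit 1)), ((nat_lit 11), (nat_lit 53), (nat_lit 1), (nat_lit 1)), ((nat_lit 12), (nat_lit 54), (nat_lit 1), (nat_lit 1)), ((nat_lit 21), (nat_lit 80), (nat_lit 1), (nat_lit 1)), ((nat_lit 23), (nat_lit 85), (nat_lit 1), (nat_lit 1)), ((nat_lit 24), (nat_lit 86), (nat_lit 1), (nat_lit 1)), ((nat_lit 27), (nat_lit 89), (nat_lit 1), (nat_lit 1)), ((nat_lit 28), (nat_lit 90), (nat_lit 1), (nat_lit 1)), ((nat_lit 33), (nat_lit 92), (nat_lit 1), (nat_lit 1)), ((nat_lit 37), (nat_lit 100), (nat_lit 1), (nat_lit 1)), ((nat_lit 38), (nat_lit 101), (nat_lit 1), (nat_lit 1)), ((nat_lit 43), (nat_lit 103), (nat_lit 1), (nat_lit 1)), ((nat_lit 49), (nat_lit 104), (nat_lit 1), (nat_lit 1)), ((nat_lit 56), (nat_lit 115), (nat_lit 1), (nat_lit 1)), ((nat_lit 57), (nat_lit 116), (nat_lit 1), (nat_lit 1)), ((nat_lit 60), (nat_lit 120), (nat_lit 1), (nat_lit 1)), ((nat_lit 61), (nat_lit 122), (nat_lit 1), (nat_lit 1)), ((nat_lit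 62), (nat_lit 126), (nat_lit 1), (nat_lit 1)), ((nat_lit 65), (nat_lit 129), (nat_lit 1), (nat_lit 1)), ((nat_lit 66), (nat_lit 131), (nat_lit 1), (nat_lit 1)), ((nat_lit 69), (nat_lit 134), (nat_lit 1), (nat_lit 1)), ((nat_lit 71), (nat_lit 143), (nat_lit 1), (nat_lit 1)), ((nat_lit 74), (nat_lit 146), (nat_lit 1), (nat_lit 1)), ((nat_lit 77), (nat_lit 158), (nat_lit 1), (nat_lit 1)), ((nat_lit 81), (nat_lit 162), (nat_lit 1), (nat_lit 1)), ((nat_lit 93), (nat_lit 165), (nat_lit 1), (nat_lit 1)), ((nat_lit 96), (nat_lit 168), (nat_lit 1), (nat_lit 1)), ((nat_lit 105), (nat_lit 170), (nat_lit 1), (nat_lit 1)), ((nat_lit 108), (nat_lit 173), (nat_lit 1), (nat_lit 1)), ((nat_lit 110), (nat_lit 174), (nat_lit 1), (nat_lit 1)), ((nat_lit 113), (nat_lit 177), (nat_lit 1), (nat_lit 1)), ((nat_lit 117), (nat_lit 178), (nat_lit 1), (nat_lit 1)), ((nat_lit 119), (nat_lit 179), (nat_lit 1), (nat_lit 1)), ((nat_lit 123), (nat_lit 182), (nat_lit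 1), (nat_lit 1)), ((nat_lit 124), (nat_lit 183), (nat_lit 1), (nat_lit 1)), ((nat_lit 135), (nat_lit 190), (nat_lit 1), (nat_lit 1)), ((nat_lit 136), (nat_lit 196), (nat_lit 1), (nat_lit 1)), ((nat_lit 138), (nat_lit 201), (nat_lit 1), (nat_lit 1)), ((nat_lit 139), (nat_lit 202), (nat_lit 1), (nat_lit 1)), ((nat_lit 147), (nat_lit 206), (nat_lit 1), (nat_lit 1)), ((nat_lit 149), (nat_lit 211), (nat_lit 1), (nat_lit 1)), ((nat_lit 150), (nat_lit 212), (nat_lit 1), (nat_lit 1)), ((nat_lit 153), (nat_lit 215), (nat_lit 1), (nat_lit 1)), ((nat_lit 154), (nat_lit 216), (nat_lit 1), (nat_lit 1)), ((nat_lit 159), (nat_lit 218), (nat_lit 1), (nat_lit 1)), ((nat_lit 185), (nat_lit 227), (nat_lit 1), (nat_lit 1)), ((nat_lit 186), (nat_lit 228), (nat_lit 1), (nat_lit 1)), ((nat_lit 191), (nat_lit 230), (nat_lit 1), (nat_lit 1)), ((nat_lit 197), (nat_lit 231), (nat_lit 1), (nat_lit 1)), ((nat_lit 207), (nat_lit 233), (nat_lit 1), (nat_lit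 1)), ((nat_lit 219), (nat_lit 236), (nat_lit 1), (nat_lit 1)), ((nat_lit 222), (nat_lit 239), (nat_lit 1), (nat_lit 1))])) (.leaf [((nat_lit 3), (nat_lit 2), (nat_lit 1), (nat_lit 1)), ((nat_lit 11), (nat_lit 10), (nat_lit 1), (nat_lit 1)), ((nat_lit 18), (nat_lit 17), (nat_lit 1), (nat_lit 1)), ((nat_lit 23), (nat_lit 22), (nat_lit 1), (nat_lit 1)), ((nat_lit 27), (nat_lit 26), (nat_lit 1), (nat_lit 1)), ((nat_lit 33), (nat_lit 31), (nat_lit 1), (nat_lit 1)), ((nat_lit 34), (nat_lit 32), (nat_lit 1), (nat_lit 1)), ((nat_lit 37), (nat_lit 36), (nat_lit 1), (nat_lit 1)), ((nat_lit 43), (nat_lit 41), (nat_lit 1), (nat_lit 1)), ((nat_lit 44), (nat_lit 42), (nat_lit 1), (nat_lit 1)), ((nat_lit 49), (nat_lit 47), (nat_lit 1), (nat_lit 1)), ((nat_lit 50), (nat_lit 48), (nat_lit 1), (nat_lit 1)), ((nat_lit 55), (nat_lit 54), (nat_lit 1), (nat_lit 1)), ((nat_lit 59), (nat_lit 57), (nat_lit 1), (nat_lit 1)), ((nat_lit 60), (nat_lit 58),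 (nat_lit 1), (nat_lit 1)), ((nat_lit 65), (nat_lit 64), (nat_lit 1), (nat_lit 1)), ((nat_lit 69), (nat_lit 68), (nat_lit 1), (nat_lit 1)), ((nat_lit 74), (nat_lit 73), (nat_lit 1), (nat_lit 1)), ((nat_lit 81), (nat_lit 79), (nat_lit 1), (nat_lit 1)), ((nat_lit 82), (nat_lit 80), (nat_lit 1), (nat_lit 1)), ((nat_lit 87), (nat_lit 86), (nat_lit 1), (nat_lit 1)), ((nat_lit 91), (nat_lit 90), (nat_lit 1), (nat_lit 1)), ((nat_lit 96), (nat_lit 95), (nat_lit 1), (nat_lit 1)), ((nat_lit 102), (nat_lit 101), (nat_lit 1), (nat_lit 1)), ((nat_lit 108), (nat_lit 107), (nat_lit 1), (nat_lit 1)), ((nat_lit 113), (nat_lit 112), (nat_lit 1), (nat_lit 1)), ((nat_lit 117), (nat_lit 114), (nat_lit 1), (nat_lit 1)), ((nat_lit 118), (nat_lit 115), (nat_lit 1), (nat_lit 1)), ((nat_lit 124), (nat_lit 121), (nat_lit 1), (nat_lit 1)), ((nat_lit 125), (nat_lit 122), (nat_lit 1), (nat_lit 1)), ((nat_lit 127), (nat_lit 126), (nat_lit 1), (nat_lit 1)), ((nat_lit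 132), (nat_lit 131), (nat_lit 1), (nat_lit 1)), ((nat_lit 138), (nat_lit 137), (nat_lit 1), (nat_lit 1)), ((nat_lit 144), (nat_lit 143), (nat_lit 1), (nat_lit 1)), ((nat_lit 149), (nat_lit 148), (nat_lit 1), (nat_lit 1)), ((nat_lit 153), (nat_lit 152), (nat_lit 1), (nat_lit 1)), ((nat_lit 159), (nat_lit 157), (nat_lit 1), (nat_lit 1)), ((nat_lit 160), (nat_lit 158), (nat_lit 1), (nat_lit 1)), ((nat_lit 166), (nat_lit 165), (nat_lit 1), (nat_lit 1)), ((nat_lit 171), (nat_lit 170), (nat_lit 1), (nat_lit 1)), ((nat_lit 175), (nat_lit 174), (nat_lit 1), (nat_lit 1)), ((nat_lit 181), (nat_lit 179), (nat_lit 1), (nat_lit 1)), ((nat_lit 182), (nat_lit 180), (nat_lit 1), (nat_lit 1)), ((nat_lit 185), (nat_lit 184), (nat_lit 1), (nat_lit 1)), ((nat_lit 191), (nat_lit 189), (nat_lit 1), (nat_lit 1)), ((nat_lit 192), (nat_lit 190), (nat_lit 1), (nat_lit 1)), ((nat_lit 197), (nat_lit 195), (nat_lit 1), (nat_lit 1)), ((nat_lit 198), (nat_lit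 196), (nat_lit 1), (nat_lit 1)), ((nat_lit 203), (nat_lit 202), (nat_lit 1), (nat_lit 1)), ((nat_lit 207), (nat_lit 205), (nat_lit 1), (nat_lit 1)), ((nat_lit 208), (nat_lit 206), (nat_lit 1), (nat_lit 1)), ((nat_lit 213), (nat_lit 212), (nat_lit 1), (nat_lit 1)), ((nat_lit 217), (nat_lit 216), (nat_lit 1), (nat_lit 1)), ((nat_lit 222), (nat_lit 221), (nat_lit 1), (nat_lit 1)), ((nat_lit 229), (nat_lit 228), (nat_lit 1), (nat_lit 1)), ((nat_lit 237), (nat_lit 236), (nat_lit 1), (nat_lit 1))])))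

def rows3 : Tr (List Entry) :=
  .node (.node (.node (.node (.leaf [((nat_lit 78), (nat_lit 0), (nat_lit 1), (nat_lit 1)), ((nat_lit 80), (nat_lit 2), (nat_lit 1), (nat_lit 1)), ((nat_lit 82), (nat_lit 3), (nat_lit 1), (nat_lit 1)), ((nat_lit 85), (nat_lit 4), (nat_lit 1), (nat_lit 1)), ((nat_lit 89), (nat_lit 5), (nat_lit 1), (nat_lit 1)), ((nat_lit 94), (nat_lit 6), (nat_lit 1), (nat_lit 1)), ((nat_lit 100), (nat_lit 7), (nat_lit 1), (nat_lit 1)), ((nat_lit 106), (nat_lit 8), (nat_lit 1), (nat_lit 1)), ((nat_lit 111), (nat_lit 9), (nat_lit 1), (nat_lit 1)), ((nat_lit 115), (nat_lit 10), (nat_lit 1), (nat_lit 1)), ((nat_lit 118), (nat_lit 11), (nat_lit 1), (nat_lit 1)), ((nat_lit 120), (nat_lit 13), (nat_lit 1), (nat_lit 1)), ((nat_lit 162), (nat_lit 19), (nat_lit 1), (nat_lit 1)), ((nat_lit 163), (nat_lit 24), (nat_lit 1), (nat_lit 1)), ((nat_lit 164), (nat_lit 28), (nat_lit 1), (nat_lit 1)), ((nat_lit 165), (nat_lit 31), (nat_lit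 1), (nat_lit 1)), ((nat_lit 166), (nat_lit 33), (nat_lit 1), (nat_lit 1)), ((nat_lit 168), (nat_lit 35), (nat_lit 1), (nat_lit 1)), ((nat_lit 169), (nat_lit 38), (nat_lit 1), (nat_lit 1)), ((nat_lit 170), (nat_lit 41), (nat_lit 1), (nat_lit 1)), ((nat_lit 171), (nat_lit 43), (nat_lit 1), (nat_lit 1)), ((nat_lit 173), (nat_lit 45), (nat_lit 1), (nat_lit 1)), ((nat_lit 174), (nat_lit 47), (nat_lit 1), (nat_lit 1)), ((nat_lit 175), (nat_lit 49), (nat_lit 1), (nat_lit 1)), ((nat_lit 177), (nat_lit 51), (nat_lit 1), (nat_lit 1)), ((nat_lit 178), (nat_lit 52), (nat_lit 1), (nat_lit 1)), ((nat_lit 180), (nat_lit 54), (nat_lit 1), (nat_lit 1)), ((nat_lit 182), (nat_lit 55), (nat_lit 1), (nat_lit 1)), ((nat_lit 184), (nat_lit 57), (nat_lit 1), (nat_lit 1)), ((nat_lit 185), (nat_lit 59), (nat_lit 1), (nat_lit 1)), ((nat_lit 187), (nat_lit 61), (nat_lit 1), (nat_lit 1)), ((nat_lit 188), (nat_lit 62), (nat_lit 1), (nat_lit 1)), ((nat_lit 190),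 (nat_lit 64), (nat_lit 1), (nat_lit 1)), ((nat_lit 192), (nat_lit 65), (nat_lit 1), (nat_lit 1)), ((nat_lit 194), (nat_lit 66), (nat_lit 1), (nat_lit 1)), ((nat_lit 196), (nat_lit 68), (nat_lit 1), (nat_lit 1)), ((nat_lit 198), (nat_lit 69), (nat_lit 1), (nat_lit 1)), ((nat_lit 201), (nat_lit 70), (nat_lit 1), (nat_lit 1)), ((nat_lit 204), (nat_lit 71), (nat_lit 1), (nat_lit 1)), ((nat_lit 206), (nat_lit 73), (nat_lit 1), (nat_lit 1)), ((nat_lit 208), (nat_lit 74), (nat_lit 1), (nat_lit 1)), ((nat_lit 211), (nat_lit 75), (nat_lit 1), (nat_lit 1)), ((nat_lit 215), (nat_lit 76), (nat_lit 1), (nat_lit 1)), ((nat_lit 220), (nat_lit 77), (nat_lit 1), (nat_lit 1)), ((nat_lit 226), (nat_lit 119), (nat_lit 1), (nat_lit 1)), ((nat_lit 228), (nat_lit 121), (nat_lit 1), (nat_lit 1)), ((nat_lit 229), (nat_lit 124), (nat_lit 1), (nat_lit 1)), ((nat_lit 230), (nat_lit 128), (nat_lit 1), (nat_lit 1)), ((nat_lit 231), (nat_lit 133), (nat_lit 1),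 (nat_lit 1)), ((nat_lit 232), (nat_lit 139), (nat_lit 1), (nat_lit 1)), ((nat_lit 233), (nat_lit 145), (nat_lit 1), (nat_lit 1)), ((nat_lit 234), (nat_lit 150), (nat_lit 1), (nat_lit 1)), ((nat_lit 235), (nat_lit 154), (nat_lit 1), (nat_lit 1)), ((nat_lit 236), (nat_lit 157), (nat_lit 1), (nat_lit 1)), ((nat_lit 237), (nat_lit 159), (nat_lit 1), (nat_lit 1)), ((nat_lit 239), (nat_lit 161), (nat_lit 1), (nat_lit 1))]) (.leaf [((nat_lit 0), (nat_lit 6), (nat_lit 1), (nat_lit 1)), ((nat_lit 7), (nat_lit 13), (nat_lit 1), (nat_lit 1)), ((nat_lit 15), (nat_lit 25), (nat_lit 1), (nat_lit 1)), ((nat_lit 16), (nat_lit 29), (nat_lit 1), (nat_lit 1)), ((nat_lit 17), (nat_lit 32), (nat_lit 1), (nat_lit 1)), ((nat_lit 18), (nat_lit 34), (nat_lit 1), (nat_lit 1)), ((nat_lit 19), (nat_lit 35), (nat_lit 1), (nat_lit 1)), ((nat_lit 36), (nat_lit 58), (nat_lit 1), (nat_lit 1)), ((nat_lit 37), (nat_lit 60), (nat_lit 1), (nat_lit 1)), ((nat_lit 38),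 (nat_lit 61), (nat_lit 1), (nat_lit 1)), ((nat_lit 40), (nat_lit 63), (nat_lit 1), (nat_lit 1)), ((nat_lit 41), (nat_lit 64), (nat_lit 1), (nat_lit 1)), ((nat_lit 43), (nat_lit 65), (nat_lit 1), (nat_lit 1)), ((nat_lit 46), (nat_lit 67), (nat_lit 1), (nat_lit 1)), ((nat_lit 47), (nat_lit 68), (nat_lit 1), (nat_lit 1)), ((nat_lit 49), (nat_lit 69), (nat_lit 1), (nat_lit 1)), ((nat_lit 52), (nat_lit 70), (nat_lit 1), (nat_lit 1)), ((nat_lit 71), (nat_lit 77), (nat_lit 1), (nat_lit 1)), ((nat_lit 78), (nat_lit 94), (nat_lit 1), (nat_lit 1)), ((nat_lit 79), (nat_lit 95), (nat_lit 1), (nat_lit 1)), ((nat_lit 81), (nat_lit 96), (nat_lit 1), (nat_lit 1)), ((nat_lit 84), (nat_lit 97), (nat_lit 1), (nat_lit 1)), ((nat_lit 88), (nat_lit 98), (nat_lit 1), (nat_lit 1)), ((nat_lit 100), (nat_lit 120), (nat_lit 1), (nat_lit 1)), ((nat_lit 101), (nat_lit 122), (nat_lit 1), (nat_lit 1)), ((nat_lit 102), (nat_lit 125), (nat_lit 1), (nat_lit 1)),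 ((nat_lit 103), (nat_lit 129), (nat_lit 1), (nat_lit 1)), ((nat_lit 104), (nat_lit 134), (nat_lit 1), (nat_lit 1)), ((nat_lit 105), (nat_lit 135), (nat_lit 1), (nat_lit 1)), ((nat_lit 110), (nat_lit 136), (nat_lit 1), (nat_lit 1)), ((nat_lit 114), (nat_lit 137), (nat_lit 1), (nat_lit 1)), ((nat_lit 117), (nat_lit 138), (nat_lit 1), (nat_lit 1)), ((nat_lit 119), (nat_lit 139), (nat_lit 1), (nat_lit 1)), ((nat_lit 141), (nat_lit 151), (nat_lit 1), (nat_lit 1)), ((nat_lit 142), (nat_lit 155), (nat_lit 1), (nat_lit 1)), ((nat_lit 143), (nat_lit 158), (nat_lit 1), (nat_lit 1)), ((nat_lit 144), (nat_lit 160), (nat_lit 1), (nat_lit 1)), ((nat_lit 145), (nat_lit 161), (nat_lit 1), (nat_lit 1)), ((nat_lit 162), (nat_lit 168), (nat_lit 1), (nat_lit 1)), ((nat_lit 169), (nat_lit 187), (nat_lit 1), (nat_lit 1)), ((nat_lit 170), (nat_lit 190), (nat_lit 1), (nat_lit 1)), ((nat_lit 171), (nat_lit 192), (nat_lit 1), (nat_lit 1)), ((nat_lit 172),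 (nat_lit 193), (nat_lit 1), (nat_lit 1)), ((nat_lit 174), (nat_lit 196), (nat_lit 1), (nat_lit 1)), ((nat_lit 175), (nat_lit 198), (nat_lit 1), (nat_lit 1)), ((nat_lit 176), (nat_lit 199), (nat_lit 1), (nat_lit 1)), ((nat_lit 178), (nat_lit 201), (nat_lit 1), (nat_lit 1)), ((nat_lit 179), (nat_lit 202), (nat_lit 1), (nat_lit 1)), ((nat_lit 181), (nat_lit 203), (nat_lit 1), (nat_lit 1)), ((nat_lit 204), (nat_lit 220), (nat_lit 1), (nat_lit 1)), ((nat_lit 205), (nat_lit 221), (nat_lit 1), (nat_lit 1)), ((nat_lit 207), (nat_lit 222), (nat_lit 1), (nat_lit 1)), ((nat_lit 210), (nat_lit 223), (nat_lit 1), (nat_lit 1)), ((nat_lit 214), (nat_lit 224), (nat_lit 1), (nat_lit 1)), ((nat_lit 226), (nat_lit 232), (nat_lit 1), (nat_lit 1)), ((nat_lit 233), (nat_lit 239), (nat_lit 1), (nat_lit 1))])) (.node (.leaf [((nat_lit 14), (nat_lit 5), (nat_lit 1), (nat_lit 1)), ((nat_lit 15), (nat_lit 7), (nat_lit 1), (nat_lit 1)), ((nat_lit 21), (nat_lit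 9), (nat_lit 1), (nat_lit 1)), ((nat_lit 22), (nat_lit 10), (nat_lit 1), (nat_lit 1)), ((nat_lit 23), (nat_lit 11), (nat_lit 1), (nat_lit 1)), ((nat_lit 24), (nat_lit 12), (nat_lit 1), (nat_lit 1)), ((nat_lit 25), (nat_lit 13), (nat_lit 1), (nat_lit 1)), ((nat_lit 78), (nat_lit 46), (nat_lit 1), (nat_lit 1)), ((nat_lit 79), (nat_lit 47), (nat_lit 1), (nat_lit 1)), ((nat_lit 80), (nat_lit 48), (nat_lit 1), (nat_lit 1)), ((nat_lit 81), (nat_lit 49), (nat_lit 1), (nat_lit 1)), ((nat_lit 82), (nat_lit 50), (nat_lit 1), (nat_lit 1)), ((nat_lit 83), (nat_lit 51), (nat_lit 1), (nat_lit 1)), ((nat_lit 84), (nat_lit 52), (nat_lit 1), (nat_lit 1)), ((nat_lit 85), (nat_lit 53), (nat_lit 1), (nat_lit 1)), ((nat_lit 86), (nat_lit 54), (nat_lit 1), (nat_lit 1)), ((nat_lit 87), (nat_lit 55), (nat_lit 1), (nat_lit 1)), ((nat_lit 93), (nat_lit 66), (nat_lit 1), (nat_lit 1)), ((nat_lit 94), (nat_lit 67), (nat_lit 1), (nat_lit 1)), ((nat_lit 95),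 (nat_lit 68), (nat_lit 1), (nat_lit 1)), ((nat_lit 96), (nat_lit 69), (nat_lit 1), (nat_lit 1)), ((nat_lit 97), (nat_lit 70), (nat_lit 1), (nat_lit 1)), ((nat_lit 105), (nat_lit 71), (nat_lit 1), (nat_lit 1)), ((nat_lit 106), (nat_lit 72), (nat_lit 1), (nat_lit 1)), ((nat_lit 107), (nat_lit 73), (nat_lit 1), (nat_lit 1)), ((nat_lit 108), (nat_lit 74), (nat_lit 1), (nat_lit 1)), ((nat_lit 109), (nat_lit 75), (nat_lit 1), (nat_lit 1)), ((nat_lit 135), (nat_lit 77), (nat_lit 1), (nat_lit 1)), ((nat_lit 162), (nat_lit 104), (nat_lit 1), (nat_lit 1)), ((nat_lit 164), (nat_lit 130), (nat_lit 1), (nat_lit 1)), ((nat_lit 165), (nat_lit 131), (nat_lit 1), (nat_lit 1)), ((nat_lit 166), (nat_lit 132), (nat_lit 1), (nat_lit 1)), ((nat_lit 167), (nat_lit 133), (nat_lit 1), (nat_lit 1)), ((nat_lit 168), (nat_lit 134), (nat_lit 1), (nat_lit 1)), ((nat_lit 169), (nat_lit 142), (nat_lit 1), (nat_lit 1)), ((nat_lit 170), (nat_lit 143), (nat_lit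 1), (nat_lit 1)), ((nat_lit 171), (nat_lit 144), (nat_lit 1), (nat_lit 1)), ((nat_lit 172), (nat_lit 145), (nat_lit 1), (nat_lit 1)), ((nat_lit 173), (nat_lit 146), (nat_lit 1), (nat_lit 1)), ((nat_lit 184), (nat_lit 152), (nat_lit 1), (nat_lit 1)), ((nat_lit 185), (nat_lit 153), (nat_lit 1), (nat_lit 1)), ((nat_lit 186), (nat_lit 154), (nat_lit 1), (nat_lit 1)), ((nat_lit 187), (nat_lit 155), (nat_lit 1), (nat_lit 1)), ((nat_lit 188), (nat_lit 156), (nat_lit 1), (nat_lit 1)), ((nat_lit 189), (nat_lit 157), (nat_lit 1), (nat_lit 1)), ((nat_lit 190), (nat_lit 158), (nat_lit 1), (nat_lit 1)), ((nat_lit 191), (nat_lit 159), (nat_lit 1), (nat_lit 1)), ((nat_lit 192), (nat_lit 160), (nat_lit 1), (nat_lit 1)), ((nat_lit 193), (nat_lit 161), (nat_lit 1), (nat_lit 1)), ((nat_lit 226), (nat_lit 214), (nat_lit 1), (nat_lit 1)), ((nat_lit 227), (nat_lit 215), (nat_lit 1), (nat_lit 1)), ((nat_lit 228), (nat_lit 216), (nat_lit 1), (nat_lit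 1)), ((nat_lit 229), (nat_lit 217), (nat_lit 1), (nat_lit 1)), ((nat_lit 230), (nat_lit 218), (nat_lit 1), (nat_lit 1)), ((nat_lit 232), (nat_lit 224), (nat_lit 1), (nat_lit 1)), ((nat_lit 234), (nat_lit 225), (nat_lit 1), (nat_lit 1))]) (.leaf [((nat_lit 2), (nat_lit 36), (nat_lit 1), (nat_lit 1)), ((nat_lit 3), (nat_lit 37), (nat_lit 1), (nat_lit 1)), ((nat_lit 4), (nat_lit 40), (nat_lit 1), (nat_lit 1)), ((nat_lit 5), (nat_lit 46), (nat_lit 1), (nat_lit 1)), ((nat_lit 6), (nat_lit 56), (nat_lit 1), (nat_lit 1)), ((nat_lit 12), (nat_lit 71), (nat_lit 1), (nat_lit 1)), ((nat_lit 13), (nat_lit 72), (nat_lit 1), (nat_lit 1)), ((nat_lit 14), (nat_lit 78), (nat_lit 1), (nat_lit 1)), ((nat_lit 19), (nat_lit 99), (nat_lit 1), (nat_lit 1)), ((nat_lit 20), (nat_lit 100), (nat_lit 1), (nat_lit 1)), ((nat_lit 24), (nat_lit 105), (nat_lit 1), (nat_lit 1)), ((nat_lit 25), (nat_lit 106), (nat_lit 1), (nat_lit 1)), ((nat_lit 28), (nat_lit 110),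 (nat_lit 1), (nat_lit 1)), ((nat_lit 29), (nat_lit 111), (nat_lit 1), (nat_lit 1)), ((nat_lit 31), (nat_lit 114), (nat_lit 1), (nat_lit 1)), ((nat_lit 32), (nat_lit 115), (nat_lit 1), (nat_lit 1)), ((nat_lit 33), (nat_lit 117), (nat_lit 1), (nat_lit 1)), ((nat_lit 34), (nat_lit 118), (nat_lit 1), (nat_lit 1)), ((nat_lit 45), (nat_lit 141), (nat_lit 1), (nat_lit 1)), ((nat_lit 51), (nat_lit 142), (nat_lit 1), (nat_lit 1)), ((nat_lit 54), (nat_lit 143), (nat_lit 1), (nat_lit 1)), ((nat_lit 55), (nat_lit 144), (nat_lit 1), (nat_lit 1)), ((nat_lit 61), (nat_lit 147), (nat_lit 1), (nat_lit 1)), ((nat_lit 64), (nat_lit 148), (nat_lit 1), (nat_lit 1)), ((nat_lit 65), (nat_lit 149), (nat_lit 1), (nat_lit 1)), ((nat_lit 68), (nat_lit 152), (nat_lit 1), (nat_lit 1)), ((nat_lit 69), (nat_lit 153), (nat_lit 1), (nat_lit 1)), ((nat_lit 70), (nat_lit 156), (nat_lit 1), (nat_lit 1)), ((nat_lit 83), (nat_lit 169), (nat_lit 1), (nat_lit 1)), ((nat_lit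 86), (nat_lit 170), (nat_lit 1), (nat_lit 1)), ((nat_lit 87), (nat_lit 171), (nat_lit 1), (nat_lit 1)), ((nat_lit 90), (nat_lit 174), (nat_lit 1), (nat_lit 1)), ((nat_lit 91), (nat_lit 175), (nat_lit 1), (nat_lit 1)), ((nat_lit 92), (nat_lit 178), (nat_lit 1), (nat_lit 1)), ((nat_lit 95), (nat_lit 184), (nat_lit 1), (nat_lit 1)), ((nat_lit 96), (nat_lit 185), (nat_lit 1), (nat_lit 1)), ((nat_lit 97), (nat_lit 188), (nat_lit 1), (nat_lit 1)), ((nat_lit 98), (nat_lit 194), (nat_lit 1), (nat_lit 1)), ((nat_lit 121), (nat_lit 205), (nat_lit 1), (nat_lit 1)), ((nat_lit 122), (nat_lit 206), (nat_lit 1), (nat_lit 1)), ((nat_lit 124), (nat_lit 207), (nat_lit 1), (nat_lit 1)), ((nat_lit 125), (nat_lit 208), (nat_lit 1), (nat_lit 1)), ((nat_lit 128), (nat_lit 210), (nat_lit 1), (nat_lit 1)), ((nat_lit 129), (nat_lit 211), (nat_lit 1), (nat_lit 1)), ((nat_lit 133), (nat_lit 214), (nat_lit 1), (nat_lit 1)), ((nat_lit 134), (nat_lit 215), (nat_lit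 1), (nat_lit 1)), ((nat_lit 139), (nat_lit 219), (nat_lit 1), (nat_lit 1)), ((nat_lit 140), (nat_lit 220), (nat_lit 1), (nat_lit 1)), ((nat_lit 161), (nat_lit 225), (nat_lit 1), (nat_lit 1)), ((nat_lit 167), (nat_lit 226), (nat_lit 1), (nat_lit 1)), ((nat_lit 168), (nat_lit 227), (nat_lit 1), (nat_lit 1)), ((nat_lit 183), (nat_lit 233), (nat_lit 1), (nat_lit 1)), ((nat_lit 193), (nat_lit 234), (nat_lit 1), (nat_lit 1)), ((nat_lit 199), (nat_lit 235), (nat_lit 1), (nat_lit 1)), ((nat_lit 202), (nat_lit 236), (nat_lit 1), (nat_lit 1)), ((nat_lit 203), (nat_lit 237), (nat_lit 1), (nat_lit 1))]))) (.node (.node (.leaf [((nat_lit 26), (nat_lit 1), (nat_lit 1), (nat_lit 1)), ((nat_lit 28), (nat_lit 3), (nat_lit 1), (nat_lit 1)), ((nat_lit 31), (nat_lit 4), (nat_lit 1), (nat_lit 1)), ((nat_lit 47), (nat_lit 7), (nat_lit 1), (nat_lit 1)), ((nat_lit 57), (nat_lit 8), (nat_lit 1), (nat_lit 1)), ((nat_lit 66), (nat_lit 11), (nat_lit 1), (nat_lit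 1)), ((nat_lit 68), (nat_lit 13), (nat_lit 1), (nat_lit 1)), ((nat_lit 79), (nat_lit 15), (nat_lit 1), (nat_lit 1)), ((nat_lit 88), (nat_lit 18), (nat_lit 1), (nat_lit 1)), ((nat_lit 90), (nat_lit 20), (nat_lit 1), (nat_lit 1)), ((nat_lit 93), (nat_lit 23), (nat_lit 1), (nat_lit 1)), ((nat_lit 95), (nat_lit 25), (nat_lit 1), (nat_lit 1)), ((nat_lit 98), (nat_lit 34), (nat_lit 1), (nat_lit 1)), ((nat_lit 110), (nat_lit 37), (nat_lit 1), (nat_lit 1)), ((nat_lit 112), (nat_lit 39), (nat_lit 1), (nat_lit 1)), ((nat_lit 114), (nat_lit 40), (nat_lit 1), (nat_lit 1)), ((nat_lit 116), (nat_lit 42), (nat_lit 1), (nat_lit 1)), ((nat_lit 119), (nat_lit 43), (nat_lit 1), (nat_lit 1)), ((nat_lit 121), (nat_lit 45), (nat_lit 1), (nat_lit 1)), ((nat_lit 130), (nat_lit 50), (nat_lit 1), (nat_lit 1)), ((nat_lit 131), (nat_lit 53), (nat_lit 1), (nat_lit 1)), ((nat_lit 133), (nat_lit 55), (nat_lit 1), (nat_lit 1)), ((nat_lit 136), (nat_lit 60), (nat_lit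 1), (nat_lit 1)), ((nat_lit 137), (nat_lit 63), (nat_lit 1), (nat_lit 1)), ((nat_lit 139), (nat_lit 65), (nat_lit 1), (nat_lit 1)), ((nat_lit 152), (nat_lit 72), (nat_lit 1), (nat_lit 1)), ((nat_lit 154), (nat_lit 74), (nat_lit 1), (nat_lit 1)), ((nat_lit 157), (nat_lit 75), (nat_lit 1), (nat_lit 1)), ((nat_lit 164), (nat_lit 82), (nat_lit 1), (nat_lit 1)), ((nat_lit 165), (nat_lit 85), (nat_lit 1), (nat_lit 1)), ((nat_lit 167), (nat_lit 87), (nat_lit 1), (nat_lit 1)), ((nat_lit 174), (nat_lit 100), (nat_lit 1), (nat_lit 1)), ((nat_lit 176), (nat_lit 102), (nat_lit 1), (nat_lit 1)), ((nat_lit 179), (nat_lit 103), (nat_lit 1), (nat_lit 1)), ((nat_lit 184), (nat_lit 106), (nat_lit 1), (nat_lit 1)), ((nat_lit 186), (nat_lit 108), (nat_lit 1), (nat_lit 1)), ((nat_lit 189), (nat_lit 109), (nat_lit 1), (nat_lit 1)), ((nat_lit 194), (nat_lit 118), (nat_lit 1), (nat_lit 1)), ((nat_lit 196), (nat_lit 120), (nat_lit 1), (nat_lit 1)), ((nat_lit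 197), (nat_lit 123), (nat_lit 1), (nat_lit 1)), ((nat_lit 199), (nat_lit 125), (nat_lit 1), (nat_lit 1)), ((nat_lit 200), (nat_lit 127), (nat_lit 1), (nat_lit 1)), ((nat_lit 202), (nat_lit 129), (nat_lit 1), (nat_lit 1)), ((nat_lit 205), (nat_lit 141), (nat_lit 1), (nat_lit 1)), ((nat_lit 214), (nat_lit 144), (nat_lit 1), (nat_lit 1)), ((nat_lit 216), (nat_lit 146), (nat_lit 1), (nat_lit 1)), ((nat_lit 219), (nat_lit 149), (nat_lit 1), (nat_lit 1)), ((nat_lit 221), (nat_lit 151), (nat_lit 1), (nat_lit 1)), ((nat_lit 224), (nat_lit 160), (nat_lit 1), (nat_lit 1)), ((nat_lit 226), (nat_lit 171), (nat_lit 1), (nat_lit 1)), ((nat_lit 228), (nat_lit 173), (nat_lit 1), (nat_lit 1)), ((nat_lit 231), (nat_lit 182), (nat_lit 1), (nat_lit 1)), ((nat_lit 232), (nat_lit 192), (nat_lit 1), (nat_lit 1)), ((nat_lit 235), (nat_lit 208), (nat_lit 1), (nat_lit 1)), ((nat_lit 236), (nat_lit 211), (nat_lit 1), (nat_lit 1)), ((nat_lit 238), (nat_lit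 213), (nat_lit 1), (nat_lit 1))]) (.leaf [((nat_lit 1), (nat_lit 15), (nat_lit 1), (nat_lit 1)), ((nat_lit 5), (nat_lit 19), (nat_lit 1), (nat_lit 1)), ((nat_lit 6), (nat_lit 24), (nat_lit 1), (nat_lit 1)), ((nat_lit 9), (nat_lit 38), (nat_lit 1), (nat_lit 1)), ((nat_lit 10), (nat_lit 41), (nat_lit 1), (nat_lit 1)), ((nat_lit 11), (nat_lit 43), (nat_lit 1), (nat_lit 1)), ((nat_lit 13), (nat_lit 45), (nat_lit 1), (nat_lit 1)), ((nat_lit 26), (nat_lit 79), (nat_lit 1), (nat_lit 1)), ((nat_lit 27), (nat_lit 81), (nat_lit 1), (nat_lit 1)), ((nat_lit 29), (nat_lit 83), (nat_lit 1), (nat_lit 1)), ((nat_lit 30), (nat_lit 84), (nat_lit 1), (nat_lit 1)), ((nat_lit 32), (nat_lit 86), (nat_lit 1), (nat_lit 1)), ((nat_lit 34), (nat_lit 87), (nat_lit 1), (nat_lit 1)), ((nat_lit 46), (nat_lit 99), (nat_lit 1), (nat_lit 1)), ((nat_lit 48), (nat_lit 101), (nat_lit 1), (nat_lit 1)), ((nat_lit 50), (nat_lit 102), (nat_lit 1), (nat_lit 1)), ((nat_lit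 53), (nat_lit 103), (nat_lit 1), (nat_lit 1)), ((nat_lit 56), (nat_lit 105), (nat_lit 1), (nat_lit 1)), ((nat_lit 58), (nat_lit 107), (nat_lit 1), (nat_lit 1)), ((nat_lit 60), (nat_lit 108), (nat_lit 1), (nat_lit 1)), ((nat_lit 63), (nat_lit 109), (nat_lit 1), (nat_lit 1)), ((nat_lit 66), (nat_lit 119), (nat_lit 1), (nat_lit 1)), ((nat_lit 68), (nat_lit 121), (nat_lit 1), (nat_lit 1)), ((nat_lit 69), (nat_lit 124), (nat_lit 1), (nat_lit 1)), ((nat_lit 70), (nat_lit 128), (nat_lit 1), (nat_lit 1)), ((nat_lit 72), (nat_lit 141), (nat_lit 1), (nat_lit 1)), ((nat_lit 76), (nat_lit 145), (nat_lit 1), (nat_lit 1)), ((nat_lit 77), (nat_lit 150), (nat_lit 1), (nat_lit 1)), ((nat_lit 89), (nat_lit 162), (nat_lit 1), (nat_lit 1)), ((nat_lit 94), (nat_lit 163), (nat_lit 1), (nat_lit 1)), ((nat_lit 98), (nat_lit 167), (nat_lit 1), (nat_lit 1)), ((nat_lit 111), (nat_lit 169), (nat_lit 1), (nat_lit 1)), ((nat_lit 115), (nat_lit 170), (nat_lit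 1), (nat_lit 1)), ((nat_lit 118), (nat_lit 171), (nat_lit 1), (nat_lit 1)), ((nat_lit 120), (nat_lit 173), (nat_lit 1), (nat_lit 1)), ((nat_lit 130), (nat_lit 176), (nat_lit 1), (nat_lit 1)), ((nat_lit 131), (nat_lit 179), (nat_lit 1), (nat_lit 1)), ((nat_lit 132), (nat_lit 181), (nat_lit 1), (nat_lit 1)), ((nat_lit 134), (nat_lit 183), (nat_lit 1), (nat_lit 1)), ((nat_lit 136), (nat_lit 186), (nat_lit 1), (nat_lit 1)), ((nat_lit 137), (nat_lit 189), (nat_lit 1), (nat_lit 1)), ((nat_lit 138), (nat_lit 191), (nat_lit 1), (nat_lit 1)), ((nat_lit 140), (nat_lit 193), (nat_lit 1), (nat_lit 1)), ((nat_lit 152), (nat_lit 205), (nat_lit 1), (nat_lit 1)), ((nat_lit 153), (nat_lit 207), (nat_lit 1), (nat_lit 1)), ((nat_lit 155), (nat_lit 209), (nat_lit 1), (nat_lit 1)), ((nat_lit 156), (nat_lit 210), (nat_lit 1), (nat_lit 1)), ((nat_lit 158), (nat_lit 212), (nat_lit 1), (nat_lit 1)), ((nat_lit 160), (nat_lit 213), (nat_lit 1), (nat_lit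 1)), ((nat_lit 194), (nat_lit 226), (nat_lit 1), (nat_lit 1)), ((nat_lit 196), (nat_lit 228), (nat_lit 1), (nat_lit 1)), ((nat_lit 198), (nat_lit 229), (nat_lit 1), (nat_lit 1)), ((nat_lit 201), (nat_lit 230), (nat_lit 1), (nat_lit 1)), ((nat_lit 215), (nat_lit 233), (nat_lit 1), (nat_lit 1)), ((nat_lit 220), (nat_lit 234), (nat_lit 1), (nat_lit 1)), ((nat_lit 224), (nat_lit 238), (nat_lit 1), (nat_lit 1))])) (.node (.leaf [((nat_lit 5), (nat_lit 3), (nat_lit 1), (nat_lit 1)), ((nat_lit 10), (nat_lit 8), (nat_lit 1), (nat_lit 1)), ((nat_lit 17), (nat_lit 15), (nat_lit 1), (nat_lit 1)), ((nat_lit 26), (nat_lit 21), (nat_lit 1), (nat_lit 1)), ((nat_lit 30), (nat_lit 23), (nat_lit 1), (nat_lit 1)), ((nat_lit 31), (nat_lit 24), (nat_lit 1), (nat_lit 1)), ((nat_lit 32), (nat_lit 25), (nat_lit 1), (nat_lit 1)), ((nat_lit 46), (nat_lit 37), (nat_lit 1), (nat_lit 1)), ((nat_lit 47), (nat_lit 38), (nat_lit 1), (nat_lit 1)), ((nat_lit 48),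 (nat_lit 39), (nat_lit 1), (nat_lit 1)), ((nat_lit 52), (nat_lit 43), (nat_lit 1), (nat_lit 1)), ((nat_lit 53), (nat_lit 44), (nat_lit 1), (nat_lit 1)), ((nat_lit 54), (nat_lit 45), (nat_lit 1), (nat_lit 1)), ((nat_lit 66), (nat_lit 59), (nat_lit 1), (nat_lit 1)), ((nat_lit 67), (nat_lit 60), (nat_lit 1), (nat_lit 1)), ((nat_lit 68), (nat_lit 61), (nat_lit 1), (nat_lit 1)), ((nat_lit 70), (nat_lit 65), (nat_lit 1), (nat_lit 1)), ((nat_lit 76), (nat_lit 74), (nat_lit 1), (nat_lit 1)), ((nat_lit 88), (nat_lit 81), (nat_lit 1), (nat_lit 1)), ((nat_lit 89), (nat_lit 82), (nat_lit 1), (nat_lit 1)), ((nat_lit 90), (nat_lit 83), (nat_lit 1), (nat_lit 1)), ((nat_lit 92), (nat_lit 87), (nat_lit 1), (nat_lit 1)), ((nat_lit 98), (nat_lit 96), (nat_lit 1), (nat_lit 1)), ((nat_lit 104), (nat_lit 102), (nat_lit 1), (nat_lit 1)), ((nat_lit 114), (nat_lit 105), (nat_lit 1), (nat_lit 1)), ((nat_lit 115), (nat_lit 106), (nat_lit 1), (nat_lit 1)),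 ((nat_lit 116), (nat_lit 107), (nat_lit 1), (nat_lit 1)), ((nat_lit 126), (nat_lit 109), (nat_lit 1), (nat_lit 1)), ((nat_lit 130), (nat_lit 113), (nat_lit 1), (nat_lit 1)), ((nat_lit 132), (nat_lit 123), (nat_lit 1), (nat_lit 1)), ((nat_lit 133), (nat_lit 124), (nat_lit 1), (nat_lit 1)), ((nat_lit 134), (nat_lit 125), (nat_lit 1), (nat_lit 1)), ((nat_lit 137), (nat_lit 135), (nat_lit 1), (nat_lit 1)), ((nat_lit 143), (nat_lit 141), (nat_lit 1), (nat_lit 1)), ((nat_lit 152), (nat_lit 147), (nat_lit 1), (nat_lit 1)), ((nat_lit 156), (nat_lit 149), (nat_lit 1), (nat_lit 1)), ((nat_lit 157), (nat_lit 150), (nat_lit 1), (nat_lit 1)), ((nat_lit 158), (nat_lit 151), (nat_lit 1), (nat_lit 1)), ((nat_lit 165), (nat_lit 163), (nat_lit 1), (nat_lit 1)), ((nat_lit 174), (nat_lit 169), (nat_lit 1), (nat_lit 1)), ((nat_lit 178), (nat_lit 171), (nat_lit 1), (nat_lit 1)), ((nat_lit 179), (nat_lit 172), (nat_lit 1), (nat_lit 1)), ((nat_lit 180),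 (nat_lit 173), (nat_lit 1), (nat_lit 1)), ((nat_lit 194), (nat_lit 185), (nat_lit 1), (nat_lit 1)), ((nat_lit 195), (nat_lit 186), (nat_lit 1), (nat_lit 1)), ((nat_lit 196), (nat_lit 187), (nat_lit 1), (nat_lit 1)), ((nat_lit 200), (nat_lit 191), (nat_lit 1), (nat_lit 1)), ((nat_lit 201), (nat_lit 192), (nat_lit 1), (nat_lit 1)), ((nat_lit 202), (nat_lit 193), (nat_lit 1), (nat_lit 1)), ((nat_lit 214), (nat_lit 207), (nat_lit 1), (nat_lit 1)), ((nat_lit 215), (nat_lit 208), (nat_lit 1), (nat_lit 1)), ((nat_lit 216), (nat_lit 209), (nat_lit 1), (nat_lit 1)), ((nat_lit 218), (nat_lit 213), (nat_lit 1), (nat_lit 1)), ((nat_lit 224), (nat_lit 222), (nat_lit 1), (nat_lit 1)), ((nat_lit 231), (nat_lit 229), (nat_lit 1), (nat_lit 1)), ((nat_lit 236), (nat_lit 234), (nat_lit 1), (nat_lit 1))]) (.leaf [((nat_lit 0), (nat_lit 114), (nat_lit 1), (nat_lit 1)), ((nat_lit 1), (nat_lit 115), (nat_lit 1), (nat_lit 1)), ((nat_lit 2), (nat_lit 116),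 (nat_lit 1), (nat_lit 1)), ((nat_lit 4), (nat_lit 126), (nat_lit 1), (nat_lit 1)), ((nat_lit 5), (nat_lit 131), (nat_lit 1), (nat_lit 1)), ((nat_lit 6), (nat_lit 137), (nat_lit 1), (nat_lit 1)), ((nat_lit 7), (nat_lit 143), (nat_lit 1), (nat_lit 1)), ((nat_lit 8), (nat_lit 148), (nat_lit 1), (nat_lit 1)), ((nat_lit 9), (nat_lit 152), (nat_lit 1), (nat_lit 1)), ((nat_lit 11), (nat_lit 156), (nat_lit 1), (nat_lit 1)), ((nat_lit 12), (nat_lit 157), (nat_lit 1), (nat_lit 1)), ((nat_lit 13), (nat_lit 158), (nat_lit 1), (nat_lit 1)), ((nat_lit 14), (nat_lit 165), (nat_lit 1), (nat_lit 1)), ((nat_lit 15), (nat_lit 170), (nat_lit 1), (nat_lit 1)), ((nat_lit 16), (nat_lit 174), (nat_lit 1), (nat_lit 1)), ((nat_lit 18), (nat_lit 178), (nat_lit 1), (nat_lit 1)), ((nat_lit 19), (nat_lit 179), (nat_lit 1), (nat_lit 1)), ((nat_lit 20), (nat_lit 180), (nat_lit 1), (nat_lit 1)), ((nat_lit 21), (nat_lit 184), (nat_lit 1), (nat_lit 1)), ((nat_lit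 23), (nat_lit 188), (nat_lit 1), (nat_lit 1)), ((nat_lit 24), (nat_lit 189), (nat_lit 1), (nat_lit 1)), ((nat_lit 25), (nat_lit 190), (nat_lit 1), (nat_lit 1)), ((nat_lit 27), (nat_lit 194), (nat_lit 1), (nat_lit 1)), ((nat_lit 28), (nat_lit 195), (nat_lit 1), (nat_lit 1)), ((nat_lit 29), (nat_lit 196), (nat_lit 1), (nat_lit 1)), ((nat_lit 33), (nat_lit 200), (nat_lit 1), (nat_lit 1)), ((nat_lit 34), (nat_lit 201), (nat_lit 1), (nat_lit 1)), ((nat_lit 35), (nat_lit 202), (nat_lit 1), (nat_lit 1)), ((nat_lit 37), (nat_lit 204), (nat_lit 1), (nat_lit 1)), ((nat_lit 38), (nat_lit 205), (nat_lit 1), (nat_lit 1)), ((nat_lit 39), (nat_lit 206), (nat_lit 1), (nat_lit 1)), ((nat_lit 43), (nat_lit 210), (nat_lit 1), (nat_lit 1)), ((nat_lit 44), (nat_lit 211), (nat_lit 1), (nat_lit 1)), ((nat_lit 45), (nat_lit 212), (nat_lit 1), (nat_lit 1)), ((nat_lit 49), (nat_lit 214), (nat_lit 1), (nat_lit 1)), ((nat_lit 50), (nat_lit 215), (nat_lit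 1), (nat_lit 1)), ((nat_lit 51), (nat_lit 216), (nat_lit 1), (nat_lit 1)), ((nat_lit 55), (nat_lit 218), (nat_lit 1), (nat_lit 1)), ((nat_lit 59), (nat_lit 219), (nat_lit 1), (nat_lit 1)), ((nat_lit 60), (nat_lit 220), (nat_lit 1), (nat_lit 1)), ((nat_lit 61), (nat_lit 221), (nat_lit 1), (nat_lit 1)), ((nat_lit 65), (nat_lit 223), (nat_lit 1), (nat_lit 1)), ((nat_lit 69), (nat_lit 224), (nat_lit 1), (nat_lit 1)), ((nat_lit 74), (nat_lit 225), (nat_lit 1), (nat_lit 1)), ((nat_lit 81), (nat_lit 226), (nat_lit 1), (nat_lit 1)), ((nat_lit 82), (nat_lit 227), (nat_lit 1), (nat_lit 1)), ((nat_lit 83), (nat_lit 228), (nat_lit 1), (nat_lit 1)), ((nat_lit 87), (nat_lit 230), (nat_lit 1), (nat_lit 1)), ((nat_lit 91), (nat_lit 231), (nat_lit 1), (nat_lit 1)), ((nat_lit 96), (nat_lit 232), (nat_lit 1), (nat_lit 1)), ((nat_lit 102), (nat_lit 233), (nat_lit 1), (nat_lit 1)), ((nat_lit 108), (nat_lit 234), (nat_lit 1), (nat_lit 1)), ((nat_lit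 113), (nat_lit 235), (nat_lit 1), (nat_lit 1)), ((nat_lit 123), (nat_lit 237), (nat_lit 1), (nat_lit 1)), ((nat_lit 124), (nat_lit 238), (nat_lit 1), (nat_lit 1)), ((nat_lit 125), (nat_lit 239), (nat_lit 1), (nat_lit 1))])))) (.node (.node (.node (.leaf [((nat_lit 40), (nat_lit 0), (nat_lit 1), (nat_lit 1)), ((nat_lit 42), (nat_lit 2), (nat_lit 1), (nat_lit 1)), ((nat_lit 44), (nat_lit 3), (nat_lit 1), (nat_lit 1)), ((nat_lit 53), (nat_lit 5), (nat_lit 1), (nat_lit 1)), ((nat_lit 63), (nat_lit 6), (nat_lit 1), (nat_lit 1)), ((nat_lit 72), (nat_lit 9), (nat_lit 1), (nat_lit 1)), ((nat_lit 75), (nat_lit 12), (nat_lit 1), (nat_lit 1)), ((nat_lit 85), (nat_lit 14), (nat_lit 1), (nat_lit 1)), ((nat_lit 100), (nat_lit 16), (nat_lit 1), (nat_lit 1)), ((nat_lit 103), (nat_lit 19), (nat_lit 1), (nat_lit 1)), ((nat_lit 106), (nat_lit 21), (nat_lit 1), (nat_lit 1)), ((nat_lit 109), (nat_lit 24), (nat_lit 1), (nat_lit 1)), ((nat_lit 115),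 (nat_lit 26), (nat_lit 1), (nat_lit 1)), ((nat_lit 118), (nat_lit 27), (nat_lit 1), (nat_lit 1)), ((nat_lit 120), (nat_lit 29), (nat_lit 1), (nat_lit 1)), ((nat_lit 126), (nat_lit 31), (nat_lit 1), (nat_lit 1)), ((nat_lit 127), (nat_lit 33), (nat_lit 1), (nat_lit 1)), ((nat_lit 129), (nat_lit 35), (nat_lit 1), (nat_lit 1)), ((nat_lit 141), (nat_lit 38), (nat_lit 1), (nat_lit 1)), ((nat_lit 143), (nat_lit 47), (nat_lit 1), (nat_lit 1)), ((nat_lit 144), (nat_lit 49), (nat_lit 1), (nat_lit 1)), ((nat_lit 146), (nat_lit 51), (nat_lit 1), (nat_lit 1)), ((nat_lit 148), (nat_lit 57), (nat_lit 1), (nat_lit 1)), ((nat_lit 149), (nat_lit 59), (nat_lit 1), (nat_lit 1)), ((nat_lit 151), (nat_lit 61), (nat_lit 1), (nat_lit 1)), ((nat_lit 156), (nat_lit 66), (nat_lit 1), (nat_lit 1)), ((nat_lit 158), (nat_lit 68), (nat_lit 1), (nat_lit 1)), ((nat_lit 160), (nat_lit 69), (nat_lit 1), (nat_lit 1)), ((nat_lit 170), (nat_lit 79), (nat_lit 1), (nat_lit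 1)), ((nat_lit 171), (nat_lit 81), (nat_lit 1), (nat_lit 1)), ((nat_lit 173), (nat_lit 83), (nat_lit 1), (nat_lit 1)), ((nat_lit 178), (nat_lit 88), (nat_lit 1), (nat_lit 1)), ((nat_lit 180), (nat_lit 90), (nat_lit 1), (nat_lit 1)), ((nat_lit 182), (nat_lit 91), (nat_lit 1), (nat_lit 1)), ((nat_lit 188), (nat_lit 93), (nat_lit 1), (nat_lit 1)), ((nat_lit 190), (nat_lit 95), (nat_lit 1), (nat_lit 1)), ((nat_lit 192), (nat_lit 96), (nat_lit 1), (nat_lit 1)), ((nat_lit 201), (nat_lit 98), (nat_lit 1), (nat_lit 1)), ((nat_lit 204), (nat_lit 110), (nat_lit 1), (nat_lit 1)), ((nat_lit 206), (nat_lit 112), (nat_lit 1), (nat_lit 1)), ((nat_lit 208), (nat_lit 113), (nat_lit 1), (nat_lit 1)), ((nat_lit 210), (nat_lit 119), (nat_lit 1), (nat_lit 1)), ((nat_lit 212), (nat_lit 121), (nat_lit 1), (nat_lit 1)), ((nat_lit 213), (nat_lit 124), (nat_lit 1), (nat_lit 1)), ((nat_lit 215), (nat_lit 130), (nat_lit 1), (nat_lit 1)), ((nat_lit 218), (nat_lit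 133), (nat_lit 1), (nat_lit 1)), ((nat_lit 220), (nat_lit 136), (nat_lit 1), (nat_lit 1)), ((nat_lit 223), (nat_lit 139), (nat_lit 1), (nat_lit 1)), ((nat_lit 225), (nat_lit 154), (nat_lit 1), (nat_lit 1)), ((nat_lit 227), (nat_lit 164), (nat_lit 1), (nat_lit 1)), ((nat_lit 230), (nat_lit 167), (nat_lit 1), (nat_lit 1)), ((nat_lit 233), (nat_lit 176), (nat_lit 1), (nat_lit 1)), ((nat_lit 234), (nat_lit 186), (nat_lit 1), (nat_lit 1)), ((nat_lit 236), (nat_lit 195), (nat_lit 1), (nat_lit 1)), ((nat_lit 237), (nat_lit 197), (nat_lit 1), (nat_lit 1)), ((nat_lit 239), (nat_lit 199), (nat_lit 1), (nat_lit 1))]) (.leaf [((nat_lit 2), (nat_lit 10), (nat_lit 1), (nat_lit 1)), ((nat_lit 3), (nat_lit 11), (nat_lit 1), (nat_lit 1)), ((nat_lit 14), (nat_lit 30), (nat_lit 1), (nat_lit 1)), ((nat_lit 15), (nat_lit 40), (nat_lit 1), (nat_lit 1)), ((nat_lit 16), (nat_lit 46), (nat_lit 1), (nat_lit 1)), ((nat_lit 19), (nat_lit 52), (nat_lit 1),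 (nat_lit 1)), ((nat_lit 20), (nat_lit 53), (nat_lit 1), (nat_lit 1)), ((nat_lit 21), (nat_lit 56), (nat_lit 1), (nat_lit 1)), ((nat_lit 24), (nat_lit 62), (nat_lit 1), (nat_lit 1)), ((nat_lit 25), (nat_lit 63), (nat_lit 1), (nat_lit 1)), ((nat_lit 28), (nat_lit 66), (nat_lit 1), (nat_lit 1)), ((nat_lit 29), (nat_lit 67), (nat_lit 1), (nat_lit 1)), ((nat_lit 35), (nat_lit 70), (nat_lit 1), (nat_lit 1)), ((nat_lit 38), (nat_lit 71), (nat_lit 1), (nat_lit 1)), ((nat_lit 39), (nat_lit 72), (nat_lit 1), (nat_lit 1)), ((nat_lit 45), (nat_lit 75), (nat_lit 1), (nat_lit 1)), ((nat_lit 51), (nat_lit 76), (nat_lit 1), (nat_lit 1)), ((nat_lit 61), (nat_lit 77), (nat_lit 1), (nat_lit 1)), ((nat_lit 79), (nat_lit 114), (nat_lit 1), (nat_lit 1)), ((nat_lit 80), (nat_lit 115), (nat_lit 1), (nat_lit 1)), ((nat_lit 81), (nat_lit 117), (nat_lit 1), (nat_lit 1)), ((nat_lit 82), (nat_lit 118), (nat_lit 1), (nat_lit 1)), ((nat_lit 86), (nat_lit 126),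 (nat_lit 1), (nat_lit 1)), ((nat_lit 87), (nat_lit 127), (nat_lit 1), (nat_lit 1)), ((nat_lit 90), (nat_lit 131), (nat_lit 1), (nat_lit 1)), ((nat_lit 91), (nat_lit 132), (nat_lit 1), (nat_lit 1)), ((nat_lit 95), (nat_lit 137), (nat_lit 1), (nat_lit 1)), ((nat_lit 96), (nat_lit 138), (nat_lit 1), (nat_lit 1)), ((nat_lit 101), (nat_lit 143), (nat_lit 1), (nat_lit 1)), ((nat_lit 102), (nat_lit 144), (nat_lit 1), (nat_lit 1)), ((nat_lit 107), (nat_lit 148), (nat_lit 1), (nat_lit 1)), ((nat_lit 108), (nat_lit 149), (nat_lit 1), (nat_lit 1)), ((nat_lit 112), (nat_lit 152), (nat_lit 1), (nat_lit 1)), ((nat_lit 113), (nat_lit 153), (nat_lit 1), (nat_lit 1)), ((nat_lit 121), (nat_lit 157), (nat_lit 1), (nat_lit 1)), ((nat_lit 122), (nat_lit 158), (nat_lit 1), (nat_lit 1)), ((nat_lit 124), (nat_lit 159), (nat_lit 1), (nat_lit 1)), ((nat_lit 125), (nat_lit 160), (nat_lit 1), (nat_lit 1)), ((nat_lit 162), (nat_lit 178), (nat_lit 1), (nat_lit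 1)), ((nat_lit 163), (nat_lit 188), (nat_lit 1), (nat_lit 1)), ((nat_lit 164), (nat_lit 194), (nat_lit 1), (nat_lit 1)), ((nat_lit 167), (nat_lit 200), (nat_lit 1), (nat_lit 1)), ((nat_lit 168), (nat_lit 201), (nat_lit 1), (nat_lit 1)), ((nat_lit 169), (nat_lit 204), (nat_lit 1), (nat_lit 1)), ((nat_lit 172), (nat_lit 210), (nat_lit 1), (nat_lit 1)), ((nat_lit 173), (nat_lit 211), (nat_lit 1), (nat_lit 1)), ((nat_lit 176), (nat_lit 214), (nat_lit 1), (nat_lit 1)), ((nat_lit 177), (nat_lit 215), (nat_lit 1), (nat_lit 1)), ((nat_lit 183), (nat_lit 218), (nat_lit 1), (nat_lit 1)), ((nat_lit 186), (nat_lit 219), (nat_lit 1), (nat_lit 1)), ((nat_lit 187), (nat_lit 220), (nat_lit 1), (nat_lit 1)), ((nat_lit 193), (nat_lit 223), (nat_lit 1), (nat_lit 1)), ((nat_lit 199), (nat_lit 224), (nat_lit 1), (nat_lit 1)), ((nat_lit 209), (nat_lit 225), (nat_lit 1), (nat_lit 1)), ((nat_lit 228), (nat_lit 236), (nat_lit 1), (nat_lit 1)), ((nat_lit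 229), (nat_lit 237), (nat_lit 1), (nat_lit 1))])) (.node (.leaf [((nat_lit 8), (nat_lit 4), (nat_lit 1), (nat_lit 1)), ((nat_lit 9), (nat_lit 5), (nat_lit 1), (nat_lit 1)), ((nat_lit 21), (nat_lit 14), (nat_lit 1), (nat_lit 1)), ((nat_lit 36), (nat_lit 17), (nat_lit 1), (nat_lit 1)), ((nat_lit 37), (nat_lit 18), (nat_lit 1), (nat_lit 1)), ((nat_lit 38), (nat_lit 19), (nat_lit 1), (nat_lit 1)), ((nat_lit 39), (nat_lit 20), (nat_lit 1), (nat_lit 1)), ((nat_lit 56), (nat_lit 30), (nat_lit 1), (nat_lit 1)), ((nat_lit 57), (nat_lit 31), (nat_lit 1), (nat_lit 1)), ((nat_lit 58), (nat_lit 32), (nat_lit 1), (nat_lit 1)), ((nat_lit 59), (nat_lit 33), (nat_lit 1), (nat_lit 1)), ((nat_lit 60), (nat_lit 34), (nat_lit 1), (nat_lit 1)), ((nat_lit 61), (nat_lit 35), (nat_lit 1), (nat_lit 1)), ((nat_lit 71), (nat_lit 52), (nat_lit 1), (nat_lit 1)), ((nat_lit 72), (nat_lit 53), (nat_lit 1), (nat_lit 1)), ((nat_lit 73), (nat_lit 54), (nat_lit 1),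 (nat_lit 1)), ((nat_lit 74), (nat_lit 55), (nat_lit 1), (nat_lit 1)), ((nat_lit 77), (nat_lit 70), (nat_lit 1), (nat_lit 1)), ((nat_lit 105), (nat_lit 84), (nat_lit 1), (nat_lit 1)), ((nat_lit 106), (nat_lit 85), (nat_lit 1), (nat_lit 1)), ((nat_lit 107), (nat_lit 86), (nat_lit 1), (nat_lit 1)), ((nat_lit 108), (nat_lit 87), (nat_lit 1), (nat_lit 1)), ((nat_lit 110), (nat_lit 88), (nat_lit 1), (nat_lit 1)), ((nat_lit 111), (nat_lit 89), (nat_lit 1), (nat_lit 1)), ((nat_lit 112), (nat_lit 90), (nat_lit 1), (nat_lit 1)), ((nat_lit 113), (nat_lit 91), (nat_lit 1), (nat_lit 1)), ((nat_lit 135), (nat_lit 97), (nat_lit 1), (nat_lit 1)), ((nat_lit 136), (nat_lit 98), (nat_lit 1), (nat_lit 1)), ((nat_lit 141), (nat_lit 103), (nat_lit 1), (nat_lit 1)), ((nat_lit 142), (nat_lit 104), (nat_lit 1), (nat_lit 1)), ((nat_lit 148), (nat_lit 126), (nat_lit 1), (nat_lit 1)), ((nat_lit 149), (nat_lit 127), (nat_lit 1), (nat_lit 1)), ((nat_lit 150),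 (nat_lit 128), (nat_lit 1), (nat_lit 1)), ((nat_lit 151), (nat_lit 129), (nat_lit 1), (nat_lit 1)), ((nat_lit 152), (nat_lit 131), (nat_lit 1), (nat_lit 1)), ((nat_lit 153), (nat_lit 132), (nat_lit 1), (nat_lit 1)), ((nat_lit 154), (nat_lit 133), (nat_lit 1), (nat_lit 1)), ((nat_lit 155), (nat_lit 134), (nat_lit 1), (nat_lit 1)), ((nat_lit 169), (nat_lit 162), (nat_lit 1), (nat_lit 1)), ((nat_lit 184), (nat_lit 165), (nat_lit 1), (nat_lit 1)), ((nat_lit 185), (nat_lit 166), (nat_lit 1), (nat_lit 1)), ((nat_lit 186), (nat_lit 167), (nat_lit 1), (nat_lit 1)), ((nat_lit 187), (nat_lit 168), (nat_lit 1), (nat_lit 1)), ((nat_lit 204), (nat_lit 178), (nat_lit 1), (nat_lit 1)), ((nat_lit 205), (nat_lit 179), (nat_lit 1), (nat_lit 1)), ((nat_lit 206), (nat_lit 180), (nat_lit 1), (nat_lit 1)), ((nat_lit 207), (nat_lit 181), (nat_lit 1), (nat_lit 1)), ((nat_lit 208), (nat_lit 182), (nat_lit 1), (nat_lit 1)), ((nat_lit 209), (nat_lit 183),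 (nat_lit 1), (nat_lit 1)), ((nat_lit 219), (nat_lit 200), (nat_lit 1), (nat_lit 1)), ((nat_lit 220), (nat_lit 201), (nat_lit 1), (nat_lit 1)), ((nat_lit 221), (nat_lit 202), (nat_lit 1), (nat_lit 1)), ((nat_lit 222), (nat_lit 203), (nat_lit 1), (nat_lit 1)), ((nat_lit 225), (nat_lit 218), (nat_lit 1), (nat_lit 1)), ((nat_lit 234), (nat_lit 230), (nat_lit 1), (nat_lit 1)), ((nat_lit 235), (nat_lit 231), (nat_lit 1), (nat_lit 1))]) (.leaf [((nat_lit 0), (nat_lit 56), (nat_lit 1), (nat_lit 1)), ((nat_lit 2), (nat_lit 58), (nat_lit 1), (nat_lit 1)), ((nat_lit 3), (nat_lit 60), (nat_lit 1), (nat_lit 1)), ((nat_lit 4), (nat_lit 63), (nat_lit 1), (nat_lit 1)), ((nat_lit 5), (nat_lit 67), (nat_lit 1), (nat_lit 1)), ((nat_lit 7), (nat_lit 72), (nat_lit 1), (nat_lit 1)), ((nat_lit 12), (nat_lit 77), (nat_lit 1), (nat_lit 1)), ((nat_lit 14), (nat_lit 94), (nat_lit 1), (nat_lit 1)), ((nat_lit 15), (nat_lit 106), (nat_lit 1), (nat_lit 1)),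 ((nat_lit 16), (nat_lit 111), (nat_lit 1), (nat_lit 1)), ((nat_lit 17), (nat_lit 115), (nat_lit 1), (nat_lit 1)), ((nat_lit 18), (nat_lit 118), (nat_lit 1), (nat_lit 1)), ((nat_lit 20), (nat_lit 120), (nat_lit 1), (nat_lit 1)), ((nat_lit 24), (nat_lit 135), (nat_lit 1), (nat_lit 1)), ((nat_lit 28), (nat_lit 136), (nat_lit 1), (nat_lit 1)), ((nat_lit 31), (nat_lit 137), (nat_lit 1), (nat_lit 1)), ((nat_lit 33), (nat_lit 138), (nat_lit 1), (nat_lit 1)), ((nat_lit 35), (nat_lit 140), (nat_lit 1), (nat_lit 1)), ((nat_lit 38), (nat_lit 147), (nat_lit 1), (nat_lit 1)), ((nat_lit 41), (nat_lit 148), (nat_lit 1), (nat_lit 1)), ((nat_lit 43), (nat_lit 149), (nat_lit 1), (nat_lit 1)), ((nat_lit 45), (nat_lit 151), (nat_lit 1), (nat_lit 1)), ((nat_lit 47), (nat_lit 152), (nat_lit 1), (nat_lit 1)), ((nat_lit 49), (nat_lit 153), (nat_lit 1), (nat_lit 1)), ((nat_lit 51), (nat_lit 155), (nat_lit 1), (nat_lit 1)), ((nat_lit 52), (nat_lit 156),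 (nat_lit 1), (nat_lit 1)), ((nat_lit 54), (nat_lit 158), (nat_lit 1), (nat_lit 1)), ((nat_lit 55), (nat_lit 160), (nat_lit 1), (nat_lit 1)), ((nat_lit 79), (nat_lit 184), (nat_lit 1), (nat_lit 1)), ((nat_lit 81), (nat_lit 185), (nat_lit 1), (nat_lit 1)), ((nat_lit 83), (nat_lit 187), (nat_lit 1), (nat_lit 1)), ((nat_lit 84), (nat_lit 188), (nat_lit 1), (nat_lit 1)), ((nat_lit 86), (nat_lit 190), (nat_lit 1), (nat_lit 1)), ((nat_lit 87), (nat_lit 192), (nat_lit 1), (nat_lit 1)), ((nat_lit 88), (nat_lit 194), (nat_lit 1), (nat_lit 1)), ((nat_lit 90), (nat_lit 196), (nat_lit 1), (nat_lit 1)), ((nat_lit 91), (nat_lit 198), (nat_lit 1), (nat_lit 1)), ((nat_lit 92), (nat_lit 201), (nat_lit 1), (nat_lit 1)), ((nat_lit 99), (nat_lit 204), (nat_lit 1), (nat_lit 1)), ((nat_lit 101), (nat_lit 206), (nat_lit 1), (nat_lit 1)), ((nat_lit 102), (nat_lit 208), (nat_lit 1), (nat_lit 1)), ((nat_lit 103), (nat_lit 211), (nat_lit 1), (nat_lit 1)),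 ((nat_lit 104), (nat_lit 215), (nat_lit 1), (nat_lit 1)), ((nat_lit 119), (nat_lit 219), (nat_lit 1), (nat_lit 1)), ((nat_lit 121), (nat_lit 221), (nat_lit 1), (nat_lit 1)), ((nat_lit 124), (nat_lit 222), (nat_lit 1), (nat_lit 1)), ((nat_lit 128), (nat_lit 223), (nat_lit 1), (nat_lit 1)), ((nat_lit 133), (nat_lit 224), (nat_lit 1), (nat_lit 1)), ((nat_lit 145), (nat_lit 225), (nat_lit 1), (nat_lit 1)), ((nat_lit 162), (nat_lit 227), (nat_lit 1), (nat_lit 1)), ((nat_lit 167), (nat_lit 232), (nat_lit 1), (nat_lit 1)), ((nat_lit 172), (nat_lit 234), (nat_lit 1), (nat_lit 1)), ((nat_lit 176), (nat_lit 235), (nat_lit 1), (nat_lit 1)), ((nat_lit 179), (nat_lit 236), (nat_lit 1), (nat_lit 1)), ((nat_lit 181), (nat_lit 237), (nat_lit 1), (nat_lit 1)), ((nat_lit 183), (nat_lit 239), (nat_lit 1), (nat_lit 1))]))) (.node (.node (.leaf [((nat_lit 17), (nat_lit 1), (nat_lit 1), (nat_lit 1)), ((nat_lit 19), (nat_lit 3), (nat_lit 1), (nat_lit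 1)), ((nat_lit 31), (nat_lit 6), (nat_lit 1), (nat_lit 1)), ((nat_lit 41), (nat_lit 8), (nat_lit 1), (nat_lit 1)), ((nat_lit 47), (nat_lit 9), (nat_lit 1), (nat_lit 1)), ((nat_lit 52), (nat_lit 11), (nat_lit 1), (nat_lit 1)), ((nat_lit 54), (nat_lit 13), (nat_lit 1), (nat_lit 1)), ((nat_lit 79), (nat_lit 21), (nat_lit 1), (nat_lit 1)), ((nat_lit 84), (nat_lit 23), (nat_lit 1), (nat_lit 1)), ((nat_lit 86), (nat_lit 25), (nat_lit 1), (nat_lit 1)), ((nat_lit 88), (nat_lit 27), (nat_lit 1), (nat_lit 1)), ((nat_lit 90), (nat_lit 29), (nat_lit 1), (nat_lit 1)), ((nat_lit 92), (nat_lit 34), (nat_lit 1), (nat_lit 1)), ((nat_lit 99), (nat_lit 37), (nat_lit 1), (nat_lit 1)), ((nat_lit 101), (nat_lit 39), (nat_lit 1), (nat_lit 1)), ((nat_lit 103), (nat_lit 44), (nat_lit 1), (nat_lit 1)), ((nat_lit 104), (nat_lit 50), (nat_lit 1), (nat_lit 1)), ((nat_lit 114), (nat_lit 56), (nat_lit 1), (nat_lit 1)), ((nat_lit 116), (nat_lit 58), (nat_lit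 1), (nat_lit 1)), ((nat_lit 119), (nat_lit 59), (nat_lit 1), (nat_lit 1)), ((nat_lit 121), (nat_lit 61), (nat_lit 1), (nat_lit 1)), ((nat_lit 126), (nat_lit 63), (nat_lit 1), (nat_lit 1)), ((nat_lit 128), (nat_lit 65), (nat_lit 1), (nat_lit 1)), ((nat_lit 131), (nat_lit 67), (nat_lit 1), (nat_lit 1)), ((nat_lit 133), (nat_lit 69), (nat_lit 1), (nat_lit 1)), ((nat_lit 143), (nat_lit 72), (nat_lit 1), (nat_lit 1)), ((nat_lit 145), (nat_lit 74), (nat_lit 1), (nat_lit 1)), ((nat_lit 157), (nat_lit 77), (nat_lit 1), (nat_lit 1)), ((nat_lit 162), (nat_lit 82), (nat_lit 1), (nat_lit 1)), ((nat_lit 165), (nat_lit 94), (nat_lit 1), (nat_lit 1)), ((nat_lit 167), (nat_lit 96), (nat_lit 1), (nat_lit 1)), ((nat_lit 170), (nat_lit 106), (nat_lit 1), (nat_lit 1)), ((nat_lit 172), (nat_lit 108), (nat_lit 1), (nat_lit 1)), ((nat_lit 174), (nat_lit 111), (nat_lit 1), (nat_lit 1)), ((nat_lit 176), (nat_lit 113), (nat_lit 1), (nat_lit 1)), ((nat_lit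 178), (nat_lit 118), (nat_lit 1), (nat_lit 1)), ((nat_lit 180), (nat_lit 120), (nat_lit 1), (nat_lit 1)), ((nat_lit 181), (nat_lit 123), (nat_lit 1), (nat_lit 1)), ((nat_lit 183), (nat_lit 125), (nat_lit 1), (nat_lit 1)), ((nat_lit 189), (nat_lit 135), (nat_lit 1), (nat_lit 1)), ((nat_lit 195), (nat_lit 136), (nat_lit 1), (nat_lit 1)), ((nat_lit 200), (nat_lit 138), (nat_lit 1), (nat_lit 1)), ((nat_lit 202), (nat_lit 140), (nat_lit 1), (nat_lit 1)), ((nat_lit 205), (nat_lit 147), (nat_lit 1), (nat_lit 1)), ((nat_lit 210), (nat_lit 149), (nat_lit 1), (nat_lit 1)), ((nat_lit 212), (nat_lit 151), (nat_lit 1), (nat_lit 1)), ((nat_lit 214), (nat_lit 153), (nat_lit 1), (nat_lit 1)), ((nat_lit 216), (nat_lit 155), (nat_lit 1), (nat_lit 1)), ((nat_lit 218), (nat_lit 160), (nat_lit 1), (nat_lit 1)), ((nat_lit 226), (nat_lit 185), (nat_lit 1), (nat_lit 1)), ((nat_lit 228), (nat_lit 187), (nat_lit 1), (nat_lit 1)), ((nat_lit 230), (nat_lit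 192), (nat_lit 1), (nat_lit 1)), ((nat_lit 231), (nat_lit 198), (nat_lit 1), (nat_lit 1)), ((nat_lit 233), (nat_lit 208), (nat_lit 1), (nat_lit 1)), ((nat_lit 236), (nat_lit 220), (nat_lit 1), (nat_lit 1)), ((nat_lit 238), (nat_lit 222), (nat_lit 1), (nat_lit 1))]) (.leaf [((nat_lit 2), (nat_lit 22), (nat_lit 1), (nat_lit 1)), ((nat_lit 3), (nat_lit 23), (nat_lit 1), (nat_lit 1)), ((nat_lit 5), (nat_lit 30), (nat_lit 1), (nat_lit 1)), ((nat_lit 7), (nat_lit 40), (nat_lit 1), (nat_lit 1)), ((nat_lit 9), (nat_lit 56), (nat_lit 1), (nat_lit 1)), ((nat_lit 12), (nat_lit 62), (nat_lit 1), (nat_lit 1)), ((nat_lit 13), (nat_lit 63), (nat_lit 1), (nat_lit 1)), ((nat_lit 16), (nat_lit 78), (nat_lit 1), (nat_lit 1)), ((nat_lit 19), (nat_lit 84), (nat_lit 1), (nat_lit 1)), ((nat_lit 20), (nat_lit 85), (nat_lit 1), (nat_lit 1)), ((nat_lit 28), (nat_lit 93), (nat_lit 1), (nat_lit 1)), ((nat_lit 29), (nat_lit 94), (nat_lit 1), (nat_lit 1)),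 ((nat_lit 35), (nat_lit 97), (nat_lit 1), (nat_lit 1)), ((nat_lit 38), (nat_lit 105), (nat_lit 1), (nat_lit 1)), ((nat_lit 39), (nat_lit 106), (nat_lit 1), (nat_lit 1)), ((nat_lit 45), (nat_lit 109), (nat_lit 1), (nat_lit 1)), ((nat_lit 47), (nat_lit 114), (nat_lit 1), (nat_lit 1)), ((nat_lit 48), (nat_lit 115), (nat_lit 1), (nat_lit 1)), ((nat_lit 49), (nat_lit 117), (nat_lit 1), (nat_lit 1)), ((nat_lit 50), (nat_lit 118), (nat_lit 1), (nat_lit 1)), ((nat_lit 54), (nat_lit 126), (nat_lit 1), (nat_lit 1)), ((nat_lit 55), (nat_lit 127), (nat_lit 1), (nat_lit 1)), ((nat_lit 61), (nat_lit 135), (nat_lit 1), (nat_lit 1)), ((nat_lit 68), (nat_lit 137), (nat_lit 1), (nat_lit 1)), ((nat_lit 69), (nat_lit 138), (nat_lit 1), (nat_lit 1)), ((nat_lit 73), (nat_lit 148), (nat_lit 1), (nat_lit 1)), ((nat_lit 74), (nat_lit 149), (nat_lit 1), (nat_lit 1)), ((nat_lit 76), (nat_lit 156), (nat_lit 1), (nat_lit 1)), ((nat_lit 83), (nat_lit 163),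 (nat_lit 1), (nat_lit 1)), ((nat_lit 90), (nat_lit 165), (nat_lit 1), (nat_lit 1)), ((nat_lit 91), (nat_lit 166), (nat_lit 1), (nat_lit 1)), ((nat_lit 101), (nat_lit 170), (nat_lit 1), (nat_lit 1)), ((nat_lit 102), (nat_lit 171), (nat_lit 1), (nat_lit 1)), ((nat_lit 104), (nat_lit 178), (nat_lit 1), (nat_lit 1)), ((nat_lit 112), (nat_lit 184), (nat_lit 1), (nat_lit 1)), ((nat_lit 113), (nat_lit 185), (nat_lit 1), (nat_lit 1)), ((nat_lit 121), (nat_lit 189), (nat_lit 1), (nat_lit 1)), ((nat_lit 122), (nat_lit 190), (nat_lit 1), (nat_lit 1)), ((nat_lit 124), (nat_lit 191), (nat_lit 1), (nat_lit 1)), ((nat_lit 125), (nat_lit 192), (nat_lit 1), (nat_lit 1)), ((nat_lit 130), (nat_lit 194), (nat_lit 1), (nat_lit 1)), ((nat_lit 133), (nat_lit 200), (nat_lit 1), (nat_lit 1)), ((nat_lit 134), (nat_lit 201), (nat_lit 1), (nat_lit 1)), ((nat_lit 142), (nat_lit 204), (nat_lit 1), (nat_lit 1)), ((nat_lit 145), (nat_lit 210), (nat_lit 1), (nat_lit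 1)), ((nat_lit 146), (nat_lit 211), (nat_lit 1), (nat_lit 1)), ((nat_lit 154), (nat_lit 219), (nat_lit 1), (nat_lit 1)), ((nat_lit 155), (nat_lit 220), (nat_lit 1), (nat_lit 1)), ((nat_lit 161), (nat_lit 223), (nat_lit 1), (nat_lit 1)), ((nat_lit 176), (nat_lit 226), (nat_lit 1), (nat_lit 1)), ((nat_lit 177), (nat_lit 227), (nat_lit 1), (nat_lit 1)), ((nat_lit 183), (nat_lit 230), (nat_lit 1), (nat_lit 1)), ((nat_lit 199), (nat_lit 232), (nat_lit 1), (nat_lit 1)), ((nat_lit 209), (nat_lit 234), (nat_lit 1), (nat_lit 1)), ((nat_lit 216), (nat_lit 236), (nat_lit 1), (nat_lit 1)), ((nat_lit 217), (nat_lit 237), (nat_lit 1), (nat_lit 1))])) (.leaf [((nat_lit 1), (nat_lit 3), (nat_lit 1), (nat_lit 1)), ((nat_lit 10), (nat_lit 12), (nat_lit 1), (nat_lit 1)), ((nat_lit 17), (nat_lit 19), (nat_lit 1), (nat_lit 1)), ((nat_lit 22), (nat_lit 24), (nat_lit 1), (nat_lit 1)), ((nat_lit 26), (nat_lit 28), (nat_lit 1), (nat_lit 1)), ((nat_lit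 30), (nat_lit 33), (nat_lit 1), (nat_lit 1)), ((nat_lit 32), (nat_lit 35), (nat_lit 1), (nat_lit 1)), ((nat_lit 36), (nat_lit 38), (nat_lit 1), (nat_lit 1)), ((nat_lit 40), (nat_lit 43), (nat_lit 1), (nat_lit 1)), ((nat_lit 42), (nat_lit 45), (nat_lit 1), (nat_lit 1)), ((nat_lit 46), (nat_lit 49), (nat_lit 1), (nat_lit 1)), ((nat_lit 48), (nat_lit 51), (nat_lit 1), (nat_lit 1)), ((nat_lit 53), (nat_lit 55), (nat_lit 1), (nat_lit 1)), ((nat_lit 56), (nat_lit 59), (nat_lit 1), (nat_lit 1)), ((nat_lit 58), (nat_lit 61), (nat_lit 1), (nat_lit 1)), ((nat_lit 63), (nat_lit 65), (nat_lit 1), (nat_lit 1)), ((nat_lit 67), (nat_lit 69), (nat_lit 1), (nat_lit 1)), ((nat_lit 72), (nat_lit 74), (nat_lit 1), (nat_lit 1)), ((nat_lit 78), (nat_lit 81), (nat_lit 1), (nat_lit 1)), ((nat_lit 80), (nat_lit 83), (nat_lit 1), (nat_lit 1)), ((nat_lit 85), (nat_lit 87), (nat_lit 1), (nat_lit 1)), ((nat_lit 89), (nat_lit 91), (nat_lit 1), (nat_lit 1)),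 ((nat_lit 94), (nat_lit 96), (nat_lit 1), (nat_lit 1)), ((nat_lit 100), (nat_lit 102), (nat_lit 1), (nat_lit 1)), ((nat_lit 106), (nat_lit 108), (nat_lit 1), (nat_lit 1)), ((nat_lit 111), (nat_lit 113), (nat_lit 1), (nat_lit 1)), ((nat_lit 114), (nat_lit 119), (nat_lit 1), (nat_lit 1)), ((nat_lit 116), (nat_lit 121), (nat_lit 1), (nat_lit 1)), ((nat_lit 118), (nat_lit 123), (nat_lit 1), (nat_lit 1)), ((nat_lit 120), (nat_lit 125), (nat_lit 1), (nat_lit 1)), ((nat_lit 126), (nat_lit 128), (nat_lit 1), (nat_lit 1)), ((nat_lit 131), (nat_lit 133), (nat_lit 1), (nat_lit 1)), ((nat_lit 137), (nat_lit 139), (nat_lit 1), (nat_lit 1)), ((nat_lit 143), (nat_lit 145), (nat_lit 1), (nat_lit 1)), ((nat_lit 148), (nat_lit 150), (nat_lit 1), (nat_lit 1)), ((nat_lit 152), (nat_lit 154), (nat_lit 1), (nat_lit 1)), ((nat_lit 156), (nat_lit 159), (nat_lit 1), (nat_lit 1)), ((nat_lit 158), (nat_lit 161), (nat_lit 1), (nat_lit 1)), ((nat_lit 165),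 (nat_lit 167), (nat_lit 1), (nat_lit 1)), ((nat_lit 170), (nat_lit 172), (nat_lit 1), (nat_lit 1)), ((nat_lit 174), (nat_lit 176), (nat_lit 1), (nat_lit 1)), ((nat_lit 178), (nat_lit 181), (nat_lit 1), (nat_lit 1)), ((nat_lit 180), (nat_lit 183), (nat_lit 1), (nat_lit 1)), ((nat_lit 184), (nat_lit 186), (nat_lit 1), (nat_lit 1)), ((nat_lit 188), (nat_lit 191), (nat_lit 1), (nat_lit 1)), ((nat_lit 190), (nat_lit 193), (nat_lit 1), (nat_lit 1)), ((nat_lit 194), (nat_lit 197), (nat_lit 1), (nat_lit 1)), ((nat_lit 196), (nat_lit 199), (nat_lit 1), (nat_lit 1)), ((nat_lit 201), (nat_lit 203), (nat_lit 1), (nat_lit 1)), ((nat_lit 204), (nat_lit 207), (nat_lit 1), (nat_lit 1)), ((nat_lit 206), (nat_lit 209), (nat_lit 1), (nat_lit 1)), ((nat_lit 211), (nat_lit 213), (nat_lit 1), (nat_lit 1)), ((nat_lit 215), (nat_lit 217), (nat_lit 1), (nat_lit 1)), ((nat_lit 220), (nat_lit 222), (nat_lit 1), (nat_lit 1)), ((nat_lit 227), (nat_lit 229),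 (nat_lit 1), (nat_lit 1)), ((nat_lit 236), (nat_lit 238), (nat_lit 1), (nat_lit 1))])))

def rows4 : Tr (List Entry) :=
  .node (.node (.node (.node (.leaf [((nat_lit 117), (nat_lit 0), (nat_lit 1), (nat_lit 1)), ((nat_lit 118), (nat_lit 1), (nat_lit 1), (nat_lit 1)), ((nat_lit 123), (nat_lit 3), (nat_lit 1), (nat_lit 1)), ((nat_lit 127), (nat_lit 4), (nat_lit 1), (nat_lit 1)), ((nat_lit 132), (nat_lit 5), (nat_lit 1), (nat_lit 1)), ((nat_lit 138), (nat_lit 6), (nat_lit 1), (nat_lit 1)), ((nat_lit 144), (nat_lit 7), (nat_lit 1), (nat_lit 1)), ((nat_lit 149), (nat_lit 8), (nat_lit 1), (nat_lit 1)), ((nat_lit 153), (nat_lit 9), (nat_lit 1), (nat_lit 1)), ((nat_lit 156), (nat_lit 10), (nat_lit 1), (nat_lit 1)), ((nat_lit 159), (nat_lit 12), (nat_lit 1), (nat_lit 1)), ((nat_lit 160), (nat_lit 13), (nat_lit 1), (nat_lit 1)), ((nat_lit 166), (nat_lit 14), (nat_lit 1), (nat_lit 1)), ((nat_lit 171), (nat_lit 15), (nat_lit 1), (nat_lit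 1)), ((nat_lit 175), (nat_lit 16), (nat_lit 1), (nat_lit 1)), ((nat_lit 178), (nat_lit 17), (nat_lit 1), (nat_lit 1)), ((nat_lit 181), (nat_lit 19), (nat_lit 1), (nat_lit 1)), ((nat_lit 182), (nat_lit 20), (nat_lit 1), (nat_lit 1)), ((nat_lit 185), (nat_lit 21), (nat_lit 1), (nat_lit 1)), ((nat_lit 188), (nat_lit 22), (nat_lit 1), (nat_lit 1)), ((nat_lit 191), (nat_lit 24), (nat_lit 1), (nat_lit 1)), ((nat_lit 192), (nat_lit 25), (nat_lit 1), (nat_lit 1)), ((nat_lit 194), (nat_lit 26), (nat_lit 1), (nat_lit 1)), ((nat_lit 197), (nat_lit 28), (nat_lit 1), (nat_lit 1)), ((nat_lit 198), (nat_lit 29), (nat_lit 1), (nat_lit 1)), ((nat_lit 200), (nat_lit 31), (nat_lit 1), (nat_lit 1)), ((nat_lit 201), (nat_lit 32), (nat_lit 1), (nat_lit 1)), ((nat_lit 203), (nat_lit 35), (nat_lit 1), (nat_lit 1)), ((nat_lit 204), (nat_lit 36), (nat_lit 1), (nat_lit 1)), ((nat_lit 207), (nat_lit 38), (nat_lit 1), (nat_lit 1)), ((nat_lit 208), (nat_lit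 39), (nat_lit 1), (nat_lit 1)), ((nat_lit 210), (nat_lit 41), (nat_lit 1), (nat_lit 1)), ((nat_lit 211), (nat_lit 42), (nat_lit 1), (nat_lit 1)), ((nat_lit 213), (nat_lit 45), (nat_lit 1), (nat_lit 1)), ((nat_lit 214), (nat_lit 47), (nat_lit 1), (nat_lit 1)), ((nat_lit 215), (nat_lit 48), (nat_lit 1), (nat_lit 1)), ((nat_lit 217), (nat_lit 51), (nat_lit 1), (nat_lit 1)), ((nat_lit 218), (nat_lit 54), (nat_lit 1), (nat_lit 1)), ((nat_lit 219), (nat_lit 57), (nat_lit 1), (nat_lit 1)), ((nat_lit 220), (nat_lit 58), (nat_lit 1), (nat_lit 1)), ((nat_lit 222), (nat_lit 61), (nat_lit 1), (nat_lit 1)), ((nat_lit 223), (nat_lit 64), (nat_lit 1), (nat_lit 1)), ((nat_lit 224), (nat_lit 68), (nat_lit 1), (nat_lit 1)), ((nat_lit 225), (nat_lit 73), (nat_lit 1), (nat_lit 1)), ((nat_lit 226), (nat_lit 79), (nat_lit 1), (nat_lit 1)), ((nat_lit 227), (nat_lit 80), (nat_lit 1), (nat_lit 1)), ((nat_lit 229), (nat_lit 83), (nat_lit 1), (nat_lit 1)),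 ((nat_lit 230), (nat_lit 86), (nat_lit 1), (nat_lit 1)), ((nat_lit 231), (nat_lit 90), (nat_lit 1), (nat_lit 1)), ((nat_lit 232), (nat_lit 95), (nat_lit 1), (nat_lit 1)), ((nat_lit 233), (nat_lit 101), (nat_lit 1), (nat_lit 1)), ((nat_lit 234), (nat_lit 107), (nat_lit 1), (nat_lit 1)), ((nat_lit 235), (nat_lit 112), (nat_lit 1), (nat_lit 1)), ((nat_lit 236), (nat_lit 116), (nat_lit 1), (nat_lit 1)), ((nat_lit 238), (nat_lit 121), (nat_lit 1), (nat_lit 1)), ((nat_lit 239), (nat_lit 122), (nat_lit 1), (nat_lit 1))]) (.leaf [((nat_lit 4), (nat_lit 5), (nat_lit 1), (nat_lit 1)), ((nat_lit 8), (nat_lit 9), (nat_lit 1), (nat_lit 1)), ((nat_lit 15), (nat_lit 16), (nat_lit 1), (nat_lit 1)), ((nat_lit 22), (nat_lit 26), (nat_lit 1), (nat_lit 1)), ((nat_lit 23), (nat_lit 27), (nat_lit 1), (nat_lit 1)), ((nat_lit 24), (nat_lit 28), (nat_lit 1), (nat_lit 1)), ((nat_lit 25), (nat_lit 29), (nat_lit 1), (nat_lit 1)), ((nat_lit 40), (nat_lit 46),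 (nat_lit 1), (nat_lit 1)), ((nat_lit 41), (nat_lit 47), (nat_lit 1), (nat_lit 1)), ((nat_lit 42), (nat_lit 48), (nat_lit 1), (nat_lit 1)), ((nat_lit 43), (nat_lit 49), (nat_lit 1), (nat_lit 1)), ((nat_lit 44), (nat_lit 50), (nat_lit 1), (nat_lit 1)), ((nat_lit 45), (nat_lit 51), (nat_lit 1), (nat_lit 1)), ((nat_lit 62), (nat_lit 66), (nat_lit 1), (nat_lit 1)), ((nat_lit 63), (nat_lit 67), (nat_lit 1), (nat_lit 1)), ((nat_lit 64), (nat_lit 68), (nat_lit 1), (nat_lit 1)), ((nat_lit 65), (nat_lit 69), (nat_lit 1), (nat_lit 1)), ((nat_lit 75), (nat_lit 76), (nat_lit 1), (nat_lit 1)), ((nat_lit 84), (nat_lit 88), (nat_lit 1), (nat_lit 1)), ((nat_lit 85), (nat_lit 89), (nat_lit 1), (nat_lit 1)), ((nat_lit 86), (nat_lit 90), (nat_lit 1), (nat_lit 1)), ((nat_lit 87), (nat_lit 91), (nat_lit 1), (nat_lit 1)), ((nat_lit 97), (nat_lit 98), (nat_lit 1), (nat_lit 1)), ((nat_lit 103), (nat_lit 104), (nat_lit 1), (nat_lit 1)), ((nat_lit 105),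 (nat_lit 110), (nat_lit 1), (nat_lit 1)), ((nat_lit 106), (nat_lit 111), (nat_lit 1), (nat_lit 1)), ((nat_lit 107), (nat_lit 112), (nat_lit 1), (nat_lit 1)), ((nat_lit 108), (nat_lit 113), (nat_lit 1), (nat_lit 1)), ((nat_lit 126), (nat_lit 131), (nat_lit 1), (nat_lit 1)), ((nat_lit 127), (nat_lit 132), (nat_lit 1), (nat_lit 1)), ((nat_lit 128), (nat_lit 133), (nat_lit 1), (nat_lit 1)), ((nat_lit 129), (nat_lit 134), (nat_lit 1), (nat_lit 1)), ((nat_lit 135), (nat_lit 136), (nat_lit 1), (nat_lit 1)), ((nat_lit 141), (nat_lit 142), (nat_lit 1), (nat_lit 1)), ((nat_lit 148), (nat_lit 152), (nat_lit 1), (nat_lit 1)), ((nat_lit 149), (nat_lit 153), (nat_lit 1), (nat_lit 1)), ((nat_lit 150), (nat_lit 154), (nat_lit 1), (nat_lit 1)), ((nat_lit 151), (nat_lit 155), (nat_lit 1), (nat_lit 1)), ((nat_lit 163), (nat_lit 164), (nat_lit 1), (nat_lit 1)), ((nat_lit 170), (nat_lit 174), (nat_lit 1), (nat_lit 1)), ((nat_lit 171), (nat_lit 175),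 (nat_lit 1), (nat_lit 1)), ((nat_lit 172), (nat_lit 176), (nat_lit 1), (nat_lit 1)), ((nat_lit 173), (nat_lit 177), (nat_lit 1), (nat_lit 1)), ((nat_lit 188), (nat_lit 194), (nat_lit 1), (nat_lit 1)), ((nat_lit 189), (nat_lit 195), (nat_lit 1), (nat_lit 1)), ((nat_lit 190), (nat_lit 196), (nat_lit 1), (nat_lit 1)), ((nat_lit 191), (nat_lit 197), (nat_lit 1), (nat_lit 1)), ((nat_lit 192), (nat_lit 198), (nat_lit 1), (nat_lit 1)), ((nat_lit 193), (nat_lit 199), (nat_lit 1), (nat_lit 1)), ((nat_lit 210), (nat_lit 214), (nat_lit 1), (nat_lit 1)), ((nat_lit 211), (nat_lit 215), (nat_lit 1), (nat_lit 1)), ((nat_lit 212), (nat_lit 216), (nat_lit 1), (nat_lit 1)), ((nat_lit 213), (nat_lit 217), (nat_lit 1), (nat_lit 1)), ((nat_lit 223), (nat_lit 224), (nat_lit 1), (nat_lit 1)), ((nat_lit 230), (nat_lit 231), (nat_lit 1), (nat_lit 1)), ((nat_lit 234), (nat_lit 235), (nat_lit 1), (nat_lit 1))])) (.node (.leaf [((nat_lit 15), (nat_lit 0),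 (nat_lit 1), (nat_lit 1)), ((nat_lit 20), (nat_lit 5), (nat_lit 1), (nat_lit 1)), ((nat_lit 25), (nat_lit 6), (nat_lit 1), (nat_lit 1)), ((nat_lit 39), (nat_lit 9), (nat_lit 1), (nat_lit 1)), ((nat_lit 42), (nat_lit 10), (nat_lit 1), (nat_lit 1)), ((nat_lit 44), (nat_lit 11), (nat_lit 1), (nat_lit 1)), ((nat_lit 45), (nat_lit 12), (nat_lit 1), (nat_lit 1)), ((nat_lit 80), (nat_lit 26), (nat_lit 1), (nat_lit 1)), ((nat_lit 82), (nat_lit 27), (nat_lit 1), (nat_lit 1)), ((nat_lit 83), (nat_lit 28), (nat_lit 1), (nat_lit 1)), ((nat_lit 85), (nat_lit 30), (nat_lit 1), (nat_lit 1)), ((nat_lit 86), (nat_lit 31), (nat_lit 1), (nat_lit 1)), ((nat_lit 87), (nat_lit 33), (nat_lit 1), (nat_lit 1)), ((nat_lit 100), (nat_lit 46), (nat_lit 1), (nat_lit 1)), ((nat_lit 101), (nat_lit 47), (nat_lit 1), (nat_lit 1)), ((nat_lit 102), (nat_lit 49), (nat_lit 1), (nat_lit 1)), ((nat_lit 103), (nat_lit 52), (nat_lit 1), (nat_lit 1)), ((nat_lit 106), (nat_lit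 56), (nat_lit 1), (nat_lit 1)), ((nat_lit 107), (nat_lit 57), (nat_lit 1), (nat_lit 1)), ((nat_lit 108), (nat_lit 59), (nat_lit 1), (nat_lit 1)), ((nat_lit 109), (nat_lit 62), (nat_lit 1), (nat_lit 1)), ((nat_lit 120), (nat_lit 67), (nat_lit 1), (nat_lit 1)), ((nat_lit 122), (nat_lit 68), (nat_lit 1), (nat_lit 1)), ((nat_lit 125), (nat_lit 69), (nat_lit 1), (nat_lit 1)), ((nat_lit 129), (nat_lit 70), (nat_lit 1), (nat_lit 1)), ((nat_lit 141), (nat_lit 71), (nat_lit 1), (nat_lit 1)), ((nat_lit 146), (nat_lit 76), (nat_lit 1), (nat_lit 1)), ((nat_lit 151), (nat_lit 77), (nat_lit 1), (nat_lit 1)), ((nat_lit 162), (nat_lit 88), (nat_lit 1), (nat_lit 1)), ((nat_lit 163), (nat_lit 93), (nat_lit 1), (nat_lit 1)), ((nat_lit 168), (nat_lit 98), (nat_lit 1), (nat_lit 1)), ((nat_lit 169), (nat_lit 110), (nat_lit 1), (nat_lit 1)), ((nat_lit 170), (nat_lit 114), (nat_lit 1), (nat_lit 1)), ((nat_lit 171), (nat_lit 117), (nat_lit 1), (nat_lit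 1)), ((nat_lit 172), (nat_lit 119), (nat_lit 1), (nat_lit 1)), ((nat_lit 177), (nat_lit 130), (nat_lit 1), (nat_lit 1)), ((nat_lit 180), (nat_lit 131), (nat_lit 1), (nat_lit 1)), ((nat_lit 182), (nat_lit 132), (nat_lit 1), (nat_lit 1)), ((nat_lit 183), (nat_lit 133), (nat_lit 1), (nat_lit 1)), ((nat_lit 187), (nat_lit 136), (nat_lit 1), (nat_lit 1)), ((nat_lit 190), (nat_lit 137), (nat_lit 1), (nat_lit 1)), ((nat_lit 192), (nat_lit 138), (nat_lit 1), (nat_lit 1)), ((nat_lit 193), (nat_lit 139), (nat_lit 1), (nat_lit 1)), ((nat_lit 206), (nat_lit 152), (nat_lit 1), (nat_lit 1)), ((nat_lit 208), (nat_lit 153), (nat_lit 1), (nat_lit 1)), ((nat_lit 209), (nat_lit 154), (nat_lit 1), (nat_lit 1)), ((nat_lit 211), (nat_lit 156), (nat_lit 1), (nat_lit 1)), ((nat_lit 212), (nat_lit 157), (nat_lit 1), (nat_lit 1)), ((nat_lit 213), (nat_lit 159), (nat_lit 1), (nat_lit 1)), ((nat_lit 227), (nat_lit 194), (nat_lit 1), (nat_lit 1)), ((nat_lit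 228), (nat_lit 195), (nat_lit 1), (nat_lit 1)), ((nat_lit 229), (nat_lit 197), (nat_lit 1), (nat_lit 1)), ((nat_lit 230), (nat_lit 200), (nat_lit 1), (nat_lit 1)), ((nat_lit 233), (nat_lit 214), (nat_lit 1), (nat_lit 1)), ((nat_lit 234), (nat_lit 219), (nat_lit 1), (nat_lit 1)), ((nat_lit 239), (nat_lit 224), (nat_lit 1), (nat_lit 1))]) (.leaf [((nat_lit 2), (nat_lit 26), (nat_lit 1), (nat_lit 1)), ((nat_lit 3), (nat_lit 27), (nat_lit 1), (nat_lit 1)), ((nat_lit 4), (nat_lit 30), (nat_lit 1), (nat_lit 1)), ((nat_lit 7), (nat_lit 46), (nat_lit 1), (nat_lit 1)), ((nat_lit 8), (nat_lit 56), (nat_lit 1), (nat_lit 1)), ((nat_lit 12), (nat_lit 66), (nat_lit 1), (nat_lit 1)), ((nat_lit 13), (nat_lit 67), (nat_lit 1), (nat_lit 1)), ((nat_lit 15), (nat_lit 78), (nat_lit 1), (nat_lit 1)), ((nat_lit 19), (nat_lit 88), (nat_lit 1), (nat_lit 1)), ((nat_lit 20), (nat_lit 89), (nat_lit 1), (nat_lit 1)), ((nat_lit 24), (nat_lit 93), (nat_lit 1),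 (nat_lit 1)), ((nat_lit 25), (nat_lit 94), (nat_lit 1), (nat_lit 1)), ((nat_lit 35), (nat_lit 98), (nat_lit 1), (nat_lit 1)), ((nat_lit 38), (nat_lit 110), (nat_lit 1), (nat_lit 1)), ((nat_lit 39), (nat_lit 111), (nat_lit 1), (nat_lit 1)), ((nat_lit 41), (nat_lit 114), (nat_lit 1), (nat_lit 1)), ((nat_lit 42), (nat_lit 115), (nat_lit 1), (nat_lit 1)), ((nat_lit 43), (nat_lit 117), (nat_lit 1), (nat_lit 1)), ((nat_lit 44), (nat_lit 118), (nat_lit 1), (nat_lit 1)), ((nat_lit 51), (nat_lit 130), (nat_lit 1), (nat_lit 1)), ((nat_lit 54), (nat_lit 131), (nat_lit 1), (nat_lit 1)), ((nat_lit 55), (nat_lit 132), (nat_lit 1), (nat_lit 1)), ((nat_lit 61), (nat_lit 136), (nat_lit 1), (nat_lit 1)), ((nat_lit 64), (nat_lit 137), (nat_lit 1), (nat_lit 1)), ((nat_lit 65), (nat_lit 138), (nat_lit 1), (nat_lit 1)), ((nat_lit 73), (nat_lit 152), (nat_lit 1), (nat_lit 1)), ((nat_lit 74), (nat_lit 153), (nat_lit 1), (nat_lit 1)), ((nat_lit 75), (nat_lit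 156), (nat_lit 1), (nat_lit 1)), ((nat_lit 83), (nat_lit 164), (nat_lit 1), (nat_lit 1)), ((nat_lit 86), (nat_lit 165), (nat_lit 1), (nat_lit 1)), ((nat_lit 87), (nat_lit 166), (nat_lit 1), (nat_lit 1)), ((nat_lit 101), (nat_lit 174), (nat_lit 1), (nat_lit 1)), ((nat_lit 102), (nat_lit 175), (nat_lit 1), (nat_lit 1)), ((nat_lit 103), (nat_lit 178), (nat_lit 1), (nat_lit 1)), ((nat_lit 107), (nat_lit 184), (nat_lit 1), (nat_lit 1)), ((nat_lit 108), (nat_lit 185), (nat_lit 1), (nat_lit 1)), ((nat_lit 109), (nat_lit 188), (nat_lit 1), (nat_lit 1)), ((nat_lit 121), (nat_lit 195), (nat_lit 1), (nat_lit 1)), ((nat_lit 122), (nat_lit 196), (nat_lit 1), (nat_lit 1)), ((nat_lit 124), (nat_lit 197), (nat_lit 1), (nat_lit 1)), ((nat_lit 125), (nat_lit 198), (nat_lit 1), (nat_lit 1)), ((nat_lit 128), (nat_lit 200), (nat_lit 1), (nat_lit 1)), ((nat_lit 129), (nat_lit 201), (nat_lit 1), (nat_lit 1)), ((nat_lit 141), (nat_lit 204), (nat_lit 1),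 (nat_lit 1)), ((nat_lit 145), (nat_lit 214), (nat_lit 1), (nat_lit 1)), ((nat_lit 146), (nat_lit 215), (nat_lit 1), (nat_lit 1)), ((nat_lit 150), (nat_lit 219), (nat_lit 1), (nat_lit 1)), ((nat_lit 151), (nat_lit 220), (nat_lit 1), (nat_lit 1)), ((nat_lit 161), (nat_lit 224), (nat_lit 1), (nat_lit 1)), ((nat_lit 172), (nat_lit 226), (nat_lit 1), (nat_lit 1)), ((nat_lit 173), (nat_lit 227), (nat_lit 1), (nat_lit 1)), ((nat_lit 183), (nat_lit 231), (nat_lit 1), (nat_lit 1)), ((nat_lit 193), (nat_lit 232), (nat_lit 1), (nat_lit 1)), ((nat_lit 209), (nat_lit 235), (nat_lit 1), (nat_lit 1)), ((nat_lit 212), (nat_lit 236), (nat_lit 1), (nat_lit 1)), ((nat_lit 213), (nat_lit 237), (nat_lit 1), (nat_lit 1))]))) (.node (.node (.leaf [((nat_lit 36), (nat_lit 1), (nat_lit 1), (nat_lit 1)), ((nat_lit 38), (nat_lit 3), (nat_lit 1), (nat_lit 1)), ((nat_lit 41), (nat_lit 4), (nat_lit 1), (nat_lit 1)), ((nat_lit 47), (nat_lit 5), (nat_lit 1),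 (nat_lit 1)), ((nat_lit 57), (nat_lit 6), (nat_lit 1), (nat_lit 1)), ((nat_lit 71), (nat_lit 11), (nat_lit 1), (nat_lit 1)), ((nat_lit 73), (nat_lit 13), (nat_lit 1), (nat_lit 1)), ((nat_lit 79), (nat_lit 14), (nat_lit 1), (nat_lit 1)), ((nat_lit 99), (nat_lit 18), (nat_lit 1), (nat_lit 1)), ((nat_lit 101), (nat_lit 20), (nat_lit 1), (nat_lit 1)), ((nat_lit 105), (nat_lit 23), (nat_lit 1), (nat_lit 1)), ((nat_lit 107), (nat_lit 25), (nat_lit 1), (nat_lit 1)), ((nat_lit 110), (nat_lit 27), (nat_lit 1), (nat_lit 1)), ((nat_lit 112), (nat_lit 29), (nat_lit 1), (nat_lit 1)), ((nat_lit 114), (nat_lit 30), (nat_lit 1), (nat_lit 1)), ((nat_lit 116), (nat_lit 32), (nat_lit 1), (nat_lit 1)), ((nat_lit 119), (nat_lit 33), (nat_lit 1), (nat_lit 1)), ((nat_lit 121), (nat_lit 35), (nat_lit 1), (nat_lit 1)), ((nat_lit 141), (nat_lit 44), (nat_lit 1), (nat_lit 1)), ((nat_lit 142), (nat_lit 50), (nat_lit 1), (nat_lit 1)), ((nat_lit 143), (nat_lit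 53), (nat_lit 1), (nat_lit 1)), ((nat_lit 145), (nat_lit 55), (nat_lit 1), (nat_lit 1)), ((nat_lit 147), (nat_lit 60), (nat_lit 1), (nat_lit 1)), ((nat_lit 148), (nat_lit 63), (nat_lit 1), (nat_lit 1)), ((nat_lit 150), (nat_lit 65), (nat_lit 1), (nat_lit 1)), ((nat_lit 152), (nat_lit 67), (nat_lit 1), (nat_lit 1)), ((nat_lit 154), (nat_lit 69), (nat_lit 1), (nat_lit 1)), ((nat_lit 157), (nat_lit 70), (nat_lit 1), (nat_lit 1)), ((nat_lit 169), (nat_lit 82), (nat_lit 1), (nat_lit 1)), ((nat_lit 170), (nat_lit 85), (nat_lit 1), (nat_lit 1)), ((nat_lit 172), (nat_lit 87), (nat_lit 1), (nat_lit 1)), ((nat_lit 174), (nat_lit 89), (nat_lit 1), (nat_lit 1)), ((nat_lit 176), (nat_lit 91), (nat_lit 1), (nat_lit 1)), ((nat_lit 179), (nat_lit 92), (nat_lit 1), (nat_lit 1)), ((nat_lit 184), (nat_lit 94), (nat_lit 1), (nat_lit 1)), ((nat_lit 186), (nat_lit 96), (nat_lit 1), (nat_lit 1)), ((nat_lit 189), (nat_lit 97), (nat_lit 1), (nat_lit 1)),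 ((nat_lit 195), (nat_lit 98), (nat_lit 1), (nat_lit 1)), ((nat_lit 204), (nat_lit 118), (nat_lit 1), (nat_lit 1)), ((nat_lit 206), (nat_lit 120), (nat_lit 1), (nat_lit 1)), ((nat_lit 207), (nat_lit 123), (nat_lit 1), (nat_lit 1)), ((nat_lit 209), (nat_lit 125), (nat_lit 1), (nat_lit 1)), ((nat_lit 210), (nat_lit 127), (nat_lit 1), (nat_lit 1)), ((nat_lit 212), (nat_lit 129), (nat_lit 1), (nat_lit 1)), ((nat_lit 214), (nat_lit 132), (nat_lit 1), (nat_lit 1)), ((nat_lit 216), (nat_lit 134), (nat_lit 1), (nat_lit 1)), ((nat_lit 219), (nat_lit 138), (nat_lit 1), (nat_lit 1)), ((nat_lit 221), (nat_lit 140), (nat_lit 1), (nat_lit 1)), ((nat_lit 225), (nat_lit 160), (nat_lit 1), (nat_lit 1)), ((nat_lit 226), (nat_lit 166), (nat_lit 1), (nat_lit 1)), ((nat_lit 228), (nat_lit 168), (nat_lit 1), (nat_lit 1)), ((nat_lit 233), (nat_lit 182), (nat_lit 1), (nat_lit 1)), ((nat_lit 234), (nat_lit 192), (nat_lit 1), (nat_lit 1)), ((nat_lit 235),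 (nat_lit 198), (nat_lit 1), (nat_lit 1)), ((nat_lit 236), (nat_lit 201), (nat_lit 1), (nat_lit 1)), ((nat_lit 238), (nat_lit 203), (nat_lit 1), (nat_lit 1))]) (.leaf [((nat_lit 6), (nat_lit 14), (nat_lit 1), (nat_lit 1)), ((nat_lit 8), (nat_lit 15), (nat_lit 1), (nat_lit 1)), ((nat_lit 9), (nat_lit 16), (nat_lit 1), (nat_lit 1)), ((nat_lit 10), (nat_lit 17), (nat_lit 1), (nat_lit 1)), ((nat_lit 11), (nat_lit 18), (nat_lit 1), (nat_lit 1)), ((nat_lit 12), (nat_lit 19), (nat_lit 1), (nat_lit 1)), ((nat_lit 13), (nat_lit 20), (nat_lit 1), (nat_lit 1)), ((nat_lit 56), (nat_lit 78), (nat_lit 1), (nat_lit 1)), ((nat_lit 57), (nat_lit 79), (nat_lit 1), (nat_lit 1)), ((nat_lit 58), (nat_lit 80), (nat_lit 1), (nat_lit 1)), ((nat_lit 59), (nat_lit 81), (nat_lit 1), (nat_lit 1)), ((nat_lit 60), (nat_lit 82), (nat_lit 1), (nat_lit 1)), ((nat_lit 61), (nat_lit 83), (nat_lit 1), (nat_lit 1)), ((nat_lit 62), (nat_lit 84), (nat_lit 1), (nat_lit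 1)), ((nat_lit 63), (nat_lit 85), (nat_lit 1), (nat_lit 1)), ((nat_lit 64), (nat_lit 86), (nat_lit 1), (nat_lit 1)), ((nat_lit 65), (nat_lit 87), (nat_lit 1), (nat_lit 1)), ((nat_lit 66), (nat_lit 88), (nat_lit 1), (nat_lit 1)), ((nat_lit 67), (nat_lit 89), (nat_lit 1), (nat_lit 1)), ((nat_lit 68), (nat_lit 90), (nat_lit 1), (nat_lit 1)), ((nat_lit 69), (nat_lit 91), (nat_lit 1), (nat_lit 1)), ((nat_lit 70), (nat_lit 92), (nat_lit 1), (nat_lit 1)), ((nat_lit 71), (nat_lit 99), (nat_lit 1), (nat_lit 1)), ((nat_lit 72), (nat_lit 100), (nat_lit 1), (nat_lit 1)), ((nat_lit 73), (nat_lit 101), (nat_lit 1), (nat_lit 1)), ((nat_lit 74), (nat_lit 102), (nat_lit 1), (nat_lit 1)), ((nat_lit 75), (nat_lit 103), (nat_lit 1), (nat_lit 1)), ((nat_lit 76), (nat_lit 104), (nat_lit 1), (nat_lit 1)), ((nat_lit 135), (nat_lit 163), (nat_lit 1), (nat_lit 1)), ((nat_lit 136), (nat_lit 164), (nat_lit 1), (nat_lit 1)), ((nat_lit 137), (nat_lit 165),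 (nat_lit 1), (nat_lit 1)), ((nat_lit 138), (nat_lit 166), (nat_lit 1), (nat_lit 1)), ((nat_lit 139), (nat_lit 167), (nat_lit 1), (nat_lit 1)), ((nat_lit 140), (nat_lit 168), (nat_lit 1), (nat_lit 1)), ((nat_lit 147), (nat_lit 169), (nat_lit 1), (nat_lit 1)), ((nat_lit 148), (nat_lit 170), (nat_lit 1), (nat_lit 1)), ((nat_lit 149), (nat_lit 171), (nat_lit 1), (nat_lit 1)), ((nat_lit 150), (nat_lit 172), (nat_lit 1), (nat_lit 1)), ((nat_lit 151), (nat_lit 173), (nat_lit 1), (nat_lit 1)), ((nat_lit 152), (nat_lit 174), (nat_lit 1), (nat_lit 1)), ((nat_lit 153), (nat_lit 175), (nat_lit 1), (nat_lit 1)), ((nat_lit 154), (nat_lit 176), (nat_lit 1), (nat_lit 1)), ((nat_lit 155), (nat_lit 177), (nat_lit 1), (nat_lit 1)), ((nat_lit 156), (nat_lit 178), (nat_lit 1), (nat_lit 1)), ((nat_lit 157), (nat_lit 179), (nat_lit 1), (nat_lit 1)), ((nat_lit 158), (nat_lit 180), (nat_lit 1), (nat_lit 1)), ((nat_lit 159), (nat_lit 181), (nat_lit 1),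 (nat_lit 1)), ((nat_lit 160), (nat_lit 182), (nat_lit 1), (nat_lit 1)), ((nat_lit 161), (nat_lit 183), (nat_lit 1), (nat_lit 1)), ((nat_lit 219), (nat_lit 226), (nat_lit 1), (nat_lit 1)), ((nat_lit 220), (nat_lit 227), (nat_lit 1), (nat_lit 1)), ((nat_lit 221), (nat_lit 228), (nat_lit 1), (nat_lit 1)), ((nat_lit 222), (nat_lit 229), (nat_lit 1), (nat_lit 1)), ((nat_lit 223), (nat_lit 230), (nat_lit 1), (nat_lit 1)), ((nat_lit 224), (nat_lit 231), (nat_lit 1), (nat_lit 1)), ((nat_lit 225), (nat_lit 233), (nat_lit 1), (nat_lit 1))])) (.node (.leaf [((nat_lit 7), (nat_lit 5), (nat_lit 1), (nat_lit 1)), ((nat_lit 8), (nat_lit 6), (nat_lit 1), (nat_lit 1)), ((nat_lit 15), (nat_lit 14), (nat_lit 1), (nat_lit 1)), ((nat_lit 36), (nat_lit 26), (nat_lit 1), (nat_lit 1)), ((nat_lit 37), (nat_lit 27), (nat_lit 1), (nat_lit 1)), ((nat_lit 38), (nat_lit 28), (nat_lit 1), (nat_lit 1)), ((nat_lit 39), (nat_lit 29), (nat_lit 1), (nat_lit 1)),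 ((nat_lit 40), (nat_lit 30), (nat_lit 1), (nat_lit 1)), ((nat_lit 41), (nat_lit 31), (nat_lit 1), (nat_lit 1)), ((nat_lit 42), (nat_lit 32), (nat_lit 1), (nat_lit 1)), ((nat_lit 43), (nat_lit 33), (nat_lit 1), (nat_lit 1)), ((nat_lit 44), (nat_lit 34), (nat_lit 1), (nat_lit 1)), ((nat_lit 45), (nat_lit 35), (nat_lit 1), (nat_lit 1)), ((nat_lit 71), (nat_lit 66), (nat_lit 1), (nat_lit 1)), ((nat_lit 72), (nat_lit 67), (nat_lit 1), (nat_lit 1)), ((nat_lit 73), (nat_lit 68), (nat_lit 1), (nat_lit 1)), ((nat_lit 74), (nat_lit 69), (nat_lit 1), (nat_lit 1)), ((nat_lit 75), (nat_lit 70), (nat_lit 1), (nat_lit 1)), ((nat_lit 99), (nat_lit 88), (nat_lit 1), (nat_lit 1)), ((nat_lit 100), (nat_lit 89), (nat_lit 1), (nat_lit 1)), ((nat_lit 101), (nat_lit 90), (nat_lit 1), (nat_lit 1)), ((nat_lit 102), (nat_lit 91), (nat_lit 1), (nat_lit 1)), ((nat_lit 103), (nat_lit 92), (nat_lit 1), (nat_lit 1)), ((nat_lit 105), (nat_lit 93), (nat_lit 1),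 (nat_lit 1)), ((nat_lit 106), (nat_lit 94), (nat_lit 1), (nat_lit 1)), ((nat_lit 107), (nat_lit 95), (nat_lit 1), (nat_lit 1)), ((nat_lit 108), (nat_lit 96), (nat_lit 1), (nat_lit 1)), ((nat_lit 109), (nat_lit 97), (nat_lit 1), (nat_lit 1)), ((nat_lit 142), (nat_lit 130), (nat_lit 1), (nat_lit 1)), ((nat_lit 143), (nat_lit 131), (nat_lit 1), (nat_lit 1)), ((nat_lit 144), (nat_lit 132), (nat_lit 1), (nat_lit 1)), ((nat_lit 145), (nat_lit 133), (nat_lit 1), (nat_lit 1)), ((nat_lit 146), (nat_lit 134), (nat_lit 1), (nat_lit 1)), ((nat_lit 147), (nat_lit 136), (nat_lit 1), (nat_lit 1)), ((nat_lit 148), (nat_lit 137), (nat_lit 1), (nat_lit 1)), ((nat_lit 149), (nat_lit 138), (nat_lit 1), (nat_lit 1)), ((nat_lit 150), (nat_lit 139), (nat_lit 1), (nat_lit 1)), ((nat_lit 151), (nat_lit 140), (nat_lit 1), (nat_lit 1)), ((nat_lit 169), (nat_lit 164), (nat_lit 1), (nat_lit 1)), ((nat_lit 170), (nat_lit 165), (nat_lit 1), (nat_lit 1)), ((nat_lit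 171), (nat_lit 166), (nat_lit 1), (nat_lit 1)), ((nat_lit 172), (nat_lit 167), (nat_lit 1), (nat_lit 1)), ((nat_lit 173), (nat_lit 168), (nat_lit 1), (nat_lit 1)), ((nat_lit 204), (nat_lit 194), (nat_lit 1), (nat_lit 1)), ((nat_lit 205), (nat_lit 195), (nat_lit 1), (nat_lit 1)), ((nat_lit 206), (nat_lit 196), (nat_lit 1), (nat_lit 1)), ((nat_lit 207), (nat_lit 197), (nat_lit 1), (nat_lit 1)), ((nat_lit 208), (nat_lit 198), (nat_lit 1), (nat_lit 1)), ((nat_lit 209), (nat_lit 199), (nat_lit 1), (nat_lit 1)), ((nat_lit 210), (nat_lit 200), (nat_lit 1), (nat_lit 1)), ((nat_lit 211), (nat_lit 201), (nat_lit 1), (nat_lit 1)), ((nat_lit 212), (nat_lit 202), (nat_lit 1), (nat_lit 1)), ((nat_lit 213), (nat_lit 203), (nat_lit 1), (nat_lit 1)), ((nat_lit 225), (nat_lit 224), (nat_lit 1), (nat_lit 1)), ((nat_lit 233), (nat_lit 231), (nat_lit 1), (nat_lit 1)), ((nat_lit 234), (nat_lit 232), (nat_lit 1), (nat_lit 1))]) (.leaf [((nat_lit 1),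 (nat_lit 78), (nat_lit 1), (nat_lit 1)), ((nat_lit 2), (nat_lit 79), (nat_lit 1), (nat_lit 1)), ((nat_lit 3), (nat_lit 81), (nat_lit 1), (nat_lit 1)), ((nat_lit 4), (nat_lit 84), (nat_lit 1), (nat_lit 1)), ((nat_lit 5), (nat_lit 88), (nat_lit 1), (nat_lit 1)), ((nat_lit 6), (nat_lit 93), (nat_lit 1), (nat_lit 1)), ((nat_lit 7), (nat_lit 99), (nat_lit 1), (nat_lit 1)), ((nat_lit 8), (nat_lit 105), (nat_lit 1), (nat_lit 1)), ((nat_lit 9), (nat_lit 110), (nat_lit 1), (nat_lit 1)), ((nat_lit 10), (nat_lit 114), (nat_lit 1), (nat_lit 1)), ((nat_lit 11), (nat_lit 117), (nat_lit 1), (nat_lit 1)), ((nat_lit 12), (nat_lit 119), (nat_lit 1), (nat_lit 1)), ((nat_lit 20), (nat_lit 162), (nat_lit 1), (nat_lit 1)), ((nat_lit 25), (nat_lit 163), (nat_lit 1), (nat_lit 1)), ((nat_lit 29), (nat_lit 164), (nat_lit 1), (nat_lit 1)), ((nat_lit 32), (nat_lit 165), (nat_lit 1), (nat_lit 1)), ((nat_lit 34), (nat_lit 166), (nat_lit 1), (nat_lit 1)), ((nat_lit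 35), (nat_lit 167), (nat_lit 1), (nat_lit 1)), ((nat_lit 39), (nat_lit 169), (nat_lit 1), (nat_lit 1)), ((nat_lit 42), (nat_lit 170), (nat_lit 1), (nat_lit 1)), ((nat_lit 44), (nat_lit 171), (nat_lit 1), (nat_lit 1)), ((nat_lit 45), (nat_lit 172), (nat_lit 1), (nat_lit 1)), ((nat_lit 48), (nat_lit 174), (nat_lit 1), (nat_lit 1)), ((nat_lit 50), (nat_lit 175), (nat_lit 1), (nat_lit 1)), ((nat_lit 51), (nat_lit 176), (nat_lit 1), (nat_lit 1)), ((nat_lit 53), (nat_lit 178), (nat_lit 1), (nat_lit 1)), ((nat_lit 54), (nat_lit 179), (nat_lit 1), (nat_lit 1)), ((nat_lit 55), (nat_lit 181), (nat_lit 1), (nat_lit 1)), ((nat_lit 58), (nat_lit 184), (nat_lit 1), (nat_lit 1)), ((nat_lit 60), (nat_lit 185), (nat_lit 1), (nat_lit 1)), ((nat_lit 61), (nat_lit 186), (nat_lit 1), (nat_lit 1)), ((nat_lit 63), (nat_lit 188), (nat_lit 1), (nat_lit 1)), ((nat_lit 64), (nat_lit 189), (nat_lit 1), (nat_lit 1)), ((nat_lit 65), (nat_lit 191), (nat_lit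 1), (nat_lit 1)), ((nat_lit 67), (nat_lit 194), (nat_lit 1), (nat_lit 1)), ((nat_lit 68), (nat_lit 195), (nat_lit 1), (nat_lit 1)), ((nat_lit 69), (nat_lit 197), (nat_lit 1), (nat_lit 1)), ((nat_lit 70), (nat_lit 200), (nat_lit 1), (nat_lit 1)), ((nat_lit 72), (nat_lit 204), (nat_lit 1), (nat_lit 1)), ((nat_lit 73), (nat_lit 205), (nat_lit 1), (nat_lit 1)), ((nat_lit 74), (nat_lit 207), (nat_lit 1), (nat_lit 1)), ((nat_lit 75), (nat_lit 210), (nat_lit 1), (nat_lit 1)), ((nat_lit 76), (nat_lit 214), (nat_lit 1), (nat_lit 1)), ((nat_lit 77), (nat_lit 219), (nat_lit 1), (nat_lit 1)), ((nat_lit 120), (nat_lit 227), (nat_lit 1), (nat_lit 1)), ((nat_lit 122), (nat_lit 228), (nat_lit 1), (nat_lit 1)), ((nat_lit 125), (nat_lit 229), (nat_lit 1), (nat_lit 1)), ((nat_lit 129), (nat_lit 230), (nat_lit 1), (nat_lit 1)), ((nat_lit 134), (nat_lit 231), (nat_lit 1), (nat_lit 1)), ((nat_lit 140), (nat_lit 232), (nat_lit 1), (nat_lit 1)), ((nat_lit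 146), (nat_lit 233), (nat_lit 1), (nat_lit 1)), ((nat_lit 151), (nat_lit 234), (nat_lit 1), (nat_lit 1)), ((nat_lit 155), (nat_lit 235), (nat_lit 1), (nat_lit 1)), ((nat_lit 158), (nat_lit 236), (nat_lit 1), (nat_lit 1)), ((nat_lit 160), (nat_lit 237), (nat_lit 1), (nat_lit 1)), ((nat_lit 161), (nat_lit 238), (nat_lit 1), (nat_lit 1))])))) (.node (.node (.node (.leaf [((nat_lit 57), (nat_lit 0), (nat_lit 1), (nat_lit 1)), ((nat_lit 58), (nat_lit 1), (nat_lit 1), (nat_lit 1)), ((nat_lit 61), (nat_lit 3), (nat_lit 1), (nat_lit 1)), ((nat_lit 64), (nat_lit 4), (nat_lit 1), (nat_lit 1)), ((nat_lit 68), (nat_lit 5), (nat_lit 1), (nat_lit 1)), ((nat_lit 73), (nat_lit 7), (nat_lit 1), (nat_lit 1)), ((nat_lit 77), (nat_lit 11), (nat_lit 1), (nat_lit 1)), ((nat_lit 95), (nat_lit 14), (nat_lit 1), (nat_lit 1)), ((nat_lit 107), (nat_lit 15), (nat_lit 1), (nat_lit 1)), ((nat_lit 112), (nat_lit 16), (nat_lit 1), (nat_lit 1)), ((nat_lit 116),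 (nat_lit 17), (nat_lit 1), (nat_lit 1)), ((nat_lit 121), (nat_lit 19), (nat_lit 1), (nat_lit 1)), ((nat_lit 122), (nat_lit 20), (nat_lit 1), (nat_lit 1)), ((nat_lit 135), (nat_lit 23), (nat_lit 1), (nat_lit 1)), ((nat_lit 136), (nat_lit 27), (nat_lit 1), (nat_lit 1)), ((nat_lit 137), (nat_lit 30), (nat_lit 1), (nat_lit 1)), ((nat_lit 139), (nat_lit 33), (nat_lit 1), (nat_lit 1)), ((nat_lit 140), (nat_lit 34), (nat_lit 1), (nat_lit 1)), ((nat_lit 147), (nat_lit 37), (nat_lit 1), (nat_lit 1)), ((nat_lit 148), (nat_lit 40), (nat_lit 1), (nat_lit 1)), ((nat_lit 150), (nat_lit 43), (nat_lit 1), (nat_lit 1)), ((nat_lit 151), (nat_lit 44), (nat_lit 1), (nat_lit 1)), ((nat_lit 152), (nat_lit 46), (nat_lit 1), (nat_lit 1)), ((nat_lit 154), (nat_lit 49), (nat_lit 1), (nat_lit 1)), ((nat_lit 155), (nat_lit 50), (nat_lit 1), (nat_lit 1)), ((nat_lit 157), (nat_lit 52), (nat_lit 1), (nat_lit 1)), ((nat_lit 158), (nat_lit 53), (nat_lit 1), (nat_lit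 1)), ((nat_lit 161), (nat_lit 55), (nat_lit 1), (nat_lit 1)), ((nat_lit 184), (nat_lit 78), (nat_lit 1), (nat_lit 1)), ((nat_lit 186), (nat_lit 81), (nat_lit 1), (nat_lit 1)), ((nat_lit 187), (nat_lit 82), (nat_lit 1), (nat_lit 1)), ((nat_lit 189), (nat_lit 84), (nat_lit 1), (nat_lit 1)), ((nat_lit 190), (nat_lit 85), (nat_lit 1), (nat_lit 1)), ((nat_lit 193), (nat_lit 87), (nat_lit 1), (nat_lit 1)), ((nat_lit 195), (nat_lit 88), (nat_lit 1), (nat_lit 1)), ((nat_lit 196), (nat_lit 89), (nat_lit 1), (nat_lit 1)), ((nat_lit 199), (nat_lit 91), (nat_lit 1), (nat_lit 1)), ((nat_lit 202), (nat_lit 92), (nat_lit 1), (nat_lit 1)), ((nat_lit 205), (nat_lit 99), (nat_lit 1), (nat_lit 1)), ((nat_lit 206), (nat_lit 100), (nat_lit 1), (nat_lit 1)), ((nat_lit 209), (nat_lit 102), (nat_lit 1), (nat_lit 1)), ((nat_lit 212), (nat_lit 103), (nat_lit 1), (nat_lit 1)), ((nat_lit 216), (nat_lit 104), (nat_lit 1), (nat_lit 1)), ((nat_lit 219), (nat_lit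 117), (nat_lit 1), (nat_lit 1)), ((nat_lit 220), (nat_lit 118), (nat_lit 1), (nat_lit 1)), ((nat_lit 222), (nat_lit 123), (nat_lit 1), (nat_lit 1)), ((nat_lit 223), (nat_lit 127), (nat_lit 1), (nat_lit 1)), ((nat_lit 224), (nat_lit 132), (nat_lit 1), (nat_lit 1)), ((nat_lit 225), (nat_lit 144), (nat_lit 1), (nat_lit 1)), ((nat_lit 228), (nat_lit 162), (nat_lit 1), (nat_lit 1)), ((nat_lit 232), (nat_lit 166), (nat_lit 1), (nat_lit 1)), ((nat_lit 234), (nat_lit 171), (nat_lit 1), (nat_lit 1)), ((nat_lit 235), (nat_lit 175), (nat_lit 1), (nat_lit 1)), ((nat_lit 236), (nat_lit 178), (nat_lit 1), (nat_lit 1)), ((nat_lit 238), (nat_lit 181), (nat_lit 1), (nat_lit 1)), ((nat_lit 239), (nat_lit 182), (nat_lit 1), (nat_lit 1))]) (.leaf [((nat_lit 0), (nat_lit 7), (nat_lit 1), (nat_lit 1)), ((nat_lit 6), (nat_lit 13), (nat_lit 1), (nat_lit 1)), ((nat_lit 14), (nat_lit 20), (nat_lit 1), (nat_lit 1)), ((nat_lit 21), (nat_lit 39), (nat_lit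 1), (nat_lit 1)), ((nat_lit 22), (nat_lit 42), (nat_lit 1), (nat_lit 1)), ((nat_lit 23), (nat_lit 44), (nat_lit 1), (nat_lit 1)), ((nat_lit 24), (nat_lit 45), (nat_lit 1), (nat_lit 1)), ((nat_lit 26), (nat_lit 48), (nat_lit 1), (nat_lit 1)), ((nat_lit 27), (nat_lit 50), (nat_lit 1), (nat_lit 1)), ((nat_lit 28), (nat_lit 51), (nat_lit 1), (nat_lit 1)), ((nat_lit 30), (nat_lit 53), (nat_lit 1), (nat_lit 1)), ((nat_lit 31), (nat_lit 54), (nat_lit 1), (nat_lit 1)), ((nat_lit 33), (nat_lit 55), (nat_lit 1), (nat_lit 1)), ((nat_lit 56), (nat_lit 72), (nat_lit 1), (nat_lit 1)), ((nat_lit 57), (nat_lit 73), (nat_lit 1), (nat_lit 1)), ((nat_lit 59), (nat_lit 74), (nat_lit 1), (nat_lit 1)), ((nat_lit 62), (nat_lit 75), (nat_lit 1), (nat_lit 1)), ((nat_lit 66), (nat_lit 76), (nat_lit 1), (nat_lit 1)), ((nat_lit 78), (nat_lit 100), (nat_lit 1), (nat_lit 1)), ((nat_lit 79), (nat_lit 101), (nat_lit 1), (nat_lit 1)), ((nat_lit 81), (nat_lit 102),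 (nat_lit 1), (nat_lit 1)), ((nat_lit 84), (nat_lit 103), (nat_lit 1), (nat_lit 1)), ((nat_lit 88), (nat_lit 104), (nat_lit 1), (nat_lit 1)), ((nat_lit 94), (nat_lit 120), (nat_lit 1), (nat_lit 1)), ((nat_lit 95), (nat_lit 122), (nat_lit 1), (nat_lit 1)), ((nat_lit 96), (nat_lit 125), (nat_lit 1), (nat_lit 1)), ((nat_lit 97), (nat_lit 129), (nat_lit 1), (nat_lit 1)), ((nat_lit 98), (nat_lit 134), (nat_lit 1), (nat_lit 1)), ((nat_lit 105), (nat_lit 141), (nat_lit 1), (nat_lit 1)), ((nat_lit 110), (nat_lit 142), (nat_lit 1), (nat_lit 1)), ((nat_lit 114), (nat_lit 143), (nat_lit 1), (nat_lit 1)), ((nat_lit 117), (nat_lit 144), (nat_lit 1), (nat_lit 1)), ((nat_lit 119), (nat_lit 145), (nat_lit 1), (nat_lit 1)), ((nat_lit 135), (nat_lit 151), (nat_lit 1), (nat_lit 1)), ((nat_lit 136), (nat_lit 155), (nat_lit 1), (nat_lit 1)), ((nat_lit 137), (nat_lit 158), (nat_lit 1), (nat_lit 1)), ((nat_lit 138), (nat_lit 160), (nat_lit 1), (nat_lit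 1)), ((nat_lit 139), (nat_lit 161), (nat_lit 1), (nat_lit 1)), ((nat_lit 163), (nat_lit 173), (nat_lit 1), (nat_lit 1)), ((nat_lit 164), (nat_lit 177), (nat_lit 1), (nat_lit 1)), ((nat_lit 165), (nat_lit 180), (nat_lit 1), (nat_lit 1)), ((nat_lit 166), (nat_lit 182), (nat_lit 1), (nat_lit 1)), ((nat_lit 167), (nat_lit 183), (nat_lit 1), (nat_lit 1)), ((nat_lit 184), (nat_lit 206), (nat_lit 1), (nat_lit 1)), ((nat_lit 185), (nat_lit 208), (nat_lit 1), (nat_lit 1)), ((nat_lit 186), (nat_lit 209), (nat_lit 1), (nat_lit 1)), ((nat_lit 188), (nat_lit 211), (nat_lit 1), (nat_lit 1)), ((nat_lit 189), (nat_lit 212), (nat_lit 1), (nat_lit 1)), ((nat_lit 191), (nat_lit 213), (nat_lit 1), (nat_lit 1)), ((nat_lit 194), (nat_lit 215), (nat_lit 1), (nat_lit 1)), ((nat_lit 195), (nat_lit 216), (nat_lit 1), (nat_lit 1)), ((nat_lit 197), (nat_lit 217), (nat_lit 1), (nat_lit 1)), ((nat_lit 200), (nat_lit 218), (nat_lit 1), (nat_lit 1)), ((nat_lit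 219), (nat_lit 225), (nat_lit 1), (nat_lit 1)), ((nat_lit 226), (nat_lit 233), (nat_lit 1), (nat_lit 1)), ((nat_lit 232), (nat_lit 239), (nat_lit 1), (nat_lit 1))])) (.node (.leaf [((nat_lit 10), (nat_lit 1), (nat_lit 1), (nat_lit 1)), ((nat_lit 12), (nat_lit 3), (nat_lit 1), (nat_lit 1)), ((nat_lit 31), (nat_lit 14), (nat_lit 1), (nat_lit 1)), ((nat_lit 41), (nat_lit 15), (nat_lit 1), (nat_lit 1)), ((nat_lit 47), (nat_lit 16), (nat_lit 1), (nat_lit 1)), ((nat_lit 52), (nat_lit 18), (nat_lit 1), (nat_lit 1)), ((nat_lit 54), (nat_lit 20), (nat_lit 1), (nat_lit 1)), ((nat_lit 57), (nat_lit 21), (nat_lit 1), (nat_lit 1)), ((nat_lit 62), (nat_lit 23), (nat_lit 1), (nat_lit 1)), ((nat_lit 64), (nat_lit 25), (nat_lit 1), (nat_lit 1)), ((nat_lit 66), (nat_lit 27), (nat_lit 1), (nat_lit 1)), ((nat_lit 68), (nat_lit 29), (nat_lit 1), (nat_lit 1)), ((nat_lit 70), (nat_lit 34), (nat_lit 1), (nat_lit 1)), ((nat_lit 71), (nat_lit 37), (nat_lit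 1), (nat_lit 1)), ((nat_lit 73), (nat_lit 39), (nat_lit 1), (nat_lit 1)), ((nat_lit 75), (nat_lit 44), (nat_lit 1), (nat_lit 1)), ((nat_lit 76), (nat_lit 50), (nat_lit 1), (nat_lit 1)), ((nat_lit 77), (nat_lit 60), (nat_lit 1), (nat_lit 1)), ((nat_lit 114), (nat_lit 78), (nat_lit 1), (nat_lit 1)), ((nat_lit 116), (nat_lit 80), (nat_lit 1), (nat_lit 1)), ((nat_lit 119), (nat_lit 81), (nat_lit 1), (nat_lit 1)), ((nat_lit 121), (nat_lit 83), (nat_lit 1), (nat_lit 1)), ((nat_lit 126), (nat_lit 85), (nat_lit 1), (nat_lit 1)), ((nat_lit 128), (nat_lit 87), (nat_lit 1), (nat_lit 1)), ((nat_lit 131), (nat_lit 89), (nat_lit 1), (nat_lit 1)), ((nat_lit 133), (nat_lit 91), (nat_lit 1), (nat_lit 1)), ((nat_lit 137), (nat_lit 94), (nat_lit 1), (nat_lit 1)), ((nat_lit 139), (nat_lit 96), (nat_lit 1), (nat_lit 1)), ((nat_lit 143), (nat_lit 100), (nat_lit 1), (nat_lit 1)), ((nat_lit 145), (nat_lit 102), (nat_lit 1), (nat_lit 1)), ((nat_lit 148),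 (nat_lit 106), (nat_lit 1), (nat_lit 1)), ((nat_lit 150), (nat_lit 108), (nat_lit 1), (nat_lit 1)), ((nat_lit 152), (nat_lit 111), (nat_lit 1), (nat_lit 1)), ((nat_lit 154), (nat_lit 113), (nat_lit 1), (nat_lit 1)), ((nat_lit 156), (nat_lit 118), (nat_lit 1), (nat_lit 1)), ((nat_lit 158), (nat_lit 120), (nat_lit 1), (nat_lit 1)), ((nat_lit 159), (nat_lit 123), (nat_lit 1), (nat_lit 1)), ((nat_lit 161), (nat_lit 125), (nat_lit 1), (nat_lit 1)), ((nat_lit 179), (nat_lit 162), (nat_lit 1), (nat_lit 1)), ((nat_lit 189), (nat_lit 163), (nat_lit 1), (nat_lit 1)), ((nat_lit 195), (nat_lit 164), (nat_lit 1), (nat_lit 1)), ((nat_lit 200), (nat_lit 166), (nat_lit 1), (nat_lit 1)), ((nat_lit 202), (nat_lit 168), (nat_lit 1), (nat_lit 1)), ((nat_lit 205), (nat_lit 169), (nat_lit 1), (nat_lit 1)), ((nat_lit 210), (nat_lit 171), (nat_lit 1), (nat_lit 1)), ((nat_lit 212), (nat_lit 173), (nat_lit 1), (nat_lit 1)), ((nat_lit 214), (nat_lit 175),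 (nat_lit 1), (nat_lit 1)), ((nat_lit 216), (nat_lit 177), (nat_lit 1), (nat_lit 1)), ((nat_lit 218), (nat_lit 182), (nat_lit 1), (nat_lit 1)), ((nat_lit 219), (nat_lit 185), (nat_lit 1), (nat_lit 1)), ((nat_lit 221), (nat_lit 187), (nat_lit 1), (nat_lit 1)), ((nat_lit 223), (nat_lit 192), (nat_lit 1), (nat_lit 1)), ((nat_lit 224), (nat_lit 198), (nat_lit 1), (nat_lit 1)), ((nat_lit 225), (nat_lit 208), (nat_lit 1), (nat_lit 1)), ((nat_lit 236), (nat_lit 227), (nat_lit 1), (nat_lit 1)), ((nat_lit 238), (nat_lit 229), (nat_lit 1), (nat_lit 1))]) (.leaf [((nat_lit 1), (nat_lit 40), (nat_lit 1), (nat_lit 1)), ((nat_lit 2), (nat_lit 41), (nat_lit 1), (nat_lit 1)), ((nat_lit 3), (nat_lit 43), (nat_lit 1), (nat_lit 1)), ((nat_lit 5), (nat_lit 52), (nat_lit 1), (nat_lit 1)), ((nat_lit 6), (nat_lit 62), (nat_lit 1), (nat_lit 1)), ((nat_lit 9), (nat_lit 71), (nat_lit 1), (nat_lit 1)), ((nat_lit 13), (nat_lit 75), (nat_lit 1), (nat_lit 1)),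 ((nat_lit 14), (nat_lit 84), (nat_lit 1), (nat_lit 1)), ((nat_lit 16), (nat_lit 99), (nat_lit 1), (nat_lit 1)), ((nat_lit 20), (nat_lit 103), (nat_lit 1), (nat_lit 1)), ((nat_lit 21), (nat_lit 105), (nat_lit 1), (nat_lit 1)), ((nat_lit 25), (nat_lit 109), (nat_lit 1), (nat_lit 1)), ((nat_lit 26), (nat_lit 114), (nat_lit 1), (nat_lit 1)), ((nat_lit 27), (nat_lit 117), (nat_lit 1), (nat_lit 1)), ((nat_lit 28), (nat_lit 119), (nat_lit 1), (nat_lit 1)), ((nat_lit 32), (nat_lit 126), (nat_lit 1), (nat_lit 1)), ((nat_lit 34), (nat_lit 127), (nat_lit 1), (nat_lit 1)), ((nat_lit 35), (nat_lit 128), (nat_lit 1), (nat_lit 1)), ((nat_lit 39), (nat_lit 141), (nat_lit 1), (nat_lit 1)), ((nat_lit 48), (nat_lit 143), (nat_lit 1), (nat_lit 1)), ((nat_lit 50), (nat_lit 144), (nat_lit 1), (nat_lit 1)), ((nat_lit 51), (nat_lit 145), (nat_lit 1), (nat_lit 1)), ((nat_lit 58), (nat_lit 148), (nat_lit 1), (nat_lit 1)), ((nat_lit 60), (nat_lit 149), (nat_lit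 1), (nat_lit 1)), ((nat_lit 61), (nat_lit 150), (nat_lit 1), (nat_lit 1)), ((nat_lit 67), (nat_lit 156), (nat_lit 1), (nat_lit 1)), ((nat_lit 68), (nat_lit 157), (nat_lit 1), (nat_lit 1)), ((nat_lit 69), (nat_lit 159), (nat_lit 1), (nat_lit 1)), ((nat_lit 80), (nat_lit 170), (nat_lit 1), (nat_lit 1)), ((nat_lit 82), (nat_lit 171), (nat_lit 1), (nat_lit 1)), ((nat_lit 83), (nat_lit 172), (nat_lit 1), (nat_lit 1)), ((nat_lit 89), (nat_lit 178), (nat_lit 1), (nat_lit 1)), ((nat_lit 90), (nat_lit 179), (nat_lit 1), (nat_lit 1)), ((nat_lit 91), (nat_lit 181), (nat_lit 1), (nat_lit 1)), ((nat_lit 94), (nat_lit 188), (nat_lit 1), (nat_lit 1)), ((nat_lit 95), (nat_lit 189), (nat_lit 1), (nat_lit 1)), ((nat_lit 96), (nat_lit 191), (nat_lit 1), (nat_lit 1)), ((nat_lit 98), (nat_lit 200), (nat_lit 1), (nat_lit 1)), ((nat_lit 111), (nat_lit 204), (nat_lit 1), (nat_lit 1)), ((nat_lit 112), (nat_lit 205), (nat_lit 1), (nat_lit 1)), ((nat_lit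 113), (nat_lit 207), (nat_lit 1), (nat_lit 1)), ((nat_lit 120), (nat_lit 211), (nat_lit 1), (nat_lit 1)), ((nat_lit 122), (nat_lit 212), (nat_lit 1), (nat_lit 1)), ((nat_lit 125), (nat_lit 213), (nat_lit 1), (nat_lit 1)), ((nat_lit 130), (nat_lit 214), (nat_lit 1), (nat_lit 1)), ((nat_lit 134), (nat_lit 218), (nat_lit 1), (nat_lit 1)), ((nat_lit 136), (nat_lit 219), (nat_lit 1), (nat_lit 1)), ((nat_lit 140), (nat_lit 223), (nat_lit 1), (nat_lit 1)), ((nat_lit 155), (nat_lit 225), (nat_lit 1), (nat_lit 1)), ((nat_lit 164), (nat_lit 226), (nat_lit 1), (nat_lit 1)), ((nat_lit 168), (nat_lit 230), (nat_lit 1), (nat_lit 1)), ((nat_lit 177), (nat_lit 233), (nat_lit 1), (nat_lit 1)), ((nat_lit 187), (nat_lit 234), (nat_lit 1), (nat_lit 1)), ((nat_lit 196), (nat_lit 236), (nat_lit 1), (nat_lit 1)), ((nat_lit 198), (nat_lit 237), (nat_lit 1), (nat_lit 1)), ((nat_lit 199), (nat_lit 238), (nat_lit 1), (nat_lit 1))]))) (.node (.node (.leaf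 [((nat_lit 22), (nat_lit 1), (nat_lit 1), (nat_lit 1)), ((nat_lit 24), (nat_lit 3), (nat_lit 1), (nat_lit 1)), ((nat_lit 31), (nat_lit 5), (nat_lit 1), (nat_lit 1)), ((nat_lit 41), (nat_lit 7), (nat_lit 1), (nat_lit 1)), ((nat_lit 57), (nat_lit 9), (nat_lit 1), (nat_lit 1)), ((nat_lit 62), (nat_lit 11), (nat_lit 1), (nat_lit 1)), ((nat_lit 64), (nat_lit 13), (nat_lit 1), (nat_lit 1)), ((nat_lit 79), (nat_lit 16), (nat_lit 1), (nat_lit 1)), ((nat_lit 84), (nat_lit 18), (nat_lit 1), (nat_lit 1)), ((nat_lit 86), (nat_lit 20), (nat_lit 1), (nat_lit 1)), ((nat_lit 93), (nat_lit 27), (nat_lit 1), (nat_lit 1)), ((nat_lit 95), (nat_lit 29), (nat_lit 1), (nat_lit 1)), ((nat_lit 97), (nat_lit 34), (nat_lit 1), (nat_lit 1)), ((nat_lit 105), (nat_lit 37), (nat_lit 1), (nat_lit 1)), ((nat_lit 107), (nat_lit 39), (nat_lit 1), (nat_lit 1)), ((nat_lit 109), (nat_lit 44), (nat_lit 1), (nat_lit 1)), ((nat_lit 114), (nat_lit 46), (nat_lit 1), (nat_lit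 1)), ((nat_lit 116), (nat_lit 48), (nat_lit 1), (nat_lit 1)), ((nat_lit 119), (nat_lit 49), (nat_lit 1), (nat_lit 1)), ((nat_lit 121), (nat_lit 51), (nat_lit 1), (nat_lit 1)), ((nat_lit 126), (nat_lit 53), (nat_lit 1), (nat_lit 1)), ((nat_lit 128), (nat_lit 55), (nat_lit 1), (nat_lit 1)), ((nat_lit 135), (nat_lit 60), (nat_lit 1), (nat_lit 1)), ((nat_lit 137), (nat_lit 67), (nat_lit 1), (nat_lit 1)), ((nat_lit 139), (nat_lit 69), (nat_lit 1), (nat_lit 1)), ((nat_lit 148), (nat_lit 72), (nat_lit 1), (nat_lit 1)), ((nat_lit 150), (nat_lit 74), (nat_lit 1), (nat_lit 1)), ((nat_lit 157), (nat_lit 76), (nat_lit 1), (nat_lit 1)), ((nat_lit 163), (nat_lit 82), (nat_lit 1), (nat_lit 1)), ((nat_lit 165), (nat_lit 89), (nat_lit 1), (nat_lit 1)), ((nat_lit 167), (nat_lit 91), (nat_lit 1), (nat_lit 1)), ((nat_lit 170), (nat_lit 100), (nat_lit 1), (nat_lit 1)), ((nat_lit 172), (nat_lit 102), (nat_lit 1), (nat_lit 1)), ((nat_lit 179), (nat_lit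 104), (nat_lit 1), (nat_lit 1)), ((nat_lit 184), (nat_lit 111), (nat_lit 1), (nat_lit 1)), ((nat_lit 186), (nat_lit 113), (nat_lit 1), (nat_lit 1)), ((nat_lit 188), (nat_lit 118), (nat_lit 1), (nat_lit 1)), ((nat_lit 190), (nat_lit 120), (nat_lit 1), (nat_lit 1)), ((nat_lit 191), (nat_lit 123), (nat_lit 1), (nat_lit 1)), ((nat_lit 193), (nat_lit 125), (nat_lit 1), (nat_lit 1)), ((nat_lit 195), (nat_lit 130), (nat_lit 1), (nat_lit 1)), ((nat_lit 200), (nat_lit 132), (nat_lit 1), (nat_lit 1)), ((nat_lit 202), (nat_lit 134), (nat_lit 1), (nat_lit 1)), ((nat_lit 205), (nat_lit 142), (nat_lit 1), (nat_lit 1)), ((nat_lit 210), (nat_lit 144), (nat_lit 1), (nat_lit 1)), ((nat_lit 212), (nat_lit 146), (nat_lit 1), (nat_lit 1)), ((nat_lit 219), (nat_lit 153), (nat_lit 1), (nat_lit 1)), ((nat_lit 221), (nat_lit 155), (nat_lit 1), (nat_lit 1)), ((nat_lit 223), (nat_lit 160), (nat_lit 1), (nat_lit 1)), ((nat_lit 226), (nat_lit 175), (nat_lit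 1), (nat_lit 1)), ((nat_lit 228), (nat_lit 177), (nat_lit 1), (nat_lit 1)), ((nat_lit 230), (nat_lit 182), (nat_lit 1), (nat_lit 1)), ((nat_lit 232), (nat_lit 198), (nat_lit 1), (nat_lit 1)), ((nat_lit 234), (nat_lit 208), (nat_lit 1), (nat_lit 1)), ((nat_lit 236), (nat_lit 215), (nat_lit 1), (nat_lit 1)), ((nat_lit 238), (nat_lit 217), (nat_lit 1), (nat_lit 1))]) (.leaf [((nat_lit 2), (nat_lit 17), (nat_lit 1), (nat_lit 1)), ((nat_lit 3), (nat_lit 18), (nat_lit 1), (nat_lit 1)), ((nat_lit 6), (nat_lit 30), (nat_lit 1), (nat_lit 1)), ((nat_lit 8), (nat_lit 40), (nat_lit 1), (nat_lit 1)), ((nat_lit 9), (nat_lit 46), (nat_lit 1), (nat_lit 1)), ((nat_lit 12), (nat_lit 52), (nat_lit 1), (nat_lit 1)), ((nat_lit 13), (nat_lit 53), (nat_lit 1), (nat_lit 1)), ((nat_lit 21), (nat_lit 78), (nat_lit 1), (nat_lit 1)), ((nat_lit 24), (nat_lit 84), (nat_lit 1), (nat_lit 1)), ((nat_lit 25), (nat_lit 85), (nat_lit 1), (nat_lit 1)), ((nat_lit 28),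 (nat_lit 88), (nat_lit 1), (nat_lit 1)), ((nat_lit 29), (nat_lit 89), (nat_lit 1), (nat_lit 1)), ((nat_lit 35), (nat_lit 92), (nat_lit 1), (nat_lit 1)), ((nat_lit 38), (nat_lit 99), (nat_lit 1), (nat_lit 1)), ((nat_lit 39), (nat_lit 100), (nat_lit 1), (nat_lit 1)), ((nat_lit 45), (nat_lit 103), (nat_lit 1), (nat_lit 1)), ((nat_lit 51), (nat_lit 104), (nat_lit 1), (nat_lit 1)), ((nat_lit 57), (nat_lit 114), (nat_lit 1), (nat_lit 1)), ((nat_lit 58), (nat_lit 115), (nat_lit 1), (nat_lit 1)), ((nat_lit 59), (nat_lit 117), (nat_lit 1), (nat_lit 1)), ((nat_lit 60), (nat_lit 118), (nat_lit 1), (nat_lit 1)), ((nat_lit 64), (nat_lit 126), (nat_lit 1), (nat_lit 1)), ((nat_lit 65), (nat_lit 127), (nat_lit 1), (nat_lit 1)), ((nat_lit 68), (nat_lit 131), (nat_lit 1), (nat_lit 1)), ((nat_lit 69), (nat_lit 132), (nat_lit 1), (nat_lit 1)), ((nat_lit 73), (nat_lit 143), (nat_lit 1), (nat_lit 1)), ((nat_lit 74), (nat_lit 144), (nat_lit 1), (nat_lit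 1)), ((nat_lit 77), (nat_lit 156), (nat_lit 1), (nat_lit 1)), ((nat_lit 83), (nat_lit 162), (nat_lit 1), (nat_lit 1)), ((nat_lit 95), (nat_lit 165), (nat_lit 1), (nat_lit 1)), ((nat_lit 96), (nat_lit 166), (nat_lit 1), (nat_lit 1)), ((nat_lit 107), (nat_lit 170), (nat_lit 1), (nat_lit 1)), ((nat_lit 108), (nat_lit 171), (nat_lit 1), (nat_lit 1)), ((nat_lit 112), (nat_lit 174), (nat_lit 1), (nat_lit 1)), ((nat_lit 113), (nat_lit 175), (nat_lit 1), (nat_lit 1)), ((nat_lit 121), (nat_lit 179), (nat_lit 1), (nat_lit 1)), ((nat_lit 122), (nat_lit 180), (nat_lit 1), (nat_lit 1)), ((nat_lit 124), (nat_lit 181), (nat_lit 1), (nat_lit 1)), ((nat_lit 125), (nat_lit 182), (nat_lit 1), (nat_lit 1)), ((nat_lit 135), (nat_lit 188), (nat_lit 1), (nat_lit 1)), ((nat_lit 136), (nat_lit 194), (nat_lit 1), (nat_lit 1)), ((nat_lit 139), (nat_lit 200), (nat_lit 1), (nat_lit 1)), ((nat_lit 140), (nat_lit 201), (nat_lit 1), (nat_lit 1)), ((nat_lit 147),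 (nat_lit 204), (nat_lit 1), (nat_lit 1)), ((nat_lit 150), (nat_lit 210), (nat_lit 1), (nat_lit 1)), ((nat_lit 151), (nat_lit 211), (nat_lit 1), (nat_lit 1)), ((nat_lit 154), (nat_lit 214), (nat_lit 1), (nat_lit 1)), ((nat_lit 155), (nat_lit 215), (nat_lit 1), (nat_lit 1)), ((nat_lit 161), (nat_lit 218), (nat_lit 1), (nat_lit 1)), ((nat_lit 186), (nat_lit 226), (nat_lit 1), (nat_lit 1)), ((nat_lit 187), (nat_lit 227), (nat_lit 1), (nat_lit 1)), ((nat_lit 193), (nat_lit 230), (nat_lit 1), (nat_lit 1)), ((nat_lit 199), (nat_lit 231), (nat_lit 1), (nat_lit 1)), ((nat_lit 209), (nat_lit 233), (nat_lit 1), (nat_lit 1)), ((nat_lit 221), (nat_lit 236), (nat_lit 1), (nat_lit 1)), ((nat_lit 222), (nat_lit 237), (nat_lit 1), (nat_lit 1))])) (.leaf [((nat_lit 3), (nat_lit 0), (nat_lit 1), (nat_lit 1)), ((nat_lit 13), (nat_lit 10), (nat_lit 1), (nat_lit 1)), ((nat_lit 20), (nat_lit 17), (nat_lit 1), (nat_lit 1)), ((nat_lit 25), (nat_lit 22),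 (nat_lit 1), (nat_lit 1)), ((nat_lit 29), (nat_lit 26), (nat_lit 1), (nat_lit 1)), ((nat_lit 34), (nat_lit 30), (nat_lit 1), (nat_lit 1)), ((nat_lit 35), (nat_lit 31), (nat_lit 1), (nat_lit 1)), ((nat_lit 39), (nat_lit 36), (nat_lit 1), (nat_lit 1)), ((nat_lit 44), (nat_lit 40), (nat_lit 1), (nat_lit 1)), ((nat_lit 45), (nat_lit 41), (nat_lit 1), (nat_lit 1)), ((nat_lit 50), (nat_lit 46), (nat_lit 1), (nat_lit 1)), ((nat_lit 51), (nat_lit 47), (nat_lit 1), (nat_lit 1)), ((nat_lit 55), (nat_lit 52), (nat_lit 1), (nat_lit 1)), ((nat_lit 60), (nat_lit 56), (nat_lit 1), (nat_lit 1)), ((nat_lit 61), (nat_lit 57), (nat_lit 1), (nat_lit 1)), ((nat_lit 65), (nat_lit 62), (nat_lit 1), (nat_lit 1)), ((nat_lit 69), (nat_lit 66), (nat_lit 1), (nat_lit 1)), ((nat_lit 74), (nat_lit 71), (nat_lit 1), (nat_lit 1)), ((nat_lit 82), (nat_lit 78), (nat_lit 1), (nat_lit 1)), ((nat_lit 83), (nat_lit 79), (nat_lit 1), (nat_lit 1)), ((nat_lit 87), (nat_lit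 84), (nat_lit 1), (nat_lit 1)), ((nat_lit 91), (nat_lit 88), (nat_lit 1), (nat_lit 1)), ((nat_lit 96), (nat_lit 93), (nat_lit 1), (nat_lit 1)), ((nat_lit 102), (nat_lit 99), (nat_lit 1), (nat_lit 1)), ((nat_lit 108), (nat_lit 105), (nat_lit 1), (nat_lit 1)), ((nat_lit 113), (nat_lit 110), (nat_lit 1), (nat_lit 1)), ((nat_lit 120), (nat_lit 115), (nat_lit 1), (nat_lit 1)), ((nat_lit 122), (nat_lit 116), (nat_lit 1), (nat_lit 1)), ((nat_lit 123), (nat_lit 117), (nat_lit 1), (nat_lit 1)), ((nat_lit 124), (nat_lit 119), (nat_lit 1), (nat_lit 1)), ((nat_lit 129), (nat_lit 126), (nat_lit 1), (nat_lit 1)), ((nat_lit 134), (nat_lit 131), (nat_lit 1), (nat_lit 1)), ((nat_lit 140), (nat_lit 137), (nat_lit 1), (nat_lit 1)), ((nat_lit 146), (nat_lit 143), (nat_lit 1), (nat_lit 1)), ((nat_lit 151), (nat_lit 148), (nat_lit 1), (nat_lit 1)), ((nat_lit 155), (nat_lit 152), (nat_lit 1), (nat_lit 1)), ((nat_lit 160), (nat_lit 156), (nat_lit 1),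 (nat_lit 1)), ((nat_lit 161), (nat_lit 157), (nat_lit 1), (nat_lit 1)), ((nat_lit 168), (nat_lit 165), (nat_lit 1), (nat_lit 1)), ((nat_lit 173), (nat_lit 170), (nat_lit 1), (nat_lit 1)), ((nat_lit 177), (nat_lit 174), (nat_lit 1), (nat_lit 1)), ((nat_lit 182), (nat_lit 178), (nat_lit 1), (nat_lit 1)), ((nat_lit 183), (nat_lit 179), (nat_lit 1), (nat_lit 1)), ((nat_lit 187), (nat_lit 184), (nat_lit 1), (nat_lit 1)), ((nat_lit 192), (nat_lit 188), (nat_lit 1), (nat_lit 1)), ((nat_lit 193), (nat_lit 189), (nat_lit 1), (nat_lit 1)), ((nat_lit 198), (nat_lit 194), (nat_lit 1), (nat_lit 1)), ((nat_lit 199), (nat_lit 195), (nat_lit 1), (nat_lit 1)), ((nat_lit 203), (nat_lit 200), (nat_lit 1), (nat_lit 1)), ((nat_lit 208), (nat_lit 204), (nat_lit 1), (nat_lit 1)), ((nat_lit 209), (nat_lit 205), (nat_lit 1), (nat_lit 1)), ((nat_lit 213), (nat_lit 210), (nat_lit 1), (nat_lit 1)), ((nat_lit 217), (nat_lit 214), (nat_lit 1), (nat_lit 1)),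 ((nat_lit 222), (nat_lit 219), (nat_lit 1), (nat_lit 1)), ((nat_lit 229), (nat_lit 226), (nat_lit 1), (nat_lit 1)), ((nat_lit 239), (nat_lit 236), (nat_lit 1), (nat_lit 1))])))

def rows5 : Tr (List Entry) :=
  .node (.node (.node (.node (.leaf [((nat_lit 81), (nat_lit 0), (nat_lit 1), (nat_lit 1)), ((nat_lit 82), (nat_lit 1), (nat_lit 1), (nat_lit 1)), ((nat_lit 83), (nat_lit 2), (nat_lit 1), (nat_lit 1)), ((nat_lit 87), (nat_lit 4), (nat_lit 1), (nat_lit 1)), ((nat_lit 91), (nat_lit 5), (nat_lit 1), (nat_lit 1)), ((nat_lit 96), (nat_lit 6), (nat_lit 1), (nat_lit 1)), ((nat_lit 102), (nat_lit 7), (nat_lit 1), (nat_lit 1)), ((nat_lit 108), (nat_lit 8), (nat_lit 1), (nat_lit 1)), ((nat_lit 113), (nat_lit 9), (nat_lit 1), (nat_lit 1)), ((nat_lit 123), (nat_lit 11), (nat_lit 1), (nat_lit 1)), ((nat_lit 124), (nat_lit 12), (nat_lit 1), (nat_lit 1)), ((nat_lit 125), (nat_lit 13), (nat_lit 1), (nat_lit 1)), ((nat_lit 162), (nat_lit 17),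 (nat_lit 1), (nat_lit 1)), ((nat_lit 163), (nat_lit 22), (nat_lit 1), (nat_lit 1)), ((nat_lit 164), (nat_lit 26), (nat_lit 1), (nat_lit 1)), ((nat_lit 166), (nat_lit 30), (nat_lit 1), (nat_lit 1)), ((nat_lit 167), (nat_lit 31), (nat_lit 1), (nat_lit 1)), ((nat_lit 168), (nat_lit 32), (nat_lit 1), (nat_lit 1)), ((nat_lit 169), (nat_lit 36), (nat_lit 1), (nat_lit 1)), ((nat_lit 171), (nat_lit 40), (nat_lit 1), (nat_lit 1)), ((nat_lit 172), (nat_lit 41), (nat_lit 1), (nat_lit 1)), ((nat_lit 173), (nat_lit 42), (nat_lit 1), (nat_lit 1)), ((nat_lit 175), (nat_lit 46), (nat_lit 1), (nat_lit 1)), ((nat_lit 176), (nat_lit 47), (nat_lit 1), (nat_lit 1)), ((nat_lit 177), (nat_lit 48), (nat_lit 1), (nat_lit 1)), ((nat_lit 181), (nat_lit 52), (nat_lit 1), (nat_lit 1)), ((nat_lit 182), (nat_lit 53), (nat_lit 1), (nat_lit 1)), ((nat_lit 183), (nat_lit 54), (nat_lit 1), (nat_lit 1)), ((nat_lit 185), (nat_lit 56), (nat_lit 1), (nat_lit 1)), ((nat_lit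 186), (nat_lit 57), (nat_lit 1), (nat_lit 1)), ((nat_lit 187), (nat_lit 58), (nat_lit 1), (nat_lit 1)), ((nat_lit 191), (nat_lit 62), (nat_lit 1), (nat_lit 1)), ((nat_lit 192), (nat_lit 63), (nat_lit 1), (nat_lit 1)), ((nat_lit 193), (nat_lit 64), (nat_lit 1), (nat_lit 1)), ((nat_lit 197), (nat_lit 66), (nat_lit 1), (nat_lit 1)), ((nat_lit 198), (nat_lit 67), (nat_lit 1), (nat_lit 1)), ((nat_lit 199), (nat_lit 68), (nat_lit 1), (nat_lit 1)), ((nat_lit 203), (nat_lit 70), (nat_lit 1), (nat_lit 1)), ((nat_lit 207), (nat_lit 71), (nat_lit 1), (nat_lit 1)), ((nat_lit 208), (nat_lit 72), (nat_lit 1), (nat_lit 1)), ((nat_lit 209), (nat_lit 73), (nat_lit 1), (nat_lit 1)), ((nat_lit 213), (nat_lit 75), (nat_lit 1), (nat_lit 1)), ((nat_lit 217), (nat_lit 76), (nat_lit 1), (nat_lit 1)), ((nat_lit 222), (nat_lit 77), (nat_lit 1), (nat_lit 1)), ((nat_lit 226), (nat_lit 114), (nat_lit 1), (nat_lit 1)), ((nat_lit 227), (nat_lit 115), (nat_lit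 1), (nat_lit 1)), ((nat_lit 228), (nat_lit 116), (nat_lit 1), (nat_lit 1)), ((nat_lit 230), (nat_lit 126), (nat_lit 1), (nat_lit 1)), ((nat_lit 231), (nat_lit 131), (nat_lit 1), (nat_lit 1)), ((nat_lit 232), (nat_lit 137), (nat_lit 1), (nat_lit 1)), ((nat_lit 233), (nat_lit 143), (nat_lit 1), (nat_lit 1)), ((nat_lit 234), (nat_lit 148), (nat_lit 1), (nat_lit 1)), ((nat_lit 235), (nat_lit 152), (nat_lit 1), (nat_lit 1)), ((nat_lit 237), (nat_lit 156), (nat_lit 1), (nat_lit 1)), ((nat_lit 238), (nat_lit 157), (nat_lit 1), (nat_lit 1)), ((nat_lit 239), (nat_lit 158), (nat_lit 1), (nat_lit 1))]) (.leaf [((nat_lit 2), (nat_lit 6), (nat_lit 1), (nat_lit 1)), ((nat_lit 7), (nat_lit 11), (nat_lit 1), (nat_lit 1)), ((nat_lit 15), (nat_lit 23), (nat_lit 1), (nat_lit 1)), ((nat_lit 16), (nat_lit 27), (nat_lit 1), (nat_lit 1)), ((nat_lit 17), (nat_lit 30), (nat_lit 1), (nat_lit 1)), ((nat_lit 19), (nat_lit 33), (nat_lit 1), (nat_lit 1)), ((nat_lit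 20), (nat_lit 34), (nat_lit 1), (nat_lit 1)), ((nat_lit 36), (nat_lit 56), (nat_lit 1), (nat_lit 1)), ((nat_lit 38), (nat_lit 59), (nat_lit 1), (nat_lit 1)), ((nat_lit 39), (nat_lit 60), (nat_lit 1), (nat_lit 1)), ((nat_lit 41), (nat_lit 62), (nat_lit 1), (nat_lit 1)), ((nat_lit 42), (nat_lit 63), (nat_lit 1), (nat_lit 1)), ((nat_lit 45), (nat_lit 65), (nat_lit 1), (nat_lit 1)), ((nat_lit 47), (nat_lit 66), (nat_lit 1), (nat_lit 1)), ((nat_lit 48), (nat_lit 67), (nat_lit 1), (nat_lit 1)), ((nat_lit 51), (nat_lit 69), (nat_lit 1), (nat_lit 1)), ((nat_lit 54), (nat_lit 70), (nat_lit 1), (nat_lit 1)), ((nat_lit 73), (nat_lit 77), (nat_lit 1), (nat_lit 1)), ((nat_lit 79), (nat_lit 93), (nat_lit 1), (nat_lit 1)), ((nat_lit 80), (nat_lit 94), (nat_lit 1), (nat_lit 1)), ((nat_lit 83), (nat_lit 96), (nat_lit 1), (nat_lit 1)), ((nat_lit 86), (nat_lit 97), (nat_lit 1), (nat_lit 1)), ((nat_lit 90), (nat_lit 98), (nat_lit 1), (nat_lit 1)),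 ((nat_lit 99), (nat_lit 117), (nat_lit 1), (nat_lit 1)), ((nat_lit 100), (nat_lit 118), (nat_lit 1), (nat_lit 1)), ((nat_lit 102), (nat_lit 123), (nat_lit 1), (nat_lit 1)), ((nat_lit 103), (nat_lit 127), (nat_lit 1), (nat_lit 1)), ((nat_lit 104), (nat_lit 132), (nat_lit 1), (nat_lit 1)), ((nat_lit 107), (nat_lit 135), (nat_lit 1), (nat_lit 1)), ((nat_lit 112), (nat_lit 136), (nat_lit 1), (nat_lit 1)), ((nat_lit 116), (nat_lit 137), (nat_lit 1), (nat_lit 1)), ((nat_lit 121), (nat_lit 139), (nat_lit 1), (nat_lit 1)), ((nat_lit 122), (nat_lit 140), (nat_lit 1), (nat_lit 1)), ((nat_lit 141), (nat_lit 149), (nat_lit 1), (nat_lit 1)), ((nat_lit 142), (nat_lit 153), (nat_lit 1), (nat_lit 1)), ((nat_lit 143), (nat_lit 156), (nat_lit 1), (nat_lit 1)), ((nat_lit 145), (nat_lit 159), (nat_lit 1), (nat_lit 1)), ((nat_lit 146), (nat_lit 160), (nat_lit 1), (nat_lit 1)), ((nat_lit 162), (nat_lit 166), (nat_lit 1), (nat_lit 1)), ((nat_lit 169),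 (nat_lit 185), (nat_lit 1), (nat_lit 1)), ((nat_lit 170), (nat_lit 188), (nat_lit 1), (nat_lit 1)), ((nat_lit 172), (nat_lit 191), (nat_lit 1), (nat_lit 1)), ((nat_lit 173), (nat_lit 192), (nat_lit 1), (nat_lit 1)), ((nat_lit 174), (nat_lit 194), (nat_lit 1), (nat_lit 1)), ((nat_lit 176), (nat_lit 197), (nat_lit 1), (nat_lit 1)), ((nat_lit 177), (nat_lit 198), (nat_lit 1), (nat_lit 1)), ((nat_lit 179), (nat_lit 200), (nat_lit 1), (nat_lit 1)), ((nat_lit 180), (nat_lit 201), (nat_lit 1), (nat_lit 1)), ((nat_lit 183), (nat_lit 203), (nat_lit 1), (nat_lit 1)), ((nat_lit 205), (nat_lit 219), (nat_lit 1), (nat_lit 1)), ((nat_lit 206), (nat_lit 220), (nat_lit 1), (nat_lit 1)), ((nat_lit 209), (nat_lit 222), (nat_lit 1), (nat_lit 1)), ((nat_lit 212), (nat_lit 223), (nat_lit 1), (nat_lit 1)), ((nat_lit 216), (nat_lit 224), (nat_lit 1), (nat_lit 1)), ((nat_lit 228), (nat_lit 232), (nat_lit 1), (nat_lit 1)), ((nat_lit 233), (nat_lit 237),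 (nat_lit 1), (nat_lit 1))])) (.node (.leaf [((nat_lit 14), (nat_lit 3), (nat_lit 1), (nat_lit 1)), ((nat_lit 17), (nat_lit 7), (nat_lit 1), (nat_lit 1)), ((nat_lit 22), (nat_lit 8), (nat_lit 1), (nat_lit 1)), ((nat_lit 26), (nat_lit 9), (nat_lit 1), (nat_lit 1)), ((nat_lit 30), (nat_lit 11), (nat_lit 1), (nat_lit 1)), ((nat_lit 31), (nat_lit 12), (nat_lit 1), (nat_lit 1)), ((nat_lit 32), (nat_lit 13), (nat_lit 1), (nat_lit 1)), ((nat_lit 78), (nat_lit 37), (nat_lit 1), (nat_lit 1)), ((nat_lit 79), (nat_lit 38), (nat_lit 1), (nat_lit 1)), ((nat_lit 80), (nat_lit 39), (nat_lit 1), (nat_lit 1)), ((nat_lit 84), (nat_lit 43), (nat_lit 1), (nat_lit 1)), ((nat_lit 85), (nat_lit 44), (nat_lit 1), (nat_lit 1)), ((nat_lit 86), (nat_lit 45), (nat_lit 1), (nat_lit 1)), ((nat_lit 88), (nat_lit 49), (nat_lit 1), (nat_lit 1)), ((nat_lit 89), (nat_lit 50), (nat_lit 1), (nat_lit 1)), ((nat_lit 90), (nat_lit 51), (nat_lit 1), (nat_lit 1)), ((nat_lit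 92), (nat_lit 55), (nat_lit 1), (nat_lit 1)), ((nat_lit 93), (nat_lit 59), (nat_lit 1), (nat_lit 1)), ((nat_lit 94), (nat_lit 60), (nat_lit 1), (nat_lit 1)), ((nat_lit 95), (nat_lit 61), (nat_lit 1), (nat_lit 1)), ((nat_lit 97), (nat_lit 65), (nat_lit 1), (nat_lit 1)), ((nat_lit 98), (nat_lit 69), (nat_lit 1), (nat_lit 1)), ((nat_lit 114), (nat_lit 71), (nat_lit 1), (nat_lit 1)), ((nat_lit 115), (nat_lit 72), (nat_lit 1), (nat_lit 1)), ((nat_lit 116), (nat_lit 73), (nat_lit 1), (nat_lit 1)), ((nat_lit 126), (nat_lit 75), (nat_lit 1), (nat_lit 1)), ((nat_lit 131), (nat_lit 76), (nat_lit 1), (nat_lit 1)), ((nat_lit 137), (nat_lit 77), (nat_lit 1), (nat_lit 1)), ((nat_lit 162), (nat_lit 102), (nat_lit 1), (nat_lit 1)), ((nat_lit 163), (nat_lit 108), (nat_lit 1), (nat_lit 1)), ((nat_lit 164), (nat_lit 113), (nat_lit 1), (nat_lit 1)), ((nat_lit 166), (nat_lit 123), (nat_lit 1), (nat_lit 1)), ((nat_lit 167), (nat_lit 124), (nat_lit 1),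 (nat_lit 1)), ((nat_lit 168), (nat_lit 125), (nat_lit 1), (nat_lit 1)), ((nat_lit 170), (nat_lit 141), (nat_lit 1), (nat_lit 1)), ((nat_lit 174), (nat_lit 142), (nat_lit 1), (nat_lit 1)), ((nat_lit 178), (nat_lit 144), (nat_lit 1), (nat_lit 1)), ((nat_lit 179), (nat_lit 145), (nat_lit 1), (nat_lit 1)), ((nat_lit 180), (nat_lit 146), (nat_lit 1), (nat_lit 1)), ((nat_lit 184), (nat_lit 147), (nat_lit 1), (nat_lit 1)), ((nat_lit 188), (nat_lit 149), (nat_lit 1), (nat_lit 1)), ((nat_lit 189), (nat_lit 150), (nat_lit 1), (nat_lit 1)), ((nat_lit 190), (nat_lit 151), (nat_lit 1), (nat_lit 1)), ((nat_lit 194), (nat_lit 153), (nat_lit 1), (nat_lit 1)), ((nat_lit 195), (nat_lit 154), (nat_lit 1), (nat_lit 1)), ((nat_lit 196), (nat_lit 155), (nat_lit 1), (nat_lit 1)), ((nat_lit 200), (nat_lit 159), (nat_lit 1), (nat_lit 1)), ((nat_lit 201), (nat_lit 160), (nat_lit 1), (nat_lit 1)), ((nat_lit 202), (nat_lit 161), (nat_lit 1), (nat_lit 1)),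 ((nat_lit 226), (nat_lit 207), (nat_lit 1), (nat_lit 1)), ((nat_lit 227), (nat_lit 208), (nat_lit 1), (nat_lit 1)), ((nat_lit 228), (nat_lit 209), (nat_lit 1), (nat_lit 1)), ((nat_lit 230), (nat_lit 213), (nat_lit 1), (nat_lit 1)), ((nat_lit 231), (nat_lit 217), (nat_lit 1), (nat_lit 1)), ((nat_lit 232), (nat_lit 222), (nat_lit 1), (nat_lit 1)), ((nat_lit 236), (nat_lit 225), (nat_lit 1), (nat_lit 1))]) (.leaf [((nat_lit 0), (nat_lit 31), (nat_lit 1), (nat_lit 1)), ((nat_lit 1), (nat_lit 32), (nat_lit 1), (nat_lit 1)), ((nat_lit 3), (nat_lit 35), (nat_lit 1), (nat_lit 1)), ((nat_lit 7), (nat_lit 54), (nat_lit 1), (nat_lit 1)), ((nat_lit 8), (nat_lit 64), (nat_lit 1), (nat_lit 1)), ((nat_lit 9), (nat_lit 68), (nat_lit 1), (nat_lit 1)), ((nat_lit 11), (nat_lit 70), (nat_lit 1), (nat_lit 1)), ((nat_lit 15), (nat_lit 86), (nat_lit 1), (nat_lit 1)), ((nat_lit 16), (nat_lit 90), (nat_lit 1), (nat_lit 1)), ((nat_lit 18), (nat_lit 92),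 (nat_lit 1), (nat_lit 1)), ((nat_lit 21), (nat_lit 95), (nat_lit 1), (nat_lit 1)), ((nat_lit 23), (nat_lit 97), (nat_lit 1), (nat_lit 1)), ((nat_lit 27), (nat_lit 98), (nat_lit 1), (nat_lit 1)), ((nat_lit 36), (nat_lit 116), (nat_lit 1), (nat_lit 1)), ((nat_lit 38), (nat_lit 121), (nat_lit 1), (nat_lit 1)), ((nat_lit 39), (nat_lit 122), (nat_lit 1), (nat_lit 1)), ((nat_lit 40), (nat_lit 126), (nat_lit 1), (nat_lit 1)), ((nat_lit 43), (nat_lit 128), (nat_lit 1), (nat_lit 1)), ((nat_lit 44), (nat_lit 129), (nat_lit 1), (nat_lit 1)), ((nat_lit 46), (nat_lit 131), (nat_lit 1), (nat_lit 1)), ((nat_lit 49), (nat_lit 133), (nat_lit 1), (nat_lit 1)), ((nat_lit 50), (nat_lit 134), (nat_lit 1), (nat_lit 1)), ((nat_lit 56), (nat_lit 137), (nat_lit 1), (nat_lit 1)), ((nat_lit 59), (nat_lit 139), (nat_lit 1), (nat_lit 1)), ((nat_lit 60), (nat_lit 140), (nat_lit 1), (nat_lit 1)), ((nat_lit 71), (nat_lit 157), (nat_lit 1), (nat_lit 1)), ((nat_lit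 72), (nat_lit 158), (nat_lit 1), (nat_lit 1)), ((nat_lit 74), (nat_lit 161), (nat_lit 1), (nat_lit 1)), ((nat_lit 78), (nat_lit 165), (nat_lit 1), (nat_lit 1)), ((nat_lit 81), (nat_lit 167), (nat_lit 1), (nat_lit 1)), ((nat_lit 82), (nat_lit 168), (nat_lit 1), (nat_lit 1)), ((nat_lit 99), (nat_lit 179), (nat_lit 1), (nat_lit 1)), ((nat_lit 100), (nat_lit 180), (nat_lit 1), (nat_lit 1)), ((nat_lit 102), (nat_lit 183), (nat_lit 1), (nat_lit 1)), ((nat_lit 105), (nat_lit 189), (nat_lit 1), (nat_lit 1)), ((nat_lit 106), (nat_lit 190), (nat_lit 1), (nat_lit 1)), ((nat_lit 108), (nat_lit 193), (nat_lit 1), (nat_lit 1)), ((nat_lit 110), (nat_lit 195), (nat_lit 1), (nat_lit 1)), ((nat_lit 111), (nat_lit 196), (nat_lit 1), (nat_lit 1)), ((nat_lit 113), (nat_lit 199), (nat_lit 1), (nat_lit 1)), ((nat_lit 117), (nat_lit 200), (nat_lit 1), (nat_lit 1)), ((nat_lit 118), (nat_lit 201), (nat_lit 1), (nat_lit 1)), ((nat_lit 123), (nat_lit 203),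 (nat_lit 1), (nat_lit 1)), ((nat_lit 141), (nat_lit 212), (nat_lit 1), (nat_lit 1)), ((nat_lit 142), (nat_lit 216), (nat_lit 1), (nat_lit 1)), ((nat_lit 144), (nat_lit 218), (nat_lit 1), (nat_lit 1)), ((nat_lit 147), (nat_lit 221), (nat_lit 1), (nat_lit 1)), ((nat_lit 149), (nat_lit 223), (nat_lit 1), (nat_lit 1)), ((nat_lit 153), (nat_lit 224), (nat_lit 1), (nat_lit 1)), ((nat_lit 169), (nat_lit 228), (nat_lit 1), (nat_lit 1)), ((nat_lit 171), (nat_lit 230), (nat_lit 1), (nat_lit 1)), ((nat_lit 175), (nat_lit 231), (nat_lit 1), (nat_lit 1)), ((nat_lit 185), (nat_lit 232), (nat_lit 1), (nat_lit 1)), ((nat_lit 204), (nat_lit 236), (nat_lit 1), (nat_lit 1)), ((nat_lit 207), (nat_lit 238), (nat_lit 1), (nat_lit 1)), ((nat_lit 208), (nat_lit 239), (nat_lit 1), (nat_lit 1))]))) (.node (.node (.leaf [((nat_lit 27), (nat_lit 1), (nat_lit 1), (nat_lit 1)), ((nat_lit 28), (nat_lit 2), (nat_lit 1), (nat_lit 1)), ((nat_lit 33), (nat_lit 4),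 (nat_lit 1), (nat_lit 1)), ((nat_lit 49), (nat_lit 7), (nat_lit 1), (nat_lit 1)), ((nat_lit 59), (nat_lit 8), (nat_lit 1), (nat_lit 1)), ((nat_lit 66), (nat_lit 10), (nat_lit 1), (nat_lit 1)), ((nat_lit 69), (nat_lit 13), (nat_lit 1), (nat_lit 1)), ((nat_lit 81), (nat_lit 15), (nat_lit 1), (nat_lit 1)), ((nat_lit 88), (nat_lit 17), (nat_lit 1), (nat_lit 1)), ((nat_lit 91), (nat_lit 20), (nat_lit 1), (nat_lit 1)), ((nat_lit 93), (nat_lit 22), (nat_lit 1), (nat_lit 1)), ((nat_lit 96), (nat_lit 25), (nat_lit 1), (nat_lit 1)), ((nat_lit 98), (nat_lit 32), (nat_lit 1), (nat_lit 1)), ((nat_lit 110), (nat_lit 36), (nat_lit 1), (nat_lit 1)), ((nat_lit 113), (nat_lit 39), (nat_lit 1), (nat_lit 1)), ((nat_lit 117), (nat_lit 40), (nat_lit 1), (nat_lit 1)), ((nat_lit 119), (nat_lit 41), (nat_lit 1), (nat_lit 1)), ((nat_lit 123), (nat_lit 44), (nat_lit 1), (nat_lit 1)), ((nat_lit 124), (nat_lit 45), (nat_lit 1), (nat_lit 1)), ((nat_lit 130),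 (nat_lit 48), (nat_lit 1), (nat_lit 1)), ((nat_lit 132), (nat_lit 53), (nat_lit 1), (nat_lit 1)), ((nat_lit 133), (nat_lit 54), (nat_lit 1), (nat_lit 1)), ((nat_lit 136), (nat_lit 58), (nat_lit 1), (nat_lit 1)), ((nat_lit 138), (nat_lit 63), (nat_lit 1), (nat_lit 1)), ((nat_lit 139), (nat_lit 64), (nat_lit 1), (nat_lit 1)), ((nat_lit 153), (nat_lit 72), (nat_lit 1), (nat_lit 1)), ((nat_lit 154), (nat_lit 73), (nat_lit 1), (nat_lit 1)), ((nat_lit 159), (nat_lit 75), (nat_lit 1), (nat_lit 1)), ((nat_lit 164), (nat_lit 80), (nat_lit 1), (nat_lit 1)), ((nat_lit 166), (nat_lit 85), (nat_lit 1), (nat_lit 1)), ((nat_lit 167), (nat_lit 86), (nat_lit 1), (nat_lit 1)), ((nat_lit 175), (nat_lit 100), (nat_lit 1), (nat_lit 1)), ((nat_lit 176), (nat_lit 101), (nat_lit 1), (nat_lit 1)), ((nat_lit 181), (nat_lit 103), (nat_lit 1), (nat_lit 1)), ((nat_lit 185), (nat_lit 106), (nat_lit 1), (nat_lit 1)), ((nat_lit 186), (nat_lit 107), (nat_lit 1),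 (nat_lit 1)), ((nat_lit 191), (nat_lit 109), (nat_lit 1), (nat_lit 1)), ((nat_lit 194), (nat_lit 115), (nat_lit 1), (nat_lit 1)), ((nat_lit 195), (nat_lit 116), (nat_lit 1), (nat_lit 1)), ((nat_lit 198), (nat_lit 120), (nat_lit 1), (nat_lit 1)), ((nat_lit 199), (nat_lit 122), (nat_lit 1), (nat_lit 1)), ((nat_lit 200), (nat_lit 126), (nat_lit 1), (nat_lit 1)), ((nat_lit 203), (nat_lit 129), (nat_lit 1), (nat_lit 1)), ((nat_lit 207), (nat_lit 141), (nat_lit 1), (nat_lit 1)), ((nat_lit 214), (nat_lit 143), (nat_lit 1), (nat_lit 1)), ((nat_lit 217), (nat_lit 146), (nat_lit 1), (nat_lit 1)), ((nat_lit 219), (nat_lit 148), (nat_lit 1), (nat_lit 1)), ((nat_lit 222), (nat_lit 151), (nat_lit 1), (nat_lit 1)), ((nat_lit 224), (nat_lit 158), (nat_lit 1), (nat_lit 1)), ((nat_lit 226), (nat_lit 170), (nat_lit 1), (nat_lit 1)), ((nat_lit 229), (nat_lit 173), (nat_lit 1), (nat_lit 1)), ((nat_lit 231), (nat_lit 180), (nat_lit 1), (nat_lit 1)),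 ((nat_lit 232), (nat_lit 190), (nat_lit 1), (nat_lit 1)), ((nat_lit 235), (nat_lit 206), (nat_lit 1), (nat_lit 1)), ((nat_lit 237), (nat_lit 211), (nat_lit 1), (nat_lit 1)), ((nat_lit 238), (nat_lit 212), (nat_lit 1), (nat_lit 1))]) (.leaf [((nat_lit 3), (nat_lit 15), (nat_lit 1), (nat_lit 1)), ((nat_lit 5), (nat_lit 17), (nat_lit 1), (nat_lit 1)), ((nat_lit 6), (nat_lit 22), (nat_lit 1), (nat_lit 1)), ((nat_lit 9), (nat_lit 36), (nat_lit 1), (nat_lit 1)), ((nat_lit 11), (nat_lit 40), (nat_lit 1), (nat_lit 1)), ((nat_lit 12), (nat_lit 41), (nat_lit 1), (nat_lit 1)), ((nat_lit 13), (nat_lit 42), (nat_lit 1), (nat_lit 1)), ((nat_lit 27), (nat_lit 78), (nat_lit 1), (nat_lit 1)), ((nat_lit 28), (nat_lit 79), (nat_lit 1), (nat_lit 1)), ((nat_lit 29), (nat_lit 80), (nat_lit 1), (nat_lit 1)), ((nat_lit 33), (nat_lit 84), (nat_lit 1), (nat_lit 1)), ((nat_lit 34), (nat_lit 85), (nat_lit 1), (nat_lit 1)), ((nat_lit 35), (nat_lit 86), (nat_lit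 1), (nat_lit 1)), ((nat_lit 49), (nat_lit 99), (nat_lit 1), (nat_lit 1)), ((nat_lit 50), (nat_lit 100), (nat_lit 1), (nat_lit 1)), ((nat_lit 51), (nat_lit 101), (nat_lit 1), (nat_lit 1)), ((nat_lit 55), (nat_lit 103), (nat_lit 1), (nat_lit 1)), ((nat_lit 59), (nat_lit 105), (nat_lit 1), (nat_lit 1)), ((nat_lit 60), (nat_lit 106), (nat_lit 1), (nat_lit 1)), ((nat_lit 61), (nat_lit 107), (nat_lit 1), (nat_lit 1)), ((nat_lit 65), (nat_lit 109), (nat_lit 1), (nat_lit 1)), ((nat_lit 66), (nat_lit 114), (nat_lit 1), (nat_lit 1)), ((nat_lit 67), (nat_lit 115), (nat_lit 1), (nat_lit 1)), ((nat_lit 68), (nat_lit 116), (nat_lit 1), (nat_lit 1)), ((nat_lit 70), (nat_lit 126), (nat_lit 1), (nat_lit 1)), ((nat_lit 74), (nat_lit 141), (nat_lit 1), (nat_lit 1)), ((nat_lit 76), (nat_lit 143), (nat_lit 1), (nat_lit 1)), ((nat_lit 77), (nat_lit 148), (nat_lit 1), (nat_lit 1)), ((nat_lit 91), (nat_lit 162), (nat_lit 1), (nat_lit 1)), ((nat_lit 96),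 (nat_lit 163), (nat_lit 1), (nat_lit 1)), ((nat_lit 98), (nat_lit 165), (nat_lit 1), (nat_lit 1)), ((nat_lit 113), (nat_lit 169), (nat_lit 1), (nat_lit 1)), ((nat_lit 123), (nat_lit 171), (nat_lit 1), (nat_lit 1)), ((nat_lit 124), (nat_lit 172), (nat_lit 1), (nat_lit 1)), ((nat_lit 125), (nat_lit 173), (nat_lit 1), (nat_lit 1)), ((nat_lit 130), (nat_lit 174), (nat_lit 1), (nat_lit 1)), ((nat_lit 132), (nat_lit 178), (nat_lit 1), (nat_lit 1)), ((nat_lit 133), (nat_lit 179), (nat_lit 1), (nat_lit 1)), ((nat_lit 134), (nat_lit 180), (nat_lit 1), (nat_lit 1)), ((nat_lit 136), (nat_lit 184), (nat_lit 1), (nat_lit 1)), ((nat_lit 138), (nat_lit 188), (nat_lit 1), (nat_lit 1)), ((nat_lit 139), (nat_lit 189), (nat_lit 1), (nat_lit 1)), ((nat_lit 140), (nat_lit 190), (nat_lit 1), (nat_lit 1)), ((nat_lit 153), (nat_lit 204), (nat_lit 1), (nat_lit 1)), ((nat_lit 154), (nat_lit 205), (nat_lit 1), (nat_lit 1)), ((nat_lit 155), (nat_lit 206),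 (nat_lit 1), (nat_lit 1)), ((nat_lit 159), (nat_lit 210), (nat_lit 1), (nat_lit 1)), ((nat_lit 160), (nat_lit 211), (nat_lit 1), (nat_lit 1)), ((nat_lit 161), (nat_lit 212), (nat_lit 1), (nat_lit 1)), ((nat_lit 197), (nat_lit 226), (nat_lit 1), (nat_lit 1)), ((nat_lit 198), (nat_lit 227), (nat_lit 1), (nat_lit 1)), ((nat_lit 199), (nat_lit 228), (nat_lit 1), (nat_lit 1)), ((nat_lit 203), (nat_lit 230), (nat_lit 1), (nat_lit 1)), ((nat_lit 217), (nat_lit 233), (nat_lit 1), (nat_lit 1)), ((nat_lit 222), (nat_lit 234), (nat_lit 1), (nat_lit 1)), ((nat_lit 224), (nat_lit 236), (nat_lit 1), (nat_lit 1))])) (.node (.leaf [((nat_lit 5), (nat_lit 1), (nat_lit 1), (nat_lit 1)), ((nat_lit 12), (nat_lit 8), (nat_lit 1), (nat_lit 1)), ((nat_lit 19), (nat_lit 15), (nat_lit 1), (nat_lit 1)), ((nat_lit 28), (nat_lit 21), (nat_lit 1), (nat_lit 1)), ((nat_lit 31), (nat_lit 22), (nat_lit 1), (nat_lit 1)), ((nat_lit 33), (nat_lit 23), (nat_lit 1),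 (nat_lit 1)), ((nat_lit 35), (nat_lit 25), (nat_lit 1), (nat_lit 1)), ((nat_lit 47), (nat_lit 36), (nat_lit 1), (nat_lit 1)), ((nat_lit 49), (nat_lit 37), (nat_lit 1), (nat_lit 1)), ((nat_lit 51), (nat_lit 39), (nat_lit 1), (nat_lit 1)), ((nat_lit 52), (nat_lit 40), (nat_lit 1), (nat_lit 1)), ((nat_lit 54), (nat_lit 42), (nat_lit 1), (nat_lit 1)), ((nat_lit 55), (nat_lit 44), (nat_lit 1), (nat_lit 1)), ((nat_lit 66), (nat_lit 56), (nat_lit 1), (nat_lit 1)), ((nat_lit 68), (nat_lit 58), (nat_lit 1), (nat_lit 1)), ((nat_lit 69), (nat_lit 60), (nat_lit 1), (nat_lit 1)), ((nat_lit 70), (nat_lit 63), (nat_lit 1), (nat_lit 1)), ((nat_lit 76), (nat_lit 72), (nat_lit 1), (nat_lit 1)), ((nat_lit 88), (nat_lit 78), (nat_lit 1), (nat_lit 1)), ((nat_lit 90), (nat_lit 80), (nat_lit 1), (nat_lit 1)), ((nat_lit 91), (nat_lit 82), (nat_lit 1), (nat_lit 1)), ((nat_lit 92), (nat_lit 85), (nat_lit 1), (nat_lit 1)), ((nat_lit 98), (nat_lit 94), (nat_lit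 1), (nat_lit 1)), ((nat_lit 104), (nat_lit 100), (nat_lit 1), (nat_lit 1)), ((nat_lit 119), (nat_lit 105), (nat_lit 1), (nat_lit 1)), ((nat_lit 121), (nat_lit 107), (nat_lit 1), (nat_lit 1)), ((nat_lit 124), (nat_lit 108), (nat_lit 1), (nat_lit 1)), ((nat_lit 128), (nat_lit 109), (nat_lit 1), (nat_lit 1)), ((nat_lit 130), (nat_lit 111), (nat_lit 1), (nat_lit 1)), ((nat_lit 131), (nat_lit 115), (nat_lit 1), (nat_lit 1)), ((nat_lit 132), (nat_lit 118), (nat_lit 1), (nat_lit 1)), ((nat_lit 134), (nat_lit 120), (nat_lit 1), (nat_lit 1)), ((nat_lit 139), (nat_lit 135), (nat_lit 1), (nat_lit 1)), ((nat_lit 145), (nat_lit 141), (nat_lit 1), (nat_lit 1)), ((nat_lit 154), (nat_lit 147), (nat_lit 1), (nat_lit 1)), ((nat_lit 157), (nat_lit 148), (nat_lit 1), (nat_lit 1)), ((nat_lit 159), (nat_lit 149), (nat_lit 1), (nat_lit 1)), ((nat_lit 161), (nat_lit 151), (nat_lit 1), (nat_lit 1)), ((nat_lit 167), (nat_lit 163), (nat_lit 1), (nat_lit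 1)), ((nat_lit 176), (nat_lit 169), (nat_lit 1), (nat_lit 1)), ((nat_lit 179), (nat_lit 170), (nat_lit 1), (nat_lit 1)), ((nat_lit 181), (nat_lit 171), (nat_lit 1), (nat_lit 1)), ((nat_lit 183), (nat_lit 173), (nat_lit 1), (nat_lit 1)), ((nat_lit 195), (nat_lit 184), (nat_lit 1), (nat_lit 1)), ((nat_lit 197), (nat_lit 185), (nat_lit 1), (nat_lit 1)), ((nat_lit 199), (nat_lit 187), (nat_lit 1), (nat_lit 1)), ((nat_lit 200), (nat_lit 188), (nat_lit 1), (nat_lit 1)), ((nat_lit 202), (nat_lit 190), (nat_lit 1), (nat_lit 1)), ((nat_lit 203), (nat_lit 192), (nat_lit 1), (nat_lit 1)), ((nat_lit 214), (nat_lit 204), (nat_lit 1), (nat_lit 1)), ((nat_lit 216), (nat_lit 206), (nat_lit 1), (nat_lit 1)), ((nat_lit 217), (nat_lit 208), (nat_lit 1), (nat_lit 1)), ((nat_lit 218), (nat_lit 211), (nat_lit 1), (nat_lit 1)), ((nat_lit 224), (nat_lit 220), (nat_lit 1), (nat_lit 1)), ((nat_lit 231), (nat_lit 227), (nat_lit 1), (nat_lit 1)), ((nat_lit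 238), (nat_lit 234), (nat_lit 1), (nat_lit 1))]) (.leaf [((nat_lit 0), (nat_lit 105), (nat_lit 1), (nat_lit 1)), ((nat_lit 1), (nat_lit 106), (nat_lit 1), (nat_lit 1)), ((nat_lit 2), (nat_lit 107), (nat_lit 1), (nat_lit 1)), ((nat_lit 3), (nat_lit 108), (nat_lit 1), (nat_lit 1)), ((nat_lit 4), (nat_lit 109), (nat_lit 1), (nat_lit 1)), ((nat_lit 6), (nat_lit 135), (nat_lit 1), (nat_lit 1)), ((nat_lit 7), (nat_lit 141), (nat_lit 1), (nat_lit 1)), ((nat_lit 9), (nat_lit 147), (nat_lit 1), (nat_lit 1)), ((nat_lit 10), (nat_lit 148), (nat_lit 1), (nat_lit 1)), ((nat_lit 11), (nat_lit 149), (nat_lit 1), (nat_lit 1)), ((nat_lit 12), (nat_lit 150), (nat_lit 1), (nat_lit 1)), ((nat_lit 13), (nat_lit 151), (nat_lit 1), (nat_lit 1)), ((nat_lit 14), (nat_lit 163), (nat_lit 1), (nat_lit 1)), ((nat_lit 16), (nat_lit 169), (nat_lit 1), (nat_lit 1)), ((nat_lit 17), (nat_lit 170), (nat_lit 1), (nat_lit 1)), ((nat_lit 18), (nat_lit 171), (nat_lit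 1), (nat_lit 1)), ((nat_lit 19), (nat_lit 172), (nat_lit 1), (nat_lit 1)), ((nat_lit 20), (nat_lit 173), (nat_lit 1), (nat_lit 1)), ((nat_lit 26), (nat_lit 184), (nat_lit 1), (nat_lit 1)), ((nat_lit 27), (nat_lit 185), (nat_lit 1), (nat_lit 1)), ((nat_lit 28), (nat_lit 186), (nat_lit 1), (nat_lit 1)), ((nat_lit 29), (nat_lit 187), (nat_lit 1), (nat_lit 1)), ((nat_lit 30), (nat_lit 188), (nat_lit 1), (nat_lit 1)), ((nat_lit 31), (nat_lit 189), (nat_lit 1), (nat_lit 1)), ((nat_lit 32), (nat_lit 190), (nat_lit 1), (nat_lit 1)), ((nat_lit 33), (nat_lit 191), (nat_lit 1), (nat_lit 1)), ((nat_lit 34), (nat_lit 192), (nat_lit 1), (nat_lit 1)), ((nat_lit 35), (nat_lit 193), (nat_lit 1), (nat_lit 1)), ((nat_lit 46), (nat_lit 204), (nat_lit 1), (nat_lit 1)), ((nat_lit 47), (nat_lit 205), (nat_lit 1), (nat_lit 1)), ((nat_lit 48), (nat_lit 206), (nat_lit 1), (nat_lit 1)), ((nat_lit 49), (nat_lit 207), (nat_lit 1), (nat_lit 1)), ((nat_lit 50),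 (nat_lit 208), (nat_lit 1), (nat_lit 1)), ((nat_lit 51), (nat_lit 209), (nat_lit 1), (nat_lit 1)), ((nat_lit 52), (nat_lit 210), (nat_lit 1), (nat_lit 1)), ((nat_lit 53), (nat_lit 211), (nat_lit 1), (nat_lit 1)), ((nat_lit 54), (nat_lit 212), (nat_lit 1), (nat_lit 1)), ((nat_lit 55), (nat_lit 213), (nat_lit 1), (nat_lit 1)), ((nat_lit 66), (nat_lit 219), (nat_lit 1), (nat_lit 1)), ((nat_lit 67), (nat_lit 220), (nat_lit 1), (nat_lit 1)), ((nat_lit 68), (nat_lit 221), (nat_lit 1), (nat_lit 1)), ((nat_lit 69), (nat_lit 222), (nat_lit 1), (nat_lit 1)), ((nat_lit 70), (nat_lit 223), (nat_lit 1), (nat_lit 1)), ((nat_lit 76), (nat_lit 225), (nat_lit 1), (nat_lit 1)), ((nat_lit 88), (nat_lit 226), (nat_lit 1), (nat_lit 1)), ((nat_lit 89), (nat_lit 227), (nat_lit 1), (nat_lit 1)), ((nat_lit 90), (nat_lit 228), (nat_lit 1), (nat_lit 1)), ((nat_lit 91), (nat_lit 229), (nat_lit 1), (nat_lit 1)), ((nat_lit 92), (nat_lit 230), (nat_lit 1), (nat_lit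 1)), ((nat_lit 98), (nat_lit 232), (nat_lit 1), (nat_lit 1)), ((nat_lit 104), (nat_lit 233), (nat_lit 1), (nat_lit 1)), ((nat_lit 130), (nat_lit 235), (nat_lit 1), (nat_lit 1)), ((nat_lit 131), (nat_lit 236), (nat_lit 1), (nat_lit 1)), ((nat_lit 132), (nat_lit 237), (nat_lit 1), (nat_lit 1)), ((nat_lit 133), (nat_lit 238), (nat_lit 1), (nat_lit 1)), ((nat_lit 134), (nat_lit 239), (nat_lit 1), (nat_lit 1))])))) (.node (.node (.node (.leaf [((nat_lit 43), (nat_lit 0), (nat_lit 1), (nat_lit 1)), ((nat_lit 44), (nat_lit 1), (nat_lit 1), (nat_lit 1)), ((nat_lit 45), (nat_lit 2), (nat_lit 1), (nat_lit 1)), ((nat_lit 55), (nat_lit 5), (nat_lit 1), (nat_lit 1)), ((nat_lit 65), (nat_lit 6), (nat_lit 1), (nat_lit 1)), ((nat_lit 74), (nat_lit 9), (nat_lit 1), (nat_lit 1)), ((nat_lit 75), (nat_lit 10), (nat_lit 1), (nat_lit 1)), ((nat_lit 87), (nat_lit 14), (nat_lit 1), (nat_lit 1)), ((nat_lit 102), (nat_lit 16), (nat_lit 1), (nat_lit 1)),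 ((nat_lit 103), (nat_lit 17), (nat_lit 1), (nat_lit 1)), ((nat_lit 108), (nat_lit 21), (nat_lit 1), (nat_lit 1)), ((nat_lit 109), (nat_lit 22), (nat_lit 1), (nat_lit 1)), ((nat_lit 123), (nat_lit 27), (nat_lit 1), (nat_lit 1)), ((nat_lit 124), (nat_lit 28), (nat_lit 1), (nat_lit 1)), ((nat_lit 125), (nat_lit 29), (nat_lit 1), (nat_lit 1)), ((nat_lit 127), (nat_lit 30), (nat_lit 1), (nat_lit 1)), ((nat_lit 128), (nat_lit 31), (nat_lit 1), (nat_lit 1)), ((nat_lit 129), (nat_lit 32), (nat_lit 1), (nat_lit 1)), ((nat_lit 141), (nat_lit 36), (nat_lit 1), (nat_lit 1)), ((nat_lit 144), (nat_lit 46), (nat_lit 1), (nat_lit 1)), ((nat_lit 145), (nat_lit 47), (nat_lit 1), (nat_lit 1)), ((nat_lit 146), (nat_lit 48), (nat_lit 1), (nat_lit 1)), ((nat_lit 149), (nat_lit 56), (nat_lit 1), (nat_lit 1)), ((nat_lit 150), (nat_lit 57), (nat_lit 1), (nat_lit 1)), ((nat_lit 151), (nat_lit 58), (nat_lit 1), (nat_lit 1)), ((nat_lit 159), (nat_lit 66),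 (nat_lit 1), (nat_lit 1)), ((nat_lit 160), (nat_lit 67), (nat_lit 1), (nat_lit 1)), ((nat_lit 161), (nat_lit 68), (nat_lit 1), (nat_lit 1)), ((nat_lit 171), (nat_lit 78), (nat_lit 1), (nat_lit 1)), ((nat_lit 172), (nat_lit 79), (nat_lit 1), (nat_lit 1)), ((nat_lit 173), (nat_lit 80), (nat_lit 1), (nat_lit 1)), ((nat_lit 181), (nat_lit 88), (nat_lit 1), (nat_lit 1)), ((nat_lit 182), (nat_lit 89), (nat_lit 1), (nat_lit 1)), ((nat_lit 183), (nat_lit 90), (nat_lit 1), (nat_lit 1)), ((nat_lit 191), (nat_lit 93), (nat_lit 1), (nat_lit 1)), ((nat_lit 192), (nat_lit 94), (nat_lit 1), (nat_lit 1)), ((nat_lit 193), (nat_lit 95), (nat_lit 1), (nat_lit 1)), ((nat_lit 203), (nat_lit 98), (nat_lit 1), (nat_lit 1)), ((nat_lit 207), (nat_lit 110), (nat_lit 1), (nat_lit 1)), ((nat_lit 208), (nat_lit 111), (nat_lit 1), (nat_lit 1)), ((nat_lit 209), (nat_lit 112), (nat_lit 1), (nat_lit 1)), ((nat_lit 210), (nat_lit 114), (nat_lit 1), (nat_lit 1)),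 ((nat_lit 211), (nat_lit 115), (nat_lit 1), (nat_lit 1)), ((nat_lit 212), (nat_lit 116), (nat_lit 1), (nat_lit 1)), ((nat_lit 217), (nat_lit 130), (nat_lit 1), (nat_lit 1)), ((nat_lit 218), (nat_lit 131), (nat_lit 1), (nat_lit 1)), ((nat_lit 222), (nat_lit 136), (nat_lit 1), (nat_lit 1)), ((nat_lit 223), (nat_lit 137), (nat_lit 1), (nat_lit 1)), ((nat_lit 225), (nat_lit 152), (nat_lit 1), (nat_lit 1)), ((nat_lit 229), (nat_lit 164), (nat_lit 1), (nat_lit 1)), ((nat_lit 230), (nat_lit 165), (nat_lit 1), (nat_lit 1)), ((nat_lit 233), (nat_lit 174), (nat_lit 1), (nat_lit 1)), ((nat_lit 234), (nat_lit 184), (nat_lit 1), (nat_lit 1)), ((nat_lit 237), (nat_lit 194), (nat_lit 1), (nat_lit 1)), ((nat_lit 238), (nat_lit 195), (nat_lit 1), (nat_lit 1)), ((nat_lit 239), (nat_lit 196), (nat_lit 1), (nat_lit 1))]) (.leaf [((nat_lit 1), (nat_lit 9), (nat_lit 1), (nat_lit 1)), ((nat_lit 4), (nat_lit 12), (nat_lit 1), (nat_lit 1)), ((nat_lit 14),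 (nat_lit 28), (nat_lit 1), (nat_lit 1)), ((nat_lit 15), (nat_lit 38), (nat_lit 1), (nat_lit 1)), ((nat_lit 17), (nat_lit 47), (nat_lit 1), (nat_lit 1)), ((nat_lit 18), (nat_lit 49), (nat_lit 1), (nat_lit 1)), ((nat_lit 20), (nat_lit 51), (nat_lit 1), (nat_lit 1)), ((nat_lit 22), (nat_lit 57), (nat_lit 1), (nat_lit 1)), ((nat_lit 23), (nat_lit 59), (nat_lit 1), (nat_lit 1)), ((nat_lit 25), (nat_lit 61), (nat_lit 1), (nat_lit 1)), ((nat_lit 30), (nat_lit 66), (nat_lit 1), (nat_lit 1)), ((nat_lit 32), (nat_lit 68), (nat_lit 1), (nat_lit 1)), ((nat_lit 34), (nat_lit 69), (nat_lit 1), (nat_lit 1)), ((nat_lit 40), (nat_lit 71), (nat_lit 1), (nat_lit 1)), ((nat_lit 42), (nat_lit 73), (nat_lit 1), (nat_lit 1)), ((nat_lit 44), (nat_lit 74), (nat_lit 1), (nat_lit 1)), ((nat_lit 53), (nat_lit 76), (nat_lit 1), (nat_lit 1)), ((nat_lit 63), (nat_lit 77), (nat_lit 1), (nat_lit 1)), ((nat_lit 78), (nat_lit 110), (nat_lit 1), (nat_lit 1)), ((nat_lit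 80), (nat_lit 112), (nat_lit 1), (nat_lit 1)), ((nat_lit 82), (nat_lit 113), (nat_lit 1), (nat_lit 1)), ((nat_lit 84), (nat_lit 119), (nat_lit 1), (nat_lit 1)), ((nat_lit 86), (nat_lit 121), (nat_lit 1), (nat_lit 1)), ((nat_lit 87), (nat_lit 124), (nat_lit 1), (nat_lit 1)), ((nat_lit 89), (nat_lit 130), (nat_lit 1), (nat_lit 1)), ((nat_lit 92), (nat_lit 133), (nat_lit 1), (nat_lit 1)), ((nat_lit 94), (nat_lit 136), (nat_lit 1), (nat_lit 1)), ((nat_lit 97), (nat_lit 139), (nat_lit 1), (nat_lit 1)), ((nat_lit 100), (nat_lit 142), (nat_lit 1), (nat_lit 1)), ((nat_lit 103), (nat_lit 145), (nat_lit 1), (nat_lit 1)), ((nat_lit 106), (nat_lit 147), (nat_lit 1), (nat_lit 1)), ((nat_lit 109), (nat_lit 150), (nat_lit 1), (nat_lit 1)), ((nat_lit 115), (nat_lit 152), (nat_lit 1), (nat_lit 1)), ((nat_lit 118), (nat_lit 153), (nat_lit 1), (nat_lit 1)), ((nat_lit 120), (nat_lit 155), (nat_lit 1), (nat_lit 1)), ((nat_lit 126), (nat_lit 157), (nat_lit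 1), (nat_lit 1)), ((nat_lit 127), (nat_lit 159), (nat_lit 1), (nat_lit 1)), ((nat_lit 129), (nat_lit 161), (nat_lit 1), (nat_lit 1)), ((nat_lit 162), (nat_lit 176), (nat_lit 1), (nat_lit 1)), ((nat_lit 163), (nat_lit 186), (nat_lit 1), (nat_lit 1)), ((nat_lit 165), (nat_lit 195), (nat_lit 1), (nat_lit 1)), ((nat_lit 166), (nat_lit 197), (nat_lit 1), (nat_lit 1)), ((nat_lit 168), (nat_lit 199), (nat_lit 1), (nat_lit 1)), ((nat_lit 170), (nat_lit 205), (nat_lit 1), (nat_lit 1)), ((nat_lit 171), (nat_lit 207), (nat_lit 1), (nat_lit 1)), ((nat_lit 173), (nat_lit 209), (nat_lit 1), (nat_lit 1)), ((nat_lit 178), (nat_lit 214), (nat_lit 1), (nat_lit 1)), ((nat_lit 180), (nat_lit 216), (nat_lit 1), (nat_lit 1)), ((nat_lit 182), (nat_lit 217), (nat_lit 1), (nat_lit 1)), ((nat_lit 188), (nat_lit 219), (nat_lit 1), (nat_lit 1)), ((nat_lit 190), (nat_lit 221), (nat_lit 1), (nat_lit 1)), ((nat_lit 192), (nat_lit 222), (nat_lit 1), (nat_lit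 1)), ((nat_lit 201), (nat_lit 224), (nat_lit 1), (nat_lit 1)), ((nat_lit 211), (nat_lit 225), (nat_lit 1), (nat_lit 1)), ((nat_lit 227), (nat_lit 235), (nat_lit 1), (nat_lit 1)), ((nat_lit 230), (nat_lit 238), (nat_lit 1), (nat_lit 1))])) (.node (.leaf [((nat_lit 8), (nat_lit 2), (nat_lit 1), (nat_lit 1)), ((nat_lit 11), (nat_lit 5), (nat_lit 1), (nat_lit 1)), ((nat_lit 23), (nat_lit 14), (nat_lit 1), (nat_lit 1)), ((nat_lit 37), (nat_lit 16), (nat_lit 1), (nat_lit 1)), ((nat_lit 40), (nat_lit 17), (nat_lit 1), (nat_lit 1)), ((nat_lit 43), (nat_lit 19), (nat_lit 1), (nat_lit 1)), ((nat_lit 44), (nat_lit 20), (nat_lit 1), (nat_lit 1)), ((nat_lit 56), (nat_lit 26), (nat_lit 1), (nat_lit 1)), ((nat_lit 59), (nat_lit 28), (nat_lit 1), (nat_lit 1)), ((nat_lit 60), (nat_lit 29), (nat_lit 1), (nat_lit 1)), ((nat_lit 62), (nat_lit 31), (nat_lit 1), (nat_lit 1)), ((nat_lit 63), (nat_lit 32), (nat_lit 1), (nat_lit 1)), ((nat_lit 65), (nat_lit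 35), (nat_lit 1), (nat_lit 1)), ((nat_lit 71), (nat_lit 47), (nat_lit 1), (nat_lit 1)), ((nat_lit 72), (nat_lit 48), (nat_lit 1), (nat_lit 1)), ((nat_lit 74), (nat_lit 51), (nat_lit 1), (nat_lit 1)), ((nat_lit 75), (nat_lit 54), (nat_lit 1), (nat_lit 1)), ((nat_lit 77), (nat_lit 68), (nat_lit 1), (nat_lit 1)), ((nat_lit 105), (nat_lit 79), (nat_lit 1), (nat_lit 1)), ((nat_lit 106), (nat_lit 80), (nat_lit 1), (nat_lit 1)), ((nat_lit 108), (nat_lit 83), (nat_lit 1), (nat_lit 1)), ((nat_lit 109), (nat_lit 86), (nat_lit 1), (nat_lit 1)), ((nat_lit 117), (nat_lit 88), (nat_lit 1), (nat_lit 1)), ((nat_lit 118), (nat_lit 89), (nat_lit 1), (nat_lit 1)), ((nat_lit 123), (nat_lit 91), (nat_lit 1), (nat_lit 1)), ((nat_lit 127), (nat_lit 92), (nat_lit 1), (nat_lit 1)), ((nat_lit 135), (nat_lit 95), (nat_lit 1), (nat_lit 1)), ((nat_lit 138), (nat_lit 98), (nat_lit 1), (nat_lit 1)), ((nat_lit 141), (nat_lit 101), (nat_lit 1), (nat_lit 1)), ((nat_lit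 144), (nat_lit 104), (nat_lit 1), (nat_lit 1)), ((nat_lit 147), (nat_lit 112), (nat_lit 1), (nat_lit 1)), ((nat_lit 148), (nat_lit 116), (nat_lit 1), (nat_lit 1)), ((nat_lit 150), (nat_lit 121), (nat_lit 1), (nat_lit 1)), ((nat_lit 151), (nat_lit 122), (nat_lit 1), (nat_lit 1)), ((nat_lit 153), (nat_lit 130), (nat_lit 1), (nat_lit 1)), ((nat_lit 156), (nat_lit 131), (nat_lit 1), (nat_lit 1)), ((nat_lit 159), (nat_lit 133), (nat_lit 1), (nat_lit 1)), ((nat_lit 160), (nat_lit 134), (nat_lit 1), (nat_lit 1)), ((nat_lit 171), (nat_lit 162), (nat_lit 1), (nat_lit 1)), ((nat_lit 185), (nat_lit 164), (nat_lit 1), (nat_lit 1)), ((nat_lit 188), (nat_lit 165), (nat_lit 1), (nat_lit 1)), ((nat_lit 191), (nat_lit 167), (nat_lit 1), (nat_lit 1)), ((nat_lit 192), (nat_lit 168), (nat_lit 1), (nat_lit 1)), ((nat_lit 204), (nat_lit 174), (nat_lit 1), (nat_lit 1)), ((nat_lit 207), (nat_lit 176), (nat_lit 1), (nat_lit 1)), ((nat_lit 208), (nat_lit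 177), (nat_lit 1), (nat_lit 1)), ((nat_lit 210), (nat_lit 179), (nat_lit 1), (nat_lit 1)), ((nat_lit 211), (nat_lit 180), (nat_lit 1), (nat_lit 1)), ((nat_lit 213), (nat_lit 183), (nat_lit 1), (nat_lit 1)), ((nat_lit 219), (nat_lit 195), (nat_lit 1), (nat_lit 1)), ((nat_lit 220), (nat_lit 196), (nat_lit 1), (nat_lit 1)), ((nat_lit 222), (nat_lit 199), (nat_lit 1), (nat_lit 1)), ((nat_lit 223), (nat_lit 202), (nat_lit 1), (nat_lit 1)), ((nat_lit 225), (nat_lit 216), (nat_lit 1), (nat_lit 1)), ((nat_lit 234), (nat_lit 228), (nat_lit 1), (nat_lit 1)), ((nat_lit 237), (nat_lit 231), (nat_lit 1), (nat_lit 1))]) (.leaf [((nat_lit 0), (nat_lit 52), (nat_lit 1), (nat_lit 1)), ((nat_lit 1), (nat_lit 53), (nat_lit 1), (nat_lit 1)), ((nat_lit 2), (nat_lit 54), (nat_lit 1), (nat_lit 1)), ((nat_lit 3), (nat_lit 55), (nat_lit 1), (nat_lit 1)), ((nat_lit 6), (nat_lit 70), (nat_lit 1), (nat_lit 1)), ((nat_lit 8), (nat_lit 75), (nat_lit 1), (nat_lit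 1)), ((nat_lit 9), (nat_lit 76), (nat_lit 1), (nat_lit 1)), ((nat_lit 14), (nat_lit 92), (nat_lit 1), (nat_lit 1)), ((nat_lit 15), (nat_lit 103), (nat_lit 1), (nat_lit 1)), ((nat_lit 16), (nat_lit 104), (nat_lit 1), (nat_lit 1)), ((nat_lit 22), (nat_lit 126), (nat_lit 1), (nat_lit 1)), ((nat_lit 23), (nat_lit 127), (nat_lit 1), (nat_lit 1)), ((nat_lit 24), (nat_lit 128), (nat_lit 1), (nat_lit 1)), ((nat_lit 25), (nat_lit 129), (nat_lit 1), (nat_lit 1)), ((nat_lit 26), (nat_lit 131), (nat_lit 1), (nat_lit 1)), ((nat_lit 27), (nat_lit 132), (nat_lit 1), (nat_lit 1)), ((nat_lit 28), (nat_lit 133), (nat_lit 1), (nat_lit 1)), ((nat_lit 29), (nat_lit 134), (nat_lit 1), (nat_lit 1)), ((nat_lit 36), (nat_lit 143), (nat_lit 1), (nat_lit 1)), ((nat_lit 37), (nat_lit 144), (nat_lit 1), (nat_lit 1)), ((nat_lit 38), (nat_lit 145), (nat_lit 1), (nat_lit 1)), ((nat_lit 39), (nat_lit 146), (nat_lit 1), (nat_lit 1)), ((nat_lit 56), (nat_lit 156),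 (nat_lit 1), (nat_lit 1)), ((nat_lit 57), (nat_lit 157), (nat_lit 1), (nat_lit 1)), ((nat_lit 58), (nat_lit 158), (nat_lit 1), (nat_lit 1)), ((nat_lit 59), (nat_lit 159), (nat_lit 1), (nat_lit 1)), ((nat_lit 60), (nat_lit 160), (nat_lit 1), (nat_lit 1)), ((nat_lit 61), (nat_lit 161), (nat_lit 1), (nat_lit 1)), ((nat_lit 78), (nat_lit 178), (nat_lit 1), (nat_lit 1)), ((nat_lit 79), (nat_lit 179), (nat_lit 1), (nat_lit 1)), ((nat_lit 80), (nat_lit 180), (nat_lit 1), (nat_lit 1)), ((nat_lit 81), (nat_lit 181), (nat_lit 1), (nat_lit 1)), ((nat_lit 82), (nat_lit 182), (nat_lit 1), (nat_lit 1)), ((nat_lit 83), (nat_lit 183), (nat_lit 1), (nat_lit 1)), ((nat_lit 93), (nat_lit 200), (nat_lit 1), (nat_lit 1)), ((nat_lit 94), (nat_lit 201), (nat_lit 1), (nat_lit 1)), ((nat_lit 95), (nat_lit 202), (nat_lit 1), (nat_lit 1)), ((nat_lit 96), (nat_lit 203), (nat_lit 1), (nat_lit 1)), ((nat_lit 105), (nat_lit 210), (nat_lit 1), (nat_lit 1)), ((nat_lit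 106), (nat_lit 211), (nat_lit 1), (nat_lit 1)), ((nat_lit 107), (nat_lit 212), (nat_lit 1), (nat_lit 1)), ((nat_lit 108), (nat_lit 213), (nat_lit 1), (nat_lit 1)), ((nat_lit 110), (nat_lit 214), (nat_lit 1), (nat_lit 1)), ((nat_lit 111), (nat_lit 215), (nat_lit 1), (nat_lit 1)), ((nat_lit 112), (nat_lit 216), (nat_lit 1), (nat_lit 1)), ((nat_lit 113), (nat_lit 217), (nat_lit 1), (nat_lit 1)), ((nat_lit 135), (nat_lit 223), (nat_lit 1), (nat_lit 1)), ((nat_lit 136), (nat_lit 224), (nat_lit 1), (nat_lit 1)), ((nat_lit 147), (nat_lit 225), (nat_lit 1), (nat_lit 1)), ((nat_lit 163), (nat_lit 230), (nat_lit 1), (nat_lit 1)), ((nat_lit 164), (nat_lit 231), (nat_lit 1), (nat_lit 1)), ((nat_lit 169), (nat_lit 233), (nat_lit 1), (nat_lit 1)), ((nat_lit 184), (nat_lit 236), (nat_lit 1), (nat_lit 1)), ((nat_lit 185), (nat_lit 237), (nat_lit 1), (nat_lit 1)), ((nat_lit 186), (nat_lit 238), (nat_lit 1), (nat_lit 1)), ((nat_lit 187), (nat_lit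 239), (nat_lit 1), (nat_lit 1))]))) (.node (.node (.leaf [((nat_lit 18), (nat_lit 1), (nat_lit 1), (nat_lit 1)), ((nat_lit 19), (nat_lit 2), (nat_lit 1), (nat_lit 1)), ((nat_lit 33), (nat_lit 6), (nat_lit 1), (nat_lit 1)), ((nat_lit 43), (nat_lit 8), (nat_lit 1), (nat_lit 1)), ((nat_lit 49), (nat_lit 9), (nat_lit 1), (nat_lit 1)), ((nat_lit 52), (nat_lit 10), (nat_lit 1), (nat_lit 1)), ((nat_lit 55), (nat_lit 13), (nat_lit 1), (nat_lit 1)), ((nat_lit 81), (nat_lit 21), (nat_lit 1), (nat_lit 1)), ((nat_lit 84), (nat_lit 22), (nat_lit 1), (nat_lit 1)), ((nat_lit 87), (nat_lit 25), (nat_lit 1), (nat_lit 1)), ((nat_lit 88), (nat_lit 26), (nat_lit 1), (nat_lit 1)), ((nat_lit 91), (nat_lit 29), (nat_lit 1), (nat_lit 1)), ((nat_lit 92), (nat_lit 32), (nat_lit 1), (nat_lit 1)), ((nat_lit 99), (nat_lit 36), (nat_lit 1), (nat_lit 1)), ((nat_lit 102), (nat_lit 39), (nat_lit 1), (nat_lit 1)), ((nat_lit 103), (nat_lit 42), (nat_lit 1), (nat_lit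 1)), ((nat_lit 104), (nat_lit 48), (nat_lit 1), (nat_lit 1)), ((nat_lit 117), (nat_lit 56), (nat_lit 1), (nat_lit 1)), ((nat_lit 119), (nat_lit 57), (nat_lit 1), (nat_lit 1)), ((nat_lit 123), (nat_lit 60), (nat_lit 1), (nat_lit 1)), ((nat_lit 124), (nat_lit 61), (nat_lit 1), (nat_lit 1)), ((nat_lit 127), (nat_lit 63), (nat_lit 1), (nat_lit 1)), ((nat_lit 128), (nat_lit 64), (nat_lit 1), (nat_lit 1)), ((nat_lit 132), (nat_lit 67), (nat_lit 1), (nat_lit 1)), ((nat_lit 133), (nat_lit 68), (nat_lit 1), (nat_lit 1)), ((nat_lit 144), (nat_lit 72), (nat_lit 1), (nat_lit 1)), ((nat_lit 145), (nat_lit 73), (nat_lit 1), (nat_lit 1)), ((nat_lit 159), (nat_lit 77), (nat_lit 1), (nat_lit 1)), ((nat_lit 162), (nat_lit 80), (nat_lit 1), (nat_lit 1)), ((nat_lit 166), (nat_lit 94), (nat_lit 1), (nat_lit 1)), ((nat_lit 167), (nat_lit 95), (nat_lit 1), (nat_lit 1)), ((nat_lit 171), (nat_lit 106), (nat_lit 1), (nat_lit 1)), ((nat_lit 172), (nat_lit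 107), (nat_lit 1), (nat_lit 1)), ((nat_lit 175), (nat_lit 111), (nat_lit 1), (nat_lit 1)), ((nat_lit 176), (nat_lit 112), (nat_lit 1), (nat_lit 1)), ((nat_lit 178), (nat_lit 115), (nat_lit 1), (nat_lit 1)), ((nat_lit 179), (nat_lit 116), (nat_lit 1), (nat_lit 1)), ((nat_lit 182), (nat_lit 120), (nat_lit 1), (nat_lit 1)), ((nat_lit 183), (nat_lit 122), (nat_lit 1), (nat_lit 1)), ((nat_lit 191), (nat_lit 135), (nat_lit 1), (nat_lit 1)), ((nat_lit 197), (nat_lit 136), (nat_lit 1), (nat_lit 1)), ((nat_lit 200), (nat_lit 137), (nat_lit 1), (nat_lit 1)), ((nat_lit 203), (nat_lit 140), (nat_lit 1), (nat_lit 1)), ((nat_lit 207), (nat_lit 147), (nat_lit 1), (nat_lit 1)), ((nat_lit 210), (nat_lit 148), (nat_lit 1), (nat_lit 1)), ((nat_lit 213), (nat_lit 151), (nat_lit 1), (nat_lit 1)), ((nat_lit 214), (nat_lit 152), (nat_lit 1), (nat_lit 1)), ((nat_lit 217), (nat_lit 155), (nat_lit 1), (nat_lit 1)), ((nat_lit 218), (nat_lit 158), (nat_lit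 1), (nat_lit 1)), ((nat_lit 226), (nat_lit 184), (nat_lit 1), (nat_lit 1)), ((nat_lit 229), (nat_lit 187), (nat_lit 1), (nat_lit 1)), ((nat_lit 230), (nat_lit 190), (nat_lit 1), (nat_lit 1)), ((nat_lit 231), (nat_lit 196), (nat_lit 1), (nat_lit 1)), ((nat_lit 233), (nat_lit 206), (nat_lit 1), (nat_lit 1)), ((nat_lit 237), (nat_lit 220), (nat_lit 1), (nat_lit 1)), ((nat_lit 238), (nat_lit 221), (nat_lit 1), (nat_lit 1))]) (.leaf [((nat_lit 1), (nat_lit 21), (nat_lit 1), (nat_lit 1)), ((nat_lit 4), (nat_lit 24), (nat_lit 1), (nat_lit 1)), ((nat_lit 5), (nat_lit 28), (nat_lit 1), (nat_lit 1)), ((nat_lit 7), (nat_lit 38), (nat_lit 1), (nat_lit 1)), ((nat_lit 10), (nat_lit 57), (nat_lit 1), (nat_lit 1)), ((nat_lit 11), (nat_lit 59), (nat_lit 1), (nat_lit 1)), ((nat_lit 13), (nat_lit 61), (nat_lit 1), (nat_lit 1)), ((nat_lit 17), (nat_lit 79), (nat_lit 1), (nat_lit 1)), ((nat_lit 18), (nat_lit 81), (nat_lit 1), (nat_lit 1)), ((nat_lit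 20), (nat_lit 83), (nat_lit 1), (nat_lit 1)), ((nat_lit 30), (nat_lit 93), (nat_lit 1), (nat_lit 1)), ((nat_lit 32), (nat_lit 95), (nat_lit 1), (nat_lit 1)), ((nat_lit 34), (nat_lit 96), (nat_lit 1), (nat_lit 1)), ((nat_lit 40), (nat_lit 105), (nat_lit 1), (nat_lit 1)), ((nat_lit 42), (nat_lit 107), (nat_lit 1), (nat_lit 1)), ((nat_lit 44), (nat_lit 108), (nat_lit 1), (nat_lit 1)), ((nat_lit 46), (nat_lit 110), (nat_lit 1), (nat_lit 1)), ((nat_lit 48), (nat_lit 112), (nat_lit 1), (nat_lit 1)), ((nat_lit 50), (nat_lit 113), (nat_lit 1), (nat_lit 1)), ((nat_lit 52), (nat_lit 119), (nat_lit 1), (nat_lit 1)), ((nat_lit 54), (nat_lit 121), (nat_lit 1), (nat_lit 1)), ((nat_lit 55), (nat_lit 124), (nat_lit 1), (nat_lit 1)), ((nat_lit 63), (nat_lit 135), (nat_lit 1), (nat_lit 1)), ((nat_lit 67), (nat_lit 136), (nat_lit 1), (nat_lit 1)), ((nat_lit 70), (nat_lit 139), (nat_lit 1), (nat_lit 1)), ((nat_lit 72), (nat_lit 147), (nat_lit 1),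 (nat_lit 1)), ((nat_lit 75), (nat_lit 150), (nat_lit 1), (nat_lit 1)), ((nat_lit 76), (nat_lit 154), (nat_lit 1), (nat_lit 1)), ((nat_lit 85), (nat_lit 163), (nat_lit 1), (nat_lit 1)), ((nat_lit 89), (nat_lit 164), (nat_lit 1), (nat_lit 1)), ((nat_lit 92), (nat_lit 167), (nat_lit 1), (nat_lit 1)), ((nat_lit 100), (nat_lit 169), (nat_lit 1), (nat_lit 1)), ((nat_lit 103), (nat_lit 172), (nat_lit 1), (nat_lit 1)), ((nat_lit 104), (nat_lit 176), (nat_lit 1), (nat_lit 1)), ((nat_lit 115), (nat_lit 184), (nat_lit 1), (nat_lit 1)), ((nat_lit 118), (nat_lit 185), (nat_lit 1), (nat_lit 1)), ((nat_lit 120), (nat_lit 187), (nat_lit 1), (nat_lit 1)), ((nat_lit 126), (nat_lit 189), (nat_lit 1), (nat_lit 1)), ((nat_lit 127), (nat_lit 191), (nat_lit 1), (nat_lit 1)), ((nat_lit 129), (nat_lit 193), (nat_lit 1), (nat_lit 1)), ((nat_lit 131), (nat_lit 195), (nat_lit 1), (nat_lit 1)), ((nat_lit 132), (nat_lit 197), (nat_lit 1), (nat_lit 1)), ((nat_lit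 134), (nat_lit 199), (nat_lit 1), (nat_lit 1)), ((nat_lit 143), (nat_lit 205), (nat_lit 1), (nat_lit 1)), ((nat_lit 144), (nat_lit 207), (nat_lit 1), (nat_lit 1)), ((nat_lit 146), (nat_lit 209), (nat_lit 1), (nat_lit 1)), ((nat_lit 156), (nat_lit 219), (nat_lit 1), (nat_lit 1)), ((nat_lit 158), (nat_lit 221), (nat_lit 1), (nat_lit 1)), ((nat_lit 160), (nat_lit 222), (nat_lit 1), (nat_lit 1)), ((nat_lit 178), (nat_lit 226), (nat_lit 1), (nat_lit 1)), ((nat_lit 180), (nat_lit 228), (nat_lit 1), (nat_lit 1)), ((nat_lit 182), (nat_lit 229), (nat_lit 1), (nat_lit 1)), ((nat_lit 201), (nat_lit 232), (nat_lit 1), (nat_lit 1)), ((nat_lit 211), (nat_lit 234), (nat_lit 1), (nat_lit 1)), ((nat_lit 215), (nat_lit 235), (nat_lit 1), (nat_lit 1)), ((nat_lit 218), (nat_lit 238), (nat_lit 1), (nat_lit 1))])) (.leaf [((nat_lit 0), (nat_lit 2), (nat_lit 1), (nat_lit 1)), ((nat_lit 11), (nat_lit 13), (nat_lit 1), (nat_lit 1)), ((nat_lit 18), (nat_lit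 20), (nat_lit 1), (nat_lit 1)), ((nat_lit 23), (nat_lit 25), (nat_lit 1), (nat_lit 1)), ((nat_lit 27), (nat_lit 29), (nat_lit 1), (nat_lit 1)), ((nat_lit 30), (nat_lit 32), (nat_lit 1), (nat_lit 1)), ((nat_lit 33), (nat_lit 35), (nat_lit 1), (nat_lit 1)), ((nat_lit 37), (nat_lit 39), (nat_lit 1), (nat_lit 1)), ((nat_lit 40), (nat_lit 42), (nat_lit 1), (nat_lit 1)), ((nat_lit 43), (nat_lit 45), (nat_lit 1), (nat_lit 1)), ((nat_lit 46), (nat_lit 48), (nat_lit 1), (nat_lit 1)), ((nat_lit 49), (nat_lit 51), (nat_lit 1), (nat_lit 1)), ((nat_lit 52), (nat_lit 54), (nat_lit 1), (nat_lit 1)), ((nat_lit 56), (nat_lit 58), (nat_lit 1), (nat_lit 1)), ((nat_lit 59), (nat_lit 61), (nat_lit 1), (nat_lit 1)), ((nat_lit 62), (nat_lit 64), (nat_lit 1), (nat_lit 1)), ((nat_lit 66), (nat_lit 68), (nat_lit 1), (nat_lit 1)), ((nat_lit 71), (nat_lit 73), (nat_lit 1), (nat_lit 1)), ((nat_lit 78), (nat_lit 80), (nat_lit 1), (nat_lit 1)), ((nat_lit 81),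 (nat_lit 83), (nat_lit 1), (nat_lit 1)), ((nat_lit 84), (nat_lit 86), (nat_lit 1), (nat_lit 1)), ((nat_lit 88), (nat_lit 90), (nat_lit 1), (nat_lit 1)), ((nat_lit 93), (nat_lit 95), (nat_lit 1), (nat_lit 1)), ((nat_lit 99), (nat_lit 101), (nat_lit 1), (nat_lit 1)), ((nat_lit 105), (nat_lit 107), (nat_lit 1), (nat_lit 1)), ((nat_lit 110), (nat_lit 112), (nat_lit 1), (nat_lit 1)), ((nat_lit 114), (nat_lit 116), (nat_lit 1), (nat_lit 1)), ((nat_lit 118), (nat_lit 120), (nat_lit 1), (nat_lit 1)), ((nat_lit 119), (nat_lit 121), (nat_lit 1), (nat_lit 1)), ((nat_lit 123), (nat_lit 125), (nat_lit 1), (nat_lit 1)), ((nat_lit 127), (nat_lit 129), (nat_lit 1), (nat_lit 1)), ((nat_lit 132), (nat_lit 134), (nat_lit 1), (nat_lit 1)), ((nat_lit 138), (nat_lit 140), (nat_lit 1), (nat_lit 1)), ((nat_lit 144), (nat_lit 146), (nat_lit 1), (nat_lit 1)), ((nat_lit 149), (nat_lit 151), (nat_lit 1), (nat_lit 1)), ((nat_lit 153), (nat_lit 155), (nat_lit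 1), (nat_lit 1)), ((nat_lit 156), (nat_lit 158), (nat_lit 1), (nat_lit 1)), ((nat_lit 159), (nat_lit 161), (nat_lit 1), (nat_lit 1)), ((nat_lit 166), (nat_lit 168), (nat_lit 1), (nat_lit 1)), ((nat_lit 171), (nat_lit 173), (nat_lit 1), (nat_lit 1)), ((nat_lit 175), (nat_lit 177), (nat_lit 1), (nat_lit 1)), ((nat_lit 178), (nat_lit 180), (nat_lit 1), (nat_lit 1)), ((nat_lit 181), (nat_lit 183), (nat_lit 1), (nat_lit 1)), ((nat_lit 185), (nat_lit 187), (nat_lit 1), (nat_lit 1)), ((nat_lit 188), (nat_lit 190), (nat_lit 1), (nat_lit 1)), ((nat_lit 191), (nat_lit 193), (nat_lit 1), (nat_lit 1)), ((nat_lit 194), (nat_lit 196), (nat_lit 1), (nat_lit 1)), ((nat_lit 197), (nat_lit 199), (nat_lit 1), (nat_lit 1)), ((nat_lit 200), (nat_lit 202), (nat_lit 1), (nat_lit 1)), ((nat_lit 204), (nat_lit 206), (nat_lit 1), (nat_lit 1)), ((nat_lit 207), (nat_lit 209), (nat_lit 1), (nat_lit 1)), ((nat_lit 210), (nat_lit 212), (nat_lit 1), (nat_lit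 1)), ((nat_lit 214), (nat_lit 216), (nat_lit 1), (nat_lit 1)), ((nat_lit 219), (nat_lit 221), (nat_lit 1), (nat_lit 1)), ((nat_lit 226), (nat_lit 228), (nat_lit 1), (nat_lit 1)), ((nat_lit 237), (nat_lit 239), (nat_lit 1), (nat_lit 1))])))

def rows6 : Tr (List Entry) :=
  .node (.node (.node (.node (.leaf [((nat_lit 99), (nat_lit 0), (nat_lit 1), (nat_lit 1)), ((nat_lit 100), (nat_lit 1), (nat_lit 1), (nat_lit 1)), ((nat_lit 101), (nat_lit 2), (nat_lit 1), (nat_lit 1)), ((nat_lit 102), (nat_lit 3), (nat_lit 1), (nat_lit 1)), ((nat_lit 103), (nat_lit 4), (nat_lit 1), (nat_lit 1)), ((nat_lit 104), (nat_lit 5), (nat_lit 1), (nat_lit 1)), ((nat_lit 141), (nat_lit 8), (nat_lit 1), (nat_lit 1)), ((nat_lit 142), (nat_lit 9), (nat_lit 1), (nat_lit 1)), ((nat_lit 143), (nat_lit 10), (nat_lit 1), (nat_lit 1)), ((nat_lit 144), (nat_lit 11), (nat_lit 1), (nat_lit 1)), ((nat_lit 145), (nat_lit 12), (nat_lit 1), (nat_lit 1)), ((nat_lit 146),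 (nat_lit 13), (nat_lit 1), (nat_lit 1)), ((nat_lit 162), (nat_lit 14), (nat_lit 1), (nat_lit 1)), ((nat_lit 169), (nat_lit 21), (nat_lit 1), (nat_lit 1)), ((nat_lit 170), (nat_lit 22), (nat_lit 1), (nat_lit 1)), ((nat_lit 171), (nat_lit 23), (nat_lit 1), (nat_lit 1)), ((nat_lit 172), (nat_lit 24), (nat_lit 1), (nat_lit 1)), ((nat_lit 173), (nat_lit 25), (nat_lit 1), (nat_lit 1)), ((nat_lit 174), (nat_lit 26), (nat_lit 1), (nat_lit 1)), ((nat_lit 175), (nat_lit 27), (nat_lit 1), (nat_lit 1)), ((nat_lit 176), (nat_lit 28), (nat_lit 1), (nat_lit 1)), ((nat_lit 177), (nat_lit 29), (nat_lit 1), (nat_lit 1)), ((nat_lit 178), (nat_lit 30), (nat_lit 1), (nat_lit 1)), ((nat_lit 179), (nat_lit 31), (nat_lit 1), (nat_lit 1)), ((nat_lit 180), (nat_lit 32), (nat_lit 1), (nat_lit 1)), ((nat_lit 181), (nat_lit 33), (nat_lit 1), (nat_lit 1)), ((nat_lit 182), (nat_lit 34), (nat_lit 1), (nat_lit 1)), ((nat_lit 183), (nat_lit 35), (nat_lit 1), (nat_lit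 1)), ((nat_lit 204), (nat_lit 56), (nat_lit 1), (nat_lit 1)), ((nat_lit 205), (nat_lit 57), (nat_lit 1), (nat_lit 1)), ((nat_lit 206), (nat_lit 58), (nat_lit 1), (nat_lit 1)), ((nat_lit 207), (nat_lit 59), (nat_lit 1), (nat_lit 1)), ((nat_lit 208), (nat_lit 60), (nat_lit 1), (nat_lit 1)), ((nat_lit 209), (nat_lit 61), (nat_lit 1), (nat_lit 1)), ((nat_lit 210), (nat_lit 62), (nat_lit 1), (nat_lit 1)), ((nat_lit 211), (nat_lit 63), (nat_lit 1), (nat_lit 1)), ((nat_lit 212), (nat_lit 64), (nat_lit 1), (nat_lit 1)), ((nat_lit 213), (nat_lit 65), (nat_lit 1), (nat_lit 1)), ((nat_lit 214), (nat_lit 66), (nat_lit 1), (nat_lit 1)), ((nat_lit 215), (nat_lit 67), (nat_lit 1), (nat_lit 1)), ((nat_lit 216), (nat_lit 68), (nat_lit 1), (nat_lit 1)), ((nat_lit 217), (nat_lit 69), (nat_lit 1), (nat_lit 1)), ((nat_lit 218), (nat_lit 70), (nat_lit 1), (nat_lit 1)), ((nat_lit 225), (nat_lit 77), (nat_lit 1), (nat_lit 1)), ((nat_lit 226), (nat_lit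 93), (nat_lit 1), (nat_lit 1)), ((nat_lit 227), (nat_lit 94), (nat_lit 1), (nat_lit 1)), ((nat_lit 228), (nat_lit 95), (nat_lit 1), (nat_lit 1)), ((nat_lit 229), (nat_lit 96), (nat_lit 1), (nat_lit 1)), ((nat_lit 230), (nat_lit 97), (nat_lit 1), (nat_lit 1)), ((nat_lit 231), (nat_lit 98), (nat_lit 1), (nat_lit 1)), ((nat_lit 234), (nat_lit 135), (nat_lit 1), (nat_lit 1)), ((nat_lit 235), (nat_lit 136), (nat_lit 1), (nat_lit 1)), ((nat_lit 236), (nat_lit 137), (nat_lit 1), (nat_lit 1)), ((nat_lit 237), (nat_lit 138), (nat_lit 1), (nat_lit 1)), ((nat_lit 238), (nat_lit 139), (nat_lit 1), (nat_lit 1)), ((nat_lit 239), (nat_lit 140), (nat_lit 1), (nat_lit 1))]) (.leaf [((nat_lit 0), (nat_lit 5), (nat_lit 1), (nat_lit 1)), ((nat_lit 8), (nat_lit 13), (nat_lit 1), (nat_lit 1)), ((nat_lit 15), (nat_lit 20), (nat_lit 1), (nat_lit 1)), ((nat_lit 21), (nat_lit 29), (nat_lit 1), (nat_lit 1)), ((nat_lit 22), (nat_lit 32), (nat_lit 1), (nat_lit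 1)), ((nat_lit 23), (nat_lit 34), (nat_lit 1), (nat_lit 1)), ((nat_lit 24), (nat_lit 35), (nat_lit 1), (nat_lit 1)), ((nat_lit 36), (nat_lit 48), (nat_lit 1), (nat_lit 1)), ((nat_lit 37), (nat_lit 50), (nat_lit 1), (nat_lit 1)), ((nat_lit 38), (nat_lit 51), (nat_lit 1), (nat_lit 1)), ((nat_lit 40), (nat_lit 53), (nat_lit 1), (nat_lit 1)), ((nat_lit 41), (nat_lit 54), (nat_lit 1), (nat_lit 1)), ((nat_lit 43), (nat_lit 55), (nat_lit 1), (nat_lit 1)), ((nat_lit 56), (nat_lit 67), (nat_lit 1), (nat_lit 1)), ((nat_lit 57), (nat_lit 68), (nat_lit 1), (nat_lit 1)), ((nat_lit 59), (nat_lit 69), (nat_lit 1), (nat_lit 1)), ((nat_lit 62), (nat_lit 70), (nat_lit 1), (nat_lit 1)), ((nat_lit 71), (nat_lit 76), (nat_lit 1), (nat_lit 1)), ((nat_lit 78), (nat_lit 89), (nat_lit 1), (nat_lit 1)), ((nat_lit 79), (nat_lit 90), (nat_lit 1), (nat_lit 1)), ((nat_lit 81), (nat_lit 91), (nat_lit 1), (nat_lit 1)), ((nat_lit 84), (nat_lit 92), (nat_lit 1),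 (nat_lit 1)), ((nat_lit 93), (nat_lit 98), (nat_lit 1), (nat_lit 1)), ((nat_lit 99), (nat_lit 104), (nat_lit 1), (nat_lit 1)), ((nat_lit 106), (nat_lit 120), (nat_lit 1), (nat_lit 1)), ((nat_lit 107), (nat_lit 122), (nat_lit 1), (nat_lit 1)), ((nat_lit 108), (nat_lit 125), (nat_lit 1), (nat_lit 1)), ((nat_lit 109), (nat_lit 129), (nat_lit 1), (nat_lit 1)), ((nat_lit 110), (nat_lit 130), (nat_lit 1), (nat_lit 1)), ((nat_lit 114), (nat_lit 131), (nat_lit 1), (nat_lit 1)), ((nat_lit 117), (nat_lit 132), (nat_lit 1), (nat_lit 1)), ((nat_lit 119), (nat_lit 133), (nat_lit 1), (nat_lit 1)), ((nat_lit 135), (nat_lit 140), (nat_lit 1), (nat_lit 1)), ((nat_lit 141), (nat_lit 146), (nat_lit 1), (nat_lit 1)), ((nat_lit 147), (nat_lit 155), (nat_lit 1), (nat_lit 1)), ((nat_lit 148), (nat_lit 158), (nat_lit 1), (nat_lit 1)), ((nat_lit 149), (nat_lit 160), (nat_lit 1), (nat_lit 1)), ((nat_lit 150), (nat_lit 161), (nat_lit 1), (nat_lit 1)), ((nat_lit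 163), (nat_lit 168), (nat_lit 1), (nat_lit 1)), ((nat_lit 169), (nat_lit 177), (nat_lit 1), (nat_lit 1)), ((nat_lit 170), (nat_lit 180), (nat_lit 1), (nat_lit 1)), ((nat_lit 171), (nat_lit 182), (nat_lit 1), (nat_lit 1)), ((nat_lit 172), (nat_lit 183), (nat_lit 1), (nat_lit 1)), ((nat_lit 184), (nat_lit 196), (nat_lit 1), (nat_lit 1)), ((nat_lit 185), (nat_lit 198), (nat_lit 1), (nat_lit 1)), ((nat_lit 186), (nat_lit 199), (nat_lit 1), (nat_lit 1)), ((nat_lit 188), (nat_lit 201), (nat_lit 1), (nat_lit 1)), ((nat_lit 189), (nat_lit 202), (nat_lit 1), (nat_lit 1)), ((nat_lit 191), (nat_lit 203), (nat_lit 1), (nat_lit 1)), ((nat_lit 204), (nat_lit 215), (nat_lit 1), (nat_lit 1)), ((nat_lit 205), (nat_lit 216), (nat_lit 1), (nat_lit 1)), ((nat_lit 207), (nat_lit 217), (nat_lit 1), (nat_lit 1)), ((nat_lit 210), (nat_lit 218), (nat_lit 1), (nat_lit 1)), ((nat_lit 219), (nat_lit 224), (nat_lit 1), (nat_lit 1)), ((nat_lit 226), (nat_lit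 231), (nat_lit 1), (nat_lit 1)), ((nat_lit 234), (nat_lit 239), (nat_lit 1), (nat_lit 1))])) (.node (.leaf [((nat_lit 15), (nat_lit 4), (nat_lit 1), (nat_lit 1)), ((nat_lit 16), (nat_lit 5), (nat_lit 1), (nat_lit 1)), ((nat_lit 21), (nat_lit 6), (nat_lit 1), (nat_lit 1)), ((nat_lit 36), (nat_lit 10), (nat_lit 1), (nat_lit 1)), ((nat_lit 37), (nat_lit 11), (nat_lit 1), (nat_lit 1)), ((nat_lit 38), (nat_lit 12), (nat_lit 1), (nat_lit 1)), ((nat_lit 39), (nat_lit 13), (nat_lit 1), (nat_lit 1)), ((nat_lit 78), (nat_lit 30), (nat_lit 1), (nat_lit 1)), ((nat_lit 79), (nat_lit 31), (nat_lit 1), (nat_lit 1)), ((nat_lit 80), (nat_lit 32), (nat_lit 1), (nat_lit 1)), ((nat_lit 81), (nat_lit 33), (nat_lit 1), (nat_lit 1)), ((nat_lit 82), (nat_lit 34), (nat_lit 1), (nat_lit 1)), ((nat_lit 83), (nat_lit 35), (nat_lit 1), (nat_lit 1)), ((nat_lit 99), (nat_lit 52), (nat_lit 1), (nat_lit 1)), ((nat_lit 100), (nat_lit 53), (nat_lit 1), (nat_lit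 1)), ((nat_lit 101), (nat_lit 54), (nat_lit 1), (nat_lit 1)), ((nat_lit 102), (nat_lit 55), (nat_lit 1), (nat_lit 1)), ((nat_lit 105), (nat_lit 62), (nat_lit 1), (nat_lit 1)), ((nat_lit 106), (nat_lit 63), (nat_lit 1), (nat_lit 1)), ((nat_lit 107), (nat_lit 64), (nat_lit 1), (nat_lit 1)), ((nat_lit 108), (nat_lit 65), (nat_lit 1), (nat_lit 1)), ((nat_lit 110), (nat_lit 66), (nat_lit 1), (nat_lit 1)), ((nat_lit 111), (nat_lit 67), (nat_lit 1), (nat_lit 1)), ((nat_lit 112), (nat_lit 68), (nat_lit 1), (nat_lit 1)), ((nat_lit 113), (nat_lit 69), (nat_lit 1), (nat_lit 1)), ((nat_lit 141), (nat_lit 75), (nat_lit 1), (nat_lit 1)), ((nat_lit 142), (nat_lit 76), (nat_lit 1), (nat_lit 1)), ((nat_lit 147), (nat_lit 77), (nat_lit 1), (nat_lit 1)), ((nat_lit 162), (nat_lit 92), (nat_lit 1), (nat_lit 1)), ((nat_lit 163), (nat_lit 97), (nat_lit 1), (nat_lit 1)), ((nat_lit 164), (nat_lit 98), (nat_lit 1), (nat_lit 1)), ((nat_lit 170), (nat_lit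 126), (nat_lit 1), (nat_lit 1)), ((nat_lit 171), (nat_lit 127), (nat_lit 1), (nat_lit 1)), ((nat_lit 172), (nat_lit 128), (nat_lit 1), (nat_lit 1)), ((nat_lit 173), (nat_lit 129), (nat_lit 1), (nat_lit 1)), ((nat_lit 174), (nat_lit 131), (nat_lit 1), (nat_lit 1)), ((nat_lit 175), (nat_lit 132), (nat_lit 1), (nat_lit 1)), ((nat_lit 176), (nat_lit 133), (nat_lit 1), (nat_lit 1)), ((nat_lit 177), (nat_lit 134), (nat_lit 1), (nat_lit 1)), ((nat_lit 184), (nat_lit 137), (nat_lit 1), (nat_lit 1)), ((nat_lit 185), (nat_lit 138), (nat_lit 1), (nat_lit 1)), ((nat_lit 186), (nat_lit 139), (nat_lit 1), (nat_lit 1)), ((nat_lit 187), (nat_lit 140), (nat_lit 1), (nat_lit 1)), ((nat_lit 204), (nat_lit 156), (nat_lit 1), (nat_lit 1)), ((nat_lit 205), (nat_lit 157), (nat_lit 1), (nat_lit 1)), ((nat_lit 206), (nat_lit 158), (nat_lit 1), (nat_lit 1)), ((nat_lit 207), (nat_lit 159), (nat_lit 1), (nat_lit 1)), ((nat_lit 208), (nat_lit 160), (nat_lit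 1), (nat_lit 1)), ((nat_lit 209), (nat_lit 161), (nat_lit 1), (nat_lit 1)), ((nat_lit 226), (nat_lit 200), (nat_lit 1), (nat_lit 1)), ((nat_lit 227), (nat_lit 201), (nat_lit 1), (nat_lit 1)), ((nat_lit 228), (nat_lit 202), (nat_lit 1), (nat_lit 1)), ((nat_lit 229), (nat_lit 203), (nat_lit 1), (nat_lit 1)), ((nat_lit 233), (nat_lit 218), (nat_lit 1), (nat_lit 1)), ((nat_lit 234), (nat_lit 223), (nat_lit 1), (nat_lit 1)), ((nat_lit 235), (nat_lit 224), (nat_lit 1), (nat_lit 1))]) (.leaf [((nat_lit 0), (nat_lit 27), (nat_lit 1), (nat_lit 1)), ((nat_lit 2), (nat_lit 29), (nat_lit 1), (nat_lit 1)), ((nat_lit 4), (nat_lit 34), (nat_lit 1), (nat_lit 1)), ((nat_lit 7), (nat_lit 50), (nat_lit 1), (nat_lit 1)), ((nat_lit 8), (nat_lit 60), (nat_lit 1), (nat_lit 1)), ((nat_lit 10), (nat_lit 67), (nat_lit 1), (nat_lit 1)), ((nat_lit 12), (nat_lit 69), (nat_lit 1), (nat_lit 1)), ((nat_lit 15), (nat_lit 82), (nat_lit 1), (nat_lit 1)), ((nat_lit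 17), (nat_lit 89), (nat_lit 1), (nat_lit 1)), ((nat_lit 19), (nat_lit 91), (nat_lit 1), (nat_lit 1)), ((nat_lit 22), (nat_lit 94), (nat_lit 1), (nat_lit 1)), ((nat_lit 24), (nat_lit 96), (nat_lit 1), (nat_lit 1)), ((nat_lit 31), (nat_lit 98), (nat_lit 1), (nat_lit 1)), ((nat_lit 36), (nat_lit 111), (nat_lit 1), (nat_lit 1)), ((nat_lit 38), (nat_lit 113), (nat_lit 1), (nat_lit 1)), ((nat_lit 40), (nat_lit 118), (nat_lit 1), (nat_lit 1)), ((nat_lit 42), (nat_lit 120), (nat_lit 1), (nat_lit 1)), ((nat_lit 43), (nat_lit 123), (nat_lit 1), (nat_lit 1)), ((nat_lit 45), (nat_lit 125), (nat_lit 1), (nat_lit 1)), ((nat_lit 47), (nat_lit 130), (nat_lit 1), (nat_lit 1)), ((nat_lit 52), (nat_lit 132), (nat_lit 1), (nat_lit 1)), ((nat_lit 54), (nat_lit 134), (nat_lit 1), (nat_lit 1)), ((nat_lit 57), (nat_lit 136), (nat_lit 1), (nat_lit 1)), ((nat_lit 62), (nat_lit 138), (nat_lit 1), (nat_lit 1)), ((nat_lit 64), (nat_lit 140), (nat_lit 1), (nat_lit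 1)), ((nat_lit 71), (nat_lit 153), (nat_lit 1), (nat_lit 1)), ((nat_lit 73), (nat_lit 155), (nat_lit 1), (nat_lit 1)), ((nat_lit 75), (nat_lit 160), (nat_lit 1), (nat_lit 1)), ((nat_lit 79), (nat_lit 164), (nat_lit 1), (nat_lit 1)), ((nat_lit 84), (nat_lit 166), (nat_lit 1), (nat_lit 1)), ((nat_lit 86), (nat_lit 168), (nat_lit 1), (nat_lit 1)), ((nat_lit 99), (nat_lit 175), (nat_lit 1), (nat_lit 1)), ((nat_lit 101), (nat_lit 177), (nat_lit 1), (nat_lit 1)), ((nat_lit 103), (nat_lit 182), (nat_lit 1), (nat_lit 1)), ((nat_lit 105), (nat_lit 185), (nat_lit 1), (nat_lit 1)), ((nat_lit 107), (nat_lit 187), (nat_lit 1), (nat_lit 1)), ((nat_lit 109), (nat_lit 192), (nat_lit 1), (nat_lit 1)), ((nat_lit 114), (nat_lit 194), (nat_lit 1), (nat_lit 1)), ((nat_lit 116), (nat_lit 196), (nat_lit 1), (nat_lit 1)), ((nat_lit 119), (nat_lit 197), (nat_lit 1), (nat_lit 1)), ((nat_lit 121), (nat_lit 199), (nat_lit 1), (nat_lit 1)), ((nat_lit 126),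 (nat_lit 201), (nat_lit 1), (nat_lit 1)), ((nat_lit 128), (nat_lit 203), (nat_lit 1), (nat_lit 1)), ((nat_lit 141), (nat_lit 208), (nat_lit 1), (nat_lit 1)), ((nat_lit 143), (nat_lit 215), (nat_lit 1), (nat_lit 1)), ((nat_lit 145), (nat_lit 217), (nat_lit 1), (nat_lit 1)), ((nat_lit 148), (nat_lit 220), (nat_lit 1), (nat_lit 1)), ((nat_lit 150), (nat_lit 222), (nat_lit 1), (nat_lit 1)), ((nat_lit 157), (nat_lit 224), (nat_lit 1), (nat_lit 1)), ((nat_lit 170), (nat_lit 227), (nat_lit 1), (nat_lit 1)), ((nat_lit 172), (nat_lit 229), (nat_lit 1), (nat_lit 1)), ((nat_lit 179), (nat_lit 231), (nat_lit 1), (nat_lit 1)), ((nat_lit 189), (nat_lit 232), (nat_lit 1), (nat_lit 1)), ((nat_lit 205), (nat_lit 235), (nat_lit 1), (nat_lit 1)), ((nat_lit 210), (nat_lit 237), (nat_lit 1), (nat_lit 1)), ((nat_lit 212), (nat_lit 239), (nat_lit 1), (nat_lit 1))]))) (.node (.node (.leaf [((nat_lit 30), (nat_lit 0), (nat_lit 1), (nat_lit 1)), ((nat_lit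 32), (nat_lit 2), (nat_lit 1), (nat_lit 1)), ((nat_lit 34), (nat_lit 3), (nat_lit 1), (nat_lit 1)), ((nat_lit 53), (nat_lit 7), (nat_lit 1), (nat_lit 1)), ((nat_lit 63), (nat_lit 8), (nat_lit 1), (nat_lit 1)), ((nat_lit 67), (nat_lit 9), (nat_lit 1), (nat_lit 1)), ((nat_lit 70), (nat_lit 12), (nat_lit 1), (nat_lit 1)), ((nat_lit 85), (nat_lit 15), (nat_lit 1), (nat_lit 1)), ((nat_lit 89), (nat_lit 16), (nat_lit 1), (nat_lit 1)), ((nat_lit 92), (nat_lit 19), (nat_lit 1), (nat_lit 1)), ((nat_lit 94), (nat_lit 21), (nat_lit 1), (nat_lit 1)), ((nat_lit 97), (nat_lit 24), (nat_lit 1), (nat_lit 1)), ((nat_lit 98), (nat_lit 28), (nat_lit 1), (nat_lit 1)), ((nat_lit 115), (nat_lit 36), (nat_lit 1), (nat_lit 1)), ((nat_lit 118), (nat_lit 37), (nat_lit 1), (nat_lit 1)), ((nat_lit 120), (nat_lit 39), (nat_lit 1), (nat_lit 1)), ((nat_lit 126), (nat_lit 41), (nat_lit 1), (nat_lit 1)), ((nat_lit 127), (nat_lit 43), (nat_lit 1), (nat_lit 1)),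 ((nat_lit 129), (nat_lit 45), (nat_lit 1), (nat_lit 1)), ((nat_lit 131), (nat_lit 47), (nat_lit 1), (nat_lit 1)), ((nat_lit 132), (nat_lit 49), (nat_lit 1), (nat_lit 1)), ((nat_lit 134), (nat_lit 51), (nat_lit 1), (nat_lit 1)), ((nat_lit 137), (nat_lit 57), (nat_lit 1), (nat_lit 1)), ((nat_lit 138), (nat_lit 59), (nat_lit 1), (nat_lit 1)), ((nat_lit 140), (nat_lit 61), (nat_lit 1), (nat_lit 1)), ((nat_lit 156), (nat_lit 71), (nat_lit 1), (nat_lit 1)), ((nat_lit 158), (nat_lit 73), (nat_lit 1), (nat_lit 1)), ((nat_lit 160), (nat_lit 74), (nat_lit 1), (nat_lit 1)), ((nat_lit 165), (nat_lit 79), (nat_lit 1), (nat_lit 1)), ((nat_lit 166), (nat_lit 81), (nat_lit 1), (nat_lit 1)), ((nat_lit 168), (nat_lit 83), (nat_lit 1), (nat_lit 1)), ((nat_lit 178), (nat_lit 99), (nat_lit 1), (nat_lit 1)), ((nat_lit 180), (nat_lit 101), (nat_lit 1), (nat_lit 1)), ((nat_lit 182), (nat_lit 102), (nat_lit 1), (nat_lit 1)), ((nat_lit 188), (nat_lit 105),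 (nat_lit 1), (nat_lit 1)), ((nat_lit 190), (nat_lit 107), (nat_lit 1), (nat_lit 1)), ((nat_lit 192), (nat_lit 108), (nat_lit 1), (nat_lit 1)), ((nat_lit 194), (nat_lit 110), (nat_lit 1), (nat_lit 1)), ((nat_lit 196), (nat_lit 112), (nat_lit 1), (nat_lit 1)), ((nat_lit 198), (nat_lit 113), (nat_lit 1), (nat_lit 1)), ((nat_lit 200), (nat_lit 119), (nat_lit 1), (nat_lit 1)), ((nat_lit 202), (nat_lit 121), (nat_lit 1), (nat_lit 1)), ((nat_lit 203), (nat_lit 124), (nat_lit 1), (nat_lit 1)), ((nat_lit 211), (nat_lit 141), (nat_lit 1), (nat_lit 1)), ((nat_lit 215), (nat_lit 142), (nat_lit 1), (nat_lit 1)), ((nat_lit 218), (nat_lit 145), (nat_lit 1), (nat_lit 1)), ((nat_lit 220), (nat_lit 147), (nat_lit 1), (nat_lit 1)), ((nat_lit 223), (nat_lit 150), (nat_lit 1), (nat_lit 1)), ((nat_lit 224), (nat_lit 154), (nat_lit 1), (nat_lit 1)), ((nat_lit 227), (nat_lit 169), (nat_lit 1), (nat_lit 1)), ((nat_lit 230), (nat_lit 172), (nat_lit 1),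 (nat_lit 1)), ((nat_lit 231), (nat_lit 176), (nat_lit 1), (nat_lit 1)), ((nat_lit 232), (nat_lit 186), (nat_lit 1), (nat_lit 1)), ((nat_lit 236), (nat_lit 205), (nat_lit 1), (nat_lit 1)), ((nat_lit 237), (nat_lit 207), (nat_lit 1), (nat_lit 1)), ((nat_lit 239), (nat_lit 209), (nat_lit 1), (nat_lit 1))]) (.leaf [((nat_lit 2), (nat_lit 14), (nat_lit 1), (nat_lit 1)), ((nat_lit 7), (nat_lit 18), (nat_lit 1), (nat_lit 1)), ((nat_lit 8), (nat_lit 23), (nat_lit 1), (nat_lit 1)), ((nat_lit 9), (nat_lit 27), (nat_lit 1), (nat_lit 1)), ((nat_lit 10), (nat_lit 30), (nat_lit 1), (nat_lit 1)), ((nat_lit 12), (nat_lit 33), (nat_lit 1), (nat_lit 1)), ((nat_lit 13), (nat_lit 34), (nat_lit 1), (nat_lit 1)), ((nat_lit 36), (nat_lit 78), (nat_lit 1), (nat_lit 1)), ((nat_lit 38), (nat_lit 81), (nat_lit 1), (nat_lit 1)), ((nat_lit 39), (nat_lit 82), (nat_lit 1), (nat_lit 1)), ((nat_lit 41), (nat_lit 84), (nat_lit 1), (nat_lit 1)), ((nat_lit 42), (nat_lit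 85), (nat_lit 1), (nat_lit 1)), ((nat_lit 45), (nat_lit 87), (nat_lit 1), (nat_lit 1)), ((nat_lit 47), (nat_lit 88), (nat_lit 1), (nat_lit 1)), ((nat_lit 48), (nat_lit 89), (nat_lit 1), (nat_lit 1)), ((nat_lit 51), (nat_lit 91), (nat_lit 1), (nat_lit 1)), ((nat_lit 54), (nat_lit 92), (nat_lit 1), (nat_lit 1)), ((nat_lit 57), (nat_lit 93), (nat_lit 1), (nat_lit 1)), ((nat_lit 58), (nat_lit 94), (nat_lit 1), (nat_lit 1)), ((nat_lit 61), (nat_lit 96), (nat_lit 1), (nat_lit 1)), ((nat_lit 64), (nat_lit 97), (nat_lit 1), (nat_lit 1)), ((nat_lit 68), (nat_lit 98), (nat_lit 1), (nat_lit 1)), ((nat_lit 71), (nat_lit 117), (nat_lit 1), (nat_lit 1)), ((nat_lit 72), (nat_lit 118), (nat_lit 1), (nat_lit 1)), ((nat_lit 74), (nat_lit 123), (nat_lit 1), (nat_lit 1)), ((nat_lit 75), (nat_lit 127), (nat_lit 1), (nat_lit 1)), ((nat_lit 76), (nat_lit 132), (nat_lit 1), (nat_lit 1)), ((nat_lit 77), (nat_lit 138), (nat_lit 1), (nat_lit 1)), ((nat_lit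 101), (nat_lit 162), (nat_lit 1), (nat_lit 1)), ((nat_lit 107), (nat_lit 163), (nat_lit 1), (nat_lit 1)), ((nat_lit 112), (nat_lit 164), (nat_lit 1), (nat_lit 1)), ((nat_lit 116), (nat_lit 165), (nat_lit 1), (nat_lit 1)), ((nat_lit 121), (nat_lit 167), (nat_lit 1), (nat_lit 1)), ((nat_lit 122), (nat_lit 168), (nat_lit 1), (nat_lit 1)), ((nat_lit 141), (nat_lit 171), (nat_lit 1), (nat_lit 1)), ((nat_lit 142), (nat_lit 175), (nat_lit 1), (nat_lit 1)), ((nat_lit 143), (nat_lit 178), (nat_lit 1), (nat_lit 1)), ((nat_lit 145), (nat_lit 181), (nat_lit 1), (nat_lit 1)), ((nat_lit 146), (nat_lit 182), (nat_lit 1), (nat_lit 1)), ((nat_lit 147), (nat_lit 185), (nat_lit 1), (nat_lit 1)), ((nat_lit 148), (nat_lit 188), (nat_lit 1), (nat_lit 1)), ((nat_lit 150), (nat_lit 191), (nat_lit 1), (nat_lit 1)), ((nat_lit 151), (nat_lit 192), (nat_lit 1), (nat_lit 1)), ((nat_lit 152), (nat_lit 194), (nat_lit 1), (nat_lit 1)), ((nat_lit 154), (nat_lit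 197), (nat_lit 1), (nat_lit 1)), ((nat_lit 155), (nat_lit 198), (nat_lit 1), (nat_lit 1)), ((nat_lit 157), (nat_lit 200), (nat_lit 1), (nat_lit 1)), ((nat_lit 158), (nat_lit 201), (nat_lit 1), (nat_lit 1)), ((nat_lit 161), (nat_lit 203), (nat_lit 1), (nat_lit 1)), ((nat_lit 205), (nat_lit 226), (nat_lit 1), (nat_lit 1)), ((nat_lit 206), (nat_lit 227), (nat_lit 1), (nat_lit 1)), ((nat_lit 209), (nat_lit 229), (nat_lit 1), (nat_lit 1)), ((nat_lit 212), (nat_lit 230), (nat_lit 1), (nat_lit 1)), ((nat_lit 216), (nat_lit 231), (nat_lit 1), (nat_lit 1)), ((nat_lit 221), (nat_lit 232), (nat_lit 1), (nat_lit 1)), ((nat_lit 225), (nat_lit 237), (nat_lit 1), (nat_lit 1))])) (.node (.leaf [((nat_lit 6), (nat_lit 3), (nat_lit 1), (nat_lit 1)), ((nat_lit 10), (nat_lit 7), (nat_lit 1), (nat_lit 1)), ((nat_lit 22), (nat_lit 15), (nat_lit 1), (nat_lit 1)), ((nat_lit 26), (nat_lit 16), (nat_lit 1), (nat_lit 1)), ((nat_lit 30), (nat_lit 18), (nat_lit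 1), (nat_lit 1)), ((nat_lit 31), (nat_lit 19), (nat_lit 1), (nat_lit 1)), ((nat_lit 32), (nat_lit 20), (nat_lit 1), (nat_lit 1)), ((nat_lit 56), (nat_lit 37), (nat_lit 1), (nat_lit 1)), ((nat_lit 57), (nat_lit 38), (nat_lit 1), (nat_lit 1)), ((nat_lit 58), (nat_lit 39), (nat_lit 1), (nat_lit 1)), ((nat_lit 62), (nat_lit 43), (nat_lit 1), (nat_lit 1)), ((nat_lit 63), (nat_lit 44), (nat_lit 1), (nat_lit 1)), ((nat_lit 64), (nat_lit 45), (nat_lit 1), (nat_lit 1)), ((nat_lit 66), (nat_lit 49), (nat_lit 1), (nat_lit 1)), ((nat_lit 67), (nat_lit 50), (nat_lit 1), (nat_lit 1)), ((nat_lit 68), (nat_lit 51), (nat_lit 1), (nat_lit 1)), ((nat_lit 70), (nat_lit 55), (nat_lit 1), (nat_lit 1)), ((nat_lit 77), (nat_lit 74), (nat_lit 1), (nat_lit 1)), ((nat_lit 93), (nat_lit 81), (nat_lit 1), (nat_lit 1)), ((nat_lit 94), (nat_lit 82), (nat_lit 1), (nat_lit 1)), ((nat_lit 95), (nat_lit 83), (nat_lit 1), (nat_lit 1)), ((nat_lit 97), (nat_lit 87),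 (nat_lit 1), (nat_lit 1)), ((nat_lit 98), (nat_lit 91), (nat_lit 1), (nat_lit 1)), ((nat_lit 114), (nat_lit 99), (nat_lit 1), (nat_lit 1)), ((nat_lit 115), (nat_lit 100), (nat_lit 1), (nat_lit 1)), ((nat_lit 116), (nat_lit 101), (nat_lit 1), (nat_lit 1)), ((nat_lit 126), (nat_lit 103), (nat_lit 1), (nat_lit 1)), ((nat_lit 131), (nat_lit 104), (nat_lit 1), (nat_lit 1)), ((nat_lit 135), (nat_lit 108), (nat_lit 1), (nat_lit 1)), ((nat_lit 136), (nat_lit 113), (nat_lit 1), (nat_lit 1)), ((nat_lit 138), (nat_lit 123), (nat_lit 1), (nat_lit 1)), ((nat_lit 139), (nat_lit 124), (nat_lit 1), (nat_lit 1)), ((nat_lit 140), (nat_lit 125), (nat_lit 1), (nat_lit 1)), ((nat_lit 148), (nat_lit 141), (nat_lit 1), (nat_lit 1)), ((nat_lit 152), (nat_lit 142), (nat_lit 1), (nat_lit 1)), ((nat_lit 156), (nat_lit 144), (nat_lit 1), (nat_lit 1)), ((nat_lit 157), (nat_lit 145), (nat_lit 1), (nat_lit 1)), ((nat_lit 158), (nat_lit 146), (nat_lit 1), (nat_lit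 1)), ((nat_lit 165), (nat_lit 162), (nat_lit 1), (nat_lit 1)), ((nat_lit 184), (nat_lit 169), (nat_lit 1), (nat_lit 1)), ((nat_lit 188), (nat_lit 171), (nat_lit 1), (nat_lit 1)), ((nat_lit 189), (nat_lit 172), (nat_lit 1), (nat_lit 1)), ((nat_lit 190), (nat_lit 173), (nat_lit 1), (nat_lit 1)), ((nat_lit 194), (nat_lit 175), (nat_lit 1), (nat_lit 1)), ((nat_lit 195), (nat_lit 176), (nat_lit 1), (nat_lit 1)), ((nat_lit 196), (nat_lit 177), (nat_lit 1), (nat_lit 1)), ((nat_lit 200), (nat_lit 181), (nat_lit 1), (nat_lit 1)), ((nat_lit 201), (nat_lit 182), (nat_lit 1), (nat_lit 1)), ((nat_lit 202), (nat_lit 183), (nat_lit 1), (nat_lit 1)), ((nat_lit 219), (nat_lit 207), (nat_lit 1), (nat_lit 1)), ((nat_lit 220), (nat_lit 208), (nat_lit 1), (nat_lit 1)), ((nat_lit 221), (nat_lit 209), (nat_lit 1), (nat_lit 1)), ((nat_lit 223), (nat_lit 213), (nat_lit 1), (nat_lit 1)), ((nat_lit 224), (nat_lit 217), (nat_lit 1), (nat_lit 1)), ((nat_lit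 232), (nat_lit 229), (nat_lit 1), (nat_lit 1)), ((nat_lit 236), (nat_lit 233), (nat_lit 1), (nat_lit 1))]) (.leaf [((nat_lit 0), (nat_lit 84), (nat_lit 1), (nat_lit 1)), ((nat_lit 1), (nat_lit 85), (nat_lit 1), (nat_lit 1)), ((nat_lit 2), (nat_lit 86), (nat_lit 1), (nat_lit 1)), ((nat_lit 3), (nat_lit 87), (nat_lit 1), (nat_lit 1)), ((nat_lit 5), (nat_lit 92), (nat_lit 1), (nat_lit 1)), ((nat_lit 6), (nat_lit 97), (nat_lit 1), (nat_lit 1)), ((nat_lit 7), (nat_lit 103), (nat_lit 1), (nat_lit 1)), ((nat_lit 8), (nat_lit 109), (nat_lit 1), (nat_lit 1)), ((nat_lit 10), (nat_lit 126), (nat_lit 1), (nat_lit 1)), ((nat_lit 11), (nat_lit 127), (nat_lit 1), (nat_lit 1)), ((nat_lit 12), (nat_lit 128), (nat_lit 1), (nat_lit 1)), ((nat_lit 13), (nat_lit 129), (nat_lit 1), (nat_lit 1)), ((nat_lit 16), (nat_lit 162), (nat_lit 1), (nat_lit 1)), ((nat_lit 21), (nat_lit 163), (nat_lit 1), (nat_lit 1)), ((nat_lit 26), (nat_lit 165), (nat_lit 1),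 (nat_lit 1)), ((nat_lit 27), (nat_lit 166), (nat_lit 1), (nat_lit 1)), ((nat_lit 28), (nat_lit 167), (nat_lit 1), (nat_lit 1)), ((nat_lit 29), (nat_lit 168), (nat_lit 1), (nat_lit 1)), ((nat_lit 36), (nat_lit 170), (nat_lit 1), (nat_lit 1)), ((nat_lit 37), (nat_lit 171), (nat_lit 1), (nat_lit 1)), ((nat_lit 38), (nat_lit 172), (nat_lit 1), (nat_lit 1)), ((nat_lit 39), (nat_lit 173), (nat_lit 1), (nat_lit 1)), ((nat_lit 46), (nat_lit 178), (nat_lit 1), (nat_lit 1)), ((nat_lit 47), (nat_lit 179), (nat_lit 1), (nat_lit 1)), ((nat_lit 48), (nat_lit 180), (nat_lit 1), (nat_lit 1)), ((nat_lit 49), (nat_lit 181), (nat_lit 1), (nat_lit 1)), ((nat_lit 50), (nat_lit 182), (nat_lit 1), (nat_lit 1)), ((nat_lit 51), (nat_lit 183), (nat_lit 1), (nat_lit 1)), ((nat_lit 56), (nat_lit 188), (nat_lit 1), (nat_lit 1)), ((nat_lit 57), (nat_lit 189), (nat_lit 1), (nat_lit 1)), ((nat_lit 58), (nat_lit 190), (nat_lit 1), (nat_lit 1)), ((nat_lit 59),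 (nat_lit 191), (nat_lit 1), (nat_lit 1)), ((nat_lit 60), (nat_lit 192), (nat_lit 1), (nat_lit 1)), ((nat_lit 61), (nat_lit 193), (nat_lit 1), (nat_lit 1)), ((nat_lit 66), (nat_lit 200), (nat_lit 1), (nat_lit 1)), ((nat_lit 67), (nat_lit 201), (nat_lit 1), (nat_lit 1)), ((nat_lit 68), (nat_lit 202), (nat_lit 1), (nat_lit 1)), ((nat_lit 69), (nat_lit 203), (nat_lit 1), (nat_lit 1)), ((nat_lit 71), (nat_lit 210), (nat_lit 1), (nat_lit 1)), ((nat_lit 72), (nat_lit 211), (nat_lit 1), (nat_lit 1)), ((nat_lit 73), (nat_lit 212), (nat_lit 1), (nat_lit 1)), ((nat_lit 74), (nat_lit 213), (nat_lit 1), (nat_lit 1)), ((nat_lit 76), (nat_lit 218), (nat_lit 1), (nat_lit 1)), ((nat_lit 77), (nat_lit 223), (nat_lit 1), (nat_lit 1)), ((nat_lit 110), (nat_lit 226), (nat_lit 1), (nat_lit 1)), ((nat_lit 111), (nat_lit 227), (nat_lit 1), (nat_lit 1)), ((nat_lit 112), (nat_lit 228), (nat_lit 1), (nat_lit 1)), ((nat_lit 113), (nat_lit 229), (nat_lit 1),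 (nat_lit 1)), ((nat_lit 130), (nat_lit 231), (nat_lit 1), (nat_lit 1)), ((nat_lit 136), (nat_lit 232), (nat_lit 1), (nat_lit 1)), ((nat_lit 142), (nat_lit 233), (nat_lit 1), (nat_lit 1)), ((nat_lit 147), (nat_lit 234), (nat_lit 1), (nat_lit 1)), ((nat_lit 152), (nat_lit 236), (nat_lit 1), (nat_lit 1)), ((nat_lit 153), (nat_lit 237), (nat_lit 1), (nat_lit 1)), ((nat_lit 154), (nat_lit 238), (nat_lit 1), (nat_lit 1)), ((nat_lit 155), (nat_lit 239), (nat_lit 1), (nat_lit 1))])))) (.node (.node (.node (.leaf [((nat_lit 49), (nat_lit 0), (nat_lit 1), (nat_lit 1)), ((nat_lit 50), (nat_lit 1), (nat_lit 1), (nat_lit 1)), ((nat_lit 51), (nat_lit 2), (nat_lit 1), (nat_lit 1)), ((nat_lit 55), (nat_lit 4), (nat_lit 1), (nat_lit 1)), ((nat_lit 69), (nat_lit 6), (nat_lit 1), (nat_lit 1)), ((nat_lit 74), (nat_lit 8), (nat_lit 1), (nat_lit 1)), ((nat_lit 76), (nat_lit 10), (nat_lit 1), (nat_lit 1)), ((nat_lit 91), (nat_lit 14), (nat_lit 1), (nat_lit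 1)), ((nat_lit 102), (nat_lit 15), (nat_lit 1), (nat_lit 1)), ((nat_lit 104), (nat_lit 17), (nat_lit 1), (nat_lit 1)), ((nat_lit 113), (nat_lit 21), (nat_lit 1), (nat_lit 1)), ((nat_lit 123), (nat_lit 23), (nat_lit 1), (nat_lit 1)), ((nat_lit 124), (nat_lit 24), (nat_lit 1), (nat_lit 1)), ((nat_lit 125), (nat_lit 25), (nat_lit 1), (nat_lit 1)), ((nat_lit 130), (nat_lit 26), (nat_lit 1), (nat_lit 1)), ((nat_lit 132), (nat_lit 30), (nat_lit 1), (nat_lit 1)), ((nat_lit 133), (nat_lit 31), (nat_lit 1), (nat_lit 1)), ((nat_lit 134), (nat_lit 32), (nat_lit 1), (nat_lit 1)), ((nat_lit 142), (nat_lit 36), (nat_lit 1), (nat_lit 1)), ((nat_lit 144), (nat_lit 40), (nat_lit 1), (nat_lit 1)), ((nat_lit 145), (nat_lit 41), (nat_lit 1), (nat_lit 1)), ((nat_lit 146), (nat_lit 42), (nat_lit 1), (nat_lit 1)), ((nat_lit 153), (nat_lit 56), (nat_lit 1), (nat_lit 1)), ((nat_lit 154), (nat_lit 57), (nat_lit 1), (nat_lit 1)), ((nat_lit 155), (nat_lit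 58), (nat_lit 1), (nat_lit 1)), ((nat_lit 159), (nat_lit 62), (nat_lit 1), (nat_lit 1)), ((nat_lit 160), (nat_lit 63), (nat_lit 1), (nat_lit 1)), ((nat_lit 161), (nat_lit 64), (nat_lit 1), (nat_lit 1)), ((nat_lit 175), (nat_lit 78), (nat_lit 1), (nat_lit 1)), ((nat_lit 176), (nat_lit 79), (nat_lit 1), (nat_lit 1)), ((nat_lit 177), (nat_lit 80), (nat_lit 1), (nat_lit 1)), ((nat_lit 181), (nat_lit 84), (nat_lit 1), (nat_lit 1)), ((nat_lit 182), (nat_lit 85), (nat_lit 1), (nat_lit 1)), ((nat_lit 183), (nat_lit 86), (nat_lit 1), (nat_lit 1)), ((nat_lit 197), (nat_lit 93), (nat_lit 1), (nat_lit 1)), ((nat_lit 198), (nat_lit 94), (nat_lit 1), (nat_lit 1)), ((nat_lit 199), (nat_lit 95), (nat_lit 1), (nat_lit 1)), ((nat_lit 203), (nat_lit 97), (nat_lit 1), (nat_lit 1)), ((nat_lit 207), (nat_lit 105), (nat_lit 1), (nat_lit 1)), ((nat_lit 208), (nat_lit 106), (nat_lit 1), (nat_lit 1)), ((nat_lit 209), (nat_lit 107), (nat_lit 1), (nat_lit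 1)), ((nat_lit 213), (nat_lit 109), (nat_lit 1), (nat_lit 1)), ((nat_lit 214), (nat_lit 114), (nat_lit 1), (nat_lit 1)), ((nat_lit 215), (nat_lit 115), (nat_lit 1), (nat_lit 1)), ((nat_lit 216), (nat_lit 116), (nat_lit 1), (nat_lit 1)), ((nat_lit 218), (nat_lit 126), (nat_lit 1), (nat_lit 1)), ((nat_lit 222), (nat_lit 135), (nat_lit 1), (nat_lit 1)), ((nat_lit 224), (nat_lit 137), (nat_lit 1), (nat_lit 1)), ((nat_lit 225), (nat_lit 148), (nat_lit 1), (nat_lit 1)), ((nat_lit 229), (nat_lit 163), (nat_lit 1), (nat_lit 1)), ((nat_lit 231), (nat_lit 165), (nat_lit 1), (nat_lit 1)), ((nat_lit 233), (nat_lit 170), (nat_lit 1), (nat_lit 1)), ((nat_lit 235), (nat_lit 184), (nat_lit 1), (nat_lit 1)), ((nat_lit 237), (nat_lit 188), (nat_lit 1), (nat_lit 1)), ((nat_lit 238), (nat_lit 189), (nat_lit 1), (nat_lit 1)), ((nat_lit 239), (nat_lit 190), (nat_lit 1), (nat_lit 1))]) (.leaf [((nat_lit 1), (nat_lit 8), (nat_lit 1), (nat_lit 1)), ((nat_lit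 5), (nat_lit 12), (nat_lit 1), (nat_lit 1)), ((nat_lit 14), (nat_lit 24), (nat_lit 1), (nat_lit 1)), ((nat_lit 16), (nat_lit 38), (nat_lit 1), (nat_lit 1)), ((nat_lit 17), (nat_lit 41), (nat_lit 1), (nat_lit 1)), ((nat_lit 18), (nat_lit 43), (nat_lit 1), (nat_lit 1)), ((nat_lit 20), (nat_lit 45), (nat_lit 1), (nat_lit 1)), ((nat_lit 26), (nat_lit 57), (nat_lit 1), (nat_lit 1)), ((nat_lit 27), (nat_lit 59), (nat_lit 1), (nat_lit 1)), ((nat_lit 29), (nat_lit 61), (nat_lit 1), (nat_lit 1)), ((nat_lit 30), (nat_lit 62), (nat_lit 1), (nat_lit 1)), ((nat_lit 32), (nat_lit 64), (nat_lit 1), (nat_lit 1)), ((nat_lit 34), (nat_lit 65), (nat_lit 1), (nat_lit 1)), ((nat_lit 46), (nat_lit 71), (nat_lit 1), (nat_lit 1)), ((nat_lit 48), (nat_lit 73), (nat_lit 1), (nat_lit 1)), ((nat_lit 50), (nat_lit 74), (nat_lit 1), (nat_lit 1)), ((nat_lit 53), (nat_lit 75), (nat_lit 1), (nat_lit 1)), ((nat_lit 67), (nat_lit 77), (nat_lit 1), (nat_lit 1)),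 ((nat_lit 78), (nat_lit 105), (nat_lit 1), (nat_lit 1)), ((nat_lit 80), (nat_lit 107), (nat_lit 1), (nat_lit 1)), ((nat_lit 82), (nat_lit 108), (nat_lit 1), (nat_lit 1)), ((nat_lit 85), (nat_lit 109), (nat_lit 1), (nat_lit 1)), ((nat_lit 88), (nat_lit 119), (nat_lit 1), (nat_lit 1)), ((nat_lit 90), (nat_lit 121), (nat_lit 1), (nat_lit 1)), ((nat_lit 91), (nat_lit 124), (nat_lit 1), (nat_lit 1)), ((nat_lit 92), (nat_lit 128), (nat_lit 1), (nat_lit 1)), ((nat_lit 94), (nat_lit 135), (nat_lit 1), (nat_lit 1)), ((nat_lit 98), (nat_lit 139), (nat_lit 1), (nat_lit 1)), ((nat_lit 100), (nat_lit 141), (nat_lit 1), (nat_lit 1)), ((nat_lit 104), (nat_lit 145), (nat_lit 1), (nat_lit 1)), ((nat_lit 111), (nat_lit 147), (nat_lit 1), (nat_lit 1)), ((nat_lit 115), (nat_lit 148), (nat_lit 1), (nat_lit 1)), ((nat_lit 118), (nat_lit 149), (nat_lit 1), (nat_lit 1)), ((nat_lit 120), (nat_lit 151), (nat_lit 1), (nat_lit 1)), ((nat_lit 130), (nat_lit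 154), (nat_lit 1), (nat_lit 1)), ((nat_lit 131), (nat_lit 157), (nat_lit 1), (nat_lit 1)), ((nat_lit 132), (nat_lit 159), (nat_lit 1), (nat_lit 1)), ((nat_lit 134), (nat_lit 161), (nat_lit 1), (nat_lit 1)), ((nat_lit 162), (nat_lit 172), (nat_lit 1), (nat_lit 1)), ((nat_lit 164), (nat_lit 186), (nat_lit 1), (nat_lit 1)), ((nat_lit 165), (nat_lit 189), (nat_lit 1), (nat_lit 1)), ((nat_lit 166), (nat_lit 191), (nat_lit 1), (nat_lit 1)), ((nat_lit 168), (nat_lit 193), (nat_lit 1), (nat_lit 1)), ((nat_lit 174), (nat_lit 205), (nat_lit 1), (nat_lit 1)), ((nat_lit 175), (nat_lit 207), (nat_lit 1), (nat_lit 1)), ((nat_lit 177), (nat_lit 209), (nat_lit 1), (nat_lit 1)), ((nat_lit 178), (nat_lit 210), (nat_lit 1), (nat_lit 1)), ((nat_lit 180), (nat_lit 212), (nat_lit 1), (nat_lit 1)), ((nat_lit 182), (nat_lit 213), (nat_lit 1), (nat_lit 1)), ((nat_lit 194), (nat_lit 219), (nat_lit 1), (nat_lit 1)), ((nat_lit 196), (nat_lit 221), (nat_lit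 1), (nat_lit 1)), ((nat_lit 198), (nat_lit 222), (nat_lit 1), (nat_lit 1)), ((nat_lit 201), (nat_lit 223), (nat_lit 1), (nat_lit 1)), ((nat_lit 215), (nat_lit 225), (nat_lit 1), (nat_lit 1)), ((nat_lit 227), (nat_lit 234), (nat_lit 1), (nat_lit 1)), ((nat_lit 231), (nat_lit 238), (nat_lit 1), (nat_lit 1))])) (.node (.leaf [((nat_lit 9), (nat_lit 2), (nat_lit 1), (nat_lit 1)), ((nat_lit 11), (nat_lit 4), (nat_lit 1), (nat_lit 1)), ((nat_lit 27), (nat_lit 14), (nat_lit 1), (nat_lit 1)), ((nat_lit 37), (nat_lit 15), (nat_lit 1), (nat_lit 1)), ((nat_lit 46), (nat_lit 17), (nat_lit 1), (nat_lit 1)), ((nat_lit 49), (nat_lit 19), (nat_lit 1), (nat_lit 1)), ((nat_lit 50), (nat_lit 20), (nat_lit 1), (nat_lit 1)), ((nat_lit 56), (nat_lit 22), (nat_lit 1), (nat_lit 1)), ((nat_lit 59), (nat_lit 24), (nat_lit 1), (nat_lit 1)), ((nat_lit 60), (nat_lit 25), (nat_lit 1), (nat_lit 1)), ((nat_lit 66), (nat_lit 31), (nat_lit 1), (nat_lit 1)), ((nat_lit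 67), (nat_lit 32), (nat_lit 1), (nat_lit 1)), ((nat_lit 69), (nat_lit 35), (nat_lit 1), (nat_lit 1)), ((nat_lit 71), (nat_lit 41), (nat_lit 1), (nat_lit 1)), ((nat_lit 72), (nat_lit 42), (nat_lit 1), (nat_lit 1)), ((nat_lit 74), (nat_lit 45), (nat_lit 1), (nat_lit 1)), ((nat_lit 76), (nat_lit 54), (nat_lit 1), (nat_lit 1)), ((nat_lit 77), (nat_lit 64), (nat_lit 1), (nat_lit 1)), ((nat_lit 110), (nat_lit 79), (nat_lit 1), (nat_lit 1)), ((nat_lit 111), (nat_lit 80), (nat_lit 1), (nat_lit 1)), ((nat_lit 113), (nat_lit 83), (nat_lit 1), (nat_lit 1)), ((nat_lit 117), (nat_lit 84), (nat_lit 1), (nat_lit 1)), ((nat_lit 118), (nat_lit 85), (nat_lit 1), (nat_lit 1)), ((nat_lit 123), (nat_lit 87), (nat_lit 1), (nat_lit 1)), ((nat_lit 130), (nat_lit 90), (nat_lit 1), (nat_lit 1)), ((nat_lit 132), (nat_lit 92), (nat_lit 1), (nat_lit 1)), ((nat_lit 136), (nat_lit 95), (nat_lit 1), (nat_lit 1)), ((nat_lit 138), (nat_lit 97), (nat_lit 1), (nat_lit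 1)), ((nat_lit 142), (nat_lit 101), (nat_lit 1), (nat_lit 1)), ((nat_lit 144), (nat_lit 103), (nat_lit 1), (nat_lit 1)), ((nat_lit 147), (nat_lit 107), (nat_lit 1), (nat_lit 1)), ((nat_lit 149), (nat_lit 109), (nat_lit 1), (nat_lit 1)), ((nat_lit 152), (nat_lit 116), (nat_lit 1), (nat_lit 1)), ((nat_lit 154), (nat_lit 121), (nat_lit 1), (nat_lit 1)), ((nat_lit 155), (nat_lit 122), (nat_lit 1), (nat_lit 1)), ((nat_lit 156), (nat_lit 126), (nat_lit 1), (nat_lit 1)), ((nat_lit 159), (nat_lit 128), (nat_lit 1), (nat_lit 1)), ((nat_lit 160), (nat_lit 129), (nat_lit 1), (nat_lit 1)), ((nat_lit 175), (nat_lit 162), (nat_lit 1), (nat_lit 1)), ((nat_lit 185), (nat_lit 163), (nat_lit 1), (nat_lit 1)), ((nat_lit 194), (nat_lit 165), (nat_lit 1), (nat_lit 1)), ((nat_lit 197), (nat_lit 167), (nat_lit 1), (nat_lit 1)), ((nat_lit 198), (nat_lit 168), (nat_lit 1), (nat_lit 1)), ((nat_lit 204), (nat_lit 170), (nat_lit 1), (nat_lit 1)), ((nat_lit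 207), (nat_lit 172), (nat_lit 1), (nat_lit 1)), ((nat_lit 208), (nat_lit 173), (nat_lit 1), (nat_lit 1)), ((nat_lit 214), (nat_lit 179), (nat_lit 1), (nat_lit 1)), ((nat_lit 215), (nat_lit 180), (nat_lit 1), (nat_lit 1)), ((nat_lit 217), (nat_lit 183), (nat_lit 1), (nat_lit 1)), ((nat_lit 219), (nat_lit 189), (nat_lit 1), (nat_lit 1)), ((nat_lit 220), (nat_lit 190), (nat_lit 1), (nat_lit 1)), ((nat_lit 222), (nat_lit 193), (nat_lit 1), (nat_lit 1)), ((nat_lit 224), (nat_lit 202), (nat_lit 1), (nat_lit 1)), ((nat_lit 225), (nat_lit 212), (nat_lit 1), (nat_lit 1)), ((nat_lit 235), (nat_lit 228), (nat_lit 1), (nat_lit 1)), ((nat_lit 237), (nat_lit 230), (nat_lit 1), (nat_lit 1))]) (.leaf [((nat_lit 1), (nat_lit 46), (nat_lit 1), (nat_lit 1)), ((nat_lit 2), (nat_lit 47), (nat_lit 1), (nat_lit 1)), ((nat_lit 3), (nat_lit 49), (nat_lit 1), (nat_lit 1)), ((nat_lit 4), (nat_lit 52), (nat_lit 1), (nat_lit 1)), ((nat_lit 6), (nat_lit 66),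 (nat_lit 1), (nat_lit 1)), ((nat_lit 8), (nat_lit 71), (nat_lit 1), (nat_lit 1)), ((nat_lit 13), (nat_lit 76), (nat_lit 1), (nat_lit 1)), ((nat_lit 14), (nat_lit 88), (nat_lit 1), (nat_lit 1)), ((nat_lit 15), (nat_lit 99), (nat_lit 1), (nat_lit 1)), ((nat_lit 20), (nat_lit 104), (nat_lit 1), (nat_lit 1)), ((nat_lit 21), (nat_lit 110), (nat_lit 1), (nat_lit 1)), ((nat_lit 22), (nat_lit 114), (nat_lit 1), (nat_lit 1)), ((nat_lit 23), (nat_lit 117), (nat_lit 1), (nat_lit 1)), ((nat_lit 24), (nat_lit 119), (nat_lit 1), (nat_lit 1)), ((nat_lit 29), (nat_lit 130), (nat_lit 1), (nat_lit 1)), ((nat_lit 32), (nat_lit 131), (nat_lit 1), (nat_lit 1)), ((nat_lit 34), (nat_lit 132), (nat_lit 1), (nat_lit 1)), ((nat_lit 35), (nat_lit 133), (nat_lit 1), (nat_lit 1)), ((nat_lit 39), (nat_lit 142), (nat_lit 1), (nat_lit 1)), ((nat_lit 42), (nat_lit 143), (nat_lit 1), (nat_lit 1)), ((nat_lit 44), (nat_lit 144), (nat_lit 1), (nat_lit 1)), ((nat_lit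 45), (nat_lit 145), (nat_lit 1), (nat_lit 1)), ((nat_lit 58), (nat_lit 152), (nat_lit 1), (nat_lit 1)), ((nat_lit 60), (nat_lit 153), (nat_lit 1), (nat_lit 1)), ((nat_lit 61), (nat_lit 154), (nat_lit 1), (nat_lit 1)), ((nat_lit 63), (nat_lit 156), (nat_lit 1), (nat_lit 1)), ((nat_lit 64), (nat_lit 157), (nat_lit 1), (nat_lit 1)), ((nat_lit 65), (nat_lit 159), (nat_lit 1), (nat_lit 1)), ((nat_lit 80), (nat_lit 174), (nat_lit 1), (nat_lit 1)), ((nat_lit 82), (nat_lit 175), (nat_lit 1), (nat_lit 1)), ((nat_lit 83), (nat_lit 176), (nat_lit 1), (nat_lit 1)), ((nat_lit 85), (nat_lit 178), (nat_lit 1), (nat_lit 1)), ((nat_lit 86), (nat_lit 179), (nat_lit 1), (nat_lit 1)), ((nat_lit 87), (nat_lit 181), (nat_lit 1), (nat_lit 1)), ((nat_lit 94), (nat_lit 194), (nat_lit 1), (nat_lit 1)), ((nat_lit 95), (nat_lit 195), (nat_lit 1), (nat_lit 1)), ((nat_lit 96), (nat_lit 197), (nat_lit 1), (nat_lit 1)), ((nat_lit 97), (nat_lit 200), (nat_lit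 1), (nat_lit 1)), ((nat_lit 106), (nat_lit 204), (nat_lit 1), (nat_lit 1)), ((nat_lit 107), (nat_lit 205), (nat_lit 1), (nat_lit 1)), ((nat_lit 108), (nat_lit 207), (nat_lit 1), (nat_lit 1)), ((nat_lit 109), (nat_lit 210), (nat_lit 1), (nat_lit 1)), ((nat_lit 120), (nat_lit 215), (nat_lit 1), (nat_lit 1)), ((nat_lit 122), (nat_lit 216), (nat_lit 1), (nat_lit 1)), ((nat_lit 125), (nat_lit 217), (nat_lit 1), (nat_lit 1)), ((nat_lit 129), (nat_lit 218), (nat_lit 1), (nat_lit 1)), ((nat_lit 135), (nat_lit 219), (nat_lit 1), (nat_lit 1)), ((nat_lit 140), (nat_lit 224), (nat_lit 1), (nat_lit 1)), ((nat_lit 151), (nat_lit 225), (nat_lit 1), (nat_lit 1)), ((nat_lit 163), (nat_lit 226), (nat_lit 1), (nat_lit 1)), ((nat_lit 168), (nat_lit 231), (nat_lit 1), (nat_lit 1)), ((nat_lit 173), (nat_lit 233), (nat_lit 1), (nat_lit 1)), ((nat_lit 187), (nat_lit 235), (nat_lit 1), (nat_lit 1)), ((nat_lit 190), (nat_lit 236), (nat_lit 1), (nat_lit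 1)), ((nat_lit 192), (nat_lit 237), (nat_lit 1), (nat_lit 1)), ((nat_lit 193), (nat_lit 238), (nat_lit 1), (nat_lit 1))]))) (.node (.node (.leaf [((nat_lit 21), (nat_lit 2), (nat_lit 1), (nat_lit 1)), ((nat_lit 23), (nat_lit 4), (nat_lit 1), (nat_lit 1)), ((nat_lit 27), (nat_lit 5), (nat_lit 1), (nat_lit 1)), ((nat_lit 37), (nat_lit 7), (nat_lit 1), (nat_lit 1)), ((nat_lit 56), (nat_lit 10), (nat_lit 1), (nat_lit 1)), ((nat_lit 59), (nat_lit 12), (nat_lit 1), (nat_lit 1)), ((nat_lit 60), (nat_lit 13), (nat_lit 1), (nat_lit 1)), ((nat_lit 78), (nat_lit 17), (nat_lit 1), (nat_lit 1)), ((nat_lit 81), (nat_lit 19), (nat_lit 1), (nat_lit 1)), ((nat_lit 82), (nat_lit 20), (nat_lit 1), (nat_lit 1)), ((nat_lit 93), (nat_lit 31), (nat_lit 1), (nat_lit 1)), ((nat_lit 94), (nat_lit 32), (nat_lit 1), (nat_lit 1)), ((nat_lit 96), (nat_lit 35), (nat_lit 1), (nat_lit 1)), ((nat_lit 105), (nat_lit 41), (nat_lit 1), (nat_lit 1)), ((nat_lit 106),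 (nat_lit 42), (nat_lit 1), (nat_lit 1)), ((nat_lit 108), (nat_lit 45), (nat_lit 1), (nat_lit 1)), ((nat_lit 110), (nat_lit 47), (nat_lit 1), (nat_lit 1)), ((nat_lit 111), (nat_lit 48), (nat_lit 1), (nat_lit 1)), ((nat_lit 113), (nat_lit 51), (nat_lit 1), (nat_lit 1)), ((nat_lit 117), (nat_lit 52), (nat_lit 1), (nat_lit 1)), ((nat_lit 118), (nat_lit 53), (nat_lit 1), (nat_lit 1)), ((nat_lit 123), (nat_lit 55), (nat_lit 1), (nat_lit 1)), ((nat_lit 135), (nat_lit 64), (nat_lit 1), (nat_lit 1)), ((nat_lit 136), (nat_lit 68), (nat_lit 1), (nat_lit 1)), ((nat_lit 138), (nat_lit 70), (nat_lit 1), (nat_lit 1)), ((nat_lit 147), (nat_lit 73), (nat_lit 1), (nat_lit 1)), ((nat_lit 149), (nat_lit 75), (nat_lit 1), (nat_lit 1)), ((nat_lit 153), (nat_lit 76), (nat_lit 1), (nat_lit 1)), ((nat_lit 163), (nat_lit 86), (nat_lit 1), (nat_lit 1)), ((nat_lit 164), (nat_lit 90), (nat_lit 1), (nat_lit 1)), ((nat_lit 166), (nat_lit 92), (nat_lit 1), (nat_lit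 1)), ((nat_lit 169), (nat_lit 101), (nat_lit 1), (nat_lit 1)), ((nat_lit 171), (nat_lit 103), (nat_lit 1), (nat_lit 1)), ((nat_lit 175), (nat_lit 104), (nat_lit 1), (nat_lit 1)), ((nat_lit 184), (nat_lit 116), (nat_lit 1), (nat_lit 1)), ((nat_lit 186), (nat_lit 121), (nat_lit 1), (nat_lit 1)), ((nat_lit 187), (nat_lit 122), (nat_lit 1), (nat_lit 1)), ((nat_lit 188), (nat_lit 126), (nat_lit 1), (nat_lit 1)), ((nat_lit 191), (nat_lit 128), (nat_lit 1), (nat_lit 1)), ((nat_lit 192), (nat_lit 129), (nat_lit 1), (nat_lit 1)), ((nat_lit 194), (nat_lit 131), (nat_lit 1), (nat_lit 1)), ((nat_lit 197), (nat_lit 133), (nat_lit 1), (nat_lit 1)), ((nat_lit 198), (nat_lit 134), (nat_lit 1), (nat_lit 1)), ((nat_lit 204), (nat_lit 143), (nat_lit 1), (nat_lit 1)), ((nat_lit 207), (nat_lit 145), (nat_lit 1), (nat_lit 1)), ((nat_lit 208), (nat_lit 146), (nat_lit 1), (nat_lit 1)), ((nat_lit 219), (nat_lit 157), (nat_lit 1), (nat_lit 1)), ((nat_lit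 220), (nat_lit 158), (nat_lit 1), (nat_lit 1)), ((nat_lit 222), (nat_lit 161), (nat_lit 1), (nat_lit 1)), ((nat_lit 226), (nat_lit 179), (nat_lit 1), (nat_lit 1)), ((nat_lit 227), (nat_lit 180), (nat_lit 1), (nat_lit 1)), ((nat_lit 229), (nat_lit 183), (nat_lit 1), (nat_lit 1)), ((nat_lit 232), (nat_lit 202), (nat_lit 1), (nat_lit 1)), ((nat_lit 234), (nat_lit 212), (nat_lit 1), (nat_lit 1)), ((nat_lit 235), (nat_lit 216), (nat_lit 1), (nat_lit 1)), ((nat_lit 237), (nat_lit 218), (nat_lit 1), (nat_lit 1))]) (.leaf [((nat_lit 0), (nat_lit 18), (nat_lit 1), (nat_lit 1)), ((nat_lit 2), (nat_lit 20), (nat_lit 1), (nat_lit 1)), ((nat_lit 6), (nat_lit 34), (nat_lit 1), (nat_lit 1)), ((nat_lit 8), (nat_lit 44), (nat_lit 1), (nat_lit 1)), ((nat_lit 9), (nat_lit 50), (nat_lit 1), (nat_lit 1)), ((nat_lit 10), (nat_lit 53), (nat_lit 1), (nat_lit 1)), ((nat_lit 12), (nat_lit 55), (nat_lit 1), (nat_lit 1)), ((nat_lit 21), (nat_lit 82), (nat_lit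 1), (nat_lit 1)), ((nat_lit 22), (nat_lit 85), (nat_lit 1), (nat_lit 1)), ((nat_lit 24), (nat_lit 87), (nat_lit 1), (nat_lit 1)), ((nat_lit 26), (nat_lit 89), (nat_lit 1), (nat_lit 1)), ((nat_lit 28), (nat_lit 91), (nat_lit 1), (nat_lit 1)), ((nat_lit 31), (nat_lit 92), (nat_lit 1), (nat_lit 1)), ((nat_lit 36), (nat_lit 100), (nat_lit 1), (nat_lit 1)), ((nat_lit 38), (nat_lit 102), (nat_lit 1), (nat_lit 1)), ((nat_lit 41), (nat_lit 103), (nat_lit 1), (nat_lit 1)), ((nat_lit 47), (nat_lit 104), (nat_lit 1), (nat_lit 1)), ((nat_lit 56), (nat_lit 118), (nat_lit 1), (nat_lit 1)), ((nat_lit 58), (nat_lit 120), (nat_lit 1), (nat_lit 1)), ((nat_lit 59), (nat_lit 123), (nat_lit 1), (nat_lit 1)), ((nat_lit 61), (nat_lit 125), (nat_lit 1), (nat_lit 1)), ((nat_lit 62), (nat_lit 127), (nat_lit 1), (nat_lit 1)), ((nat_lit 64), (nat_lit 129), (nat_lit 1), (nat_lit 1)), ((nat_lit 66), (nat_lit 132), (nat_lit 1), (nat_lit 1)), ((nat_lit 68), (nat_lit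 134), (nat_lit 1), (nat_lit 1)), ((nat_lit 71), (nat_lit 144), (nat_lit 1), (nat_lit 1)), ((nat_lit 73), (nat_lit 146), (nat_lit 1), (nat_lit 1)), ((nat_lit 77), (nat_lit 160), (nat_lit 1), (nat_lit 1)), ((nat_lit 79), (nat_lit 162), (nat_lit 1), (nat_lit 1)), ((nat_lit 93), (nat_lit 166), (nat_lit 1), (nat_lit 1)), ((nat_lit 95), (nat_lit 168), (nat_lit 1), (nat_lit 1)), ((nat_lit 105), (nat_lit 171), (nat_lit 1), (nat_lit 1)), ((nat_lit 107), (nat_lit 173), (nat_lit 1), (nat_lit 1)), ((nat_lit 110), (nat_lit 175), (nat_lit 1), (nat_lit 1)), ((nat_lit 112), (nat_lit 177), (nat_lit 1), (nat_lit 1)), ((nat_lit 114), (nat_lit 178), (nat_lit 1), (nat_lit 1)), ((nat_lit 116), (nat_lit 180), (nat_lit 1), (nat_lit 1)), ((nat_lit 119), (nat_lit 181), (nat_lit 1), (nat_lit 1)), ((nat_lit 121), (nat_lit 183), (nat_lit 1), (nat_lit 1)), ((nat_lit 135), (nat_lit 192), (nat_lit 1), (nat_lit 1)), ((nat_lit 136), (nat_lit 198), (nat_lit 1),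 (nat_lit 1)), ((nat_lit 137), (nat_lit 201), (nat_lit 1), (nat_lit 1)), ((nat_lit 139), (nat_lit 203), (nat_lit 1), (nat_lit 1)), ((nat_lit 147), (nat_lit 208), (nat_lit 1), (nat_lit 1)), ((nat_lit 148), (nat_lit 211), (nat_lit 1), (nat_lit 1)), ((nat_lit 150), (nat_lit 213), (nat_lit 1), (nat_lit 1)), ((nat_lit 152), (nat_lit 215), (nat_lit 1), (nat_lit 1)), ((nat_lit 154), (nat_lit 217), (nat_lit 1), (nat_lit 1)), ((nat_lit 157), (nat_lit 218), (nat_lit 1), (nat_lit 1)), ((nat_lit 184), (nat_lit 227), (nat_lit 1), (nat_lit 1)), ((nat_lit 186), (nat_lit 229), (nat_lit 1), (nat_lit 1)), ((nat_lit 189), (nat_lit 230), (nat_lit 1), (nat_lit 1)), ((nat_lit 195), (nat_lit 231), (nat_lit 1), (nat_lit 1)), ((nat_lit 205), (nat_lit 233), (nat_lit 1), (nat_lit 1)), ((nat_lit 219), (nat_lit 237), (nat_lit 1), (nat_lit 1)), ((nat_lit 221), (nat_lit 239), (nat_lit 1), (nat_lit 1))])) (.leaf [((nat_lit 2), (nat_lit 1), (nat_lit 1), (nat_lit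 1)), ((nat_lit 12), (nat_lit 11), (nat_lit 1), (nat_lit 1)), ((nat_lit 19), (nat_lit 18), (nat_lit 1), (nat_lit 1)), ((nat_lit 24), (nat_lit 23), (nat_lit 1), (nat_lit 1)), ((nat_lit 28), (nat_lit 27), (nat_lit 1), (nat_lit 1)), ((nat_lit 31), (nat_lit 30), (nat_lit 1), (nat_lit 1)), ((nat_lit 35), (nat_lit 34), (nat_lit 1), (nat_lit 1)), ((nat_lit 38), (nat_lit 37), (nat_lit 1), (nat_lit 1)), ((nat_lit 41), (nat_lit 40), (nat_lit 1), (nat_lit 1)), ((nat_lit 45), (nat_lit 44), (nat_lit 1), (nat_lit 1)), ((nat_lit 47), (nat_lit 46), (nat_lit 1), (nat_lit 1)), ((nat_lit 51), (nat_lit 50), (nat_lit 1), (nat_lit 1)), ((nat_lit 54), (nat_lit 53), (nat_lit 1), (nat_lit 1)), ((nat_lit 57), (nat_lit 56), (nat_lit 1), (nat_lit 1)), ((nat_lit 61), (nat_lit 60), (nat_lit 1), (nat_lit 1)), ((nat_lit 64), (nat_lit 63), (nat_lit 1), (nat_lit 1)), ((nat_lit 68), (nat_lit 67), (nat_lit 1), (nat_lit 1)), ((nat_lit 73), (nat_lit 72), (nat_lit 1),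 (nat_lit 1)), ((nat_lit 79), (nat_lit 78), (nat_lit 1), (nat_lit 1)), ((nat_lit 83), (nat_lit 82), (nat_lit 1), (nat_lit 1)), ((nat_lit 86), (nat_lit 85), (nat_lit 1), (nat_lit 1)), ((nat_lit 90), (nat_lit 89), (nat_lit 1), (nat_lit 1)), ((nat_lit 95), (nat_lit 94), (nat_lit 1), (nat_lit 1)), ((nat_lit 101), (nat_lit 100), (nat_lit 1), (nat_lit 1)), ((nat_lit 107), (nat_lit 106), (nat_lit 1), (nat_lit 1)), ((nat_lit 112), (nat_lit 111), (nat_lit 1), (nat_lit 1)), ((nat_lit 116), (nat_lit 115), (nat_lit 1), (nat_lit 1)), ((nat_lit 119), (nat_lit 117), (nat_lit 1), (nat_lit 1)), ((nat_lit 122), (nat_lit 120), (nat_lit 1), (nat_lit 1)), ((nat_lit 124), (nat_lit 123), (nat_lit 1), (nat_lit 1)), ((nat_lit 128), (nat_lit 127), (nat_lit 1), (nat_lit 1)), ((nat_lit 133), (nat_lit 132), (nat_lit 1), (nat_lit 1)), ((nat_lit 139), (nat_lit 138), (nat_lit 1), (nat_lit 1)), ((nat_lit 145), (nat_lit 144), (nat_lit 1), (nat_lit 1)), ((nat_lit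 150), (nat_lit 149), (nat_lit 1), (nat_lit 1)), ((nat_lit 154), (nat_lit 153), (nat_lit 1), (nat_lit 1)), ((nat_lit 157), (nat_lit 156), (nat_lit 1), (nat_lit 1)), ((nat_lit 161), (nat_lit 160), (nat_lit 1), (nat_lit 1)), ((nat_lit 167), (nat_lit 166), (nat_lit 1), (nat_lit 1)), ((nat_lit 172), (nat_lit 171), (nat_lit 1), (nat_lit 1)), ((nat_lit 176), (nat_lit 175), (nat_lit 1), (nat_lit 1)), ((nat_lit 179), (nat_lit 178), (nat_lit 1), (nat_lit 1)), ((nat_lit 183), (nat_lit 182), (nat_lit 1), (nat_lit 1)), ((nat_lit 186), (nat_lit 185), (nat_lit 1), (nat_lit 1)), ((nat_lit 189), (nat_lit 188), (nat_lit 1), (nat_lit 1)), ((nat_lit 193), (nat_lit 192), (nat_lit 1), (nat_lit 1)), ((nat_lit 195), (nat_lit 194), (nat_lit 1), (nat_lit 1)), ((nat_lit 199), (nat_lit 198), (nat_lit 1), (nat_lit 1)), ((nat_lit 202), (nat_lit 201), (nat_lit 1), (nat_lit 1)), ((nat_lit 205), (nat_lit 204), (nat_lit 1), (nat_lit 1)), ((nat_lit 209), (nat_lit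 208), (nat_lit 1), (nat_lit 1)), ((nat_lit 212), (nat_lit 211), (nat_lit 1), (nat_lit 1)), ((nat_lit 216), (nat_lit 215), (nat_lit 1), (nat_lit 1)), ((nat_lit 221), (nat_lit 220), (nat_lit 1), (nat_lit 1)), ((nat_lit 228), (nat_lit 227), (nat_lit 1), (nat_lit 1)), ((nat_lit 238), (nat_lit 237), (nat_lit 1), (nat_lit 1))])))

def rows7 : Tr (List Entry) :=
  .node (.node (.node (.node (.leaf [((nat_lit 71), (nat_lit 0), (nat_lit 1), (nat_lit 1)), ((nat_lit 72), (nat_lit 1), (nat_lit 1), (nat_lit 1)), ((nat_lit 73), (nat_lit 2), (nat_lit 1), (nat_lit 1)), ((nat_lit 74), (nat_lit 3), (nat_lit 1), (nat_lit 1)), ((nat_lit 75), (nat_lit 4), (nat_lit 1), (nat_lit 1)), ((nat_lit 76), (nat_lit 5), (nat_lit 1), (nat_lit 1)), ((nat_lit 77), (nat_lit 6), (nat_lit 1), (nat_lit 1)), ((nat_lit 141), (nat_lit 15), (nat_lit 1), (nat_lit 1)), ((nat_lit 142), (nat_lit 16), (nat_lit 1), (nat_lit 1)), ((nat_lit 143), (nat_lit 17), (nat_lit 1), (nat_lit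 1)), ((nat_lit 144), (nat_lit 18), (nat_lit 1), (nat_lit 1)), ((nat_lit 145), (nat_lit 19), (nat_lit 1), (nat_lit 1)), ((nat_lit 146), (nat_lit 20), (nat_lit 1), (nat_lit 1)), ((nat_lit 147), (nat_lit 21), (nat_lit 1), (nat_lit 1)), ((nat_lit 148), (nat_lit 22), (nat_lit 1), (nat_lit 1)), ((nat_lit 149), (nat_lit 23), (nat_lit 1), (nat_lit 1)), ((nat_lit 150), (nat_lit 24), (nat_lit 1), (nat_lit 1)), ((nat_lit 151), (nat_lit 25), (nat_lit 1), (nat_lit 1)), ((nat_lit 152), (nat_lit 26), (nat_lit 1), (nat_lit 1)), ((nat_lit 153), (nat_lit 27), (nat_lit 1), (nat_lit 1)), ((nat_lit 154), (nat_lit 28), (nat_lit 1), (nat_lit 1)), ((nat_lit 155), (nat_lit 29), (nat_lit 1), (nat_lit 1)), ((nat_lit 156), (nat_lit 30), (nat_lit 1), (nat_lit 1)), ((nat_lit 157), (nat_lit 31), (nat_lit 1), (nat_lit 1)), ((nat_lit 158), (nat_lit 32), (nat_lit 1), (nat_lit 1)), ((nat_lit 159), (nat_lit 33), (nat_lit 1), (nat_lit 1)), ((nat_lit 160), (nat_lit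 34), (nat_lit 1), (nat_lit 1)), ((nat_lit 161), (nat_lit 35), (nat_lit 1), (nat_lit 1)), ((nat_lit 204), (nat_lit 78), (nat_lit 1), (nat_lit 1)), ((nat_lit 205), (nat_lit 79), (nat_lit 1), (nat_lit 1)), ((nat_lit 206), (nat_lit 80), (nat_lit 1), (nat_lit 1)), ((nat_lit 207), (nat_lit 81), (nat_lit 1), (nat_lit 1)), ((nat_lit 208), (nat_lit 82), (nat_lit 1), (nat_lit 1)), ((nat_lit 209), (nat_lit 83), (nat_lit 1), (nat_lit 1)), ((nat_lit 210), (nat_lit 84), (nat_lit 1), (nat_lit 1)), ((nat_lit 211), (nat_lit 85), (nat_lit 1), (nat_lit 1)), ((nat_lit 212), (nat_lit 86), (nat_lit 1), (nat_lit 1)), ((nat_lit 213), (nat_lit 87), (nat_lit 1), (nat_lit 1)), ((nat_lit 214), (nat_lit 88), (nat_lit 1), (nat_lit 1)), ((nat_lit 215), (nat_lit 89), (nat_lit 1), (nat_lit 1)), ((nat_lit 216), (nat_lit 90), (nat_lit 1), (nat_lit 1)), ((nat_lit 217), (nat_lit 91), (nat_lit 1), (nat_lit 1)), ((nat_lit 218), (nat_lit 92), (nat_lit 1), (nat_lit 1)),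 ((nat_lit 219), (nat_lit 93), (nat_lit 1), (nat_lit 1)), ((nat_lit 220), (nat_lit 94), (nat_lit 1), (nat_lit 1)), ((nat_lit 221), (nat_lit 95), (nat_lit 1), (nat_lit 1)), ((nat_lit 222), (nat_lit 96), (nat_lit 1), (nat_lit 1)), ((nat_lit 223), (nat_lit 97), (nat_lit 1), (nat_lit 1)), ((nat_lit 224), (nat_lit 98), (nat_lit 1), (nat_lit 1)), ((nat_lit 233), (nat_lit 162), (nat_lit 1), (nat_lit 1)), ((nat_lit 234), (nat_lit 163), (nat_lit 1), (nat_lit 1)), ((nat_lit 235), (nat_lit 164), (nat_lit 1), (nat_lit 1)), ((nat_lit 236), (nat_lit 165), (nat_lit 1), (nat_lit 1)), ((nat_lit 237), (nat_lit 166), (nat_lit 1), (nat_lit 1)), ((nat_lit 238), (nat_lit 167), (nat_lit 1), (nat_lit 1)), ((nat_lit 239), (nat_lit 168), (nat_lit 1), (nat_lit 1))]) (.leaf [((nat_lit 4), (nat_lit 7), (nat_lit 1), (nat_lit 1)), ((nat_lit 6), (nat_lit 9), (nat_lit 1), (nat_lit 1)), ((nat_lit 14), (nat_lit 16), (nat_lit 1), (nat_lit 1)), ((nat_lit 22), (nat_lit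 36), (nat_lit 1), (nat_lit 1)), ((nat_lit 23), (nat_lit 37), (nat_lit 1), (nat_lit 1)), ((nat_lit 24), (nat_lit 38), (nat_lit 1), (nat_lit 1)), ((nat_lit 25), (nat_lit 39), (nat_lit 1), (nat_lit 1)), ((nat_lit 30), (nat_lit 46), (nat_lit 1), (nat_lit 1)), ((nat_lit 31), (nat_lit 47), (nat_lit 1), (nat_lit 1)), ((nat_lit 32), (nat_lit 48), (nat_lit 1), (nat_lit 1)), ((nat_lit 33), (nat_lit 49), (nat_lit 1), (nat_lit 1)), ((nat_lit 34), (nat_lit 50), (nat_lit 1), (nat_lit 1)), ((nat_lit 35), (nat_lit 51), (nat_lit 1), (nat_lit 1)), ((nat_lit 62), (nat_lit 71), (nat_lit 1), (nat_lit 1)), ((nat_lit 63), (nat_lit 72), (nat_lit 1), (nat_lit 1)), ((nat_lit 64), (nat_lit 73), (nat_lit 1), (nat_lit 1)), ((nat_lit 65), (nat_lit 74), (nat_lit 1), (nat_lit 1)), ((nat_lit 70), (nat_lit 76), (nat_lit 1), (nat_lit 1)), ((nat_lit 84), (nat_lit 99), (nat_lit 1), (nat_lit 1)), ((nat_lit 85), (nat_lit 100), (nat_lit 1), (nat_lit 1)), ((nat_lit 86),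 (nat_lit 101), (nat_lit 1), (nat_lit 1)), ((nat_lit 87), (nat_lit 102), (nat_lit 1), (nat_lit 1)), ((nat_lit 92), (nat_lit 104), (nat_lit 1), (nat_lit 1)), ((nat_lit 93), (nat_lit 110), (nat_lit 1), (nat_lit 1)), ((nat_lit 94), (nat_lit 111), (nat_lit 1), (nat_lit 1)), ((nat_lit 95), (nat_lit 112), (nat_lit 1), (nat_lit 1)), ((nat_lit 96), (nat_lit 113), (nat_lit 1), (nat_lit 1)), ((nat_lit 98), (nat_lit 130), (nat_lit 1), (nat_lit 1)), ((nat_lit 109), (nat_lit 141), (nat_lit 1), (nat_lit 1)), ((nat_lit 126), (nat_lit 143), (nat_lit 1), (nat_lit 1)), ((nat_lit 127), (nat_lit 144), (nat_lit 1), (nat_lit 1)), ((nat_lit 128), (nat_lit 145), (nat_lit 1), (nat_lit 1)), ((nat_lit 129), (nat_lit 146), (nat_lit 1), (nat_lit 1)), ((nat_lit 135), (nat_lit 147), (nat_lit 1), (nat_lit 1)), ((nat_lit 137), (nat_lit 152), (nat_lit 1), (nat_lit 1)), ((nat_lit 138), (nat_lit 153), (nat_lit 1), (nat_lit 1)), ((nat_lit 139), (nat_lit 154), (nat_lit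 1), (nat_lit 1)), ((nat_lit 140), (nat_lit 155), (nat_lit 1), (nat_lit 1)), ((nat_lit 163), (nat_lit 169), (nat_lit 1), (nat_lit 1)), ((nat_lit 165), (nat_lit 174), (nat_lit 1), (nat_lit 1)), ((nat_lit 166), (nat_lit 175), (nat_lit 1), (nat_lit 1)), ((nat_lit 167), (nat_lit 176), (nat_lit 1), (nat_lit 1)), ((nat_lit 168), (nat_lit 177), (nat_lit 1), (nat_lit 1)), ((nat_lit 188), (nat_lit 204), (nat_lit 1), (nat_lit 1)), ((nat_lit 189), (nat_lit 205), (nat_lit 1), (nat_lit 1)), ((nat_lit 190), (nat_lit 206), (nat_lit 1), (nat_lit 1)), ((nat_lit 191), (nat_lit 207), (nat_lit 1), (nat_lit 1)), ((nat_lit 192), (nat_lit 208), (nat_lit 1), (nat_lit 1)), ((nat_lit 193), (nat_lit 209), (nat_lit 1), (nat_lit 1)), ((nat_lit 200), (nat_lit 214), (nat_lit 1), (nat_lit 1)), ((nat_lit 201), (nat_lit 215), (nat_lit 1), (nat_lit 1)), ((nat_lit 202), (nat_lit 216), (nat_lit 1), (nat_lit 1)), ((nat_lit 203), (nat_lit 217), (nat_lit 1), (nat_lit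 1)), ((nat_lit 223), (nat_lit 225), (nat_lit 1), (nat_lit 1)), ((nat_lit 230), (nat_lit 233), (nat_lit 1), (nat_lit 1)), ((nat_lit 232), (nat_lit 235), (nat_lit 1), (nat_lit 1))])) (.node (.leaf [((nat_lit 12), (nat_lit 0), (nat_lit 1), (nat_lit 1)), ((nat_lit 13), (nat_lit 1), (nat_lit 1), (nat_lit 1)), ((nat_lit 35), (nat_lit 14), (nat_lit 1), (nat_lit 1)), ((nat_lit 45), (nat_lit 15), (nat_lit 1), (nat_lit 1)), ((nat_lit 51), (nat_lit 16), (nat_lit 1), (nat_lit 1)), ((nat_lit 54), (nat_lit 17), (nat_lit 1), (nat_lit 1)), ((nat_lit 55), (nat_lit 18), (nat_lit 1), (nat_lit 1)), ((nat_lit 61), (nat_lit 21), (nat_lit 1), (nat_lit 1)), ((nat_lit 64), (nat_lit 22), (nat_lit 1), (nat_lit 1)), ((nat_lit 65), (nat_lit 23), (nat_lit 1), (nat_lit 1)), ((nat_lit 68), (nat_lit 26), (nat_lit 1), (nat_lit 1)), ((nat_lit 69), (nat_lit 27), (nat_lit 1), (nat_lit 1)), ((nat_lit 70), (nat_lit 30), (nat_lit 1), (nat_lit 1)), ((nat_lit 73), (nat_lit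 36), (nat_lit 1), (nat_lit 1)), ((nat_lit 74), (nat_lit 37), (nat_lit 1), (nat_lit 1)), ((nat_lit 75), (nat_lit 40), (nat_lit 1), (nat_lit 1)), ((nat_lit 76), (nat_lit 46), (nat_lit 1), (nat_lit 1)), ((nat_lit 77), (nat_lit 56), (nat_lit 1), (nat_lit 1)), ((nat_lit 121), (nat_lit 79), (nat_lit 1), (nat_lit 1)), ((nat_lit 122), (nat_lit 80), (nat_lit 1), (nat_lit 1)), ((nat_lit 124), (nat_lit 81), (nat_lit 1), (nat_lit 1)), ((nat_lit 125), (nat_lit 82), (nat_lit 1), (nat_lit 1)), ((nat_lit 128), (nat_lit 84), (nat_lit 1), (nat_lit 1)), ((nat_lit 129), (nat_lit 85), (nat_lit 1), (nat_lit 1)), ((nat_lit 133), (nat_lit 88), (nat_lit 1), (nat_lit 1)), ((nat_lit 134), (nat_lit 89), (nat_lit 1), (nat_lit 1)), ((nat_lit 139), (nat_lit 93), (nat_lit 1), (nat_lit 1)), ((nat_lit 140), (nat_lit 94), (nat_lit 1), (nat_lit 1)), ((nat_lit 145), (nat_lit 99), (nat_lit 1), (nat_lit 1)), ((nat_lit 146), (nat_lit 100), (nat_lit 1), (nat_lit 1)),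 ((nat_lit 150), (nat_lit 105), (nat_lit 1), (nat_lit 1)), ((nat_lit 151), (nat_lit 106), (nat_lit 1), (nat_lit 1)), ((nat_lit 154), (nat_lit 110), (nat_lit 1), (nat_lit 1)), ((nat_lit 155), (nat_lit 111), (nat_lit 1), (nat_lit 1)), ((nat_lit 157), (nat_lit 114), (nat_lit 1), (nat_lit 1)), ((nat_lit 158), (nat_lit 115), (nat_lit 1), (nat_lit 1)), ((nat_lit 159), (nat_lit 117), (nat_lit 1), (nat_lit 1)), ((nat_lit 160), (nat_lit 118), (nat_lit 1), (nat_lit 1)), ((nat_lit 183), (nat_lit 162), (nat_lit 1), (nat_lit 1)), ((nat_lit 193), (nat_lit 163), (nat_lit 1), (nat_lit 1)), ((nat_lit 199), (nat_lit 164), (nat_lit 1), (nat_lit 1)), ((nat_lit 202), (nat_lit 165), (nat_lit 1), (nat_lit 1)), ((nat_lit 203), (nat_lit 166), (nat_lit 1), (nat_lit 1)), ((nat_lit 209), (nat_lit 169), (nat_lit 1), (nat_lit 1)), ((nat_lit 212), (nat_lit 170), (nat_lit 1), (nat_lit 1)), ((nat_lit 213), (nat_lit 171), (nat_lit 1), (nat_lit 1)), ((nat_lit 216),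 (nat_lit 174), (nat_lit 1), (nat_lit 1)), ((nat_lit 217), (nat_lit 175), (nat_lit 1), (nat_lit 1)), ((nat_lit 218), (nat_lit 178), (nat_lit 1), (nat_lit 1)), ((nat_lit 221), (nat_lit 184), (nat_lit 1), (nat_lit 1)), ((nat_lit 222), (nat_lit 185), (nat_lit 1), (nat_lit 1)), ((nat_lit 223), (nat_lit 188), (nat_lit 1), (nat_lit 1)), ((nat_lit 224), (nat_lit 194), (nat_lit 1), (nat_lit 1)), ((nat_lit 225), (nat_lit 204), (nat_lit 1), (nat_lit 1)), ((nat_lit 238), (nat_lit 226), (nat_lit 1), (nat_lit 1)), ((nat_lit 239), (nat_lit 227), (nat_lit 1), (nat_lit 1))]) (.leaf [((nat_lit 0), (nat_lit 36), (nat_lit 1), (nat_lit 1)), ((nat_lit 3), (nat_lit 39), (nat_lit 1), (nat_lit 1)), ((nat_lit 4), (nat_lit 42), (nat_lit 1), (nat_lit 1)), ((nat_lit 5), (nat_lit 48), (nat_lit 1), (nat_lit 1)), ((nat_lit 6), (nat_lit 58), (nat_lit 1), (nat_lit 1)), ((nat_lit 11), (nat_lit 72), (nat_lit 1), (nat_lit 1)), ((nat_lit 12), (nat_lit 73), (nat_lit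 1), (nat_lit 1)), ((nat_lit 14), (nat_lit 80), (nat_lit 1), (nat_lit 1)), ((nat_lit 18), (nat_lit 100), (nat_lit 1), (nat_lit 1)), ((nat_lit 19), (nat_lit 101), (nat_lit 1), (nat_lit 1)), ((nat_lit 23), (nat_lit 106), (nat_lit 1), (nat_lit 1)), ((nat_lit 24), (nat_lit 107), (nat_lit 1), (nat_lit 1)), ((nat_lit 27), (nat_lit 111), (nat_lit 1), (nat_lit 1)), ((nat_lit 28), (nat_lit 112), (nat_lit 1), (nat_lit 1)), ((nat_lit 30), (nat_lit 115), (nat_lit 1), (nat_lit 1)), ((nat_lit 31), (nat_lit 116), (nat_lit 1), (nat_lit 1)), ((nat_lit 34), (nat_lit 120), (nat_lit 1), (nat_lit 1)), ((nat_lit 35), (nat_lit 122), (nat_lit 1), (nat_lit 1)), ((nat_lit 43), (nat_lit 141), (nat_lit 1), (nat_lit 1)), ((nat_lit 49), (nat_lit 142), (nat_lit 1), (nat_lit 1)), ((nat_lit 52), (nat_lit 143), (nat_lit 1), (nat_lit 1)), ((nat_lit 55), (nat_lit 146), (nat_lit 1), (nat_lit 1)), ((nat_lit 59), (nat_lit 147), (nat_lit 1), (nat_lit 1)), ((nat_lit 62),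 (nat_lit 148), (nat_lit 1), (nat_lit 1)), ((nat_lit 65), (nat_lit 151), (nat_lit 1), (nat_lit 1)), ((nat_lit 66), (nat_lit 152), (nat_lit 1), (nat_lit 1)), ((nat_lit 69), (nat_lit 155), (nat_lit 1), (nat_lit 1)), ((nat_lit 70), (nat_lit 158), (nat_lit 1), (nat_lit 1)), ((nat_lit 81), (nat_lit 169), (nat_lit 1), (nat_lit 1)), ((nat_lit 84), (nat_lit 170), (nat_lit 1), (nat_lit 1)), ((nat_lit 87), (nat_lit 173), (nat_lit 1), (nat_lit 1)), ((nat_lit 88), (nat_lit 174), (nat_lit 1), (nat_lit 1)), ((nat_lit 91), (nat_lit 177), (nat_lit 1), (nat_lit 1)), ((nat_lit 92), (nat_lit 180), (nat_lit 1), (nat_lit 1)), ((nat_lit 93), (nat_lit 184), (nat_lit 1), (nat_lit 1)), ((nat_lit 96), (nat_lit 187), (nat_lit 1), (nat_lit 1)), ((nat_lit 97), (nat_lit 190), (nat_lit 1), (nat_lit 1)), ((nat_lit 98), (nat_lit 196), (nat_lit 1), (nat_lit 1)), ((nat_lit 117), (nat_lit 204), (nat_lit 1), (nat_lit 1)), ((nat_lit 119), (nat_lit 205), (nat_lit 1),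 (nat_lit 1)), ((nat_lit 123), (nat_lit 208), (nat_lit 1), (nat_lit 1)), ((nat_lit 124), (nat_lit 209), (nat_lit 1), (nat_lit 1)), ((nat_lit 127), (nat_lit 211), (nat_lit 1), (nat_lit 1)), ((nat_lit 128), (nat_lit 212), (nat_lit 1), (nat_lit 1)), ((nat_lit 132), (nat_lit 215), (nat_lit 1), (nat_lit 1)), ((nat_lit 133), (nat_lit 216), (nat_lit 1), (nat_lit 1)), ((nat_lit 138), (nat_lit 220), (nat_lit 1), (nat_lit 1)), ((nat_lit 139), (nat_lit 221), (nat_lit 1), (nat_lit 1)), ((nat_lit 159), (nat_lit 225), (nat_lit 1), (nat_lit 1)), ((nat_lit 166), (nat_lit 227), (nat_lit 1), (nat_lit 1)), ((nat_lit 167), (nat_lit 228), (nat_lit 1), (nat_lit 1)), ((nat_lit 181), (nat_lit 233), (nat_lit 1), (nat_lit 1)), ((nat_lit 191), (nat_lit 234), (nat_lit 1), (nat_lit 1)), ((nat_lit 197), (nat_lit 235), (nat_lit 1), (nat_lit 1)), ((nat_lit 200), (nat_lit 236), (nat_lit 1), (nat_lit 1)), ((nat_lit 203), (nat_lit 239), (nat_lit 1), (nat_lit 1))])))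 (.node (.node (.leaf [((nat_lit 24), (nat_lit 0), (nat_lit 1), (nat_lit 1)), ((nat_lit 25), (nat_lit 1), (nat_lit 1), (nat_lit 1)), ((nat_lit 35), (nat_lit 5), (nat_lit 1), (nat_lit 1)), ((nat_lit 45), (nat_lit 7), (nat_lit 1), (nat_lit 1)), ((nat_lit 61), (nat_lit 9), (nat_lit 1), (nat_lit 1)), ((nat_lit 64), (nat_lit 10), (nat_lit 1), (nat_lit 1)), ((nat_lit 65), (nat_lit 11), (nat_lit 1), (nat_lit 1)), ((nat_lit 83), (nat_lit 16), (nat_lit 1), (nat_lit 1)), ((nat_lit 86), (nat_lit 17), (nat_lit 1), (nat_lit 1)), ((nat_lit 87), (nat_lit 18), (nat_lit 1), (nat_lit 1)), ((nat_lit 95), (nat_lit 26), (nat_lit 1), (nat_lit 1)), ((nat_lit 96), (nat_lit 27), (nat_lit 1), (nat_lit 1)), ((nat_lit 97), (nat_lit 30), (nat_lit 1), (nat_lit 1)), ((nat_lit 107), (nat_lit 36), (nat_lit 1), (nat_lit 1)), ((nat_lit 108), (nat_lit 37), (nat_lit 1), (nat_lit 1)), ((nat_lit 109), (nat_lit 40), (nat_lit 1), (nat_lit 1)), ((nat_lit 121), (nat_lit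 47), (nat_lit 1), (nat_lit 1)), ((nat_lit 122), (nat_lit 48), (nat_lit 1), (nat_lit 1)), ((nat_lit 124), (nat_lit 49), (nat_lit 1), (nat_lit 1)), ((nat_lit 125), (nat_lit 50), (nat_lit 1), (nat_lit 1)), ((nat_lit 128), (nat_lit 52), (nat_lit 1), (nat_lit 1)), ((nat_lit 129), (nat_lit 53), (nat_lit 1), (nat_lit 1)), ((nat_lit 135), (nat_lit 56), (nat_lit 1), (nat_lit 1)), ((nat_lit 139), (nat_lit 66), (nat_lit 1), (nat_lit 1)), ((nat_lit 140), (nat_lit 67), (nat_lit 1), (nat_lit 1)), ((nat_lit 150), (nat_lit 71), (nat_lit 1), (nat_lit 1)), ((nat_lit 151), (nat_lit 72), (nat_lit 1), (nat_lit 1)), ((nat_lit 161), (nat_lit 76), (nat_lit 1), (nat_lit 1)), ((nat_lit 163), (nat_lit 78), (nat_lit 1), (nat_lit 1)), ((nat_lit 167), (nat_lit 88), (nat_lit 1), (nat_lit 1)), ((nat_lit 168), (nat_lit 89), (nat_lit 1), (nat_lit 1)), ((nat_lit 172), (nat_lit 99), (nat_lit 1), (nat_lit 1)), ((nat_lit 173), (nat_lit 100), (nat_lit 1), (nat_lit 1)),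 ((nat_lit 183), (nat_lit 104), (nat_lit 1), (nat_lit 1)), ((nat_lit 186), (nat_lit 110), (nat_lit 1), (nat_lit 1)), ((nat_lit 187), (nat_lit 111), (nat_lit 1), (nat_lit 1)), ((nat_lit 189), (nat_lit 114), (nat_lit 1), (nat_lit 1)), ((nat_lit 190), (nat_lit 115), (nat_lit 1), (nat_lit 1)), ((nat_lit 191), (nat_lit 117), (nat_lit 1), (nat_lit 1)), ((nat_lit 192), (nat_lit 118), (nat_lit 1), (nat_lit 1)), ((nat_lit 199), (nat_lit 130), (nat_lit 1), (nat_lit 1)), ((nat_lit 202), (nat_lit 131), (nat_lit 1), (nat_lit 1)), ((nat_lit 203), (nat_lit 132), (nat_lit 1), (nat_lit 1)), ((nat_lit 209), (nat_lit 142), (nat_lit 1), (nat_lit 1)), ((nat_lit 212), (nat_lit 143), (nat_lit 1), (nat_lit 1)), ((nat_lit 213), (nat_lit 144), (nat_lit 1), (nat_lit 1)), ((nat_lit 221), (nat_lit 152), (nat_lit 1), (nat_lit 1)), ((nat_lit 222), (nat_lit 153), (nat_lit 1), (nat_lit 1)), ((nat_lit 223), (nat_lit 156), (nat_lit 1), (nat_lit 1)), ((nat_lit 228),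 (nat_lit 174), (nat_lit 1), (nat_lit 1)), ((nat_lit 229), (nat_lit 175), (nat_lit 1), (nat_lit 1)), ((nat_lit 230), (nat_lit 178), (nat_lit 1), (nat_lit 1)), ((nat_lit 232), (nat_lit 194), (nat_lit 1), (nat_lit 1)), ((nat_lit 234), (nat_lit 204), (nat_lit 1), (nat_lit 1)), ((nat_lit 238), (nat_lit 214), (nat_lit 1), (nat_lit 1)), ((nat_lit 239), (nat_lit 215), (nat_lit 1), (nat_lit 1))]) (.leaf [((nat_lit 3), (nat_lit 16), (nat_lit 1), (nat_lit 1)), ((nat_lit 4), (nat_lit 17), (nat_lit 1), (nat_lit 1)), ((nat_lit 6), (nat_lit 26), (nat_lit 1), (nat_lit 1)), ((nat_lit 8), (nat_lit 36), (nat_lit 1), (nat_lit 1)), ((nat_lit 11), (nat_lit 46), (nat_lit 1), (nat_lit 1)), ((nat_lit 12), (nat_lit 47), (nat_lit 1), (nat_lit 1)), ((nat_lit 13), (nat_lit 48), (nat_lit 1), (nat_lit 1)), ((nat_lit 23), (nat_lit 78), (nat_lit 1), (nat_lit 1)), ((nat_lit 24), (nat_lit 79), (nat_lit 1), (nat_lit 1)), ((nat_lit 25), (nat_lit 80), (nat_lit 1),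 (nat_lit 1)), ((nat_lit 33), (nat_lit 88), (nat_lit 1), (nat_lit 1)), ((nat_lit 34), (nat_lit 89), (nat_lit 1), (nat_lit 1)), ((nat_lit 35), (nat_lit 90), (nat_lit 1), (nat_lit 1)), ((nat_lit 43), (nat_lit 99), (nat_lit 1), (nat_lit 1)), ((nat_lit 44), (nat_lit 100), (nat_lit 1), (nat_lit 1)), ((nat_lit 45), (nat_lit 101), (nat_lit 1), (nat_lit 1)), ((nat_lit 55), (nat_lit 104), (nat_lit 1), (nat_lit 1)), ((nat_lit 59), (nat_lit 110), (nat_lit 1), (nat_lit 1)), ((nat_lit 60), (nat_lit 111), (nat_lit 1), (nat_lit 1)), ((nat_lit 61), (nat_lit 112), (nat_lit 1), (nat_lit 1)), ((nat_lit 62), (nat_lit 114), (nat_lit 1), (nat_lit 1)), ((nat_lit 63), (nat_lit 115), (nat_lit 1), (nat_lit 1)), ((nat_lit 64), (nat_lit 116), (nat_lit 1), (nat_lit 1)), ((nat_lit 69), (nat_lit 130), (nat_lit 1), (nat_lit 1)), ((nat_lit 70), (nat_lit 131), (nat_lit 1), (nat_lit 1)), ((nat_lit 74), (nat_lit 142), (nat_lit 1), (nat_lit 1)), ((nat_lit 75), (nat_lit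 143), (nat_lit 1), (nat_lit 1)), ((nat_lit 77), (nat_lit 152), (nat_lit 1), (nat_lit 1)), ((nat_lit 87), (nat_lit 162), (nat_lit 1), (nat_lit 1)), ((nat_lit 96), (nat_lit 164), (nat_lit 1), (nat_lit 1)), ((nat_lit 97), (nat_lit 165), (nat_lit 1), (nat_lit 1)), ((nat_lit 108), (nat_lit 169), (nat_lit 1), (nat_lit 1)), ((nat_lit 109), (nat_lit 170), (nat_lit 1), (nat_lit 1)), ((nat_lit 123), (nat_lit 175), (nat_lit 1), (nat_lit 1)), ((nat_lit 124), (nat_lit 176), (nat_lit 1), (nat_lit 1)), ((nat_lit 125), (nat_lit 177), (nat_lit 1), (nat_lit 1)), ((nat_lit 127), (nat_lit 178), (nat_lit 1), (nat_lit 1)), ((nat_lit 128), (nat_lit 179), (nat_lit 1), (nat_lit 1)), ((nat_lit 129), (nat_lit 180), (nat_lit 1), (nat_lit 1)), ((nat_lit 135), (nat_lit 184), (nat_lit 1), (nat_lit 1)), ((nat_lit 138), (nat_lit 194), (nat_lit 1), (nat_lit 1)), ((nat_lit 139), (nat_lit 195), (nat_lit 1), (nat_lit 1)), ((nat_lit 140), (nat_lit 196), (nat_lit 1),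 (nat_lit 1)), ((nat_lit 149), (nat_lit 204), (nat_lit 1), (nat_lit 1)), ((nat_lit 150), (nat_lit 205), (nat_lit 1), (nat_lit 1)), ((nat_lit 151), (nat_lit 206), (nat_lit 1), (nat_lit 1)), ((nat_lit 159), (nat_lit 214), (nat_lit 1), (nat_lit 1)), ((nat_lit 160), (nat_lit 215), (nat_lit 1), (nat_lit 1)), ((nat_lit 161), (nat_lit 216), (nat_lit 1), (nat_lit 1)), ((nat_lit 191), (nat_lit 226), (nat_lit 1), (nat_lit 1)), ((nat_lit 192), (nat_lit 227), (nat_lit 1), (nat_lit 1)), ((nat_lit 193), (nat_lit 228), (nat_lit 1), (nat_lit 1)), ((nat_lit 203), (nat_lit 231), (nat_lit 1), (nat_lit 1)), ((nat_lit 213), (nat_lit 233), (nat_lit 1), (nat_lit 1)), ((nat_lit 222), (nat_lit 235), (nat_lit 1), (nat_lit 1)), ((nat_lit 223), (nat_lit 236), (nat_lit 1), (nat_lit 1))])) (.node (.leaf [((nat_lit 4), (nat_lit 0), (nat_lit 1), (nat_lit 1)), ((nat_lit 13), (nat_lit 9), (nat_lit 1), (nat_lit 1)), ((nat_lit 20), (nat_lit 16), (nat_lit 1), (nat_lit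 1)), ((nat_lit 25), (nat_lit 21), (nat_lit 1), (nat_lit 1)), ((nat_lit 32), (nat_lit 26), (nat_lit 1), (nat_lit 1)), ((nat_lit 34), (nat_lit 27), (nat_lit 1), (nat_lit 1)), ((nat_lit 35), (nat_lit 28), (nat_lit 1), (nat_lit 1)), ((nat_lit 42), (nat_lit 36), (nat_lit 1), (nat_lit 1)), ((nat_lit 44), (nat_lit 37), (nat_lit 1), (nat_lit 1)), ((nat_lit 45), (nat_lit 38), (nat_lit 1), (nat_lit 1)), ((nat_lit 53), (nat_lit 46), (nat_lit 1), (nat_lit 1)), ((nat_lit 54), (nat_lit 47), (nat_lit 1), (nat_lit 1)), ((nat_lit 55), (nat_lit 49), (nat_lit 1), (nat_lit 1)), ((nat_lit 63), (nat_lit 56), (nat_lit 1), (nat_lit 1)), ((nat_lit 64), (nat_lit 57), (nat_lit 1), (nat_lit 1)), ((nat_lit 65), (nat_lit 59), (nat_lit 1), (nat_lit 1)), ((nat_lit 70), (nat_lit 66), (nat_lit 1), (nat_lit 1)), ((nat_lit 75), (nat_lit 71), (nat_lit 1), (nat_lit 1)), ((nat_lit 85), (nat_lit 78), (nat_lit 1), (nat_lit 1)), ((nat_lit 86), (nat_lit 79), (nat_lit 1),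 (nat_lit 1)), ((nat_lit 87), (nat_lit 81), (nat_lit 1), (nat_lit 1)), ((nat_lit 92), (nat_lit 88), (nat_lit 1), (nat_lit 1)), ((nat_lit 97), (nat_lit 93), (nat_lit 1), (nat_lit 1)), ((nat_lit 103), (nat_lit 99), (nat_lit 1), (nat_lit 1)), ((nat_lit 109), (nat_lit 105), (nat_lit 1), (nat_lit 1)), ((nat_lit 120), (nat_lit 111), (nat_lit 1), (nat_lit 1)), ((nat_lit 122), (nat_lit 112), (nat_lit 1), (nat_lit 1)), ((nat_lit 125), (nat_lit 113), (nat_lit 1), (nat_lit 1)), ((nat_lit 126), (nat_lit 114), (nat_lit 1), (nat_lit 1)), ((nat_lit 127), (nat_lit 117), (nat_lit 1), (nat_lit 1)), ((nat_lit 128), (nat_lit 119), (nat_lit 1), (nat_lit 1)), ((nat_lit 134), (nat_lit 130), (nat_lit 1), (nat_lit 1)), ((nat_lit 140), (nat_lit 136), (nat_lit 1), (nat_lit 1)), ((nat_lit 146), (nat_lit 142), (nat_lit 1), (nat_lit 1)), ((nat_lit 151), (nat_lit 147), (nat_lit 1), (nat_lit 1)), ((nat_lit 158), (nat_lit 152), (nat_lit 1), (nat_lit 1)), ((nat_lit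 160), (nat_lit 153), (nat_lit 1), (nat_lit 1)), ((nat_lit 161), (nat_lit 154), (nat_lit 1), (nat_lit 1)), ((nat_lit 168), (nat_lit 164), (nat_lit 1), (nat_lit 1)), ((nat_lit 173), (nat_lit 169), (nat_lit 1), (nat_lit 1)), ((nat_lit 180), (nat_lit 174), (nat_lit 1), (nat_lit 1)), ((nat_lit 182), (nat_lit 175), (nat_lit 1), (nat_lit 1)), ((nat_lit 183), (nat_lit 176), (nat_lit 1), (nat_lit 1)), ((nat_lit 190), (nat_lit 184), (nat_lit 1), (nat_lit 1)), ((nat_lit 192), (nat_lit 185), (nat_lit 1), (nat_lit 1)), ((nat_lit 193), (nat_lit 186), (nat_lit 1), (nat_lit 1)), ((nat_lit 201), (nat_lit 194), (nat_lit 1), (nat_lit 1)), ((nat_lit 202), (nat_lit 195), (nat_lit 1), (nat_lit 1)), ((nat_lit 203), (nat_lit 197), (nat_lit 1), (nat_lit 1)), ((nat_lit 211), (nat_lit 204), (nat_lit 1), (nat_lit 1)), ((nat_lit 212), (nat_lit 205), (nat_lit 1), (nat_lit 1)), ((nat_lit 213), (nat_lit 207), (nat_lit 1), (nat_lit 1)), ((nat_lit 218), (nat_lit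 214), (nat_lit 1), (nat_lit 1)), ((nat_lit 223), (nat_lit 219), (nat_lit 1), (nat_lit 1)), ((nat_lit 230), (nat_lit 226), (nat_lit 1), (nat_lit 1)), ((nat_lit 239), (nat_lit 235), (nat_lit 1), (nat_lit 1))]) (.leaf [((nat_lit 0), (nat_lit 119), (nat_lit 1), (nat_lit 1)), ((nat_lit 2), (nat_lit 121), (nat_lit 1), (nat_lit 1)), ((nat_lit 3), (nat_lit 124), (nat_lit 1), (nat_lit 1)), ((nat_lit 4), (nat_lit 128), (nat_lit 1), (nat_lit 1)), ((nat_lit 5), (nat_lit 133), (nat_lit 1), (nat_lit 1)), ((nat_lit 6), (nat_lit 139), (nat_lit 1), (nat_lit 1)), ((nat_lit 7), (nat_lit 145), (nat_lit 1), (nat_lit 1)), ((nat_lit 8), (nat_lit 150), (nat_lit 1), (nat_lit 1)), ((nat_lit 9), (nat_lit 154), (nat_lit 1), (nat_lit 1)), ((nat_lit 10), (nat_lit 157), (nat_lit 1), (nat_lit 1)), ((nat_lit 11), (nat_lit 159), (nat_lit 1), (nat_lit 1)), ((nat_lit 13), (nat_lit 161), (nat_lit 1), (nat_lit 1)), ((nat_lit 14), (nat_lit 167), (nat_lit 1), (nat_lit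 1)), ((nat_lit 15), (nat_lit 172), (nat_lit 1), (nat_lit 1)), ((nat_lit 16), (nat_lit 176), (nat_lit 1), (nat_lit 1)), ((nat_lit 17), (nat_lit 179), (nat_lit 1), (nat_lit 1)), ((nat_lit 18), (nat_lit 181), (nat_lit 1), (nat_lit 1)), ((nat_lit 20), (nat_lit 183), (nat_lit 1), (nat_lit 1)), ((nat_lit 21), (nat_lit 186), (nat_lit 1), (nat_lit 1)), ((nat_lit 22), (nat_lit 189), (nat_lit 1), (nat_lit 1)), ((nat_lit 23), (nat_lit 191), (nat_lit 1), (nat_lit 1)), ((nat_lit 25), (nat_lit 193), (nat_lit 1), (nat_lit 1)), ((nat_lit 26), (nat_lit 195), (nat_lit 1), (nat_lit 1)), ((nat_lit 27), (nat_lit 197), (nat_lit 1), (nat_lit 1)), ((nat_lit 29), (nat_lit 199), (nat_lit 1), (nat_lit 1)), ((nat_lit 30), (nat_lit 200), (nat_lit 1), (nat_lit 1)), ((nat_lit 32), (nat_lit 202), (nat_lit 1), (nat_lit 1)), ((nat_lit 34), (nat_lit 203), (nat_lit 1), (nat_lit 1)), ((nat_lit 36), (nat_lit 205), (nat_lit 1), (nat_lit 1)), ((nat_lit 37), (nat_lit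 207), (nat_lit 1), (nat_lit 1)), ((nat_lit 39), (nat_lit 209), (nat_lit 1), (nat_lit 1)), ((nat_lit 40), (nat_lit 210), (nat_lit 1), (nat_lit 1)), ((nat_lit 42), (nat_lit 212), (nat_lit 1), (nat_lit 1)), ((nat_lit 44), (nat_lit 213), (nat_lit 1), (nat_lit 1)), ((nat_lit 46), (nat_lit 214), (nat_lit 1), (nat_lit 1)), ((nat_lit 48), (nat_lit 216), (nat_lit 1), (nat_lit 1)), ((nat_lit 50), (nat_lit 217), (nat_lit 1), (nat_lit 1)), ((nat_lit 53), (nat_lit 218), (nat_lit 1), (nat_lit 1)), ((nat_lit 56), (nat_lit 219), (nat_lit 1), (nat_lit 1)), ((nat_lit 58), (nat_lit 221), (nat_lit 1), (nat_lit 1)), ((nat_lit 60), (nat_lit 222), (nat_lit 1), (nat_lit 1)), ((nat_lit 63), (nat_lit 223), (nat_lit 1), (nat_lit 1)), ((nat_lit 67), (nat_lit 224), (nat_lit 1), (nat_lit 1)), ((nat_lit 72), (nat_lit 225), (nat_lit 1), (nat_lit 1)), ((nat_lit 78), (nat_lit 226), (nat_lit 1), (nat_lit 1)), ((nat_lit 80), (nat_lit 228), (nat_lit 1), (nat_lit 1)),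 ((nat_lit 82), (nat_lit 229), (nat_lit 1), (nat_lit 1)), ((nat_lit 85), (nat_lit 230), (nat_lit 1), (nat_lit 1)), ((nat_lit 89), (nat_lit 231), (nat_lit 1), (nat_lit 1)), ((nat_lit 94), (nat_lit 232), (nat_lit 1), (nat_lit 1)), ((nat_lit 100), (nat_lit 233), (nat_lit 1), (nat_lit 1)), ((nat_lit 106), (nat_lit 234), (nat_lit 1), (nat_lit 1)), ((nat_lit 111), (nat_lit 235), (nat_lit 1), (nat_lit 1)), ((nat_lit 115), (nat_lit 236), (nat_lit 1), (nat_lit 1)), ((nat_lit 118), (nat_lit 237), (nat_lit 1), (nat_lit 1)), ((nat_lit 120), (nat_lit 239), (nat_lit 1), (nat_lit 1))])))) (.node (.node (.node (.leaf [((nat_lit 38), (nat_lit 0), (nat_lit 1), (nat_lit 1)), ((nat_lit 39), (nat_lit 1), (nat_lit 1), (nat_lit 1)), ((nat_lit 45), (nat_lit 4), (nat_lit 1), (nat_lit 1)), ((nat_lit 51), (nat_lit 5), (nat_lit 1), (nat_lit 1)), ((nat_lit 61), (nat_lit 6), (nat_lit 1), (nat_lit 1)), ((nat_lit 73), (nat_lit 10), (nat_lit 1), (nat_lit 1)), ((nat_lit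 74), (nat_lit 11), (nat_lit 1), (nat_lit 1)), ((nat_lit 83), (nat_lit 14), (nat_lit 1), (nat_lit 1)), ((nat_lit 101), (nat_lit 17), (nat_lit 1), (nat_lit 1)), ((nat_lit 102), (nat_lit 18), (nat_lit 1), (nat_lit 1)), ((nat_lit 107), (nat_lit 22), (nat_lit 1), (nat_lit 1)), ((nat_lit 108), (nat_lit 23), (nat_lit 1), (nat_lit 1)), ((nat_lit 112), (nat_lit 26), (nat_lit 1), (nat_lit 1)), ((nat_lit 113), (nat_lit 27), (nat_lit 1), (nat_lit 1)), ((nat_lit 121), (nat_lit 31), (nat_lit 1), (nat_lit 1)), ((nat_lit 122), (nat_lit 32), (nat_lit 1), (nat_lit 1)), ((nat_lit 124), (nat_lit 33), (nat_lit 1), (nat_lit 1)), ((nat_lit 125), (nat_lit 34), (nat_lit 1), (nat_lit 1)), ((nat_lit 141), (nat_lit 40), (nat_lit 1), (nat_lit 1)), ((nat_lit 142), (nat_lit 46), (nat_lit 1), (nat_lit 1)), ((nat_lit 145), (nat_lit 52), (nat_lit 1), (nat_lit 1)), ((nat_lit 146), (nat_lit 53), (nat_lit 1), (nat_lit 1)), ((nat_lit 147), (nat_lit 56), (nat_lit 1),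 (nat_lit 1)), ((nat_lit 150), (nat_lit 62), (nat_lit 1), (nat_lit 1)), ((nat_lit 151), (nat_lit 63), (nat_lit 1), (nat_lit 1)), ((nat_lit 154), (nat_lit 66), (nat_lit 1), (nat_lit 1)), ((nat_lit 155), (nat_lit 67), (nat_lit 1), (nat_lit 1)), ((nat_lit 161), (nat_lit 70), (nat_lit 1), (nat_lit 1)), ((nat_lit 169), (nat_lit 78), (nat_lit 1), (nat_lit 1)), ((nat_lit 172), (nat_lit 84), (nat_lit 1), (nat_lit 1)), ((nat_lit 173), (nat_lit 85), (nat_lit 1), (nat_lit 1)), ((nat_lit 176), (nat_lit 88), (nat_lit 1), (nat_lit 1)), ((nat_lit 177), (nat_lit 89), (nat_lit 1), (nat_lit 1)), ((nat_lit 183), (nat_lit 92), (nat_lit 1), (nat_lit 1)), ((nat_lit 186), (nat_lit 93), (nat_lit 1), (nat_lit 1)), ((nat_lit 187), (nat_lit 94), (nat_lit 1), (nat_lit 1)), ((nat_lit 193), (nat_lit 97), (nat_lit 1), (nat_lit 1)), ((nat_lit 199), (nat_lit 98), (nat_lit 1), (nat_lit 1)), ((nat_lit 205), (nat_lit 114), (nat_lit 1), (nat_lit 1)), ((nat_lit 206),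 (nat_lit 115), (nat_lit 1), (nat_lit 1)), ((nat_lit 207), (nat_lit 117), (nat_lit 1), (nat_lit 1)), ((nat_lit 208), (nat_lit 118), (nat_lit 1), (nat_lit 1)), ((nat_lit 212), (nat_lit 126), (nat_lit 1), (nat_lit 1)), ((nat_lit 213), (nat_lit 127), (nat_lit 1), (nat_lit 1)), ((nat_lit 216), (nat_lit 131), (nat_lit 1), (nat_lit 1)), ((nat_lit 217), (nat_lit 132), (nat_lit 1), (nat_lit 1)), ((nat_lit 221), (nat_lit 137), (nat_lit 1), (nat_lit 1)), ((nat_lit 222), (nat_lit 138), (nat_lit 1), (nat_lit 1)), ((nat_lit 225), (nat_lit 156), (nat_lit 1), (nat_lit 1)), ((nat_lit 228), (nat_lit 165), (nat_lit 1), (nat_lit 1)), ((nat_lit 229), (nat_lit 166), (nat_lit 1), (nat_lit 1)), ((nat_lit 233), (nat_lit 178), (nat_lit 1), (nat_lit 1)), ((nat_lit 234), (nat_lit 188), (nat_lit 1), (nat_lit 1)), ((nat_lit 235), (nat_lit 194), (nat_lit 1), (nat_lit 1)), ((nat_lit 238), (nat_lit 200), (nat_lit 1), (nat_lit 1)), ((nat_lit 239), (nat_lit 201),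 (nat_lit 1), (nat_lit 1))]) (.leaf [((nat_lit 0), (nat_lit 10), (nat_lit 1), (nat_lit 1)), ((nat_lit 3), (nat_lit 13), (nat_lit 1), (nat_lit 1)), ((nat_lit 14), (nat_lit 32), (nat_lit 1), (nat_lit 1)), ((nat_lit 15), (nat_lit 42), (nat_lit 1), (nat_lit 1)), ((nat_lit 16), (nat_lit 48), (nat_lit 1), (nat_lit 1)), ((nat_lit 18), (nat_lit 53), (nat_lit 1), (nat_lit 1)), ((nat_lit 19), (nat_lit 54), (nat_lit 1), (nat_lit 1)), ((nat_lit 21), (nat_lit 58), (nat_lit 1), (nat_lit 1)), ((nat_lit 23), (nat_lit 63), (nat_lit 1), (nat_lit 1)), ((nat_lit 24), (nat_lit 64), (nat_lit 1), (nat_lit 1)), ((nat_lit 27), (nat_lit 67), (nat_lit 1), (nat_lit 1)), ((nat_lit 28), (nat_lit 68), (nat_lit 1), (nat_lit 1)), ((nat_lit 33), (nat_lit 70), (nat_lit 1), (nat_lit 1)), ((nat_lit 37), (nat_lit 72), (nat_lit 1), (nat_lit 1)), ((nat_lit 38), (nat_lit 73), (nat_lit 1), (nat_lit 1)), ((nat_lit 43), (nat_lit 75), (nat_lit 1), (nat_lit 1)), ((nat_lit 49),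 (nat_lit 76), (nat_lit 1), (nat_lit 1)), ((nat_lit 59), (nat_lit 77), (nat_lit 1), (nat_lit 1)), ((nat_lit 78), (nat_lit 115), (nat_lit 1), (nat_lit 1)), ((nat_lit 79), (nat_lit 116), (nat_lit 1), (nat_lit 1)), ((nat_lit 82), (nat_lit 120), (nat_lit 1), (nat_lit 1)), ((nat_lit 83), (nat_lit 122), (nat_lit 1), (nat_lit 1)), ((nat_lit 84), (nat_lit 126), (nat_lit 1), (nat_lit 1)), ((nat_lit 87), (nat_lit 129), (nat_lit 1), (nat_lit 1)), ((nat_lit 88), (nat_lit 131), (nat_lit 1), (nat_lit 1)), ((nat_lit 91), (nat_lit 134), (nat_lit 1), (nat_lit 1)), ((nat_lit 93), (nat_lit 137), (nat_lit 1), (nat_lit 1)), ((nat_lit 96), (nat_lit 140), (nat_lit 1), (nat_lit 1)), ((nat_lit 99), (nat_lit 143), (nat_lit 1), (nat_lit 1)), ((nat_lit 102), (nat_lit 146), (nat_lit 1), (nat_lit 1)), ((nat_lit 105), (nat_lit 148), (nat_lit 1), (nat_lit 1)), ((nat_lit 108), (nat_lit 151), (nat_lit 1), (nat_lit 1)), ((nat_lit 110), (nat_lit 152), (nat_lit 1),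 (nat_lit 1)), ((nat_lit 113), (nat_lit 155), (nat_lit 1), (nat_lit 1)), ((nat_lit 117), (nat_lit 156), (nat_lit 1), (nat_lit 1)), ((nat_lit 119), (nat_lit 157), (nat_lit 1), (nat_lit 1)), ((nat_lit 123), (nat_lit 160), (nat_lit 1), (nat_lit 1)), ((nat_lit 124), (nat_lit 161), (nat_lit 1), (nat_lit 1)), ((nat_lit 162), (nat_lit 180), (nat_lit 1), (nat_lit 1)), ((nat_lit 163), (nat_lit 190), (nat_lit 1), (nat_lit 1)), ((nat_lit 164), (nat_lit 196), (nat_lit 1), (nat_lit 1)), ((nat_lit 166), (nat_lit 201), (nat_lit 1), (nat_lit 1)), ((nat_lit 167), (nat_lit 202), (nat_lit 1), (nat_lit 1)), ((nat_lit 169), (nat_lit 206), (nat_lit 1), (nat_lit 1)), ((nat_lit 171), (nat_lit 211), (nat_lit 1), (nat_lit 1)), ((nat_lit 172), (nat_lit 212), (nat_lit 1), (nat_lit 1)), ((nat_lit 175), (nat_lit 215), (nat_lit 1), (nat_lit 1)), ((nat_lit 176), (nat_lit 216), (nat_lit 1), (nat_lit 1)), ((nat_lit 181), (nat_lit 218), (nat_lit 1), (nat_lit 1)),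 ((nat_lit 185), (nat_lit 220), (nat_lit 1), (nat_lit 1)), ((nat_lit 186), (nat_lit 221), (nat_lit 1), (nat_lit 1)), ((nat_lit 191), (nat_lit 223), (nat_lit 1), (nat_lit 1)), ((nat_lit 197), (nat_lit 224), (nat_lit 1), (nat_lit 1)), ((nat_lit 207), (nat_lit 225), (nat_lit 1), (nat_lit 1)), ((nat_lit 226), (nat_lit 236), (nat_lit 1), (nat_lit 1)), ((nat_lit 229), (nat_lit 239), (nat_lit 1), (nat_lit 1))])) (.node (.leaf [((nat_lit 7), (nat_lit 1), (nat_lit 1), (nat_lit 1)), ((nat_lit 12), (nat_lit 6), (nat_lit 1), (nat_lit 1)), ((nat_lit 19), (nat_lit 14), (nat_lit 1), (nat_lit 1)), ((nat_lit 38), (nat_lit 21), (nat_lit 1), (nat_lit 1)), ((nat_lit 41), (nat_lit 22), (nat_lit 1), (nat_lit 1)), ((nat_lit 43), (nat_lit 23), (nat_lit 1), (nat_lit 1)), ((nat_lit 45), (nat_lit 25), (nat_lit 1), (nat_lit 1)), ((nat_lit 47), (nat_lit 26), (nat_lit 1), (nat_lit 1)), ((nat_lit 49), (nat_lit 27), (nat_lit 1), (nat_lit 1)), ((nat_lit 51), (nat_lit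 29), (nat_lit 1), (nat_lit 1)), ((nat_lit 52), (nat_lit 30), (nat_lit 1), (nat_lit 1)), ((nat_lit 54), (nat_lit 32), (nat_lit 1), (nat_lit 1)), ((nat_lit 55), (nat_lit 34), (nat_lit 1), (nat_lit 1)), ((nat_lit 71), (nat_lit 56), (nat_lit 1), (nat_lit 1)), ((nat_lit 73), (nat_lit 58), (nat_lit 1), (nat_lit 1)), ((nat_lit 74), (nat_lit 60), (nat_lit 1), (nat_lit 1)), ((nat_lit 75), (nat_lit 63), (nat_lit 1), (nat_lit 1)), ((nat_lit 76), (nat_lit 67), (nat_lit 1), (nat_lit 1)), ((nat_lit 99), (nat_lit 78), (nat_lit 1), (nat_lit 1)), ((nat_lit 101), (nat_lit 80), (nat_lit 1), (nat_lit 1)), ((nat_lit 102), (nat_lit 82), (nat_lit 1), (nat_lit 1)), ((nat_lit 103), (nat_lit 85), (nat_lit 1), (nat_lit 1)), ((nat_lit 104), (nat_lit 89), (nat_lit 1), (nat_lit 1)), ((nat_lit 119), (nat_lit 93), (nat_lit 1), (nat_lit 1)), ((nat_lit 121), (nat_lit 95), (nat_lit 1), (nat_lit 1)), ((nat_lit 124), (nat_lit 96), (nat_lit 1), (nat_lit 1)), ((nat_lit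 128), (nat_lit 97), (nat_lit 1), (nat_lit 1)), ((nat_lit 133), (nat_lit 98), (nat_lit 1), (nat_lit 1)), ((nat_lit 141), (nat_lit 106), (nat_lit 1), (nat_lit 1)), ((nat_lit 142), (nat_lit 111), (nat_lit 1), (nat_lit 1)), ((nat_lit 143), (nat_lit 115), (nat_lit 1), (nat_lit 1)), ((nat_lit 144), (nat_lit 118), (nat_lit 1), (nat_lit 1)), ((nat_lit 146), (nat_lit 120), (nat_lit 1), (nat_lit 1)), ((nat_lit 150), (nat_lit 135), (nat_lit 1), (nat_lit 1)), ((nat_lit 154), (nat_lit 136), (nat_lit 1), (nat_lit 1)), ((nat_lit 157), (nat_lit 137), (nat_lit 1), (nat_lit 1)), ((nat_lit 159), (nat_lit 138), (nat_lit 1), (nat_lit 1)), ((nat_lit 161), (nat_lit 140), (nat_lit 1), (nat_lit 1)), ((nat_lit 172), (nat_lit 163), (nat_lit 1), (nat_lit 1)), ((nat_lit 176), (nat_lit 164), (nat_lit 1), (nat_lit 1)), ((nat_lit 179), (nat_lit 165), (nat_lit 1), (nat_lit 1)), ((nat_lit 181), (nat_lit 166), (nat_lit 1), (nat_lit 1)), ((nat_lit 183), (nat_lit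 168), (nat_lit 1), (nat_lit 1)), ((nat_lit 205), (nat_lit 184), (nat_lit 1), (nat_lit 1)), ((nat_lit 207), (nat_lit 185), (nat_lit 1), (nat_lit 1)), ((nat_lit 209), (nat_lit 187), (nat_lit 1), (nat_lit 1)), ((nat_lit 210), (nat_lit 188), (nat_lit 1), (nat_lit 1)), ((nat_lit 212), (nat_lit 190), (nat_lit 1), (nat_lit 1)), ((nat_lit 213), (nat_lit 192), (nat_lit 1), (nat_lit 1)), ((nat_lit 214), (nat_lit 194), (nat_lit 1), (nat_lit 1)), ((nat_lit 216), (nat_lit 196), (nat_lit 1), (nat_lit 1)), ((nat_lit 217), (nat_lit 198), (nat_lit 1), (nat_lit 1)), ((nat_lit 218), (nat_lit 201), (nat_lit 1), (nat_lit 1)), ((nat_lit 225), (nat_lit 220), (nat_lit 1), (nat_lit 1)), ((nat_lit 233), (nat_lit 227), (nat_lit 1), (nat_lit 1)), ((nat_lit 238), (nat_lit 232), (nat_lit 1), (nat_lit 1))]) (.leaf [((nat_lit 0), (nat_lit 59), (nat_lit 1), (nat_lit 1)), ((nat_lit 1), (nat_lit 60), (nat_lit 1), (nat_lit 1)), ((nat_lit 2), (nat_lit 61), (nat_lit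 1), (nat_lit 1)), ((nat_lit 4), (nat_lit 65), (nat_lit 1), (nat_lit 1)), ((nat_lit 5), (nat_lit 69), (nat_lit 1), (nat_lit 1)), ((nat_lit 7), (nat_lit 74), (nat_lit 1), (nat_lit 1)), ((nat_lit 10), (nat_lit 77), (nat_lit 1), (nat_lit 1)), ((nat_lit 14), (nat_lit 96), (nat_lit 1), (nat_lit 1)), ((nat_lit 15), (nat_lit 108), (nat_lit 1), (nat_lit 1)), ((nat_lit 16), (nat_lit 113), (nat_lit 1), (nat_lit 1)), ((nat_lit 18), (nat_lit 123), (nat_lit 1), (nat_lit 1)), ((nat_lit 19), (nat_lit 124), (nat_lit 1), (nat_lit 1)), ((nat_lit 20), (nat_lit 125), (nat_lit 1), (nat_lit 1)), ((nat_lit 22), (nat_lit 135), (nat_lit 1), (nat_lit 1)), ((nat_lit 26), (nat_lit 136), (nat_lit 1), (nat_lit 1)), ((nat_lit 30), (nat_lit 138), (nat_lit 1), (nat_lit 1)), ((nat_lit 31), (nat_lit 139), (nat_lit 1), (nat_lit 1)), ((nat_lit 32), (nat_lit 140), (nat_lit 1), (nat_lit 1)), ((nat_lit 36), (nat_lit 147), (nat_lit 1), (nat_lit 1)), ((nat_lit 40), (nat_lit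 149), (nat_lit 1), (nat_lit 1)), ((nat_lit 41), (nat_lit 150), (nat_lit 1), (nat_lit 1)), ((nat_lit 42), (nat_lit 151), (nat_lit 1), (nat_lit 1)), ((nat_lit 46), (nat_lit 153), (nat_lit 1), (nat_lit 1)), ((nat_lit 47), (nat_lit 154), (nat_lit 1), (nat_lit 1)), ((nat_lit 48), (nat_lit 155), (nat_lit 1), (nat_lit 1)), ((nat_lit 52), (nat_lit 159), (nat_lit 1), (nat_lit 1)), ((nat_lit 53), (nat_lit 160), (nat_lit 1), (nat_lit 1)), ((nat_lit 54), (nat_lit 161), (nat_lit 1), (nat_lit 1)), ((nat_lit 78), (nat_lit 185), (nat_lit 1), (nat_lit 1)), ((nat_lit 79), (nat_lit 186), (nat_lit 1), (nat_lit 1)), ((nat_lit 80), (nat_lit 187), (nat_lit 1), (nat_lit 1)), ((nat_lit 84), (nat_lit 191), (nat_lit 1), (nat_lit 1)), ((nat_lit 85), (nat_lit 192), (nat_lit 1), (nat_lit 1)), ((nat_lit 86), (nat_lit 193), (nat_lit 1), (nat_lit 1)), ((nat_lit 88), (nat_lit 197), (nat_lit 1), (nat_lit 1)), ((nat_lit 89), (nat_lit 198), (nat_lit 1), (nat_lit 1)),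 ((nat_lit 90), (nat_lit 199), (nat_lit 1), (nat_lit 1)), ((nat_lit 92), (nat_lit 203), (nat_lit 1), (nat_lit 1)), ((nat_lit 99), (nat_lit 207), (nat_lit 1), (nat_lit 1)), ((nat_lit 100), (nat_lit 208), (nat_lit 1), (nat_lit 1)), ((nat_lit 101), (nat_lit 209), (nat_lit 1), (nat_lit 1)), ((nat_lit 103), (nat_lit 213), (nat_lit 1), (nat_lit 1)), ((nat_lit 104), (nat_lit 217), (nat_lit 1), (nat_lit 1)), ((nat_lit 114), (nat_lit 219), (nat_lit 1), (nat_lit 1)), ((nat_lit 115), (nat_lit 220), (nat_lit 1), (nat_lit 1)), ((nat_lit 116), (nat_lit 221), (nat_lit 1), (nat_lit 1)), ((nat_lit 126), (nat_lit 223), (nat_lit 1), (nat_lit 1)), ((nat_lit 131), (nat_lit 224), (nat_lit 1), (nat_lit 1)), ((nat_lit 143), (nat_lit 225), (nat_lit 1), (nat_lit 1)), ((nat_lit 162), (nat_lit 229), (nat_lit 1), (nat_lit 1)), ((nat_lit 165), (nat_lit 232), (nat_lit 1), (nat_lit 1)), ((nat_lit 170), (nat_lit 234), (nat_lit 1), (nat_lit 1)), ((nat_lit 174),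 (nat_lit 235), (nat_lit 1), (nat_lit 1)), ((nat_lit 178), (nat_lit 237), (nat_lit 1), (nat_lit 1)), ((nat_lit 179), (nat_lit 238), (nat_lit 1), (nat_lit 1)), ((nat_lit 180), (nat_lit 239), (nat_lit 1), (nat_lit 1))]))) (.node (.node (.leaf [((nat_lit 16), (nat_lit 0), (nat_lit 1), (nat_lit 1)), ((nat_lit 20), (nat_lit 4), (nat_lit 1), (nat_lit 1)), ((nat_lit 29), (nat_lit 6), (nat_lit 1), (nat_lit 1)), ((nat_lit 39), (nat_lit 8), (nat_lit 1), (nat_lit 1)), ((nat_lit 48), (nat_lit 10), (nat_lit 1), (nat_lit 1)), ((nat_lit 50), (nat_lit 11), (nat_lit 1), (nat_lit 1)), ((nat_lit 51), (nat_lit 12), (nat_lit 1), (nat_lit 1)), ((nat_lit 80), (nat_lit 22), (nat_lit 1), (nat_lit 1)), ((nat_lit 82), (nat_lit 23), (nat_lit 1), (nat_lit 1)), ((nat_lit 83), (nat_lit 24), (nat_lit 1), (nat_lit 1)), ((nat_lit 89), (nat_lit 30), (nat_lit 1), (nat_lit 1)), ((nat_lit 90), (nat_lit 31), (nat_lit 1), (nat_lit 1)), ((nat_lit 91), (nat_lit 33), (nat_lit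 1), (nat_lit 1)), ((nat_lit 100), (nat_lit 40), (nat_lit 1), (nat_lit 1)), ((nat_lit 101), (nat_lit 41), (nat_lit 1), (nat_lit 1)), ((nat_lit 102), (nat_lit 43), (nat_lit 1), (nat_lit 1)), ((nat_lit 104), (nat_lit 52), (nat_lit 1), (nat_lit 1)), ((nat_lit 111), (nat_lit 56), (nat_lit 1), (nat_lit 1)), ((nat_lit 112), (nat_lit 57), (nat_lit 1), (nat_lit 1)), ((nat_lit 113), (nat_lit 59), (nat_lit 1), (nat_lit 1)), ((nat_lit 120), (nat_lit 63), (nat_lit 1), (nat_lit 1)), ((nat_lit 122), (nat_lit 64), (nat_lit 1), (nat_lit 1)), ((nat_lit 125), (nat_lit 65), (nat_lit 1), (nat_lit 1)), ((nat_lit 130), (nat_lit 66), (nat_lit 1), (nat_lit 1)), ((nat_lit 134), (nat_lit 70), (nat_lit 1), (nat_lit 1)), ((nat_lit 142), (nat_lit 71), (nat_lit 1), (nat_lit 1)), ((nat_lit 146), (nat_lit 75), (nat_lit 1), (nat_lit 1)), ((nat_lit 155), (nat_lit 77), (nat_lit 1), (nat_lit 1)), ((nat_lit 162), (nat_lit 84), (nat_lit 1), (nat_lit 1)), ((nat_lit 164),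 (nat_lit 93), (nat_lit 1), (nat_lit 1)), ((nat_lit 168), (nat_lit 97), (nat_lit 1), (nat_lit 1)), ((nat_lit 169), (nat_lit 105), (nat_lit 1), (nat_lit 1)), ((nat_lit 173), (nat_lit 109), (nat_lit 1), (nat_lit 1)), ((nat_lit 174), (nat_lit 114), (nat_lit 1), (nat_lit 1)), ((nat_lit 175), (nat_lit 117), (nat_lit 1), (nat_lit 1)), ((nat_lit 176), (nat_lit 119), (nat_lit 1), (nat_lit 1)), ((nat_lit 180), (nat_lit 126), (nat_lit 1), (nat_lit 1)), ((nat_lit 182), (nat_lit 127), (nat_lit 1), (nat_lit 1)), ((nat_lit 183), (nat_lit 128), (nat_lit 1), (nat_lit 1)), ((nat_lit 187), (nat_lit 135), (nat_lit 1), (nat_lit 1)), ((nat_lit 196), (nat_lit 137), (nat_lit 1), (nat_lit 1)), ((nat_lit 198), (nat_lit 138), (nat_lit 1), (nat_lit 1)), ((nat_lit 199), (nat_lit 139), (nat_lit 1), (nat_lit 1)), ((nat_lit 206), (nat_lit 148), (nat_lit 1), (nat_lit 1)), ((nat_lit 208), (nat_lit 149), (nat_lit 1), (nat_lit 1)), ((nat_lit 209), (nat_lit 150),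 (nat_lit 1), (nat_lit 1)), ((nat_lit 215), (nat_lit 156), (nat_lit 1), (nat_lit 1)), ((nat_lit 216), (nat_lit 157), (nat_lit 1), (nat_lit 1)), ((nat_lit 217), (nat_lit 159), (nat_lit 1), (nat_lit 1)), ((nat_lit 227), (nat_lit 188), (nat_lit 1), (nat_lit 1)), ((nat_lit 228), (nat_lit 189), (nat_lit 1), (nat_lit 1)), ((nat_lit 229), (nat_lit 191), (nat_lit 1), (nat_lit 1)), ((nat_lit 231), (nat_lit 200), (nat_lit 1), (nat_lit 1)), ((nat_lit 233), (nat_lit 210), (nat_lit 1), (nat_lit 1)), ((nat_lit 235), (nat_lit 219), (nat_lit 1), (nat_lit 1)), ((nat_lit 239), (nat_lit 223), (nat_lit 1), (nat_lit 1))]) (.leaf [((nat_lit 0), (nat_lit 22), (nat_lit 1), (nat_lit 1)), ((nat_lit 3), (nat_lit 25), (nat_lit 1), (nat_lit 1)), ((nat_lit 5), (nat_lit 32), (nat_lit 1), (nat_lit 1)), ((nat_lit 7), (nat_lit 42), (nat_lit 1), (nat_lit 1)), ((nat_lit 9), (nat_lit 58), (nat_lit 1), (nat_lit 1)), ((nat_lit 11), (nat_lit 63), (nat_lit 1), (nat_lit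 1)), ((nat_lit 12), (nat_lit 64), (nat_lit 1), (nat_lit 1)), ((nat_lit 16), (nat_lit 80), (nat_lit 1), (nat_lit 1)), ((nat_lit 18), (nat_lit 85), (nat_lit 1), (nat_lit 1)), ((nat_lit 19), (nat_lit 86), (nat_lit 1), (nat_lit 1)), ((nat_lit 27), (nat_lit 94), (nat_lit 1), (nat_lit 1)), ((nat_lit 28), (nat_lit 95), (nat_lit 1), (nat_lit 1)), ((nat_lit 33), (nat_lit 97), (nat_lit 1), (nat_lit 1)), ((nat_lit 37), (nat_lit 106), (nat_lit 1), (nat_lit 1)), ((nat_lit 38), (nat_lit 107), (nat_lit 1), (nat_lit 1)), ((nat_lit 43), (nat_lit 109), (nat_lit 1), (nat_lit 1)), ((nat_lit 46), (nat_lit 115), (nat_lit 1), (nat_lit 1)), ((nat_lit 47), (nat_lit 116), (nat_lit 1), (nat_lit 1)), ((nat_lit 50), (nat_lit 120), (nat_lit 1), (nat_lit 1)), ((nat_lit 51), (nat_lit 122), (nat_lit 1), (nat_lit 1)), ((nat_lit 52), (nat_lit 126), (nat_lit 1), (nat_lit 1)), ((nat_lit 55), (nat_lit 129), (nat_lit 1), (nat_lit 1)), ((nat_lit 59), (nat_lit 135), (nat_lit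 1), (nat_lit 1)), ((nat_lit 66), (nat_lit 137), (nat_lit 1), (nat_lit 1)), ((nat_lit 69), (nat_lit 140), (nat_lit 1), (nat_lit 1)), ((nat_lit 71), (nat_lit 148), (nat_lit 1), (nat_lit 1)), ((nat_lit 74), (nat_lit 151), (nat_lit 1), (nat_lit 1)), ((nat_lit 76), (nat_lit 158), (nat_lit 1), (nat_lit 1)), ((nat_lit 81), (nat_lit 163), (nat_lit 1), (nat_lit 1)), ((nat_lit 88), (nat_lit 165), (nat_lit 1), (nat_lit 1)), ((nat_lit 91), (nat_lit 168), (nat_lit 1), (nat_lit 1)), ((nat_lit 99), (nat_lit 170), (nat_lit 1), (nat_lit 1)), ((nat_lit 102), (nat_lit 173), (nat_lit 1), (nat_lit 1)), ((nat_lit 104), (nat_lit 180), (nat_lit 1), (nat_lit 1)), ((nat_lit 110), (nat_lit 184), (nat_lit 1), (nat_lit 1)), ((nat_lit 113), (nat_lit 187), (nat_lit 1), (nat_lit 1)), ((nat_lit 117), (nat_lit 188), (nat_lit 1), (nat_lit 1)), ((nat_lit 119), (nat_lit 189), (nat_lit 1), (nat_lit 1)), ((nat_lit 123), (nat_lit 192), (nat_lit 1), (nat_lit 1)), ((nat_lit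 124), (nat_lit 193), (nat_lit 1), (nat_lit 1)), ((nat_lit 130), (nat_lit 196), (nat_lit 1), (nat_lit 1)), ((nat_lit 132), (nat_lit 201), (nat_lit 1), (nat_lit 1)), ((nat_lit 133), (nat_lit 202), (nat_lit 1), (nat_lit 1)), ((nat_lit 142), (nat_lit 206), (nat_lit 1), (nat_lit 1)), ((nat_lit 144), (nat_lit 211), (nat_lit 1), (nat_lit 1)), ((nat_lit 145), (nat_lit 212), (nat_lit 1), (nat_lit 1)), ((nat_lit 153), (nat_lit 220), (nat_lit 1), (nat_lit 1)), ((nat_lit 154), (nat_lit 221), (nat_lit 1), (nat_lit 1)), ((nat_lit 159), (nat_lit 223), (nat_lit 1), (nat_lit 1)), ((nat_lit 175), (nat_lit 227), (nat_lit 1), (nat_lit 1)), ((nat_lit 176), (nat_lit 228), (nat_lit 1), (nat_lit 1)), ((nat_lit 181), (nat_lit 230), (nat_lit 1), (nat_lit 1)), ((nat_lit 197), (nat_lit 232), (nat_lit 1), (nat_lit 1)), ((nat_lit 207), (nat_lit 234), (nat_lit 1), (nat_lit 1)), ((nat_lit 214), (nat_lit 236), (nat_lit 1), (nat_lit 1)), ((nat_lit 217), (nat_lit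 239), (nat_lit 1), (nat_lit 1))])) (.leaf [((nat_lit 3), (nat_lit 4), (nat_lit 1), (nat_lit 1)), ((nat_lit 9), (nat_lit 10), (nat_lit 1), (nat_lit 1)), ((nat_lit 16), (nat_lit 17), (nat_lit 1), (nat_lit 1)), ((nat_lit 21), (nat_lit 22), (nat_lit 1), (nat_lit 1)), ((nat_lit 27), (nat_lit 30), (nat_lit 1), (nat_lit 1)), ((nat_lit 28), (nat_lit 31), (nat_lit 1), (nat_lit 1)), ((nat_lit 29), (nat_lit 32), (nat_lit 1), (nat_lit 1)), ((nat_lit 37), (nat_lit 40), (nat_lit 1), (nat_lit 1)), ((nat_lit 38), (nat_lit 41), (nat_lit 1), (nat_lit 1)), ((nat_lit 39), (nat_lit 42), (nat_lit 1), (nat_lit 1)), ((nat_lit 49), (nat_lit 52), (nat_lit 1), (nat_lit 1)), ((nat_lit 50), (nat_lit 53), (nat_lit 1), (nat_lit 1)), ((nat_lit 51), (nat_lit 54), (nat_lit 1), (nat_lit 1)), ((nat_lit 59), (nat_lit 62), (nat_lit 1), (nat_lit 1)), ((nat_lit 60), (nat_lit 63), (nat_lit 1), (nat_lit 1)), ((nat_lit 61), (nat_lit 64), (nat_lit 1), (nat_lit 1)), ((nat_lit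 69), (nat_lit 70), (nat_lit 1), (nat_lit 1)), ((nat_lit 74), (nat_lit 75), (nat_lit 1), (nat_lit 1)), ((nat_lit 81), (nat_lit 84), (nat_lit 1), (nat_lit 1)), ((nat_lit 82), (nat_lit 85), (nat_lit 1), (nat_lit 1)), ((nat_lit 83), (nat_lit 86), (nat_lit 1), (nat_lit 1)), ((nat_lit 91), (nat_lit 92), (nat_lit 1), (nat_lit 1)), ((nat_lit 96), (nat_lit 97), (nat_lit 1), (nat_lit 1)), ((nat_lit 102), (nat_lit 103), (nat_lit 1), (nat_lit 1)), ((nat_lit 108), (nat_lit 109), (nat_lit 1), (nat_lit 1)), ((nat_lit 110), (nat_lit 114), (nat_lit 1), (nat_lit 1)), ((nat_lit 111), (nat_lit 115), (nat_lit 1), (nat_lit 1)), ((nat_lit 112), (nat_lit 116), (nat_lit 1), (nat_lit 1)), ((nat_lit 123), (nat_lit 127), (nat_lit 1), (nat_lit 1)), ((nat_lit 124), (nat_lit 128), (nat_lit 1), (nat_lit 1)), ((nat_lit 125), (nat_lit 129), (nat_lit 1), (nat_lit 1)), ((nat_lit 130), (nat_lit 131), (nat_lit 1), (nat_lit 1)), ((nat_lit 136), (nat_lit 137), (nat_lit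 1), (nat_lit 1)), ((nat_lit 142), (nat_lit 143), (nat_lit 1), (nat_lit 1)), ((nat_lit 147), (nat_lit 148), (nat_lit 1), (nat_lit 1)), ((nat_lit 153), (nat_lit 156), (nat_lit 1), (nat_lit 1)), ((nat_lit 154), (nat_lit 157), (nat_lit 1), (nat_lit 1)), ((nat_lit 155), (nat_lit 158), (nat_lit 1), (nat_lit 1)), ((nat_lit 164), (nat_lit 165), (nat_lit 1), (nat_lit 1)), ((nat_lit 169), (nat_lit 170), (nat_lit 1), (nat_lit 1)), ((nat_lit 175), (nat_lit 178), (nat_lit 1), (nat_lit 1)), ((nat_lit 176), (nat_lit 179), (nat_lit 1), (nat_lit 1)), ((nat_lit 177), (nat_lit 180), (nat_lit 1), (nat_lit 1)), ((nat_lit 185), (nat_lit 188), (nat_lit 1), (nat_lit 1)), ((nat_lit 186), (nat_lit 189), (nat_lit 1), (nat_lit 1)), ((nat_lit 187), (nat_lit 190), (nat_lit 1), (nat_lit 1)), ((nat_lit 197), (nat_lit 200), (nat_lit 1), (nat_lit 1)), ((nat_lit 198), (nat_lit 201), (nat_lit 1), (nat_lit 1)), ((nat_lit 199), (nat_lit 202), (nat_lit 1), (nat_lit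 1)), ((nat_lit 207), (nat_lit 210), (nat_lit 1), (nat_lit 1)), ((nat_lit 208), (nat_lit 211), (nat_lit 1), (nat_lit 1)), ((nat_lit 209), (nat_lit 212), (nat_lit 1), (nat_lit 1)), ((nat_lit 217), (nat_lit 218), (nat_lit 1), (nat_lit 1)), ((nat_lit 222), (nat_lit 223), (nat_lit 1), (nat_lit 1)), ((nat_lit 229), (nat_lit 230), (nat_lit 1), (nat_lit 1)), ((nat_lit 235), (nat_lit 236), (nat_lit 1), (nat_lit 1))])))

def rows8 : Tr (List Entry) :=
  .node (.node (.node (.node (.leaf [((nat_lit 119), (nat_lit 0), (nat_lit 1), (nat_lit 1)), ((nat_lit 121), (nat_lit 2), (nat_lit 1), (nat_lit 1)), ((nat_lit 124), (nat_lit 3), (nat_lit 1), (nat_lit 1)), ((nat_lit 128), (nat_lit 4), (nat_lit 1), (nat_lit 1)), ((nat_lit 133), (nat_lit 5), (nat_lit 1), (nat_lit 1)), ((nat_lit 139), (nat_lit 6), (nat_lit 1), (nat_lit 1)), ((nat_lit 145), (nat_lit 7), (nat_lit 1), (nat_lit 1)), ((nat_lit 150), (nat_lit 8), (nat_lit 1), (nat_lit 1)), ((nat_lit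 154), (nat_lit 9), (nat_lit 1), (nat_lit 1)), ((nat_lit 157), (nat_lit 10), (nat_lit 1), (nat_lit 1)), ((nat_lit 159), (nat_lit 11), (nat_lit 1), (nat_lit 1)), ((nat_lit 161), (nat_lit 13), (nat_lit 1), (nat_lit 1)), ((nat_lit 167), (nat_lit 14), (nat_lit 1), (nat_lit 1)), ((nat_lit 172), (nat_lit 15), (nat_lit 1), (nat_lit 1)), ((nat_lit 176), (nat_lit 16), (nat_lit 1), (nat_lit 1)), ((nat_lit 179), (nat_lit 17), (nat_lit 1), (nat_lit 1)), ((nat_lit 181), (nat_lit 18), (nat_lit 1), (nat_lit 1)), ((nat_lit 183), (nat_lit 20), (nat_lit 1), (nat_lit 1)), ((nat_lit 186), (nat_lit 21), (nat_lit 1), (nat_lit 1)), ((nat_lit 189), (nat_lit 22), (nat_lit 1), (nat_lit 1)), ((nat_lit 191), (nat_lit 23), (nat_lit 1), (nat_lit 1)), ((nat_lit 193), (nat_lit 25), (nat_lit 1), (nat_lit 1)), ((nat_lit 195), (nat_lit 26), (nat_lit 1), (nat_lit 1)), ((nat_lit 197), (nat_lit 27), (nat_lit 1), (nat_lit 1)), ((nat_lit 199), (nat_lit 29), (nat_lit 1),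 (nat_lit 1)), ((nat_lit 200), (nat_lit 30), (nat_lit 1), (nat_lit 1)), ((nat_lit 202), (nat_lit 32), (nat_lit 1), (nat_lit 1)), ((nat_lit 203), (nat_lit 34), (nat_lit 1), (nat_lit 1)), ((nat_lit 205), (nat_lit 36), (nat_lit 1), (nat_lit 1)), ((nat_lit 207), (nat_lit 37), (nat_lit 1), (nat_lit 1)), ((nat_lit 209), (nat_lit 39), (nat_lit 1), (nat_lit 1)), ((nat_lit 210), (nat_lit 40), (nat_lit 1), (nat_lit 1)), ((nat_lit 212), (nat_lit 42), (nat_lit 1), (nat_lit 1)), ((nat_lit 213), (nat_lit 44), (nat_lit 1), (nat_lit 1)), ((nat_lit 214), (nat_lit 46), (nat_lit 1), (nat_lit 1)), ((nat_lit 216), (nat_lit 48), (nat_lit 1), (nat_lit 1)), ((nat_lit 217), (nat_lit 50), (nat_lit 1), (nat_lit 1)), ((nat_lit 218), (nat_lit 53), (nat_lit 1), (nat_lit 1)), ((nat_lit 219), (nat_lit 56), (nat_lit 1), (nat_lit 1)), ((nat_lit 221), (nat_lit 58), (nat_lit 1), (nat_lit 1)), ((nat_lit 222), (nat_lit 60), (nat_lit 1), (nat_lit 1)), ((nat_lit 223),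 (nat_lit 63), (nat_lit 1), (nat_lit 1)), ((nat_lit 224), (nat_lit 67), (nat_lit 1), (nat_lit 1)), ((nat_lit 225), (nat_lit 72), (nat_lit 1), (nat_lit 1)), ((nat_lit 226), (nat_lit 78), (nat_lit 1), (nat_lit 1)), ((nat_lit 228), (nat_lit 80), (nat_lit 1), (nat_lit 1)), ((nat_lit 229), (nat_lit 82), (nat_lit 1), (nat_lit 1)), ((nat_lit 230), (nat_lit 85), (nat_lit 1), (nat_lit 1)), ((nat_lit 231), (nat_lit 89), (nat_lit 1), (nat_lit 1)), ((nat_lit 232), (nat_lit 94), (nat_lit 1), (nat_lit 1)), ((nat_lit 233), (nat_lit 100), (nat_lit 1), (nat_lit 1)), ((nat_lit 234), (nat_lit 106), (nat_lit 1), (nat_lit 1)), ((nat_lit 235), (nat_lit 111), (nat_lit 1), (nat_lit 1)), ((nat_lit 236), (nat_lit 115), (nat_lit 1), (nat_lit 1)), ((nat_lit 237), (nat_lit 118), (nat_lit 1), (nat_lit 1)), ((nat_lit 239), (nat_lit 120), (nat_lit 1), (nat_lit 1))]) (.leaf [((nat_lit 0), (nat_lit 4), (nat_lit 1), (nat_lit 1)), ((nat_lit 9), (nat_lit 13), (nat_lit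 1), (nat_lit 1)), ((nat_lit 16), (nat_lit 20), (nat_lit 1), (nat_lit 1)), ((nat_lit 21), (nat_lit 25), (nat_lit 1), (nat_lit 1)), ((nat_lit 26), (nat_lit 32), (nat_lit 1), (nat_lit 1)), ((nat_lit 27), (nat_lit 34), (nat_lit 1), (nat_lit 1)), ((nat_lit 28), (nat_lit 35), (nat_lit 1), (nat_lit 1)), ((nat_lit 36), (nat_lit 42), (nat_lit 1), (nat_lit 1)), ((nat_lit 37), (nat_lit 44), (nat_lit 1), (nat_lit 1)), ((nat_lit 38), (nat_lit 45), (nat_lit 1), (nat_lit 1)), ((nat_lit 46), (nat_lit 53), (nat_lit 1), (nat_lit 1)), ((nat_lit 47), (nat_lit 54), (nat_lit 1), (nat_lit 1)), ((nat_lit 49), (nat_lit 55), (nat_lit 1), (nat_lit 1)), ((nat_lit 56), (nat_lit 63), (nat_lit 1), (nat_lit 1)), ((nat_lit 57), (nat_lit 64), (nat_lit 1), (nat_lit 1)), ((nat_lit 59), (nat_lit 65), (nat_lit 1), (nat_lit 1)), ((nat_lit 66), (nat_lit 70), (nat_lit 1), (nat_lit 1)), ((nat_lit 71), (nat_lit 75), (nat_lit 1), (nat_lit 1)), ((nat_lit 78), (nat_lit 85),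 (nat_lit 1), (nat_lit 1)), ((nat_lit 79), (nat_lit 86), (nat_lit 1), (nat_lit 1)), ((nat_lit 81), (nat_lit 87), (nat_lit 1), (nat_lit 1)), ((nat_lit 88), (nat_lit 92), (nat_lit 1), (nat_lit 1)), ((nat_lit 93), (nat_lit 97), (nat_lit 1), (nat_lit 1)), ((nat_lit 99), (nat_lit 103), (nat_lit 1), (nat_lit 1)), ((nat_lit 105), (nat_lit 109), (nat_lit 1), (nat_lit 1)), ((nat_lit 111), (nat_lit 120), (nat_lit 1), (nat_lit 1)), ((nat_lit 112), (nat_lit 122), (nat_lit 1), (nat_lit 1)), ((nat_lit 113), (nat_lit 125), (nat_lit 1), (nat_lit 1)), ((nat_lit 114), (nat_lit 126), (nat_lit 1), (nat_lit 1)), ((nat_lit 117), (nat_lit 127), (nat_lit 1), (nat_lit 1)), ((nat_lit 119), (nat_lit 128), (nat_lit 1), (nat_lit 1)), ((nat_lit 130), (nat_lit 134), (nat_lit 1), (nat_lit 1)), ((nat_lit 136), (nat_lit 140), (nat_lit 1), (nat_lit 1)), ((nat_lit 142), (nat_lit 146), (nat_lit 1), (nat_lit 1)), ((nat_lit 147), (nat_lit 151), (nat_lit 1), (nat_lit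 1)), ((nat_lit 152), (nat_lit 158), (nat_lit 1), (nat_lit 1)), ((nat_lit 153), (nat_lit 160), (nat_lit 1), (nat_lit 1)), ((nat_lit 154), (nat_lit 161), (nat_lit 1), (nat_lit 1)), ((nat_lit 164), (nat_lit 168), (nat_lit 1), (nat_lit 1)), ((nat_lit 169), (nat_lit 173), (nat_lit 1), (nat_lit 1)), ((nat_lit 174), (nat_lit 180), (nat_lit 1), (nat_lit 1)), ((nat_lit 175), (nat_lit 182), (nat_lit 1), (nat_lit 1)), ((nat_lit 176), (nat_lit 183), (nat_lit 1), (nat_lit 1)), ((nat_lit 184), (nat_lit 190), (nat_lit 1), (nat_lit 1)), ((nat_lit 185), (nat_lit 192), (nat_lit 1), (nat_lit 1)), ((nat_lit 186), (nat_lit 193), (nat_lit 1), (nat_lit 1)), ((nat_lit 194), (nat_lit 201), (nat_lit 1), (nat_lit 1)), ((nat_lit 195), (nat_lit 202), (nat_lit 1), (nat_lit 1)), ((nat_lit 197), (nat_lit 203), (nat_lit 1), (nat_lit 1)), ((nat_lit 204), (nat_lit 211), (nat_lit 1), (nat_lit 1)), ((nat_lit 205), (nat_lit 212), (nat_lit 1), (nat_lit 1)), ((nat_lit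 207), (nat_lit 213), (nat_lit 1), (nat_lit 1)), ((nat_lit 214), (nat_lit 218), (nat_lit 1), (nat_lit 1)), ((nat_lit 219), (nat_lit 223), (nat_lit 1), (nat_lit 1)), ((nat_lit 226), (nat_lit 230), (nat_lit 1), (nat_lit 1)), ((nat_lit 235), (nat_lit 239), (nat_lit 1), (nat_lit 1))])) (.node (.leaf [((nat_lit 16), (nat_lit 3), (nat_lit 1), (nat_lit 1)), ((nat_lit 17), (nat_lit 4), (nat_lit 1), (nat_lit 1)), ((nat_lit 26), (nat_lit 6), (nat_lit 1), (nat_lit 1)), ((nat_lit 36), (nat_lit 8), (nat_lit 1), (nat_lit 1)), ((nat_lit 46), (nat_lit 11), (nat_lit 1), (nat_lit 1)), ((nat_lit 47), (nat_lit 12), (nat_lit 1), (nat_lit 1)), ((nat_lit 48), (nat_lit 13), (nat_lit 1), (nat_lit 1)), ((nat_lit 78), (nat_lit 23), (nat_lit 1), (nat_lit 1)), ((nat_lit 79), (nat_lit 24), (nat_lit 1), (nat_lit 1)), ((nat_lit 80), (nat_lit 25), (nat_lit 1), (nat_lit 1)), ((nat_lit 88), (nat_lit 33), (nat_lit 1), (nat_lit 1)), ((nat_lit 89), (nat_lit 34), (nat_lit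 1), (nat_lit 1)), ((nat_lit 90), (nat_lit 35), (nat_lit 1), (nat_lit 1)), ((nat_lit 99), (nat_lit 43), (nat_lit 1), (nat_lit 1)), ((nat_lit 100), (nat_lit 44), (nat_lit 1), (nat_lit 1)), ((nat_lit 101), (nat_lit 45), (nat_lit 1), (nat_lit 1)), ((nat_lit 104), (nat_lit 55), (nat_lit 1), (nat_lit 1)), ((nat_lit 110), (nat_lit 59), (nat_lit 1), (nat_lit 1)), ((nat_lit 111), (nat_lit 60), (nat_lit 1), (nat_lit 1)), ((nat_lit 112), (nat_lit 61), (nat_lit 1), (nat_lit 1)), ((nat_lit 114), (nat_lit 62), (nat_lit 1), (nat_lit 1)), ((nat_lit 115), (nat_lit 63), (nat_lit 1), (nat_lit 1)), ((nat_lit 116), (nat_lit 64), (nat_lit 1), (nat_lit 1)), ((nat_lit 130), (nat_lit 69), (nat_lit 1), (nat_lit 1)), ((nat_lit 131), (nat_lit 70), (nat_lit 1), (nat_lit 1)), ((nat_lit 142), (nat_lit 74), (nat_lit 1), (nat_lit 1)), ((nat_lit 143), (nat_lit 75), (nat_lit 1), (nat_lit 1)), ((nat_lit 152), (nat_lit 77), (nat_lit 1), (nat_lit 1)), ((nat_lit 162),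 (nat_lit 87), (nat_lit 1), (nat_lit 1)), ((nat_lit 164), (nat_lit 96), (nat_lit 1), (nat_lit 1)), ((nat_lit 165), (nat_lit 97), (nat_lit 1), (nat_lit 1)), ((nat_lit 169), (nat_lit 108), (nat_lit 1), (nat_lit 1)), ((nat_lit 170), (nat_lit 109), (nat_lit 1), (nat_lit 1)), ((nat_lit 175), (nat_lit 123), (nat_lit 1), (nat_lit 1)), ((nat_lit 176), (nat_lit 124), (nat_lit 1), (nat_lit 1)), ((nat_lit 177), (nat_lit 125), (nat_lit 1), (nat_lit 1)), ((nat_lit 178), (nat_lit 127), (nat_lit 1), (nat_lit 1)), ((nat_lit 179), (nat_lit 128), (nat_lit 1), (nat_lit 1)), ((nat_lit 180), (nat_lit 129), (nat_lit 1), (nat_lit 1)), ((nat_lit 184), (nat_lit 135), (nat_lit 1), (nat_lit 1)), ((nat_lit 194), (nat_lit 138), (nat_lit 1), (nat_lit 1)), ((nat_lit 195), (nat_lit 139), (nat_lit 1), (nat_lit 1)), ((nat_lit 196), (nat_lit 140), (nat_lit 1), (nat_lit 1)), ((nat_lit 204), (nat_lit 149), (nat_lit 1), (nat_lit 1)), ((nat_lit 205), (nat_lit 150), (nat_lit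 1), (nat_lit 1)), ((nat_lit 206), (nat_lit 151), (nat_lit 1), (nat_lit 1)), ((nat_lit 214), (nat_lit 159), (nat_lit 1), (nat_lit 1)), ((nat_lit 215), (nat_lit 160), (nat_lit 1), (nat_lit 1)), ((nat_lit 216), (nat_lit 161), (nat_lit 1), (nat_lit 1)), ((nat_lit 226), (nat_lit 191), (nat_lit 1), (nat_lit 1)), ((nat_lit 227), (nat_lit 192), (nat_lit 1), (nat_lit 1)), ((nat_lit 228), (nat_lit 193), (nat_lit 1), (nat_lit 1)), ((nat_lit 231), (nat_lit 203), (nat_lit 1), (nat_lit 1)), ((nat_lit 233), (nat_lit 213), (nat_lit 1), (nat_lit 1)), ((nat_lit 235), (nat_lit 222), (nat_lit 1), (nat_lit 1)), ((nat_lit 236), (nat_lit 223), (nat_lit 1), (nat_lit 1))]) (.leaf [((nat_lit 0), (nat_lit 24), (nat_lit 1), (nat_lit 1)), ((nat_lit 1), (nat_lit 25), (nat_lit 1), (nat_lit 1)), ((nat_lit 5), (nat_lit 35), (nat_lit 1), (nat_lit 1)), ((nat_lit 7), (nat_lit 45), (nat_lit 1), (nat_lit 1)), ((nat_lit 9), (nat_lit 61), (nat_lit 1), (nat_lit 1)), ((nat_lit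 10), (nat_lit 64), (nat_lit 1), (nat_lit 1)), ((nat_lit 11), (nat_lit 65), (nat_lit 1), (nat_lit 1)), ((nat_lit 16), (nat_lit 83), (nat_lit 1), (nat_lit 1)), ((nat_lit 17), (nat_lit 86), (nat_lit 1), (nat_lit 1)), ((nat_lit 18), (nat_lit 87), (nat_lit 1), (nat_lit 1)), ((nat_lit 26), (nat_lit 95), (nat_lit 1), (nat_lit 1)), ((nat_lit 27), (nat_lit 96), (nat_lit 1), (nat_lit 1)), ((nat_lit 30), (nat_lit 97), (nat_lit 1), (nat_lit 1)), ((nat_lit 36), (nat_lit 107), (nat_lit 1), (nat_lit 1)), ((nat_lit 37), (nat_lit 108), (nat_lit 1), (nat_lit 1)), ((nat_lit 40), (nat_lit 109), (nat_lit 1), (nat_lit 1)), ((nat_lit 47), (nat_lit 121), (nat_lit 1), (nat_lit 1)), ((nat_lit 48), (nat_lit 122), (nat_lit 1), (nat_lit 1)), ((nat_lit 49), (nat_lit 124), (nat_lit 1), (nat_lit 1)), ((nat_lit 50), (nat_lit 125), (nat_lit 1), (nat_lit 1)), ((nat_lit 52), (nat_lit 128), (nat_lit 1), (nat_lit 1)), ((nat_lit 53), (nat_lit 129), (nat_lit 1), (nat_lit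 1)), ((nat_lit 56), (nat_lit 135), (nat_lit 1), (nat_lit 1)), ((nat_lit 66), (nat_lit 139), (nat_lit 1), (nat_lit 1)), ((nat_lit 67), (nat_lit 140), (nat_lit 1), (nat_lit 1)), ((nat_lit 71), (nat_lit 150), (nat_lit 1), (nat_lit 1)), ((nat_lit 72), (nat_lit 151), (nat_lit 1), (nat_lit 1)), ((nat_lit 76), (nat_lit 161), (nat_lit 1), (nat_lit 1)), ((nat_lit 78), (nat_lit 163), (nat_lit 1), (nat_lit 1)), ((nat_lit 88), (nat_lit 167), (nat_lit 1), (nat_lit 1)), ((nat_lit 89), (nat_lit 168), (nat_lit 1), (nat_lit 1)), ((nat_lit 99), (nat_lit 172), (nat_lit 1), (nat_lit 1)), ((nat_lit 100), (nat_lit 173), (nat_lit 1), (nat_lit 1)), ((nat_lit 104), (nat_lit 183), (nat_lit 1), (nat_lit 1)), ((nat_lit 110), (nat_lit 186), (nat_lit 1), (nat_lit 1)), ((nat_lit 111), (nat_lit 187), (nat_lit 1), (nat_lit 1)), ((nat_lit 114), (nat_lit 189), (nat_lit 1), (nat_lit 1)), ((nat_lit 115), (nat_lit 190), (nat_lit 1), (nat_lit 1)), ((nat_lit 117), (nat_lit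 191), (nat_lit 1), (nat_lit 1)), ((nat_lit 118), (nat_lit 192), (nat_lit 1), (nat_lit 1)), ((nat_lit 130), (nat_lit 199), (nat_lit 1), (nat_lit 1)), ((nat_lit 131), (nat_lit 202), (nat_lit 1), (nat_lit 1)), ((nat_lit 132), (nat_lit 203), (nat_lit 1), (nat_lit 1)), ((nat_lit 142), (nat_lit 209), (nat_lit 1), (nat_lit 1)), ((nat_lit 143), (nat_lit 212), (nat_lit 1), (nat_lit 1)), ((nat_lit 144), (nat_lit 213), (nat_lit 1), (nat_lit 1)), ((nat_lit 152), (nat_lit 221), (nat_lit 1), (nat_lit 1)), ((nat_lit 153), (nat_lit 222), (nat_lit 1), (nat_lit 1)), ((nat_lit 156), (nat_lit 223), (nat_lit 1), (nat_lit 1)), ((nat_lit 174), (nat_lit 228), (nat_lit 1), (nat_lit 1)), ((nat_lit 175), (nat_lit 229), (nat_lit 1), (nat_lit 1)), ((nat_lit 178), (nat_lit 230), (nat_lit 1), (nat_lit 1)), ((nat_lit 194), (nat_lit 232), (nat_lit 1), (nat_lit 1)), ((nat_lit 204), (nat_lit 234), (nat_lit 1), (nat_lit 1)), ((nat_lit 214), (nat_lit 238), (nat_lit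 1), (nat_lit 1)), ((nat_lit 215), (nat_lit 239), (nat_lit 1), (nat_lit 1))]))) (.node (.node (.leaf [((nat_lit 36), (nat_lit 0), (nat_lit 1), (nat_lit 1)), ((nat_lit 39), (nat_lit 3), (nat_lit 1), (nat_lit 1)), ((nat_lit 42), (nat_lit 4), (nat_lit 1), (nat_lit 1)), ((nat_lit 48), (nat_lit 5), (nat_lit 1), (nat_lit 1)), ((nat_lit 58), (nat_lit 6), (nat_lit 1), (nat_lit 1)), ((nat_lit 72), (nat_lit 11), (nat_lit 1), (nat_lit 1)), ((nat_lit 73), (nat_lit 12), (nat_lit 1), (nat_lit 1)), ((nat_lit 80), (nat_lit 14), (nat_lit 1), (nat_lit 1)), ((nat_lit 100), (nat_lit 18), (nat_lit 1), (nat_lit 1)), ((nat_lit 101), (nat_lit 19), (nat_lit 1), (nat_lit 1)), ((nat_lit 106), (nat_lit 23), (nat_lit 1), (nat_lit 1)), ((nat_lit 107), (nat_lit 24), (nat_lit 1), (nat_lit 1)), ((nat_lit 111), (nat_lit 27), (nat_lit 1), (nat_lit 1)), ((nat_lit 112), (nat_lit 28), (nat_lit 1), (nat_lit 1)), ((nat_lit 115), (nat_lit 30), (nat_lit 1), (nat_lit 1)),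 ((nat_lit 116), (nat_lit 31), (nat_lit 1), (nat_lit 1)), ((nat_lit 120), (nat_lit 34), (nat_lit 1), (nat_lit 1)), ((nat_lit 122), (nat_lit 35), (nat_lit 1), (nat_lit 1)), ((nat_lit 141), (nat_lit 43), (nat_lit 1), (nat_lit 1)), ((nat_lit 142), (nat_lit 49), (nat_lit 1), (nat_lit 1)), ((nat_lit 143), (nat_lit 52), (nat_lit 1), (nat_lit 1)), ((nat_lit 146), (nat_lit 55), (nat_lit 1), (nat_lit 1)), ((nat_lit 147), (nat_lit 59), (nat_lit 1), (nat_lit 1)), ((nat_lit 148), (nat_lit 62), (nat_lit 1), (nat_lit 1)), ((nat_lit 151), (nat_lit 65), (nat_lit 1), (nat_lit 1)), ((nat_lit 152), (nat_lit 66), (nat_lit 1), (nat_lit 1)), ((nat_lit 155), (nat_lit 69), (nat_lit 1), (nat_lit 1)), ((nat_lit 158), (nat_lit 70), (nat_lit 1), (nat_lit 1)), ((nat_lit 169), (nat_lit 81), (nat_lit 1), (nat_lit 1)), ((nat_lit 170), (nat_lit 84), (nat_lit 1), (nat_lit 1)), ((nat_lit 173), (nat_lit 87), (nat_lit 1), (nat_lit 1)), ((nat_lit 174), (nat_lit 88),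 (nat_lit 1), (nat_lit 1)), ((nat_lit 177), (nat_lit 91), (nat_lit 1), (nat_lit 1)), ((nat_lit 180), (nat_lit 92), (nat_lit 1), (nat_lit 1)), ((nat_lit 184), (nat_lit 93), (nat_lit 1), (nat_lit 1)), ((nat_lit 187), (nat_lit 96), (nat_lit 1), (nat_lit 1)), ((nat_lit 190), (nat_lit 97), (nat_lit 1), (nat_lit 1)), ((nat_lit 196), (nat_lit 98), (nat_lit 1), (nat_lit 1)), ((nat_lit 204), (nat_lit 117), (nat_lit 1), (nat_lit 1)), ((nat_lit 205), (nat_lit 119), (nat_lit 1), (nat_lit 1)), ((nat_lit 208), (nat_lit 123), (nat_lit 1), (nat_lit 1)), ((nat_lit 209), (nat_lit 124), (nat_lit 1), (nat_lit 1)), ((nat_lit 211), (nat_lit 127), (nat_lit 1), (nat_lit 1)), ((nat_lit 212), (nat_lit 128), (nat_lit 1), (nat_lit 1)), ((nat_lit 215), (nat_lit 132), (nat_lit 1), (nat_lit 1)), ((nat_lit 216), (nat_lit 133), (nat_lit 1), (nat_lit 1)), ((nat_lit 220), (nat_lit 138), (nat_lit 1), (nat_lit 1)), ((nat_lit 221), (nat_lit 139), (nat_lit 1), (nat_lit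 1)), ((nat_lit 225), (nat_lit 159), (nat_lit 1), (nat_lit 1)), ((nat_lit 227), (nat_lit 166), (nat_lit 1), (nat_lit 1)), ((nat_lit 228), (nat_lit 167), (nat_lit 1), (nat_lit 1)), ((nat_lit 233), (nat_lit 181), (nat_lit 1), (nat_lit 1)), ((nat_lit 234), (nat_lit 191), (nat_lit 1), (nat_lit 1)), ((nat_lit 235), (nat_lit 197), (nat_lit 1), (nat_lit 1)), ((nat_lit 236), (nat_lit 200), (nat_lit 1), (nat_lit 1)), ((nat_lit 239), (nat_lit 203), (nat_lit 1), (nat_lit 1))]) (.leaf [((nat_lit 0), (nat_lit 12), (nat_lit 1), (nat_lit 1)), ((nat_lit 1), (nat_lit 13), (nat_lit 1), (nat_lit 1)), ((nat_lit 14), (nat_lit 35), (nat_lit 1), (nat_lit 1)), ((nat_lit 15), (nat_lit 45), (nat_lit 1), (nat_lit 1)), ((nat_lit 16), (nat_lit 51), (nat_lit 1), (nat_lit 1)), ((nat_lit 17), (nat_lit 54), (nat_lit 1), (nat_lit 1)), ((nat_lit 18), (nat_lit 55), (nat_lit 1), (nat_lit 1)), ((nat_lit 21), (nat_lit 61), (nat_lit 1), (nat_lit 1)), ((nat_lit 22), (nat_lit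 64), (nat_lit 1), (nat_lit 1)), ((nat_lit 23), (nat_lit 65), (nat_lit 1), (nat_lit 1)), ((nat_lit 26), (nat_lit 68), (nat_lit 1), (nat_lit 1)), ((nat_lit 27), (nat_lit 69), (nat_lit 1), (nat_lit 1)), ((nat_lit 30), (nat_lit 70), (nat_lit 1), (nat_lit 1)), ((nat_lit 36), (nat_lit 73), (nat_lit 1), (nat_lit 1)), ((nat_lit 37), (nat_lit 74), (nat_lit 1), (nat_lit 1)), ((nat_lit 40), (nat_lit 75), (nat_lit 1), (nat_lit 1)), ((nat_lit 46), (nat_lit 76), (nat_lit 1), (nat_lit 1)), ((nat_lit 56), (nat_lit 77), (nat_lit 1), (nat_lit 1)), ((nat_lit 79), (nat_lit 121), (nat_lit 1), (nat_lit 1)), ((nat_lit 80), (nat_lit 122), (nat_lit 1), (nat_lit 1)), ((nat_lit 81), (nat_lit 124), (nat_lit 1), (nat_lit 1)), ((nat_lit 82), (nat_lit 125), (nat_lit 1), (nat_lit 1)), ((nat_lit 84), (nat_lit 128), (nat_lit 1), (nat_lit 1)), ((nat_lit 85), (nat_lit 129), (nat_lit 1), (nat_lit 1)), ((nat_lit 88), (nat_lit 133), (nat_lit 1), (nat_lit 1)), ((nat_lit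 89), (nat_lit 134), (nat_lit 1), (nat_lit 1)), ((nat_lit 93), (nat_lit 139), (nat_lit 1), (nat_lit 1)), ((nat_lit 94), (nat_lit 140), (nat_lit 1), (nat_lit 1)), ((nat_lit 99), (nat_lit 145), (nat_lit 1), (nat_lit 1)), ((nat_lit 100), (nat_lit 146), (nat_lit 1), (nat_lit 1)), ((nat_lit 105), (nat_lit 150), (nat_lit 1), (nat_lit 1)), ((nat_lit 106), (nat_lit 151), (nat_lit 1), (nat_lit 1)), ((nat_lit 110), (nat_lit 154), (nat_lit 1), (nat_lit 1)), ((nat_lit 111), (nat_lit 155), (nat_lit 1), (nat_lit 1)), ((nat_lit 114), (nat_lit 157), (nat_lit 1), (nat_lit 1)), ((nat_lit 115), (nat_lit 158), (nat_lit 1), (nat_lit 1)), ((nat_lit 117), (nat_lit 159), (nat_lit 1), (nat_lit 1)), ((nat_lit 118), (nat_lit 160), (nat_lit 1), (nat_lit 1)), ((nat_lit 162), (nat_lit 183), (nat_lit 1), (nat_lit 1)), ((nat_lit 163), (nat_lit 193), (nat_lit 1), (nat_lit 1)), ((nat_lit 164), (nat_lit 199), (nat_lit 1), (nat_lit 1)), ((nat_lit 165), (nat_lit 202),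 (nat_lit 1), (nat_lit 1)), ((nat_lit 166), (nat_lit 203), (nat_lit 1), (nat_lit 1)), ((nat_lit 169), (nat_lit 209), (nat_lit 1), (nat_lit 1)), ((nat_lit 170), (nat_lit 212), (nat_lit 1), (nat_lit 1)), ((nat_lit 171), (nat_lit 213), (nat_lit 1), (nat_lit 1)), ((nat_lit 174), (nat_lit 216), (nat_lit 1), (nat_lit 1)), ((nat_lit 175), (nat_lit 217), (nat_lit 1), (nat_lit 1)), ((nat_lit 178), (nat_lit 218), (nat_lit 1), (nat_lit 1)), ((nat_lit 184), (nat_lit 221), (nat_lit 1), (nat_lit 1)), ((nat_lit 185), (nat_lit 222), (nat_lit 1), (nat_lit 1)), ((nat_lit 188), (nat_lit 223), (nat_lit 1), (nat_lit 1)), ((nat_lit 194), (nat_lit 224), (nat_lit 1), (nat_lit 1)), ((nat_lit 204), (nat_lit 225), (nat_lit 1), (nat_lit 1)), ((nat_lit 226), (nat_lit 238), (nat_lit 1), (nat_lit 1)), ((nat_lit 227), (nat_lit 239), (nat_lit 1), (nat_lit 1))])) (.node (.leaf [((nat_lit 7), (nat_lit 4), (nat_lit 1), (nat_lit 1)), ((nat_lit 9), (nat_lit 6), (nat_lit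 1), (nat_lit 1)), ((nat_lit 16), (nat_lit 14), (nat_lit 1), (nat_lit 1)), ((nat_lit 36), (nat_lit 22), (nat_lit 1), (nat_lit 1)), ((nat_lit 37), (nat_lit 23), (nat_lit 1), (nat_lit 1)), ((nat_lit 38), (nat_lit 24), (nat_lit 1), (nat_lit 1)), ((nat_lit 39), (nat_lit 25), (nat_lit 1), (nat_lit 1)), ((nat_lit 46), (nat_lit 30), (nat_lit 1), (nat_lit 1)), ((nat_lit 47), (nat_lit 31), (nat_lit 1), (nat_lit 1)), ((nat_lit 48), (nat_lit 32), (nat_lit 1), (nat_lit 1)), ((nat_lit 49), (nat_lit 33), (nat_lit 1), (nat_lit 1)), ((nat_lit 50), (nat_lit 34), (nat_lit 1), (nat_lit 1)), ((nat_lit 51), (nat_lit 35), (nat_lit 1), (nat_lit 1)), ((nat_lit 71), (nat_lit 62), (nat_lit 1), (nat_lit 1)), ((nat_lit 72), (nat_lit 63), (nat_lit 1), (nat_lit 1)), ((nat_lit 73), (nat_lit 64), (nat_lit 1), (nat_lit 1)), ((nat_lit 74), (nat_lit 65), (nat_lit 1), (nat_lit 1)), ((nat_lit 76), (nat_lit 70), (nat_lit 1), (nat_lit 1)), ((nat_lit 99), (nat_lit 84),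 (nat_lit 1), (nat_lit 1)), ((nat_lit 100), (nat_lit 85), (nat_lit 1), (nat_lit 1)), ((nat_lit 101), (nat_lit 86), (nat_lit 1), (nat_lit 1)), ((nat_lit 102), (nat_lit 87), (nat_lit 1), (nat_lit 1)), ((nat_lit 104), (nat_lit 92), (nat_lit 1), (nat_lit 1)), ((nat_lit 110), (nat_lit 93), (nat_lit 1), (nat_lit 1)), ((nat_lit 111), (nat_lit 94), (nat_lit 1), (nat_lit 1)), ((nat_lit 112), (nat_lit 95), (nat_lit 1), (nat_lit 1)), ((nat_lit 113), (nat_lit 96), (nat_lit 1), (nat_lit 1)), ((nat_lit 130), (nat_lit 98), (nat_lit 1), (nat_lit 1)), ((nat_lit 141), (nat_lit 109), (nat_lit 1), (nat_lit 1)), ((nat_lit 143), (nat_lit 126), (nat_lit 1), (nat_lit 1)), ((nat_lit 144), (nat_lit 127), (nat_lit 1), (nat_lit 1)), ((nat_lit 145), (nat_lit 128), (nat_lit 1), (nat_lit 1)), ((nat_lit 146), (nat_lit 129), (nat_lit 1), (nat_lit 1)), ((nat_lit 147), (nat_lit 135), (nat_lit 1), (nat_lit 1)), ((nat_lit 152), (nat_lit 137), (nat_lit 1), (nat_lit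 1)), ((nat_lit 153), (nat_lit 138), (nat_lit 1), (nat_lit 1)), ((nat_lit 154), (nat_lit 139), (nat_lit 1), (nat_lit 1)), ((nat_lit 155), (nat_lit 140), (nat_lit 1), (nat_lit 1)), ((nat_lit 169), (nat_lit 163), (nat_lit 1), (nat_lit 1)), ((nat_lit 174), (nat_lit 165), (nat_lit 1), (nat_lit 1)), ((nat_lit 175), (nat_lit 166), (nat_lit 1), (nat_lit 1)), ((nat_lit 176), (nat_lit 167), (nat_lit 1), (nat_lit 1)), ((nat_lit 177), (nat_lit 168), (nat_lit 1), (nat_lit 1)), ((nat_lit 204), (nat_lit 188), (nat_lit 1), (nat_lit 1)), ((nat_lit 205), (nat_lit 189), (nat_lit 1), (nat_lit 1)), ((nat_lit 206), (nat_lit 190), (nat_lit 1), (nat_lit 1)), ((nat_lit 207), (nat_lit 191), (nat_lit 1), (nat_lit 1)), ((nat_lit 208), (nat_lit 192), (nat_lit 1), (nat_lit 1)), ((nat_lit 209), (nat_lit 193), (nat_lit 1), (nat_lit 1)), ((nat_lit 214), (nat_lit 200), (nat_lit 1), (nat_lit 1)), ((nat_lit 215), (nat_lit 201), (nat_lit 1), (nat_lit 1)), ((nat_lit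 216), (nat_lit 202), (nat_lit 1), (nat_lit 1)), ((nat_lit 217), (nat_lit 203), (nat_lit 1), (nat_lit 1)), ((nat_lit 225), (nat_lit 223), (nat_lit 1), (nat_lit 1)), ((nat_lit 233), (nat_lit 230), (nat_lit 1), (nat_lit 1)), ((nat_lit 235), (nat_lit 232), (nat_lit 1), (nat_lit 1))]) (.leaf [((nat_lit 0), (nat_lit 71), (nat_lit 1), (nat_lit 1)), ((nat_lit 1), (nat_lit 72), (nat_lit 1), (nat_lit 1)), ((nat_lit 2), (nat_lit 73), (nat_lit 1), (nat_lit 1)), ((nat_lit 3), (nat_lit 74), (nat_lit 1), (nat_lit 1)), ((nat_lit 4), (nat_lit 75), (nat_lit 1), (nat_lit 1)), ((nat_lit 5), (nat_lit 76), (nat_lit 1), (nat_lit 1)), ((nat_lit 6), (nat_lit 77), (nat_lit 1), (nat_lit 1)), ((nat_lit 15), (nat_lit 141), (nat_lit 1), (nat_lit 1)), ((nat_lit 16), (nat_lit 142), (nat_lit 1), (nat_lit 1)), ((nat_lit 17), (nat_lit 143), (nat_lit 1), (nat_lit 1)), ((nat_lit 18), (nat_lit 144), (nat_lit 1), (nat_lit 1)), ((nat_lit 19), (nat_lit 145), (nat_lit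 1), (nat_lit 1)), ((nat_lit 20), (nat_lit 146), (nat_lit 1), (nat_lit 1)), ((nat_lit 21), (nat_lit 147), (nat_lit 1), (nat_lit 1)), ((nat_lit 22), (nat_lit 148), (nat_lit 1), (nat_lit 1)), ((nat_lit 23), (nat_lit 149), (nat_lit 1), (nat_lit 1)), ((nat_lit 24), (nat_lit 150), (nat_lit 1), (nat_lit 1)), ((nat_lit 25), (nat_lit 151), (nat_lit 1), (nat_lit 1)), ((nat_lit 26), (nat_lit 152), (nat_lit 1), (nat_lit 1)), ((nat_lit 27), (nat_lit 153), (nat_lit 1), (nat_lit 1)), ((nat_lit 28), (nat_lit 154), (nat_lit 1), (nat_lit 1)), ((nat_lit 29), (nat_lit 155), (nat_lit 1), (nat_lit 1)), ((nat_lit 30), (nat_lit 156), (nat_lit 1), (nat_lit 1)), ((nat_lit 31), (nat_lit 157), (nat_lit 1), (nat_lit 1)), ((nat_lit 32), (nat_lit 158), (nat_lit 1), (nat_lit 1)), ((nat_lit 33), (nat_lit 159), (nat_lit 1), (nat_lit 1)), ((nat_lit 34), (nat_lit 160), (nat_lit 1), (nat_lit 1)), ((nat_lit 35), (nat_lit 161), (nat_lit 1), (nat_lit 1)), ((nat_lit 78),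 (nat_lit 204), (nat_lit 1), (nat_lit 1)), ((nat_lit 79), (nat_lit 205), (nat_lit 1), (nat_lit 1)), ((nat_lit 80), (nat_lit 206), (nat_lit 1), (nat_lit 1)), ((nat_lit 81), (nat_lit 207), (nat_lit 1), (nat_lit 1)), ((nat_lit 82), (nat_lit 208), (nat_lit 1), (nat_lit 1)), ((nat_lit 83), (nat_lit 209), (nat_lit 1), (nat_lit 1)), ((nat_lit 84), (nat_lit 210), (nat_lit 1), (nat_lit 1)), ((nat_lit 85), (nat_lit 211), (nat_lit 1), (nat_lit 1)), ((nat_lit 86), (nat_lit 212), (nat_lit 1), (nat_lit 1)), ((nat_lit 87), (nat_lit 213), (nat_lit 1), (nat_lit 1)), ((nat_lit 88), (nat_lit 214), (nat_lit 1), (nat_lit 1)), ((nat_lit 89), (nat_lit 215), (nat_lit 1), (nat_lit 1)), ((nat_lit 90), (nat_lit 216), (nat_lit 1), (nat_lit 1)), ((nat_lit 91), (nat_lit 217), (nat_lit 1), (nat_lit 1)), ((nat_lit 92), (nat_lit 218), (nat_lit 1), (nat_lit 1)), ((nat_lit 93), (nat_lit 219), (nat_lit 1), (nat_lit 1)), ((nat_lit 94), (nat_lit 220), (nat_lit 1), (nat_lit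 1)), ((nat_lit 95), (nat_lit 221), (nat_lit 1), (nat_lit 1)), ((nat_lit 96), (nat_lit 222), (nat_lit 1), (nat_lit 1)), ((nat_lit 97), (nat_lit 223), (nat_lit 1), (nat_lit 1)), ((nat_lit 98), (nat_lit 224), (nat_lit 1), (nat_lit 1)), ((nat_lit 162), (nat_lit 233), (nat_lit 1), (nat_lit 1)), ((nat_lit 163), (nat_lit 234), (nat_lit 1), (nat_lit 1)), ((nat_lit 164), (nat_lit 235), (nat_lit 1), (nat_lit 1)), ((nat_lit 165), (nat_lit 236), (nat_lit 1), (nat_lit 1)), ((nat_lit 166), (nat_lit 237), (nat_lit 1), (nat_lit 1)), ((nat_lit 167), (nat_lit 238), (nat_lit 1), (nat_lit 1)), ((nat_lit 168), (nat_lit 239), (nat_lit 1), (nat_lit 1))])))) (.node (.node (.node (.leaf [((nat_lit 59), (nat_lit 0), (nat_lit 1), (nat_lit 1)), ((nat_lit 60), (nat_lit 1), (nat_lit 1), (nat_lit 1)), ((nat_lit 61), (nat_lit 2), (nat_lit 1), (nat_lit 1)), ((nat_lit 65), (nat_lit 4), (nat_lit 1), (nat_lit 1)), ((nat_lit 69), (nat_lit 5), (nat_lit 1), (nat_lit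 1)), ((nat_lit 74), (nat_lit 7), (nat_lit 1), (nat_lit 1)), ((nat_lit 77), (nat_lit 10), (nat_lit 1), (nat_lit 1)), ((nat_lit 96), (nat_lit 14), (nat_lit 1), (nat_lit 1)), ((nat_lit 108), (nat_lit 15), (nat_lit 1), (nat_lit 1)), ((nat_lit 113), (nat_lit 16), (nat_lit 1), (nat_lit 1)), ((nat_lit 123), (nat_lit 18), (nat_lit 1), (nat_lit 1)), ((nat_lit 124), (nat_lit 19), (nat_lit 1), (nat_lit 1)), ((nat_lit 125), (nat_lit 20), (nat_lit 1), (nat_lit 1)), ((nat_lit 135), (nat_lit 22), (nat_lit 1), (nat_lit 1)), ((nat_lit 136), (nat_lit 26), (nat_lit 1), (nat_lit 1)), ((nat_lit 138), (nat_lit 30), (nat_lit 1), (nat_lit 1)), ((nat_lit 139), (nat_lit 31), (nat_lit 1), (nat_lit 1)), ((nat_lit 140), (nat_lit 32), (nat_lit 1), (nat_lit 1)), ((nat_lit 147), (nat_lit 36), (nat_lit 1), (nat_lit 1)), ((nat_lit 149), (nat_lit 40), (nat_lit 1), (nat_lit 1)), ((nat_lit 150), (nat_lit 41), (nat_lit 1), (nat_lit 1)), ((nat_lit 151), (nat_lit 42),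 (nat_lit 1), (nat_lit 1)), ((nat_lit 153), (nat_lit 46), (nat_lit 1), (nat_lit 1)), ((nat_lit 154), (nat_lit 47), (nat_lit 1), (nat_lit 1)), ((nat_lit 155), (nat_lit 48), (nat_lit 1), (nat_lit 1)), ((nat_lit 159), (nat_lit 52), (nat_lit 1), (nat_lit 1)), ((nat_lit 160), (nat_lit 53), (nat_lit 1), (nat_lit 1)), ((nat_lit 161), (nat_lit 54), (nat_lit 1), (nat_lit 1)), ((nat_lit 185), (nat_lit 78), (nat_lit 1), (nat_lit 1)), ((nat_lit 186), (nat_lit 79), (nat_lit 1), (nat_lit 1)), ((nat_lit 187), (nat_lit 80), (nat_lit 1), (nat_lit 1)), ((nat_lit 191), (nat_lit 84), (nat_lit 1), (nat_lit 1)), ((nat_lit 192), (nat_lit 85), (nat_lit 1), (nat_lit 1)), ((nat_lit 193), (nat_lit 86), (nat_lit 1), (nat_lit 1)), ((nat_lit 197), (nat_lit 88), (nat_lit 1), (nat_lit 1)), ((nat_lit 198), (nat_lit 89), (nat_lit 1), (nat_lit 1)), ((nat_lit 199), (nat_lit 90), (nat_lit 1), (nat_lit 1)), ((nat_lit 203), (nat_lit 92), (nat_lit 1), (nat_lit 1)), ((nat_lit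 207), (nat_lit 99), (nat_lit 1), (nat_lit 1)), ((nat_lit 208), (nat_lit 100), (nat_lit 1), (nat_lit 1)), ((nat_lit 209), (nat_lit 101), (nat_lit 1), (nat_lit 1)), ((nat_lit 213), (nat_lit 103), (nat_lit 1), (nat_lit 1)), ((nat_lit 217), (nat_lit 104), (nat_lit 1), (nat_lit 1)), ((nat_lit 219), (nat_lit 114), (nat_lit 1), (nat_lit 1)), ((nat_lit 220), (nat_lit 115), (nat_lit 1), (nat_lit 1)), ((nat_lit 221), (nat_lit 116), (nat_lit 1), (nat_lit 1)), ((nat_lit 223), (nat_lit 126), (nat_lit 1), (nat_lit 1)), ((nat_lit 224), (nat_lit 131), (nat_lit 1), (nat_lit 1)), ((nat_lit 225), (nat_lit 143), (nat_lit 1), (nat_lit 1)), ((nat_lit 229), (nat_lit 162), (nat_lit 1), (nat_lit 1)), ((nat_lit 232), (nat_lit 165), (nat_lit 1), (nat_lit 1)), ((nat_lit 234), (nat_lit 170), (nat_lit 1), (nat_lit 1)), ((nat_lit 235), (nat_lit 174), (nat_lit 1), (nat_lit 1)), ((nat_lit 237), (nat_lit 178), (nat_lit 1), (nat_lit 1)), ((nat_lit 238), (nat_lit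 179), (nat_lit 1), (nat_lit 1)), ((nat_lit 239), (nat_lit 180), (nat_lit 1), (nat_lit 1))]) (.leaf [((nat_lit 1), (nat_lit 7), (nat_lit 1), (nat_lit 1)), ((nat_lit 6), (nat_lit 12), (nat_lit 1), (nat_lit 1)), ((nat_lit 14), (nat_lit 19), (nat_lit 1), (nat_lit 1)), ((nat_lit 21), (nat_lit 38), (nat_lit 1), (nat_lit 1)), ((nat_lit 22), (nat_lit 41), (nat_lit 1), (nat_lit 1)), ((nat_lit 23), (nat_lit 43), (nat_lit 1), (nat_lit 1)), ((nat_lit 25), (nat_lit 45), (nat_lit 1), (nat_lit 1)), ((nat_lit 26), (nat_lit 47), (nat_lit 1), (nat_lit 1)), ((nat_lit 27), (nat_lit 49), (nat_lit 1), (nat_lit 1)), ((nat_lit 29), (nat_lit 51), (nat_lit 1), (nat_lit 1)), ((nat_lit 30), (nat_lit 52), (nat_lit 1), (nat_lit 1)), ((nat_lit 32), (nat_lit 54), (nat_lit 1), (nat_lit 1)), ((nat_lit 34), (nat_lit 55), (nat_lit 1), (nat_lit 1)), ((nat_lit 56), (nat_lit 71), (nat_lit 1), (nat_lit 1)), ((nat_lit 58), (nat_lit 73), (nat_lit 1), (nat_lit 1)), ((nat_lit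 60), (nat_lit 74), (nat_lit 1), (nat_lit 1)), ((nat_lit 63), (nat_lit 75), (nat_lit 1), (nat_lit 1)), ((nat_lit 67), (nat_lit 76), (nat_lit 1), (nat_lit 1)), ((nat_lit 78), (nat_lit 99), (nat_lit 1), (nat_lit 1)), ((nat_lit 80), (nat_lit 101), (nat_lit 1), (nat_lit 1)), ((nat_lit 82), (nat_lit 102), (nat_lit 1), (nat_lit 1)), ((nat_lit 85), (nat_lit 103), (nat_lit 1), (nat_lit 1)), ((nat_lit 89), (nat_lit 104), (nat_lit 1), (nat_lit 1)), ((nat_lit 93), (nat_lit 119), (nat_lit 1), (nat_lit 1)), ((nat_lit 95), (nat_lit 121), (nat_lit 1), (nat_lit 1)), ((nat_lit 96), (nat_lit 124), (nat_lit 1), (nat_lit 1)), ((nat_lit 97), (nat_lit 128), (nat_lit 1), (nat_lit 1)), ((nat_lit 98), (nat_lit 133), (nat_lit 1), (nat_lit 1)), ((nat_lit 106), (nat_lit 141), (nat_lit 1), (nat_lit 1)), ((nat_lit 111), (nat_lit 142), (nat_lit 1), (nat_lit 1)), ((nat_lit 115), (nat_lit 143), (nat_lit 1), (nat_lit 1)), ((nat_lit 118), (nat_lit 144), (nat_lit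 1), (nat_lit 1)), ((nat_lit 120), (nat_lit 146), (nat_lit 1), (nat_lit 1)), ((nat_lit 135), (nat_lit 150), (nat_lit 1), (nat_lit 1)), ((nat_lit 136), (nat_lit 154), (nat_lit 1), (nat_lit 1)), ((nat_lit 137), (nat_lit 157), (nat_lit 1), (nat_lit 1)), ((nat_lit 138), (nat_lit 159), (nat_lit 1), (nat_lit 1)), ((nat_lit 140), (nat_lit 161), (nat_lit 1), (nat_lit 1)), ((nat_lit 163), (nat_lit 172), (nat_lit 1), (nat_lit 1)), ((nat_lit 164), (nat_lit 176), (nat_lit 1), (nat_lit 1)), ((nat_lit 165), (nat_lit 179), (nat_lit 1), (nat_lit 1)), ((nat_lit 166), (nat_lit 181), (nat_lit 1), (nat_lit 1)), ((nat_lit 168), (nat_lit 183), (nat_lit 1), (nat_lit 1)), ((nat_lit 184), (nat_lit 205), (nat_lit 1), (nat_lit 1)), ((nat_lit 185), (nat_lit 207), (nat_lit 1), (nat_lit 1)), ((nat_lit 187), (nat_lit 209), (nat_lit 1), (nat_lit 1)), ((nat_lit 188), (nat_lit 210), (nat_lit 1), (nat_lit 1)), ((nat_lit 190), (nat_lit 212), (nat_lit 1), (nat_lit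 1)), ((nat_lit 192), (nat_lit 213), (nat_lit 1), (nat_lit 1)), ((nat_lit 194), (nat_lit 214), (nat_lit 1), (nat_lit 1)), ((nat_lit 196), (nat_lit 216), (nat_lit 1), (nat_lit 1)), ((nat_lit 198), (nat_lit 217), (nat_lit 1), (nat_lit 1)), ((nat_lit 201), (nat_lit 218), (nat_lit 1), (nat_lit 1)), ((nat_lit 220), (nat_lit 225), (nat_lit 1), (nat_lit 1)), ((nat_lit 227), (nat_lit 233), (nat_lit 1), (nat_lit 1)), ((nat_lit 232), (nat_lit 238), (nat_lit 1), (nat_lit 1))])) (.node (.leaf [((nat_lit 10), (nat_lit 0), (nat_lit 1), (nat_lit 1)), ((nat_lit 13), (nat_lit 3), (nat_lit 1), (nat_lit 1)), ((nat_lit 32), (nat_lit 14), (nat_lit 1), (nat_lit 1)), ((nat_lit 42), (nat_lit 15), (nat_lit 1), (nat_lit 1)), ((nat_lit 48), (nat_lit 16), (nat_lit 1), (nat_lit 1)), ((nat_lit 53), (nat_lit 18), (nat_lit 1), (nat_lit 1)), ((nat_lit 54), (nat_lit 19), (nat_lit 1), (nat_lit 1)), ((nat_lit 58), (nat_lit 21), (nat_lit 1), (nat_lit 1)), ((nat_lit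 63), (nat_lit 23), (nat_lit 1), (nat_lit 1)), ((nat_lit 64), (nat_lit 24), (nat_lit 1), (nat_lit 1)), ((nat_lit 67), (nat_lit 27), (nat_lit 1), (nat_lit 1)), ((nat_lit 68), (nat_lit 28), (nat_lit 1), (nat_lit 1)), ((nat_lit 70), (nat_lit 33), (nat_lit 1), (nat_lit 1)), ((nat_lit 72), (nat_lit 37), (nat_lit 1), (nat_lit 1)), ((nat_lit 73), (nat_lit 38), (nat_lit 1), (nat_lit 1)), ((nat_lit 75), (nat_lit 43), (nat_lit 1), (nat_lit 1)), ((nat_lit 76), (nat_lit 49), (nat_lit 1), (nat_lit 1)), ((nat_lit 77), (nat_lit 59), (nat_lit 1), (nat_lit 1)), ((nat_lit 115), (nat_lit 78), (nat_lit 1), (nat_lit 1)), ((nat_lit 116), (nat_lit 79), (nat_lit 1), (nat_lit 1)), ((nat_lit 120), (nat_lit 82), (nat_lit 1), (nat_lit 1)), ((nat_lit 122), (nat_lit 83), (nat_lit 1), (nat_lit 1)), ((nat_lit 126), (nat_lit 84), (nat_lit 1), (nat_lit 1)), ((nat_lit 129), (nat_lit 87), (nat_lit 1), (nat_lit 1)), ((nat_lit 131), (nat_lit 88), (nat_lit 1), (nat_lit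 1)), ((nat_lit 134), (nat_lit 91), (nat_lit 1), (nat_lit 1)), ((nat_lit 137), (nat_lit 93), (nat_lit 1), (nat_lit 1)), ((nat_lit 140), (nat_lit 96), (nat_lit 1), (nat_lit 1)), ((nat_lit 143), (nat_lit 99), (nat_lit 1), (nat_lit 1)), ((nat_lit 146), (nat_lit 102), (nat_lit 1), (nat_lit 1)), ((nat_lit 148), (nat_lit 105), (nat_lit 1), (nat_lit 1)), ((nat_lit 151), (nat_lit 108), (nat_lit 1), (nat_lit 1)), ((nat_lit 152), (nat_lit 110), (nat_lit 1), (nat_lit 1)), ((nat_lit 155), (nat_lit 113), (nat_lit 1), (nat_lit 1)), ((nat_lit 156), (nat_lit 117), (nat_lit 1), (nat_lit 1)), ((nat_lit 157), (nat_lit 119), (nat_lit 1), (nat_lit 1)), ((nat_lit 160), (nat_lit 123), (nat_lit 1), (nat_lit 1)), ((nat_lit 161), (nat_lit 124), (nat_lit 1), (nat_lit 1)), ((nat_lit 180), (nat_lit 162), (nat_lit 1), (nat_lit 1)), ((nat_lit 190), (nat_lit 163), (nat_lit 1), (nat_lit 1)), ((nat_lit 196), (nat_lit 164), (nat_lit 1), (nat_lit 1)), ((nat_lit 201),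 (nat_lit 166), (nat_lit 1), (nat_lit 1)), ((nat_lit 202), (nat_lit 167), (nat_lit 1), (nat_lit 1)), ((nat_lit 206), (nat_lit 169), (nat_lit 1), (nat_lit 1)), ((nat_lit 211), (nat_lit 171), (nat_lit 1), (nat_lit 1)), ((nat_lit 212), (nat_lit 172), (nat_lit 1), (nat_lit 1)), ((nat_lit 215), (nat_lit 175), (nat_lit 1), (nat_lit 1)), ((nat_lit 216), (nat_lit 176), (nat_lit 1), (nat_lit 1)), ((nat_lit 218), (nat_lit 181), (nat_lit 1), (nat_lit 1)), ((nat_lit 220), (nat_lit 185), (nat_lit 1), (nat_lit 1)), ((nat_lit 221), (nat_lit 186), (nat_lit 1), (nat_lit 1)), ((nat_lit 223), (nat_lit 191), (nat_lit 1), (nat_lit 1)), ((nat_lit 224), (nat_lit 197), (nat_lit 1), (nat_lit 1)), ((nat_lit 225), (nat_lit 207), (nat_lit 1), (nat_lit 1)), ((nat_lit 236), (nat_lit 226), (nat_lit 1), (nat_lit 1)), ((nat_lit 239), (nat_lit 229), (nat_lit 1), (nat_lit 1))]) (.leaf [((nat_lit 0), (nat_lit 38), (nat_lit 1), (nat_lit 1)), ((nat_lit 1), (nat_lit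 39), (nat_lit 1), (nat_lit 1)), ((nat_lit 4), (nat_lit 45), (nat_lit 1), (nat_lit 1)), ((nat_lit 5), (nat_lit 51), (nat_lit 1), (nat_lit 1)), ((nat_lit 6), (nat_lit 61), (nat_lit 1), (nat_lit 1)), ((nat_lit 10), (nat_lit 73), (nat_lit 1), (nat_lit 1)), ((nat_lit 11), (nat_lit 74), (nat_lit 1), (nat_lit 1)), ((nat_lit 14), (nat_lit 83), (nat_lit 1), (nat_lit 1)), ((nat_lit 17), (nat_lit 101), (nat_lit 1), (nat_lit 1)), ((nat_lit 18), (nat_lit 102), (nat_lit 1), (nat_lit 1)), ((nat_lit 22), (nat_lit 107), (nat_lit 1), (nat_lit 1)), ((nat_lit 23), (nat_lit 108), (nat_lit 1), (nat_lit 1)), ((nat_lit 26), (nat_lit 112), (nat_lit 1), (nat_lit 1)), ((nat_lit 27), (nat_lit 113), (nat_lit 1), (nat_lit 1)), ((nat_lit 31), (nat_lit 121), (nat_lit 1), (nat_lit 1)), ((nat_lit 32), (nat_lit 122), (nat_lit 1), (nat_lit 1)), ((nat_lit 33), (nat_lit 124), (nat_lit 1), (nat_lit 1)), ((nat_lit 34), (nat_lit 125), (nat_lit 1), (nat_lit 1)), ((nat_lit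 40), (nat_lit 141), (nat_lit 1), (nat_lit 1)), ((nat_lit 46), (nat_lit 142), (nat_lit 1), (nat_lit 1)), ((nat_lit 52), (nat_lit 145), (nat_lit 1), (nat_lit 1)), ((nat_lit 53), (nat_lit 146), (nat_lit 1), (nat_lit 1)), ((nat_lit 56), (nat_lit 147), (nat_lit 1), (nat_lit 1)), ((nat_lit 62), (nat_lit 150), (nat_lit 1), (nat_lit 1)), ((nat_lit 63), (nat_lit 151), (nat_lit 1), (nat_lit 1)), ((nat_lit 66), (nat_lit 154), (nat_lit 1), (nat_lit 1)), ((nat_lit 67), (nat_lit 155), (nat_lit 1), (nat_lit 1)), ((nat_lit 70), (nat_lit 161), (nat_lit 1), (nat_lit 1)), ((nat_lit 78), (nat_lit 169), (nat_lit 1), (nat_lit 1)), ((nat_lit 84), (nat_lit 172), (nat_lit 1), (nat_lit 1)), ((nat_lit 85), (nat_lit 173), (nat_lit 1), (nat_lit 1)), ((nat_lit 88), (nat_lit 176), (nat_lit 1), (nat_lit 1)), ((nat_lit 89), (nat_lit 177), (nat_lit 1), (nat_lit 1)), ((nat_lit 92), (nat_lit 183), (nat_lit 1), (nat_lit 1)), ((nat_lit 93), (nat_lit 186), (nat_lit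 1), (nat_lit 1)), ((nat_lit 94), (nat_lit 187), (nat_lit 1), (nat_lit 1)), ((nat_lit 97), (nat_lit 193), (nat_lit 1), (nat_lit 1)), ((nat_lit 98), (nat_lit 199), (nat_lit 1), (nat_lit 1)), ((nat_lit 114), (nat_lit 205), (nat_lit 1), (nat_lit 1)), ((nat_lit 115), (nat_lit 206), (nat_lit 1), (nat_lit 1)), ((nat_lit 117), (nat_lit 207), (nat_lit 1), (nat_lit 1)), ((nat_lit 118), (nat_lit 208), (nat_lit 1), (nat_lit 1)), ((nat_lit 126), (nat_lit 212), (nat_lit 1), (nat_lit 1)), ((nat_lit 127), (nat_lit 213), (nat_lit 1), (nat_lit 1)), ((nat_lit 131), (nat_lit 216), (nat_lit 1), (nat_lit 1)), ((nat_lit 132), (nat_lit 217), (nat_lit 1), (nat_lit 1)), ((nat_lit 137), (nat_lit 221), (nat_lit 1), (nat_lit 1)), ((nat_lit 138), (nat_lit 222), (nat_lit 1), (nat_lit 1)), ((nat_lit 156), (nat_lit 225), (nat_lit 1), (nat_lit 1)), ((nat_lit 165), (nat_lit 228), (nat_lit 1), (nat_lit 1)), ((nat_lit 166), (nat_lit 229), (nat_lit 1), (nat_lit 1)),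 ((nat_lit 178), (nat_lit 233), (nat_lit 1), (nat_lit 1)), ((nat_lit 188), (nat_lit 234), (nat_lit 1), (nat_lit 1)), ((nat_lit 194), (nat_lit 235), (nat_lit 1), (nat_lit 1)), ((nat_lit 200), (nat_lit 238), (nat_lit 1), (nat_lit 1)), ((nat_lit 201), (nat_lit 239), (nat_lit 1), (nat_lit 1))]))) (.node (.node (.leaf [((nat_lit 22), (nat_lit 0), (nat_lit 1), (nat_lit 1)), ((nat_lit 25), (nat_lit 3), (nat_lit 1), (nat_lit 1)), ((nat_lit 32), (nat_lit 5), (nat_lit 1), (nat_lit 1)), ((nat_lit 42), (nat_lit 7), (nat_lit 1), (nat_lit 1)), ((nat_lit 58), (nat_lit 9), (nat_lit 1), (nat_lit 1)), ((nat_lit 63), (nat_lit 11), (nat_lit 1), (nat_lit 1)), ((nat_lit 64), (nat_lit 12), (nat_lit 1), (nat_lit 1)), ((nat_lit 80), (nat_lit 16), (nat_lit 1), (nat_lit 1)), ((nat_lit 85), (nat_lit 18), (nat_lit 1), (nat_lit 1)), ((nat_lit 86), (nat_lit 19), (nat_lit 1), (nat_lit 1)), ((nat_lit 94), (nat_lit 27), (nat_lit 1), (nat_lit 1)), ((nat_lit 95),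 (nat_lit 28), (nat_lit 1), (nat_lit 1)), ((nat_lit 97), (nat_lit 33), (nat_lit 1), (nat_lit 1)), ((nat_lit 106), (nat_lit 37), (nat_lit 1), (nat_lit 1)), ((nat_lit 107), (nat_lit 38), (nat_lit 1), (nat_lit 1)), ((nat_lit 109), (nat_lit 43), (nat_lit 1), (nat_lit 1)), ((nat_lit 115), (nat_lit 46), (nat_lit 1), (nat_lit 1)), ((nat_lit 116), (nat_lit 47), (nat_lit 1), (nat_lit 1)), ((nat_lit 120), (nat_lit 50), (nat_lit 1), (nat_lit 1)), ((nat_lit 122), (nat_lit 51), (nat_lit 1), (nat_lit 1)), ((nat_lit 126), (nat_lit 52), (nat_lit 1), (nat_lit 1)), ((nat_lit 129), (nat_lit 55), (nat_lit 1), (nat_lit 1)), ((nat_lit 135), (nat_lit 59), (nat_lit 1), (nat_lit 1)), ((nat_lit 137), (nat_lit 66), (nat_lit 1), (nat_lit 1)), ((nat_lit 140), (nat_lit 69), (nat_lit 1), (nat_lit 1)), ((nat_lit 148), (nat_lit 71), (nat_lit 1), (nat_lit 1)), ((nat_lit 151), (nat_lit 74), (nat_lit 1), (nat_lit 1)), ((nat_lit 158), (nat_lit 76), (nat_lit 1), (nat_lit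 1)), ((nat_lit 163), (nat_lit 81), (nat_lit 1), (nat_lit 1)), ((nat_lit 165), (nat_lit 88), (nat_lit 1), (nat_lit 1)), ((nat_lit 168), (nat_lit 91), (nat_lit 1), (nat_lit 1)), ((nat_lit 170), (nat_lit 99), (nat_lit 1), (nat_lit 1)), ((nat_lit 173), (nat_lit 102), (nat_lit 1), (nat_lit 1)), ((nat_lit 180), (nat_lit 104), (nat_lit 1), (nat_lit 1)), ((nat_lit 184), (nat_lit 110), (nat_lit 1), (nat_lit 1)), ((nat_lit 187), (nat_lit 113), (nat_lit 1), (nat_lit 1)), ((nat_lit 188), (nat_lit 117), (nat_lit 1), (nat_lit 1)), ((nat_lit 189), (nat_lit 119), (nat_lit 1), (nat_lit 1)), ((nat_lit 192), (nat_lit 123), (nat_lit 1), (nat_lit 1)), ((nat_lit 193), (nat_lit 124), (nat_lit 1), (nat_lit 1)), ((nat_lit 196), (nat_lit 130), (nat_lit 1), (nat_lit 1)), ((nat_lit 201), (nat_lit 132), (nat_lit 1), (nat_lit 1)), ((nat_lit 202), (nat_lit 133), (nat_lit 1), (nat_lit 1)), ((nat_lit 206), (nat_lit 142), (nat_lit 1), (nat_lit 1)), ((nat_lit 211),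 (nat_lit 144), (nat_lit 1), (nat_lit 1)), ((nat_lit 212), (nat_lit 145), (nat_lit 1), (nat_lit 1)), ((nat_lit 220), (nat_lit 153), (nat_lit 1), (nat_lit 1)), ((nat_lit 221), (nat_lit 154), (nat_lit 1), (nat_lit 1)), ((nat_lit 223), (nat_lit 159), (nat_lit 1), (nat_lit 1)), ((nat_lit 227), (nat_lit 175), (nat_lit 1), (nat_lit 1)), ((nat_lit 228), (nat_lit 176), (nat_lit 1), (nat_lit 1)), ((nat_lit 230), (nat_lit 181), (nat_lit 1), (nat_lit 1)), ((nat_lit 232), (nat_lit 197), (nat_lit 1), (nat_lit 1)), ((nat_lit 234), (nat_lit 207), (nat_lit 1), (nat_lit 1)), ((nat_lit 236), (nat_lit 214), (nat_lit 1), (nat_lit 1)), ((nat_lit 239), (nat_lit 217), (nat_lit 1), (nat_lit 1))]) (.leaf [((nat_lit 0), (nat_lit 16), (nat_lit 1), (nat_lit 1)), ((nat_lit 4), (nat_lit 20), (nat_lit 1), (nat_lit 1)), ((nat_lit 6), (nat_lit 29), (nat_lit 1), (nat_lit 1)), ((nat_lit 8), (nat_lit 39), (nat_lit 1), (nat_lit 1)), ((nat_lit 10), (nat_lit 48), (nat_lit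 1), (nat_lit 1)), ((nat_lit 11), (nat_lit 50), (nat_lit 1), (nat_lit 1)), ((nat_lit 12), (nat_lit 51), (nat_lit 1), (nat_lit 1)), ((nat_lit 22), (nat_lit 80), (nat_lit 1), (nat_lit 1)), ((nat_lit 23), (nat_lit 82), (nat_lit 1), (nat_lit 1)), ((nat_lit 24), (nat_lit 83), (nat_lit 1), (nat_lit 1)), ((nat_lit 30), (nat_lit 89), (nat_lit 1), (nat_lit 1)), ((nat_lit 31), (nat_lit 90), (nat_lit 1), (nat_lit 1)), ((nat_lit 33), (nat_lit 91), (nat_lit 1), (nat_lit 1)), ((nat_lit 40), (nat_lit 100), (nat_lit 1), (nat_lit 1)), ((nat_lit 41), (nat_lit 101), (nat_lit 1), (nat_lit 1)), ((nat_lit 43), (nat_lit 102), (nat_lit 1), (nat_lit 1)), ((nat_lit 52), (nat_lit 104), (nat_lit 1), (nat_lit 1)), ((nat_lit 56), (nat_lit 111), (nat_lit 1), (nat_lit 1)), ((nat_lit 57), (nat_lit 112), (nat_lit 1), (nat_lit 1)), ((nat_lit 59), (nat_lit 113), (nat_lit 1), (nat_lit 1)), ((nat_lit 63), (nat_lit 120), (nat_lit 1), (nat_lit 1)), ((nat_lit 64), (nat_lit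 122), (nat_lit 1), (nat_lit 1)), ((nat_lit 65), (nat_lit 125), (nat_lit 1), (nat_lit 1)), ((nat_lit 66), (nat_lit 130), (nat_lit 1), (nat_lit 1)), ((nat_lit 70), (nat_lit 134), (nat_lit 1), (nat_lit 1)), ((nat_lit 71), (nat_lit 142), (nat_lit 1), (nat_lit 1)), ((nat_lit 75), (nat_lit 146), (nat_lit 1), (nat_lit 1)), ((nat_lit 77), (nat_lit 155), (nat_lit 1), (nat_lit 1)), ((nat_lit 84), (nat_lit 162), (nat_lit 1), (nat_lit 1)), ((nat_lit 93), (nat_lit 164), (nat_lit 1), (nat_lit 1)), ((nat_lit 97), (nat_lit 168), (nat_lit 1), (nat_lit 1)), ((nat_lit 105), (nat_lit 169), (nat_lit 1), (nat_lit 1)), ((nat_lit 109), (nat_lit 173), (nat_lit 1), (nat_lit 1)), ((nat_lit 114), (nat_lit 174), (nat_lit 1), (nat_lit 1)), ((nat_lit 117), (nat_lit 175), (nat_lit 1), (nat_lit 1)), ((nat_lit 119), (nat_lit 176), (nat_lit 1), (nat_lit 1)), ((nat_lit 126), (nat_lit 180), (nat_lit 1), (nat_lit 1)), ((nat_lit 127), (nat_lit 182), (nat_lit 1), (nat_lit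 1)), ((nat_lit 128), (nat_lit 183), (nat_lit 1), (nat_lit 1)), ((nat_lit 135), (nat_lit 187), (nat_lit 1), (nat_lit 1)), ((nat_lit 137), (nat_lit 196), (nat_lit 1), (nat_lit 1)), ((nat_lit 138), (nat_lit 198), (nat_lit 1), (nat_lit 1)), ((nat_lit 139), (nat_lit 199), (nat_lit 1), (nat_lit 1)), ((nat_lit 148), (nat_lit 206), (nat_lit 1), (nat_lit 1)), ((nat_lit 149), (nat_lit 208), (nat_lit 1), (nat_lit 1)), ((nat_lit 150), (nat_lit 209), (nat_lit 1), (nat_lit 1)), ((nat_lit 156), (nat_lit 215), (nat_lit 1), (nat_lit 1)), ((nat_lit 157), (nat_lit 216), (nat_lit 1), (nat_lit 1)), ((nat_lit 159), (nat_lit 217), (nat_lit 1), (nat_lit 1)), ((nat_lit 188), (nat_lit 227), (nat_lit 1), (nat_lit 1)), ((nat_lit 189), (nat_lit 228), (nat_lit 1), (nat_lit 1)), ((nat_lit 191), (nat_lit 229), (nat_lit 1), (nat_lit 1)), ((nat_lit 200), (nat_lit 231), (nat_lit 1), (nat_lit 1)), ((nat_lit 210), (nat_lit 233), (nat_lit 1), (nat_lit 1)), ((nat_lit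 219), (nat_lit 235), (nat_lit 1), (nat_lit 1)), ((nat_lit 223), (nat_lit 239), (nat_lit 1), (nat_lit 1))])) (.leaf [((nat_lit 4), (nat_lit 3), (nat_lit 1), (nat_lit 1)), ((nat_lit 10), (nat_lit 9), (nat_lit 1), (nat_lit 1)), ((nat_lit 17), (nat_lit 16), (nat_lit 1), (nat_lit 1)), ((nat_lit 22), (nat_lit 21), (nat_lit 1), (nat_lit 1)), ((nat_lit 30), (nat_lit 27), (nat_lit 1), (nat_lit 1)), ((nat_lit 31), (nat_lit 28), (nat_lit 1), (nat_lit 1)), ((nat_lit 32), (nat_lit 29), (nat_lit 1), (nat_lit 1)), ((nat_lit 40), (nat_lit 37), (nat_lit 1), (nat_lit 1)), ((nat_lit 41), (nat_lit 38), (nat_lit 1), (nat_lit 1)), ((nat_lit 42), (nat_lit 39), (nat_lit 1), (nat_lit 1)), ((nat_lit 52), (nat_lit 49), (nat_lit 1), (nat_lit 1)), ((nat_lit 53), (nat_lit 50), (nat_lit 1), (nat_lit 1)), ((nat_lit 54), (nat_lit 51), (nat_lit 1), (nat_lit 1)), ((nat_lit 62), (nat_lit 59), (nat_lit 1), (nat_lit 1)), ((nat_lit 63), (nat_lit 60), (nat_lit 1), (nat_lit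 1)), ((nat_lit 64), (nat_lit 61), (nat_lit 1), (nat_lit 1)), ((nat_lit 70), (nat_lit 69), (nat_lit 1), (nat_lit 1)), ((nat_lit 75), (nat_lit 74), (nat_lit 1), (nat_lit 1)), ((nat_lit 84), (nat_lit 81), (nat_lit 1), (nat_lit 1)), ((nat_lit 85), (nat_lit 82), (nat_lit 1), (nat_lit 1)), ((nat_lit 86), (nat_lit 83), (nat_lit 1), (nat_lit 1)), ((nat_lit 92), (nat_lit 91), (nat_lit 1), (nat_lit 1)), ((nat_lit 97), (nat_lit 96), (nat_lit 1), (nat_lit 1)), ((nat_lit 103), (nat_lit 102), (nat_lit 1), (nat_lit 1)), ((nat_lit 109), (nat_lit 108), (nat_lit 1), (nat_lit 1)), ((nat_lit 114), (nat_lit 110), (nat_lit 1), (nat_lit 1)), ((nat_lit 115), (nat_lit 111), (nat_lit 1), (nat_lit 1)), ((nat_lit 116), (nat_lit 112), (nat_lit 1), (nat_lit 1)), ((nat_lit 127), (nat_lit 123), (nat_lit 1), (nat_lit 1)), ((nat_lit 128), (nat_lit 124), (nat_lit 1), (nat_lit 1)), ((nat_lit 129), (nat_lit 125), (nat_lit 1), (nat_lit 1)), ((nat_lit 131), (nat_lit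 130), (nat_lit 1), (nat_lit 1)), ((nat_lit 137), (nat_lit 136), (nat_lit 1), (nat_lit 1)), ((nat_lit 143), (nat_lit 142), (nat_lit 1), (nat_lit 1)), ((nat_lit 148), (nat_lit 147), (nat_lit 1), (nat_lit 1)), ((nat_lit 156), (nat_lit 153), (nat_lit 1), (nat_lit 1)), ((nat_lit 157), (nat_lit 154), (nat_lit 1), (nat_lit 1)), ((nat_lit 158), (nat_lit 155), (nat_lit 1), (nat_lit 1)), ((nat_lit 165), (nat_lit 164), (nat_lit 1), (nat_lit 1)), ((nat_lit 170), (nat_lit 169), (nat_lit 1), (nat_lit 1)), ((nat_lit 178), (nat_lit 175), (nat_lit 1), (nat_lit 1)), ((nat_lit 179), (nat_lit 176), (nat_lit 1), (nat_lit 1)), ((nat_lit 180), (nat_lit 177), (nat_lit 1), (nat_lit 1)), ((nat_lit 188), (nat_lit 185), (nat_lit 1), (nat_lit 1)), ((nat_lit 189), (nat_lit 186), (nat_lit 1), (nat_lit 1)), ((nat_lit 190), (nat_lit 187), (nat_lit 1), (nat_lit 1)), ((nat_lit 200), (nat_lit 197), (nat_lit 1), (nat_lit 1)), ((nat_lit 201), (nat_lit 198), (nat_lit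 1), (nat_lit 1)), ((nat_lit 202), (nat_lit 199), (nat_lit 1), (nat_lit 1)), ((nat_lit 210), (nat_lit 207), (nat_lit 1), (nat_lit 1)), ((nat_lit 211), (nat_lit 208), (nat_lit 1), (nat_lit 1)), ((nat_lit 212), (nat_lit 209), (nat_lit 1), (nat_lit 1)), ((nat_lit 218), (nat_lit 217), (nat_lit 1), (nat_lit 1)), ((nat_lit 223), (nat_lit 222), (nat_lit 1), (nat_lit 1)), ((nat_lit 230), (nat_lit 229), (nat_lit 1), (nat_lit 1)), ((nat_lit 236), (nat_lit 235), (nat_lit 1), (nat_lit 1))])))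

def rows9 : Tr (List Entry) :=
  .node (.node (.node (.node (.leaf [((nat_lit 84), (nat_lit 0), (nat_lit 1), (nat_lit 1)), ((nat_lit 85), (nat_lit 1), (nat_lit 1), (nat_lit 1)), ((nat_lit 86), (nat_lit 2), (nat_lit 1), (nat_lit 1)), ((nat_lit 87), (nat_lit 3), (nat_lit 1), (nat_lit 1)), ((nat_lit 92), (nat_lit 5), (nat_lit 1), (nat_lit 1)), ((nat_lit 97), (nat_lit 6), (nat_lit 1), (nat_lit 1)), ((nat_lit 103), (nat_lit 7), (nat_lit 1), (nat_lit 1)), ((nat_lit 109), (nat_lit 8), (nat_lit 1), (nat_lit 1)), ((nat_lit 126), (nat_lit 10), (nat_lit 1), (nat_lit 1)), ((nat_lit 127), (nat_lit 11), (nat_lit 1), (nat_lit 1)), ((nat_lit 128), (nat_lit 12), (nat_lit 1), (nat_lit 1)), ((nat_lit 129), (nat_lit 13), (nat_lit 1), (nat_lit 1)), ((nat_lit 162), (nat_lit 16), (nat_lit 1), (nat_lit 1)), ((nat_lit 163), (nat_lit 21), (nat_lit 1), (nat_lit 1)), ((nat_lit 165), (nat_lit 26), (nat_lit 1), (nat_lit 1)), ((nat_lit 166), (nat_lit 27), (nat_lit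 1), (nat_lit 1)), ((nat_lit 167), (nat_lit 28), (nat_lit 1), (nat_lit 1)), ((nat_lit 168), (nat_lit 29), (nat_lit 1), (nat_lit 1)), ((nat_lit 170), (nat_lit 36), (nat_lit 1), (nat_lit 1)), ((nat_lit 171), (nat_lit 37), (nat_lit 1), (nat_lit 1)), ((nat_lit 172), (nat_lit 38), (nat_lit 1), (nat_lit 1)), ((nat_lit 173), (nat_lit 39), (nat_lit 1), (nat_lit 1)), ((nat_lit 178), (nat_lit 46), (nat_lit 1), (nat_lit 1)), ((nat_lit 179), (nat_lit 47), (nat_lit 1), (nat_lit 1)), ((nat_lit 180), (nat_lit 48), (nat_lit 1), (nat_lit 1)), ((nat_lit 181), (nat_lit 49), (nat_lit 1), (nat_lit 1)), ((nat_lit 182), (nat_lit 50), (nat_lit 1), (nat_lit 1)), ((nat_lit 183), (nat_lit 51), (nat_lit 1), (nat_lit 1)), ((nat_lit 188), (nat_lit 56), (nat_lit 1), (nat_lit 1)), ((nat_lit 189), (nat_lit 57), (nat_lit 1), (nat_lit 1)), ((nat_lit 190), (nat_lit 58), (nat_lit 1), (nat_lit 1)), ((nat_lit 191), (nat_lit 59), (nat_lit 1), (nat_lit 1)), ((nat_lit 192),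 (nat_lit 60), (nat_lit 1), (nat_lit 1)), ((nat_lit 193), (nat_lit 61), (nat_lit 1), (nat_lit 1)), ((nat_lit 200), (nat_lit 66), (nat_lit 1), (nat_lit 1)), ((nat_lit 201), (nat_lit 67), (nat_lit 1), (nat_lit 1)), ((nat_lit 202), (nat_lit 68), (nat_lit 1), (nat_lit 1)), ((nat_lit 203), (nat_lit 69), (nat_lit 1), (nat_lit 1)), ((nat_lit 210), (nat_lit 71), (nat_lit 1), (nat_lit 1)), ((nat_lit 211), (nat_lit 72), (nat_lit 1), (nat_lit 1)), ((nat_lit 212), (nat_lit 73), (nat_lit 1), (nat_lit 1)), ((nat_lit 213), (nat_lit 74), (nat_lit 1), (nat_lit 1)), ((nat_lit 218), (nat_lit 76), (nat_lit 1), (nat_lit 1)), ((nat_lit 223), (nat_lit 77), (nat_lit 1), (nat_lit 1)), ((nat_lit 226), (nat_lit 110), (nat_lit 1), (nat_lit 1)), ((nat_lit 227), (nat_lit 111), (nat_lit 1), (nat_lit 1)), ((nat_lit 228), (nat_lit 112), (nat_lit 1), (nat_lit 1)), ((nat_lit 229), (nat_lit 113), (nat_lit 1), (nat_lit 1)), ((nat_lit 231), (nat_lit 130), (nat_lit 1),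 (nat_lit 1)), ((nat_lit 232), (nat_lit 136), (nat_lit 1), (nat_lit 1)), ((nat_lit 233), (nat_lit 142), (nat_lit 1), (nat_lit 1)), ((nat_lit 234), (nat_lit 147), (nat_lit 1), (nat_lit 1)), ((nat_lit 236), (nat_lit 152), (nat_lit 1), (nat_lit 1)), ((nat_lit 237), (nat_lit 153), (nat_lit 1), (nat_lit 1)), ((nat_lit 238), (nat_lit 154), (nat_lit 1), (nat_lit 1)), ((nat_lit 239), (nat_lit 155), (nat_lit 1), (nat_lit 1))]) (.leaf [((nat_lit 3), (nat_lit 6), (nat_lit 1), (nat_lit 1)), ((nat_lit 7), (nat_lit 10), (nat_lit 1), (nat_lit 1)), ((nat_lit 15), (nat_lit 22), (nat_lit 1), (nat_lit 1)), ((nat_lit 16), (nat_lit 26), (nat_lit 1), (nat_lit 1)), ((nat_lit 18), (nat_lit 30), (nat_lit 1), (nat_lit 1)), ((nat_lit 19), (nat_lit 31), (nat_lit 1), (nat_lit 1)), ((nat_lit 20), (nat_lit 32), (nat_lit 1), (nat_lit 1)), ((nat_lit 37), (nat_lit 56), (nat_lit 1), (nat_lit 1)), ((nat_lit 38), (nat_lit 57), (nat_lit 1), (nat_lit 1)), ((nat_lit 39),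 (nat_lit 58), (nat_lit 1), (nat_lit 1)), ((nat_lit 43), (nat_lit 62), (nat_lit 1), (nat_lit 1)), ((nat_lit 44), (nat_lit 63), (nat_lit 1), (nat_lit 1)), ((nat_lit 45), (nat_lit 64), (nat_lit 1), (nat_lit 1)), ((nat_lit 49), (nat_lit 66), (nat_lit 1), (nat_lit 1)), ((nat_lit 50), (nat_lit 67), (nat_lit 1), (nat_lit 1)), ((nat_lit 51), (nat_lit 68), (nat_lit 1), (nat_lit 1)), ((nat_lit 55), (nat_lit 70), (nat_lit 1), (nat_lit 1)), ((nat_lit 74), (nat_lit 77), (nat_lit 1), (nat_lit 1)), ((nat_lit 81), (nat_lit 93), (nat_lit 1), (nat_lit 1)), ((nat_lit 82), (nat_lit 94), (nat_lit 1), (nat_lit 1)), ((nat_lit 83), (nat_lit 95), (nat_lit 1), (nat_lit 1)), ((nat_lit 87), (nat_lit 97), (nat_lit 1), (nat_lit 1)), ((nat_lit 91), (nat_lit 98), (nat_lit 1), (nat_lit 1)), ((nat_lit 99), (nat_lit 114), (nat_lit 1), (nat_lit 1)), ((nat_lit 100), (nat_lit 115), (nat_lit 1), (nat_lit 1)), ((nat_lit 101), (nat_lit 116), (nat_lit 1), (nat_lit 1)),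 ((nat_lit 103), (nat_lit 126), (nat_lit 1), (nat_lit 1)), ((nat_lit 104), (nat_lit 131), (nat_lit 1), (nat_lit 1)), ((nat_lit 108), (nat_lit 135), (nat_lit 1), (nat_lit 1)), ((nat_lit 113), (nat_lit 136), (nat_lit 1), (nat_lit 1)), ((nat_lit 123), (nat_lit 138), (nat_lit 1), (nat_lit 1)), ((nat_lit 124), (nat_lit 139), (nat_lit 1), (nat_lit 1)), ((nat_lit 125), (nat_lit 140), (nat_lit 1), (nat_lit 1)), ((nat_lit 141), (nat_lit 148), (nat_lit 1), (nat_lit 1)), ((nat_lit 142), (nat_lit 152), (nat_lit 1), (nat_lit 1)), ((nat_lit 144), (nat_lit 156), (nat_lit 1), (nat_lit 1)), ((nat_lit 145), (nat_lit 157), (nat_lit 1), (nat_lit 1)), ((nat_lit 146), (nat_lit 158), (nat_lit 1), (nat_lit 1)), ((nat_lit 162), (nat_lit 165), (nat_lit 1), (nat_lit 1)), ((nat_lit 169), (nat_lit 184), (nat_lit 1), (nat_lit 1)), ((nat_lit 171), (nat_lit 188), (nat_lit 1), (nat_lit 1)), ((nat_lit 172), (nat_lit 189), (nat_lit 1), (nat_lit 1)), ((nat_lit 173),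 (nat_lit 190), (nat_lit 1), (nat_lit 1)), ((nat_lit 175), (nat_lit 194), (nat_lit 1), (nat_lit 1)), ((nat_lit 176), (nat_lit 195), (nat_lit 1), (nat_lit 1)), ((nat_lit 177), (nat_lit 196), (nat_lit 1), (nat_lit 1)), ((nat_lit 181), (nat_lit 200), (nat_lit 1), (nat_lit 1)), ((nat_lit 182), (nat_lit 201), (nat_lit 1), (nat_lit 1)), ((nat_lit 183), (nat_lit 202), (nat_lit 1), (nat_lit 1)), ((nat_lit 207), (nat_lit 219), (nat_lit 1), (nat_lit 1)), ((nat_lit 208), (nat_lit 220), (nat_lit 1), (nat_lit 1)), ((nat_lit 209), (nat_lit 221), (nat_lit 1), (nat_lit 1)), ((nat_lit 213), (nat_lit 223), (nat_lit 1), (nat_lit 1)), ((nat_lit 217), (nat_lit 224), (nat_lit 1), (nat_lit 1)), ((nat_lit 229), (nat_lit 232), (nat_lit 1), (nat_lit 1)), ((nat_lit 233), (nat_lit 236), (nat_lit 1), (nat_lit 1))])) (.node (.leaf [((nat_lit 14), (nat_lit 2), (nat_lit 1), (nat_lit 1)), ((nat_lit 18), (nat_lit 7), (nat_lit 1), (nat_lit 1)), ((nat_lit 23), (nat_lit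 8), (nat_lit 1), (nat_lit 1)), ((nat_lit 27), (nat_lit 9), (nat_lit 1), (nat_lit 1)), ((nat_lit 30), (nat_lit 10), (nat_lit 1), (nat_lit 1)), ((nat_lit 33), (nat_lit 12), (nat_lit 1), (nat_lit 1)), ((nat_lit 34), (nat_lit 13), (nat_lit 1), (nat_lit 1)), ((nat_lit 78), (nat_lit 36), (nat_lit 1), (nat_lit 1)), ((nat_lit 81), (nat_lit 38), (nat_lit 1), (nat_lit 1)), ((nat_lit 82), (nat_lit 39), (nat_lit 1), (nat_lit 1)), ((nat_lit 84), (nat_lit 41), (nat_lit 1), (nat_lit 1)), ((nat_lit 85), (nat_lit 42), (nat_lit 1), (nat_lit 1)), ((nat_lit 87), (nat_lit 45), (nat_lit 1), (nat_lit 1)), ((nat_lit 88), (nat_lit 47), (nat_lit 1), (nat_lit 1)), ((nat_lit 89), (nat_lit 48), (nat_lit 1), (nat_lit 1)), ((nat_lit 91), (nat_lit 51), (nat_lit 1), (nat_lit 1)), ((nat_lit 92), (nat_lit 54), (nat_lit 1), (nat_lit 1)), ((nat_lit 93), (nat_lit 57), (nat_lit 1), (nat_lit 1)), ((nat_lit 94), (nat_lit 58), (nat_lit 1), (nat_lit 1)), ((nat_lit 96),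 (nat_lit 61), (nat_lit 1), (nat_lit 1)), ((nat_lit 97), (nat_lit 64), (nat_lit 1), (nat_lit 1)), ((nat_lit 98), (nat_lit 68), (nat_lit 1), (nat_lit 1)), ((nat_lit 117), (nat_lit 71), (nat_lit 1), (nat_lit 1)), ((nat_lit 118), (nat_lit 72), (nat_lit 1), (nat_lit 1)), ((nat_lit 123), (nat_lit 74), (nat_lit 1), (nat_lit 1)), ((nat_lit 127), (nat_lit 75), (nat_lit 1), (nat_lit 1)), ((nat_lit 132), (nat_lit 76), (nat_lit 1), (nat_lit 1)), ((nat_lit 138), (nat_lit 77), (nat_lit 1), (nat_lit 1)), ((nat_lit 162), (nat_lit 101), (nat_lit 1), (nat_lit 1)), ((nat_lit 163), (nat_lit 107), (nat_lit 1), (nat_lit 1)), ((nat_lit 164), (nat_lit 112), (nat_lit 1), (nat_lit 1)), ((nat_lit 165), (nat_lit 116), (nat_lit 1), (nat_lit 1)), ((nat_lit 167), (nat_lit 121), (nat_lit 1), (nat_lit 1)), ((nat_lit 168), (nat_lit 122), (nat_lit 1), (nat_lit 1)), ((nat_lit 171), (nat_lit 141), (nat_lit 1), (nat_lit 1)), ((nat_lit 175), (nat_lit 142), (nat_lit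 1), (nat_lit 1)), ((nat_lit 178), (nat_lit 143), (nat_lit 1), (nat_lit 1)), ((nat_lit 181), (nat_lit 145), (nat_lit 1), (nat_lit 1)), ((nat_lit 182), (nat_lit 146), (nat_lit 1), (nat_lit 1)), ((nat_lit 185), (nat_lit 147), (nat_lit 1), (nat_lit 1)), ((nat_lit 188), (nat_lit 148), (nat_lit 1), (nat_lit 1)), ((nat_lit 191), (nat_lit 150), (nat_lit 1), (nat_lit 1)), ((nat_lit 192), (nat_lit 151), (nat_lit 1), (nat_lit 1)), ((nat_lit 194), (nat_lit 152), (nat_lit 1), (nat_lit 1)), ((nat_lit 197), (nat_lit 154), (nat_lit 1), (nat_lit 1)), ((nat_lit 198), (nat_lit 155), (nat_lit 1), (nat_lit 1)), ((nat_lit 200), (nat_lit 157), (nat_lit 1), (nat_lit 1)), ((nat_lit 201), (nat_lit 158), (nat_lit 1), (nat_lit 1)), ((nat_lit 203), (nat_lit 161), (nat_lit 1), (nat_lit 1)), ((nat_lit 226), (nat_lit 205), (nat_lit 1), (nat_lit 1)), ((nat_lit 227), (nat_lit 206), (nat_lit 1), (nat_lit 1)), ((nat_lit 229), (nat_lit 209), (nat_lit 1), (nat_lit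 1)), ((nat_lit 230), (nat_lit 212), (nat_lit 1), (nat_lit 1)), ((nat_lit 231), (nat_lit 216), (nat_lit 1), (nat_lit 1)), ((nat_lit 232), (nat_lit 221), (nat_lit 1), (nat_lit 1)), ((nat_lit 237), (nat_lit 225), (nat_lit 1), (nat_lit 1))]) (.leaf [((nat_lit 0), (nat_lit 30), (nat_lit 1), (nat_lit 1)), ((nat_lit 2), (nat_lit 32), (nat_lit 1), (nat_lit 1)), ((nat_lit 3), (nat_lit 34), (nat_lit 1), (nat_lit 1)), ((nat_lit 7), (nat_lit 53), (nat_lit 1), (nat_lit 1)), ((nat_lit 8), (nat_lit 63), (nat_lit 1), (nat_lit 1)), ((nat_lit 9), (nat_lit 67), (nat_lit 1), (nat_lit 1)), ((nat_lit 12), (nat_lit 70), (nat_lit 1), (nat_lit 1)), ((nat_lit 15), (nat_lit 85), (nat_lit 1), (nat_lit 1)), ((nat_lit 16), (nat_lit 89), (nat_lit 1), (nat_lit 1)), ((nat_lit 19), (nat_lit 92), (nat_lit 1), (nat_lit 1)), ((nat_lit 21), (nat_lit 94), (nat_lit 1), (nat_lit 1)), ((nat_lit 24), (nat_lit 97), (nat_lit 1), (nat_lit 1)), ((nat_lit 28), (nat_lit 98),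 (nat_lit 1), (nat_lit 1)), ((nat_lit 36), (nat_lit 115), (nat_lit 1), (nat_lit 1)), ((nat_lit 37), (nat_lit 118), (nat_lit 1), (nat_lit 1)), ((nat_lit 39), (nat_lit 120), (nat_lit 1), (nat_lit 1)), ((nat_lit 41), (nat_lit 126), (nat_lit 1), (nat_lit 1)), ((nat_lit 43), (nat_lit 127), (nat_lit 1), (nat_lit 1)), ((nat_lit 45), (nat_lit 129), (nat_lit 1), (nat_lit 1)), ((nat_lit 47), (nat_lit 131), (nat_lit 1), (nat_lit 1)), ((nat_lit 49), (nat_lit 132), (nat_lit 1), (nat_lit 1)), ((nat_lit 51), (nat_lit 134), (nat_lit 1), (nat_lit 1)), ((nat_lit 57), (nat_lit 137), (nat_lit 1), (nat_lit 1)), ((nat_lit 59), (nat_lit 138), (nat_lit 1), (nat_lit 1)), ((nat_lit 61), (nat_lit 140), (nat_lit 1), (nat_lit 1)), ((nat_lit 71), (nat_lit 156), (nat_lit 1), (nat_lit 1)), ((nat_lit 73), (nat_lit 158), (nat_lit 1), (nat_lit 1)), ((nat_lit 74), (nat_lit 160), (nat_lit 1), (nat_lit 1)), ((nat_lit 79), (nat_lit 165), (nat_lit 1), (nat_lit 1)), ((nat_lit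 81), (nat_lit 166), (nat_lit 1), (nat_lit 1)), ((nat_lit 83), (nat_lit 168), (nat_lit 1), (nat_lit 1)), ((nat_lit 99), (nat_lit 178), (nat_lit 1), (nat_lit 1)), ((nat_lit 101), (nat_lit 180), (nat_lit 1), (nat_lit 1)), ((nat_lit 102), (nat_lit 182), (nat_lit 1), (nat_lit 1)), ((nat_lit 105), (nat_lit 188), (nat_lit 1), (nat_lit 1)), ((nat_lit 107), (nat_lit 190), (nat_lit 1), (nat_lit 1)), ((nat_lit 108), (nat_lit 192), (nat_lit 1), (nat_lit 1)), ((nat_lit 110), (nat_lit 194), (nat_lit 1), (nat_lit 1)), ((nat_lit 112), (nat_lit 196), (nat_lit 1), (nat_lit 1)), ((nat_lit 113), (nat_lit 198), (nat_lit 1), (nat_lit 1)), ((nat_lit 119), (nat_lit 200), (nat_lit 1), (nat_lit 1)), ((nat_lit 121), (nat_lit 202), (nat_lit 1), (nat_lit 1)), ((nat_lit 124), (nat_lit 203), (nat_lit 1), (nat_lit 1)), ((nat_lit 141), (nat_lit 211), (nat_lit 1), (nat_lit 1)), ((nat_lit 142), (nat_lit 215), (nat_lit 1), (nat_lit 1)), ((nat_lit 145), (nat_lit 218),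 (nat_lit 1), (nat_lit 1)), ((nat_lit 147), (nat_lit 220), (nat_lit 1), (nat_lit 1)), ((nat_lit 150), (nat_lit 223), (nat_lit 1), (nat_lit 1)), ((nat_lit 154), (nat_lit 224), (nat_lit 1), (nat_lit 1)), ((nat_lit 169), (nat_lit 227), (nat_lit 1), (nat_lit 1)), ((nat_lit 172), (nat_lit 230), (nat_lit 1), (nat_lit 1)), ((nat_lit 176), (nat_lit 231), (nat_lit 1), (nat_lit 1)), ((nat_lit 186), (nat_lit 232), (nat_lit 1), (nat_lit 1)), ((nat_lit 205), (nat_lit 236), (nat_lit 1), (nat_lit 1)), ((nat_lit 207), (nat_lit 237), (nat_lit 1), (nat_lit 1)), ((nat_lit 209), (nat_lit 239), (nat_lit 1), (nat_lit 1))]))) (.node (.node (.leaf [((nat_lit 27), (nat_lit 0), (nat_lit 1), (nat_lit 1)), ((nat_lit 29), (nat_lit 2), (nat_lit 1), (nat_lit 1)), ((nat_lit 34), (nat_lit 4), (nat_lit 1), (nat_lit 1)), ((nat_lit 50), (nat_lit 7), (nat_lit 1), (nat_lit 1)), ((nat_lit 60), (nat_lit 8), (nat_lit 1), (nat_lit 1)), ((nat_lit 67), (nat_lit 10), (nat_lit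 1), (nat_lit 1)), ((nat_lit 69), (nat_lit 12), (nat_lit 1), (nat_lit 1)), ((nat_lit 82), (nat_lit 15), (nat_lit 1), (nat_lit 1)), ((nat_lit 89), (nat_lit 17), (nat_lit 1), (nat_lit 1)), ((nat_lit 91), (nat_lit 19), (nat_lit 1), (nat_lit 1)), ((nat_lit 94), (nat_lit 22), (nat_lit 1), (nat_lit 1)), ((nat_lit 96), (nat_lit 24), (nat_lit 1), (nat_lit 1)), ((nat_lit 98), (nat_lit 31), (nat_lit 1), (nat_lit 1)), ((nat_lit 111), (nat_lit 36), (nat_lit 1), (nat_lit 1)), ((nat_lit 113), (nat_lit 38), (nat_lit 1), (nat_lit 1)), ((nat_lit 118), (nat_lit 40), (nat_lit 1), (nat_lit 1)), ((nat_lit 120), (nat_lit 42), (nat_lit 1), (nat_lit 1)), ((nat_lit 123), (nat_lit 43), (nat_lit 1), (nat_lit 1)), ((nat_lit 125), (nat_lit 45), (nat_lit 1), (nat_lit 1)), ((nat_lit 130), (nat_lit 47), (nat_lit 1), (nat_lit 1)), ((nat_lit 132), (nat_lit 52), (nat_lit 1), (nat_lit 1)), ((nat_lit 134), (nat_lit 54), (nat_lit 1), (nat_lit 1)), ((nat_lit 136), (nat_lit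 57), (nat_lit 1), (nat_lit 1)), ((nat_lit 138), (nat_lit 62), (nat_lit 1), (nat_lit 1)), ((nat_lit 140), (nat_lit 64), (nat_lit 1), (nat_lit 1)), ((nat_lit 153), (nat_lit 71), (nat_lit 1), (nat_lit 1)), ((nat_lit 155), (nat_lit 73), (nat_lit 1), (nat_lit 1)), ((nat_lit 160), (nat_lit 75), (nat_lit 1), (nat_lit 1)), ((nat_lit 164), (nat_lit 79), (nat_lit 1), (nat_lit 1)), ((nat_lit 166), (nat_lit 84), (nat_lit 1), (nat_lit 1)), ((nat_lit 168), (nat_lit 86), (nat_lit 1), (nat_lit 1)), ((nat_lit 175), (nat_lit 99), (nat_lit 1), (nat_lit 1)), ((nat_lit 177), (nat_lit 101), (nat_lit 1), (nat_lit 1)), ((nat_lit 182), (nat_lit 103), (nat_lit 1), (nat_lit 1)), ((nat_lit 185), (nat_lit 105), (nat_lit 1), (nat_lit 1)), ((nat_lit 187), (nat_lit 107), (nat_lit 1), (nat_lit 1)), ((nat_lit 192), (nat_lit 109), (nat_lit 1), (nat_lit 1)), ((nat_lit 194), (nat_lit 114), (nat_lit 1), (nat_lit 1)), ((nat_lit 196), (nat_lit 116), (nat_lit 1), (nat_lit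 1)), ((nat_lit 197), (nat_lit 119), (nat_lit 1), (nat_lit 1)), ((nat_lit 199), (nat_lit 121), (nat_lit 1), (nat_lit 1)), ((nat_lit 201), (nat_lit 126), (nat_lit 1), (nat_lit 1)), ((nat_lit 203), (nat_lit 128), (nat_lit 1), (nat_lit 1)), ((nat_lit 208), (nat_lit 141), (nat_lit 1), (nat_lit 1)), ((nat_lit 215), (nat_lit 143), (nat_lit 1), (nat_lit 1)), ((nat_lit 217), (nat_lit 145), (nat_lit 1), (nat_lit 1)), ((nat_lit 220), (nat_lit 148), (nat_lit 1), (nat_lit 1)), ((nat_lit 222), (nat_lit 150), (nat_lit 1), (nat_lit 1)), ((nat_lit 224), (nat_lit 157), (nat_lit 1), (nat_lit 1)), ((nat_lit 227), (nat_lit 170), (nat_lit 1), (nat_lit 1)), ((nat_lit 229), (nat_lit 172), (nat_lit 1), (nat_lit 1)), ((nat_lit 231), (nat_lit 179), (nat_lit 1), (nat_lit 1)), ((nat_lit 232), (nat_lit 189), (nat_lit 1), (nat_lit 1)), ((nat_lit 235), (nat_lit 205), (nat_lit 1), (nat_lit 1)), ((nat_lit 237), (nat_lit 210), (nat_lit 1), (nat_lit 1)), ((nat_lit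 239), (nat_lit 212), (nat_lit 1), (nat_lit 1))]) (.leaf [((nat_lit 4), (nat_lit 15), (nat_lit 1), (nat_lit 1)), ((nat_lit 5), (nat_lit 16), (nat_lit 1), (nat_lit 1)), ((nat_lit 6), (nat_lit 21), (nat_lit 1), (nat_lit 1)), ((nat_lit 10), (nat_lit 36), (nat_lit 1), (nat_lit 1)), ((nat_lit 11), (nat_lit 37), (nat_lit 1), (nat_lit 1)), ((nat_lit 12), (nat_lit 38), (nat_lit 1), (nat_lit 1)), ((nat_lit 13), (nat_lit 39), (nat_lit 1), (nat_lit 1)), ((nat_lit 30), (nat_lit 78), (nat_lit 1), (nat_lit 1)), ((nat_lit 31), (nat_lit 79), (nat_lit 1), (nat_lit 1)), ((nat_lit 32), (nat_lit 80), (nat_lit 1), (nat_lit 1)), ((nat_lit 33), (nat_lit 81), (nat_lit 1), (nat_lit 1)), ((nat_lit 34), (nat_lit 82), (nat_lit 1), (nat_lit 1)), ((nat_lit 35), (nat_lit 83), (nat_lit 1), (nat_lit 1)), ((nat_lit 52), (nat_lit 99), (nat_lit 1), (nat_lit 1)), ((nat_lit 53), (nat_lit 100), (nat_lit 1), (nat_lit 1)), ((nat_lit 54), (nat_lit 101), (nat_lit 1), (nat_lit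 1)), ((nat_lit 55), (nat_lit 102), (nat_lit 1), (nat_lit 1)), ((nat_lit 62), (nat_lit 105), (nat_lit 1), (nat_lit 1)), ((nat_lit 63), (nat_lit 106), (nat_lit 1), (nat_lit 1)), ((nat_lit 64), (nat_lit 107), (nat_lit 1), (nat_lit 1)), ((nat_lit 65), (nat_lit 108), (nat_lit 1), (nat_lit 1)), ((nat_lit 66), (nat_lit 110), (nat_lit 1), (nat_lit 1)), ((nat_lit 67), (nat_lit 111), (nat_lit 1), (nat_lit 1)), ((nat_lit 68), (nat_lit 112), (nat_lit 1), (nat_lit 1)), ((nat_lit 69), (nat_lit 113), (nat_lit 1), (nat_lit 1)), ((nat_lit 75), (nat_lit 141), (nat_lit 1), (nat_lit 1)), ((nat_lit 76), (nat_lit 142), (nat_lit 1), (nat_lit 1)), ((nat_lit 77), (nat_lit 147), (nat_lit 1), (nat_lit 1)), ((nat_lit 92), (nat_lit 162), (nat_lit 1), (nat_lit 1)), ((nat_lit 97), (nat_lit 163), (nat_lit 1), (nat_lit 1)), ((nat_lit 98), (nat_lit 164), (nat_lit 1), (nat_lit 1)), ((nat_lit 126), (nat_lit 170), (nat_lit 1), (nat_lit 1)), ((nat_lit 127), (nat_lit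 171), (nat_lit 1), (nat_lit 1)), ((nat_lit 128), (nat_lit 172), (nat_lit 1), (nat_lit 1)), ((nat_lit 129), (nat_lit 173), (nat_lit 1), (nat_lit 1)), ((nat_lit 131), (nat_lit 174), (nat_lit 1), (nat_lit 1)), ((nat_lit 132), (nat_lit 175), (nat_lit 1), (nat_lit 1)), ((nat_lit 133), (nat_lit 176), (nat_lit 1), (nat_lit 1)), ((nat_lit 134), (nat_lit 177), (nat_lit 1), (nat_lit 1)), ((nat_lit 137), (nat_lit 184), (nat_lit 1), (nat_lit 1)), ((nat_lit 138), (nat_lit 185), (nat_lit 1), (nat_lit 1)), ((nat_lit 139), (nat_lit 186), (nat_lit 1), (nat_lit 1)), ((nat_lit 140), (nat_lit 187), (nat_lit 1), (nat_lit 1)), ((nat_lit 156), (nat_lit 204), (nat_lit 1), (nat_lit 1)), ((nat_lit 157), (nat_lit 205), (nat_lit 1), (nat_lit 1)), ((nat_lit 158), (nat_lit 206), (nat_lit 1), (nat_lit 1)), ((nat_lit 159), (nat_lit 207), (nat_lit 1), (nat_lit 1)), ((nat_lit 160), (nat_lit 208), (nat_lit 1), (nat_lit 1)), ((nat_lit 161), (nat_lit 209), (nat_lit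 1), (nat_lit 1)), ((nat_lit 200), (nat_lit 226), (nat_lit 1), (nat_lit 1)), ((nat_lit 201), (nat_lit 227), (nat_lit 1), (nat_lit 1)), ((nat_lit 202), (nat_lit 228), (nat_lit 1), (nat_lit 1)), ((nat_lit 203), (nat_lit 229), (nat_lit 1), (nat_lit 1)), ((nat_lit 218), (nat_lit 233), (nat_lit 1), (nat_lit 1)), ((nat_lit 223), (nat_lit 234), (nat_lit 1), (nat_lit 1)), ((nat_lit 224), (nat_lit 235), (nat_lit 1), (nat_lit 1))])) (.node (.leaf [((nat_lit 5), (nat_lit 0), (nat_lit 1), (nat_lit 1)), ((nat_lit 13), (nat_lit 8), (nat_lit 1), (nat_lit 1)), ((nat_lit 20), (nat_lit 15), (nat_lit 1), (nat_lit 1)), ((nat_lit 29), (nat_lit 21), (nat_lit 1), (nat_lit 1)), ((nat_lit 32), (nat_lit 22), (nat_lit 1), (nat_lit 1)), ((nat_lit 34), (nat_lit 23), (nat_lit 1), (nat_lit 1)), ((nat_lit 35), (nat_lit 24), (nat_lit 1), (nat_lit 1)), ((nat_lit 48), (nat_lit 36), (nat_lit 1), (nat_lit 1)), ((nat_lit 50), (nat_lit 37), (nat_lit 1), (nat_lit 1)),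 ((nat_lit 51), (nat_lit 38), (nat_lit 1), (nat_lit 1)), ((nat_lit 53), (nat_lit 40), (nat_lit 1), (nat_lit 1)), ((nat_lit 54), (nat_lit 41), (nat_lit 1), (nat_lit 1)), ((nat_lit 55), (nat_lit 43), (nat_lit 1), (nat_lit 1)), ((nat_lit 67), (nat_lit 56), (nat_lit 1), (nat_lit 1)), ((nat_lit 68), (nat_lit 57), (nat_lit 1), (nat_lit 1)), ((nat_lit 69), (nat_lit 59), (nat_lit 1), (nat_lit 1)), ((nat_lit 70), (nat_lit 62), (nat_lit 1), (nat_lit 1)), ((nat_lit 76), (nat_lit 71), (nat_lit 1), (nat_lit 1)), ((nat_lit 89), (nat_lit 78), (nat_lit 1), (nat_lit 1)), ((nat_lit 90), (nat_lit 79), (nat_lit 1), (nat_lit 1)), ((nat_lit 91), (nat_lit 81), (nat_lit 1), (nat_lit 1)), ((nat_lit 92), (nat_lit 84), (nat_lit 1), (nat_lit 1)), ((nat_lit 98), (nat_lit 93), (nat_lit 1), (nat_lit 1)), ((nat_lit 104), (nat_lit 99), (nat_lit 1), (nat_lit 1)), ((nat_lit 120), (nat_lit 106), (nat_lit 1), (nat_lit 1)), ((nat_lit 122), (nat_lit 107), (nat_lit 1),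 (nat_lit 1)), ((nat_lit 125), (nat_lit 108), (nat_lit 1), (nat_lit 1)), ((nat_lit 129), (nat_lit 109), (nat_lit 1), (nat_lit 1)), ((nat_lit 130), (nat_lit 110), (nat_lit 1), (nat_lit 1)), ((nat_lit 131), (nat_lit 114), (nat_lit 1), (nat_lit 1)), ((nat_lit 132), (nat_lit 117), (nat_lit 1), (nat_lit 1)), ((nat_lit 133), (nat_lit 119), (nat_lit 1), (nat_lit 1)), ((nat_lit 140), (nat_lit 135), (nat_lit 1), (nat_lit 1)), ((nat_lit 146), (nat_lit 141), (nat_lit 1), (nat_lit 1)), ((nat_lit 155), (nat_lit 147), (nat_lit 1), (nat_lit 1)), ((nat_lit 158), (nat_lit 148), (nat_lit 1), (nat_lit 1)), ((nat_lit 160), (nat_lit 149), (nat_lit 1), (nat_lit 1)), ((nat_lit 161), (nat_lit 150), (nat_lit 1), (nat_lit 1)), ((nat_lit 168), (nat_lit 163), (nat_lit 1), (nat_lit 1)), ((nat_lit 177), (nat_lit 169), (nat_lit 1), (nat_lit 1)), ((nat_lit 180), (nat_lit 170), (nat_lit 1), (nat_lit 1)), ((nat_lit 182), (nat_lit 171), (nat_lit 1), (nat_lit 1)),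 ((nat_lit 183), (nat_lit 172), (nat_lit 1), (nat_lit 1)), ((nat_lit 196), (nat_lit 184), (nat_lit 1), (nat_lit 1)), ((nat_lit 198), (nat_lit 185), (nat_lit 1), (nat_lit 1)), ((nat_lit 199), (nat_lit 186), (nat_lit 1), (nat_lit 1)), ((nat_lit 201), (nat_lit 188), (nat_lit 1), (nat_lit 1)), ((nat_lit 202), (nat_lit 189), (nat_lit 1), (nat_lit 1)), ((nat_lit 203), (nat_lit 191), (nat_lit 1), (nat_lit 1)), ((nat_lit 215), (nat_lit 204), (nat_lit 1), (nat_lit 1)), ((nat_lit 216), (nat_lit 205), (nat_lit 1), (nat_lit 1)), ((nat_lit 217), (nat_lit 207), (nat_lit 1), (nat_lit 1)), ((nat_lit 218), (nat_lit 210), (nat_lit 1), (nat_lit 1)), ((nat_lit 224), (nat_lit 219), (nat_lit 1), (nat_lit 1)), ((nat_lit 231), (nat_lit 226), (nat_lit 1), (nat_lit 1)), ((nat_lit 239), (nat_lit 234), (nat_lit 1), (nat_lit 1))]) (.leaf [((nat_lit 0), (nat_lit 99), (nat_lit 1), (nat_lit 1)), ((nat_lit 1), (nat_lit 100), (nat_lit 1), (nat_lit 1)), ((nat_lit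 2), (nat_lit 101), (nat_lit 1), (nat_lit 1)), ((nat_lit 3), (nat_lit 102), (nat_lit 1), (nat_lit 1)), ((nat_lit 4), (nat_lit 103), (nat_lit 1), (nat_lit 1)), ((nat_lit 5), (nat_lit 104), (nat_lit 1), (nat_lit 1)), ((nat_lit 8), (nat_lit 141), (nat_lit 1), (nat_lit 1)), ((nat_lit 9), (nat_lit 142), (nat_lit 1), (nat_lit 1)), ((nat_lit 10), (nat_lit 143), (nat_lit 1), (nat_lit 1)), ((nat_lit 11), (nat_lit 144), (nat_lit 1), (nat_lit 1)), ((nat_lit 12), (nat_lit 145), (nat_lit 1), (nat_lit 1)), ((nat_lit 13), (nat_lit 146), (nat_lit 1), (nat_lit 1)), ((nat_lit 14), (nat_lit 162), (nat_lit 1), (nat_lit 1)), ((nat_lit 21), (nat_lit 169), (nat_lit 1), (nat_lit 1)), ((nat_lit 22), (nat_lit 170), (nat_lit 1), (nat_lit 1)), ((nat_lit 23), (nat_lit 171), (nat_lit 1), (nat_lit 1)), ((nat_lit 24), (nat_lit 172), (nat_lit 1), (nat_lit 1)), ((nat_lit 25), (nat_lit 173), (nat_lit 1), (nat_lit 1)), ((nat_lit 26), (nat_lit 174), (nat_lit 1), (nat_lit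 1)), ((nat_lit 27), (nat_lit 175), (nat_lit 1), (nat_lit 1)), ((nat_lit 28), (nat_lit 176), (nat_lit 1), (nat_lit 1)), ((nat_lit 29), (nat_lit 177), (nat_lit 1), (nat_lit 1)), ((nat_lit 30), (nat_lit 178), (nat_lit 1), (nat_lit 1)), ((nat_lit 31), (nat_lit 179), (nat_lit 1), (nat_lit 1)), ((nat_lit 32), (nat_lit 180), (nat_lit 1), (nat_lit 1)), ((nat_lit 33), (nat_lit 181), (nat_lit 1), (nat_lit 1)), ((nat_lit 34), (nat_lit 182), (nat_lit 1), (nat_lit 1)), ((nat_lit 35), (nat_lit 183), (nat_lit 1), (nat_lit 1)), ((nat_lit 56), (nat_lit 204), (nat_lit 1), (nat_lit 1)), ((nat_lit 57), (nat_lit 205), (nat_lit 1), (nat_lit 1)), ((nat_lit 58), (nat_lit 206), (nat_lit 1), (nat_lit 1)), ((nat_lit 59), (nat_lit 207), (nat_lit 1), (nat_lit 1)), ((nat_lit 60), (nat_lit 208), (nat_lit 1), (nat_lit 1)), ((nat_lit 61), (nat_lit 209), (nat_lit 1), (nat_lit 1)), ((nat_lit 62), (nat_lit 210), (nat_lit 1), (nat_lit 1)), ((nat_lit 63), (nat_lit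 211), (nat_lit 1), (nat_lit 1)), ((nat_lit 64), (nat_lit 212), (nat_lit 1), (nat_lit 1)), ((nat_lit 65), (nat_lit 213), (nat_lit 1), (nat_lit 1)), ((nat_lit 66), (nat_lit 214), (nat_lit 1), (nat_lit 1)), ((nat_lit 67), (nat_lit 215), (nat_lit 1), (nat_lit 1)), ((nat_lit 68), (nat_lit 216), (nat_lit 1), (nat_lit 1)), ((nat_lit 69), (nat_lit 217), (nat_lit 1), (nat_lit 1)), ((nat_lit 70), (nat_lit 218), (nat_lit 1), (nat_lit 1)), ((nat_lit 77), (nat_lit 225), (nat_lit 1), (nat_lit 1)), ((nat_lit 93), (nat_lit 226), (nat_lit 1), (nat_lit 1)), ((nat_lit 94), (nat_lit 227), (nat_lit 1), (nat_lit 1)), ((nat_lit 95), (nat_lit 228), (nat_lit 1), (nat_lit 1)), ((nat_lit 96), (nat_lit 229), (nat_lit 1), (nat_lit 1)), ((nat_lit 97), (nat_lit 230), (nat_lit 1), (nat_lit 1)), ((nat_lit 98), (nat_lit 231), (nat_lit 1), (nat_lit 1)), ((nat_lit 135), (nat_lit 234), (nat_lit 1), (nat_lit 1)), ((nat_lit 136), (nat_lit 235), (nat_lit 1), (nat_lit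 1)), ((nat_lit 137), (nat_lit 236), (nat_lit 1), (nat_lit 1)), ((nat_lit 138), (nat_lit 237), (nat_lit 1), (nat_lit 1)), ((nat_lit 139), (nat_lit 238), (nat_lit 1), (nat_lit 1)), ((nat_lit 140), (nat_lit 239), (nat_lit 1), (nat_lit 1))])))) (.node (.node (.node (.leaf [((nat_lit 46), (nat_lit 1), (nat_lit 1), (nat_lit 1)), ((nat_lit 47), (nat_lit 2), (nat_lit 1), (nat_lit 1)), ((nat_lit 49), (nat_lit 3), (nat_lit 1), (nat_lit 1)), ((nat_lit 52), (nat_lit 4), (nat_lit 1), (nat_lit 1)), ((nat_lit 66), (nat_lit 6), (nat_lit 1), (nat_lit 1)), ((nat_lit 71), (nat_lit 8), (nat_lit 1), (nat_lit 1)), ((nat_lit 76), (nat_lit 13), (nat_lit 1), (nat_lit 1)), ((nat_lit 88), (nat_lit 14), (nat_lit 1), (nat_lit 1)), ((nat_lit 99), (nat_lit 15), (nat_lit 1), (nat_lit 1)), ((nat_lit 104), (nat_lit 20), (nat_lit 1), (nat_lit 1)), ((nat_lit 110), (nat_lit 21), (nat_lit 1), (nat_lit 1)), ((nat_lit 114), (nat_lit 22), (nat_lit 1), (nat_lit 1)), ((nat_lit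 117), (nat_lit 23), (nat_lit 1), (nat_lit 1)), ((nat_lit 119), (nat_lit 24), (nat_lit 1), (nat_lit 1)), ((nat_lit 130), (nat_lit 29), (nat_lit 1), (nat_lit 1)), ((nat_lit 131), (nat_lit 32), (nat_lit 1), (nat_lit 1)), ((nat_lit 132), (nat_lit 34), (nat_lit 1), (nat_lit 1)), ((nat_lit 133), (nat_lit 35), (nat_lit 1), (nat_lit 1)), ((nat_lit 142), (nat_lit 39), (nat_lit 1), (nat_lit 1)), ((nat_lit 143), (nat_lit 42), (nat_lit 1), (nat_lit 1)), ((nat_lit 144), (nat_lit 44), (nat_lit 1), (nat_lit 1)), ((nat_lit 145), (nat_lit 45), (nat_lit 1), (nat_lit 1)), ((nat_lit 152), (nat_lit 58), (nat_lit 1), (nat_lit 1)), ((nat_lit 153), (nat_lit 60), (nat_lit 1), (nat_lit 1)), ((nat_lit 154), (nat_lit 61), (nat_lit 1), (nat_lit 1)), ((nat_lit 156), (nat_lit 63), (nat_lit 1), (nat_lit 1)), ((nat_lit 157), (nat_lit 64), (nat_lit 1), (nat_lit 1)), ((nat_lit 159), (nat_lit 65), (nat_lit 1), (nat_lit 1)), ((nat_lit 174), (nat_lit 80), (nat_lit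 1), (nat_lit 1)), ((nat_lit 175), (nat_lit 82), (nat_lit 1), (nat_lit 1)), ((nat_lit 176), (nat_lit 83), (nat_lit 1), (nat_lit 1)), ((nat_lit 178), (nat_lit 85), (nat_lit 1), (nat_lit 1)), ((nat_lit 179), (nat_lit 86), (nat_lit 1), (nat_lit 1)), ((nat_lit 181), (nat_lit 87), (nat_lit 1), (nat_lit 1)), ((nat_lit 194), (nat_lit 94), (nat_lit 1), (nat_lit 1)), ((nat_lit 195), (nat_lit 95), (nat_lit 1), (nat_lit 1)), ((nat_lit 197), (nat_lit 96), (nat_lit 1), (nat_lit 1)), ((nat_lit 200), (nat_lit 97), (nat_lit 1), (nat_lit 1)), ((nat_lit 204), (nat_lit 106), (nat_lit 1), (nat_lit 1)), ((nat_lit 205), (nat_lit 107), (nat_lit 1), (nat_lit 1)), ((nat_lit 207), (nat_lit 108), (nat_lit 1), (nat_lit 1)), ((nat_lit 210), (nat_lit 109), (nat_lit 1), (nat_lit 1)), ((nat_lit 215), (nat_lit 120), (nat_lit 1), (nat_lit 1)), ((nat_lit 216), (nat_lit 122), (nat_lit 1), (nat_lit 1)), ((nat_lit 217), (nat_lit 125), (nat_lit 1), (nat_lit 1)), ((nat_lit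 218), (nat_lit 129), (nat_lit 1), (nat_lit 1)), ((nat_lit 219), (nat_lit 135), (nat_lit 1), (nat_lit 1)), ((nat_lit 224), (nat_lit 140), (nat_lit 1), (nat_lit 1)), ((nat_lit 225), (nat_lit 151), (nat_lit 1), (nat_lit 1)), ((nat_lit 226), (nat_lit 163), (nat_lit 1), (nat_lit 1)), ((nat_lit 231), (nat_lit 168), (nat_lit 1), (nat_lit 1)), ((nat_lit 233), (nat_lit 173), (nat_lit 1), (nat_lit 1)), ((nat_lit 235), (nat_lit 187), (nat_lit 1), (nat_lit 1)), ((nat_lit 236), (nat_lit 190), (nat_lit 1), (nat_lit 1)), ((nat_lit 237), (nat_lit 192), (nat_lit 1), (nat_lit 1)), ((nat_lit 238), (nat_lit 193), (nat_lit 1), (nat_lit 1))]) (.leaf [((nat_lit 2), (nat_lit 9), (nat_lit 1), (nat_lit 1)), ((nat_lit 4), (nat_lit 11), (nat_lit 1), (nat_lit 1)), ((nat_lit 14), (nat_lit 27), (nat_lit 1), (nat_lit 1)), ((nat_lit 15), (nat_lit 37), (nat_lit 1), (nat_lit 1)), ((nat_lit 17), (nat_lit 46), (nat_lit 1), (nat_lit 1)), ((nat_lit 19), (nat_lit 49),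 (nat_lit 1), (nat_lit 1)), ((nat_lit 20), (nat_lit 50), (nat_lit 1), (nat_lit 1)), ((nat_lit 22), (nat_lit 56), (nat_lit 1), (nat_lit 1)), ((nat_lit 24), (nat_lit 59), (nat_lit 1), (nat_lit 1)), ((nat_lit 25), (nat_lit 60), (nat_lit 1), (nat_lit 1)), ((nat_lit 31), (nat_lit 66), (nat_lit 1), (nat_lit 1)), ((nat_lit 32), (nat_lit 67), (nat_lit 1), (nat_lit 1)), ((nat_lit 35), (nat_lit 69), (nat_lit 1), (nat_lit 1)), ((nat_lit 41), (nat_lit 71), (nat_lit 1), (nat_lit 1)), ((nat_lit 42), (nat_lit 72), (nat_lit 1), (nat_lit 1)), ((nat_lit 45), (nat_lit 74), (nat_lit 1), (nat_lit 1)), ((nat_lit 54), (nat_lit 76), (nat_lit 1), (nat_lit 1)), ((nat_lit 64), (nat_lit 77), (nat_lit 1), (nat_lit 1)), ((nat_lit 79), (nat_lit 110), (nat_lit 1), (nat_lit 1)), ((nat_lit 80), (nat_lit 111), (nat_lit 1), (nat_lit 1)), ((nat_lit 83), (nat_lit 113), (nat_lit 1), (nat_lit 1)), ((nat_lit 84), (nat_lit 117), (nat_lit 1), (nat_lit 1)), ((nat_lit 85),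 (nat_lit 118), (nat_lit 1), (nat_lit 1)), ((nat_lit 87), (nat_lit 123), (nat_lit 1), (nat_lit 1)), ((nat_lit 90), (nat_lit 130), (nat_lit 1), (nat_lit 1)), ((nat_lit 92), (nat_lit 132), (nat_lit 1), (nat_lit 1)), ((nat_lit 95), (nat_lit 136), (nat_lit 1), (nat_lit 1)), ((nat_lit 97), (nat_lit 138), (nat_lit 1), (nat_lit 1)), ((nat_lit 101), (nat_lit 142), (nat_lit 1), (nat_lit 1)), ((nat_lit 103), (nat_lit 144), (nat_lit 1), (nat_lit 1)), ((nat_lit 107), (nat_lit 147), (nat_lit 1), (nat_lit 1)), ((nat_lit 109), (nat_lit 149), (nat_lit 1), (nat_lit 1)), ((nat_lit 116), (nat_lit 152), (nat_lit 1), (nat_lit 1)), ((nat_lit 121), (nat_lit 154), (nat_lit 1), (nat_lit 1)), ((nat_lit 122), (nat_lit 155), (nat_lit 1), (nat_lit 1)), ((nat_lit 126), (nat_lit 156), (nat_lit 1), (nat_lit 1)), ((nat_lit 128), (nat_lit 159), (nat_lit 1), (nat_lit 1)), ((nat_lit 129), (nat_lit 160), (nat_lit 1), (nat_lit 1)), ((nat_lit 162), (nat_lit 175), (nat_lit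 1), (nat_lit 1)), ((nat_lit 163), (nat_lit 185), (nat_lit 1), (nat_lit 1)), ((nat_lit 165), (nat_lit 194), (nat_lit 1), (nat_lit 1)), ((nat_lit 167), (nat_lit 197), (nat_lit 1), (nat_lit 1)), ((nat_lit 168), (nat_lit 198), (nat_lit 1), (nat_lit 1)), ((nat_lit 170), (nat_lit 204), (nat_lit 1), (nat_lit 1)), ((nat_lit 172), (nat_lit 207), (nat_lit 1), (nat_lit 1)), ((nat_lit 173), (nat_lit 208), (nat_lit 1), (nat_lit 1)), ((nat_lit 179), (nat_lit 214), (nat_lit 1), (nat_lit 1)), ((nat_lit 180), (nat_lit 215), (nat_lit 1), (nat_lit 1)), ((nat_lit 183), (nat_lit 217), (nat_lit 1), (nat_lit 1)), ((nat_lit 189), (nat_lit 219), (nat_lit 1), (nat_lit 1)), ((nat_lit 190), (nat_lit 220), (nat_lit 1), (nat_lit 1)), ((nat_lit 193), (nat_lit 222), (nat_lit 1), (nat_lit 1)), ((nat_lit 202), (nat_lit 224), (nat_lit 1), (nat_lit 1)), ((nat_lit 212), (nat_lit 225), (nat_lit 1), (nat_lit 1)), ((nat_lit 228), (nat_lit 235), (nat_lit 1), (nat_lit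 1)), ((nat_lit 230), (nat_lit 237), (nat_lit 1), (nat_lit 1))])) (.node (.leaf [((nat_lit 8), (nat_lit 1), (nat_lit 1), (nat_lit 1)), ((nat_lit 12), (nat_lit 5), (nat_lit 1), (nat_lit 1)), ((nat_lit 24), (nat_lit 14), (nat_lit 1), (nat_lit 1)), ((nat_lit 38), (nat_lit 16), (nat_lit 1), (nat_lit 1)), ((nat_lit 41), (nat_lit 17), (nat_lit 1), (nat_lit 1)), ((nat_lit 43), (nat_lit 18), (nat_lit 1), (nat_lit 1)), ((nat_lit 45), (nat_lit 20), (nat_lit 1), (nat_lit 1)), ((nat_lit 57), (nat_lit 26), (nat_lit 1), (nat_lit 1)), ((nat_lit 59), (nat_lit 27), (nat_lit 1), (nat_lit 1)), ((nat_lit 61), (nat_lit 29), (nat_lit 1), (nat_lit 1)), ((nat_lit 62), (nat_lit 30), (nat_lit 1), (nat_lit 1)), ((nat_lit 64), (nat_lit 32), (nat_lit 1), (nat_lit 1)), ((nat_lit 65), (nat_lit 34), (nat_lit 1), (nat_lit 1)), ((nat_lit 71), (nat_lit 46), (nat_lit 1), (nat_lit 1)), ((nat_lit 73), (nat_lit 48), (nat_lit 1), (nat_lit 1)), ((nat_lit 74), (nat_lit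 50), (nat_lit 1), (nat_lit 1)), ((nat_lit 75), (nat_lit 53), (nat_lit 1), (nat_lit 1)), ((nat_lit 77), (nat_lit 67), (nat_lit 1), (nat_lit 1)), ((nat_lit 105), (nat_lit 78), (nat_lit 1), (nat_lit 1)), ((nat_lit 107), (nat_lit 80), (nat_lit 1), (nat_lit 1)), ((nat_lit 108), (nat_lit 82), (nat_lit 1), (nat_lit 1)), ((nat_lit 109), (nat_lit 85), (nat_lit 1), (nat_lit 1)), ((nat_lit 119), (nat_lit 88), (nat_lit 1), (nat_lit 1)), ((nat_lit 121), (nat_lit 90), (nat_lit 1), (nat_lit 1)), ((nat_lit 124), (nat_lit 91), (nat_lit 1), (nat_lit 1)), ((nat_lit 128), (nat_lit 92), (nat_lit 1), (nat_lit 1)), ((nat_lit 135), (nat_lit 94), (nat_lit 1), (nat_lit 1)), ((nat_lit 139), (nat_lit 98), (nat_lit 1), (nat_lit 1)), ((nat_lit 141), (nat_lit 100), (nat_lit 1), (nat_lit 1)), ((nat_lit 145), (nat_lit 104), (nat_lit 1), (nat_lit 1)), ((nat_lit 147), (nat_lit 111), (nat_lit 1), (nat_lit 1)), ((nat_lit 148), (nat_lit 115), (nat_lit 1), (nat_lit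 1)), ((nat_lit 149), (nat_lit 118), (nat_lit 1), (nat_lit 1)), ((nat_lit 151), (nat_lit 120), (nat_lit 1), (nat_lit 1)), ((nat_lit 154), (nat_lit 130), (nat_lit 1), (nat_lit 1)), ((nat_lit 157), (nat_lit 131), (nat_lit 1), (nat_lit 1)), ((nat_lit 159), (nat_lit 132), (nat_lit 1), (nat_lit 1)), ((nat_lit 161), (nat_lit 134), (nat_lit 1), (nat_lit 1)), ((nat_lit 172), (nat_lit 162), (nat_lit 1), (nat_lit 1)), ((nat_lit 186), (nat_lit 164), (nat_lit 1), (nat_lit 1)), ((nat_lit 189), (nat_lit 165), (nat_lit 1), (nat_lit 1)), ((nat_lit 191), (nat_lit 166), (nat_lit 1), (nat_lit 1)), ((nat_lit 193), (nat_lit 168), (nat_lit 1), (nat_lit 1)), ((nat_lit 205), (nat_lit 174), (nat_lit 1), (nat_lit 1)), ((nat_lit 207), (nat_lit 175), (nat_lit 1), (nat_lit 1)), ((nat_lit 209), (nat_lit 177), (nat_lit 1), (nat_lit 1)), ((nat_lit 210), (nat_lit 178), (nat_lit 1), (nat_lit 1)), ((nat_lit 212), (nat_lit 180), (nat_lit 1), (nat_lit 1)), ((nat_lit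 213), (nat_lit 182), (nat_lit 1), (nat_lit 1)), ((nat_lit 219), (nat_lit 194), (nat_lit 1), (nat_lit 1)), ((nat_lit 221), (nat_lit 196), (nat_lit 1), (nat_lit 1)), ((nat_lit 222), (nat_lit 198), (nat_lit 1), (nat_lit 1)), ((nat_lit 223), (nat_lit 201), (nat_lit 1), (nat_lit 1)), ((nat_lit 225), (nat_lit 215), (nat_lit 1), (nat_lit 1)), ((nat_lit 234), (nat_lit 227), (nat_lit 1), (nat_lit 1)), ((nat_lit 238), (nat_lit 231), (nat_lit 1), (nat_lit 1))]) (.leaf [((nat_lit 0), (nat_lit 49), (nat_lit 1), (nat_lit 1)), ((nat_lit 1), (nat_lit 50), (nat_lit 1), (nat_lit 1)), ((nat_lit 2), (nat_lit 51), (nat_lit 1), (nat_lit 1)), ((nat_lit 4), (nat_lit 55), (nat_lit 1), (nat_lit 1)), ((nat_lit 6), (nat_lit 69), (nat_lit 1), (nat_lit 1)), ((nat_lit 8), (nat_lit 74), (nat_lit 1), (nat_lit 1)), ((nat_lit 10), (nat_lit 76), (nat_lit 1), (nat_lit 1)), ((nat_lit 14), (nat_lit 91), (nat_lit 1), (nat_lit 1)), ((nat_lit 15), (nat_lit 102), (nat_lit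 1), (nat_lit 1)), ((nat_lit 17), (nat_lit 104), (nat_lit 1), (nat_lit 1)), ((nat_lit 21), (nat_lit 113), (nat_lit 1), (nat_lit 1)), ((nat_lit 23), (nat_lit 123), (nat_lit 1), (nat_lit 1)), ((nat_lit 24), (nat_lit 124), (nat_lit 1), (nat_lit 1)), ((nat_lit 25), (nat_lit 125), (nat_lit 1), (nat_lit 1)), ((nat_lit 26), (nat_lit 130), (nat_lit 1), (nat_lit 1)), ((nat_lit 30), (nat_lit 132), (nat_lit 1), (nat_lit 1)), ((nat_lit 31), (nat_lit 133), (nat_lit 1), (nat_lit 1)), ((nat_lit 32), (nat_lit 134), (nat_lit 1), (nat_lit 1)), ((nat_lit 36), (nat_lit 142), (nat_lit 1), (nat_lit 1)), ((nat_lit 40), (nat_lit 144), (nat_lit 1), (nat_lit 1)), ((nat_lit 41), (nat_lit 145), (nat_lit 1), (nat_lit 1)), ((nat_lit 42), (nat_lit 146), (nat_lit 1), (nat_lit 1)), ((nat_lit 56), (nat_lit 153), (nat_lit 1), (nat_lit 1)), ((nat_lit 57), (nat_lit 154), (nat_lit 1), (nat_lit 1)), ((nat_lit 58), (nat_lit 155), (nat_lit 1), (nat_lit 1)), ((nat_lit 62),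 (nat_lit 159), (nat_lit 1), (nat_lit 1)), ((nat_lit 63), (nat_lit 160), (nat_lit 1), (nat_lit 1)), ((nat_lit 64), (nat_lit 161), (nat_lit 1), (nat_lit 1)), ((nat_lit 78), (nat_lit 175), (nat_lit 1), (nat_lit 1)), ((nat_lit 79), (nat_lit 176), (nat_lit 1), (nat_lit 1)), ((nat_lit 80), (nat_lit 177), (nat_lit 1), (nat_lit 1)), ((nat_lit 84), (nat_lit 181), (nat_lit 1), (nat_lit 1)), ((nat_lit 85), (nat_lit 182), (nat_lit 1), (nat_lit 1)), ((nat_lit 86), (nat_lit 183), (nat_lit 1), (nat_lit 1)), ((nat_lit 93), (nat_lit 197), (nat_lit 1), (nat_lit 1)), ((nat_lit 94), (nat_lit 198), (nat_lit 1), (nat_lit 1)), ((nat_lit 95), (nat_lit 199), (nat_lit 1), (nat_lit 1)), ((nat_lit 97), (nat_lit 203), (nat_lit 1), (nat_lit 1)), ((nat_lit 105), (nat_lit 207), (nat_lit 1), (nat_lit 1)), ((nat_lit 106), (nat_lit 208), (nat_lit 1), (nat_lit 1)), ((nat_lit 107), (nat_lit 209), (nat_lit 1), (nat_lit 1)), ((nat_lit 109), (nat_lit 213), (nat_lit 1),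 (nat_lit 1)), ((nat_lit 114), (nat_lit 214), (nat_lit 1), (nat_lit 1)), ((nat_lit 115), (nat_lit 215), (nat_lit 1), (nat_lit 1)), ((nat_lit 116), (nat_lit 216), (nat_lit 1), (nat_lit 1)), ((nat_lit 126), (nat_lit 218), (nat_lit 1), (nat_lit 1)), ((nat_lit 135), (nat_lit 222), (nat_lit 1), (nat_lit 1)), ((nat_lit 137), (nat_lit 224), (nat_lit 1), (nat_lit 1)), ((nat_lit 148), (nat_lit 225), (nat_lit 1), (nat_lit 1)), ((nat_lit 163), (nat_lit 229), (nat_lit 1), (nat_lit 1)), ((nat_lit 165), (nat_lit 231), (nat_lit 1), (nat_lit 1)), ((nat_lit 170), (nat_lit 233), (nat_lit 1), (nat_lit 1)), ((nat_lit 184), (nat_lit 235), (nat_lit 1), (nat_lit 1)), ((nat_lit 188), (nat_lit 237), (nat_lit 1), (nat_lit 1)), ((nat_lit 189), (nat_lit 238), (nat_lit 1), (nat_lit 1)), ((nat_lit 190), (nat_lit 239), (nat_lit 1), (nat_lit 1))]))) (.node (.node (.leaf [((nat_lit 18), (nat_lit 0), (nat_lit 1), (nat_lit 1)), ((nat_lit 20), (nat_lit 2), (nat_lit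 1), (nat_lit 1)), ((nat_lit 34), (nat_lit 6), (nat_lit 1), (nat_lit 1)), ((nat_lit 44), (nat_lit 8), (nat_lit 1), (nat_lit 1)), ((nat_lit 50), (nat_lit 9), (nat_lit 1), (nat_lit 1)), ((nat_lit 53), (nat_lit 10), (nat_lit 1), (nat_lit 1)), ((nat_lit 55), (nat_lit 12), (nat_lit 1), (nat_lit 1)), ((nat_lit 82), (nat_lit 21), (nat_lit 1), (nat_lit 1)), ((nat_lit 85), (nat_lit 22), (nat_lit 1), (nat_lit 1)), ((nat_lit 87), (nat_lit 24), (nat_lit 1), (nat_lit 1)), ((nat_lit 89), (nat_lit 26), (nat_lit 1), (nat_lit 1)), ((nat_lit 91), (nat_lit 28), (nat_lit 1), (nat_lit 1)), ((nat_lit 92), (nat_lit 31), (nat_lit 1), (nat_lit 1)), ((nat_lit 100), (nat_lit 36), (nat_lit 1), (nat_lit 1)), ((nat_lit 102), (nat_lit 38), (nat_lit 1), (nat_lit 1)), ((nat_lit 103), (nat_lit 41), (nat_lit 1), (nat_lit 1)), ((nat_lit 104), (nat_lit 47), (nat_lit 1), (nat_lit 1)), ((nat_lit 118), (nat_lit 56), (nat_lit 1), (nat_lit 1)), ((nat_lit 120), (nat_lit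 58), (nat_lit 1), (nat_lit 1)), ((nat_lit 123), (nat_lit 59), (nat_lit 1), (nat_lit 1)), ((nat_lit 125), (nat_lit 61), (nat_lit 1), (nat_lit 1)), ((nat_lit 127), (nat_lit 62), (nat_lit 1), (nat_lit 1)), ((nat_lit 129), (nat_lit 64), (nat_lit 1), (nat_lit 1)), ((nat_lit 132), (nat_lit 66), (nat_lit 1), (nat_lit 1)), ((nat_lit 134), (nat_lit 68), (nat_lit 1), (nat_lit 1)), ((nat_lit 144), (nat_lit 71), (nat_lit 1), (nat_lit 1)), ((nat_lit 146), (nat_lit 73), (nat_lit 1), (nat_lit 1)), ((nat_lit 160), (nat_lit 77), (nat_lit 1), (nat_lit 1)), ((nat_lit 162), (nat_lit 79), (nat_lit 1), (nat_lit 1)), ((nat_lit 166), (nat_lit 93), (nat_lit 1), (nat_lit 1)), ((nat_lit 168), (nat_lit 95), (nat_lit 1), (nat_lit 1)), ((nat_lit 171), (nat_lit 105), (nat_lit 1), (nat_lit 1)), ((nat_lit 173), (nat_lit 107), (nat_lit 1), (nat_lit 1)), ((nat_lit 175), (nat_lit 110), (nat_lit 1), (nat_lit 1)), ((nat_lit 177), (nat_lit 112), (nat_lit 1), (nat_lit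 1)), ((nat_lit 178), (nat_lit 114), (nat_lit 1), (nat_lit 1)), ((nat_lit 180), (nat_lit 116), (nat_lit 1), (nat_lit 1)), ((nat_lit 181), (nat_lit 119), (nat_lit 1), (nat_lit 1)), ((nat_lit 183), (nat_lit 121), (nat_lit 1), (nat_lit 1)), ((nat_lit 192), (nat_lit 135), (nat_lit 1), (nat_lit 1)), ((nat_lit 198), (nat_lit 136), (nat_lit 1), (nat_lit 1)), ((nat_lit 201), (nat_lit 137), (nat_lit 1), (nat_lit 1)), ((nat_lit 203), (nat_lit 139), (nat_lit 1), (nat_lit 1)), ((nat_lit 208), (nat_lit 147), (nat_lit 1), (nat_lit 1)), ((nat_lit 211), (nat_lit 148), (nat_lit 1), (nat_lit 1)), ((nat_lit 213), (nat_lit 150), (nat_lit 1), (nat_lit 1)), ((nat_lit 215), (nat_lit 152), (nat_lit 1), (nat_lit 1)), ((nat_lit 217), (nat_lit 154), (nat_lit 1), (nat_lit 1)), ((nat_lit 218), (nat_lit 157), (nat_lit 1), (nat_lit 1)), ((nat_lit 227), (nat_lit 184), (nat_lit 1), (nat_lit 1)), ((nat_lit 229), (nat_lit 186), (nat_lit 1), (nat_lit 1)), ((nat_lit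 230), (nat_lit 189), (nat_lit 1), (nat_lit 1)), ((nat_lit 231), (nat_lit 195), (nat_lit 1), (nat_lit 1)), ((nat_lit 233), (nat_lit 205), (nat_lit 1), (nat_lit 1)), ((nat_lit 237), (nat_lit 219), (nat_lit 1), (nat_lit 1)), ((nat_lit 239), (nat_lit 221), (nat_lit 1), (nat_lit 1))]) (.leaf [((nat_lit 2), (nat_lit 21), (nat_lit 1), (nat_lit 1)), ((nat_lit 4), (nat_lit 23), (nat_lit 1), (nat_lit 1)), ((nat_lit 5), (nat_lit 27), (nat_lit 1), (nat_lit 1)), ((nat_lit 7), (nat_lit 37), (nat_lit 1), (nat_lit 1)), ((nat_lit 10), (nat_lit 56), (nat_lit 1), (nat_lit 1)), ((nat_lit 12), (nat_lit 59), (nat_lit 1), (nat_lit 1)), ((nat_lit 13), (nat_lit 60), (nat_lit 1), (nat_lit 1)), ((nat_lit 17), (nat_lit 78), (nat_lit 1), (nat_lit 1)), ((nat_lit 19), (nat_lit 81), (nat_lit 1), (nat_lit 1)), ((nat_lit 20), (nat_lit 82), (nat_lit 1), (nat_lit 1)), ((nat_lit 31), (nat_lit 93), (nat_lit 1), (nat_lit 1)), ((nat_lit 32), (nat_lit 94), (nat_lit 1),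 (nat_lit 1)), ((nat_lit 35), (nat_lit 96), (nat_lit 1), (nat_lit 1)), ((nat_lit 41), (nat_lit 105), (nat_lit 1), (nat_lit 1)), ((nat_lit 42), (nat_lit 106), (nat_lit 1), (nat_lit 1)), ((nat_lit 45), (nat_lit 108), (nat_lit 1), (nat_lit 1)), ((nat_lit 47), (nat_lit 110), (nat_lit 1), (nat_lit 1)), ((nat_lit 48), (nat_lit 111), (nat_lit 1), (nat_lit 1)), ((nat_lit 51), (nat_lit 113), (nat_lit 1), (nat_lit 1)), ((nat_lit 52), (nat_lit 117), (nat_lit 1), (nat_lit 1)), ((nat_lit 53), (nat_lit 118), (nat_lit 1), (nat_lit 1)), ((nat_lit 55), (nat_lit 123), (nat_lit 1), (nat_lit 1)), ((nat_lit 64), (nat_lit 135), (nat_lit 1), (nat_lit 1)), ((nat_lit 68), (nat_lit 136), (nat_lit 1), (nat_lit 1)), ((nat_lit 70), (nat_lit 138), (nat_lit 1), (nat_lit 1)), ((nat_lit 73), (nat_lit 147), (nat_lit 1), (nat_lit 1)), ((nat_lit 75), (nat_lit 149), (nat_lit 1), (nat_lit 1)), ((nat_lit 76), (nat_lit 153), (nat_lit 1), (nat_lit 1)), ((nat_lit 86), (nat_lit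 163), (nat_lit 1), (nat_lit 1)), ((nat_lit 90), (nat_lit 164), (nat_lit 1), (nat_lit 1)), ((nat_lit 92), (nat_lit 166), (nat_lit 1), (nat_lit 1)), ((nat_lit 101), (nat_lit 169), (nat_lit 1), (nat_lit 1)), ((nat_lit 103), (nat_lit 171), (nat_lit 1), (nat_lit 1)), ((nat_lit 104), (nat_lit 175), (nat_lit 1), (nat_lit 1)), ((nat_lit 116), (nat_lit 184), (nat_lit 1), (nat_lit 1)), ((nat_lit 121), (nat_lit 186), (nat_lit 1), (nat_lit 1)), ((nat_lit 122), (nat_lit 187), (nat_lit 1), (nat_lit 1)), ((nat_lit 126), (nat_lit 188), (nat_lit 1), (nat_lit 1)), ((nat_lit 128), (nat_lit 191), (nat_lit 1), (nat_lit 1)), ((nat_lit 129), (nat_lit 192), (nat_lit 1), (nat_lit 1)), ((nat_lit 131), (nat_lit 194), (nat_lit 1), (nat_lit 1)), ((nat_lit 133), (nat_lit 197), (nat_lit 1), (nat_lit 1)), ((nat_lit 134), (nat_lit 198), (nat_lit 1), (nat_lit 1)), ((nat_lit 143), (nat_lit 204), (nat_lit 1), (nat_lit 1)), ((nat_lit 145), (nat_lit 207), (nat_lit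 1), (nat_lit 1)), ((nat_lit 146), (nat_lit 208), (nat_lit 1), (nat_lit 1)), ((nat_lit 157), (nat_lit 219), (nat_lit 1), (nat_lit 1)), ((nat_lit 158), (nat_lit 220), (nat_lit 1), (nat_lit 1)), ((nat_lit 161), (nat_lit 222), (nat_lit 1), (nat_lit 1)), ((nat_lit 179), (nat_lit 226), (nat_lit 1), (nat_lit 1)), ((nat_lit 180), (nat_lit 227), (nat_lit 1), (nat_lit 1)), ((nat_lit 183), (nat_lit 229), (nat_lit 1), (nat_lit 1)), ((nat_lit 202), (nat_lit 232), (nat_lit 1), (nat_lit 1)), ((nat_lit 212), (nat_lit 234), (nat_lit 1), (nat_lit 1)), ((nat_lit 216), (nat_lit 235), (nat_lit 1), (nat_lit 1)), ((nat_lit 218), (nat_lit 237), (nat_lit 1), (nat_lit 1))])) (.leaf [((nat_lit 1), (nat_lit 2), (nat_lit 1), (nat_lit 1)), ((nat_lit 11), (nat_lit 12), (nat_lit 1), (nat_lit 1)), ((nat_lit 18), (nat_lit 19), (nat_lit 1), (nat_lit 1)), ((nat_lit 23), (nat_lit 24), (nat_lit 1), (nat_lit 1)), ((nat_lit 27), (nat_lit 28), (nat_lit 1), (nat_lit 1)),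 ((nat_lit 30), (nat_lit 31), (nat_lit 1), (nat_lit 1)), ((nat_lit 34), (nat_lit 35), (nat_lit 1), (nat_lit 1)), ((nat_lit 37), (nat_lit 38), (nat_lit 1), (nat_lit 1)), ((nat_lit 40), (nat_lit 41), (nat_lit 1), (nat_lit 1)), ((nat_lit 44), (nat_lit 45), (nat_lit 1), (nat_lit 1)), ((nat_lit 46), (nat_lit 47), (nat_lit 1), (nat_lit 1)), ((nat_lit 50), (nat_lit 51), (nat_lit 1), (nat_lit 1)), ((nat_lit 53), (nat_lit 54), (nat_lit 1), (nat_lit 1)), ((nat_lit 56), (nat_lit 57), (nat_lit 1), (nat_lit 1)), ((nat_lit 60), (nat_lit 61), (nat_lit 1), (nat_lit 1)), ((nat_lit 63), (nat_lit 64), (nat_lit 1), (nat_lit 1)), ((nat_lit 67), (nat_lit 68), (nat_lit 1), (nat_lit 1)), ((nat_lit 72), (nat_lit 73), (nat_lit 1), (nat_lit 1)), ((nat_lit 78), (nat_lit 79), (nat_lit 1), (nat_lit 1)), ((nat_lit 82), (nat_lit 83), (nat_lit 1), (nat_lit 1)), ((nat_lit 85), (nat_lit 86), (nat_lit 1), (nat_lit 1)), ((nat_lit 89), (nat_lit 90), (nat_lit 1), (nat_lit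 1)), ((nat_lit 94), (nat_lit 95), (nat_lit 1), (nat_lit 1)), ((nat_lit 100), (nat_lit 101), (nat_lit 1), (nat_lit 1)), ((nat_lit 106), (nat_lit 107), (nat_lit 1), (nat_lit 1)), ((nat_lit 111), (nat_lit 112), (nat_lit 1), (nat_lit 1)), ((nat_lit 115), (nat_lit 116), (nat_lit 1), (nat_lit 1)), ((nat_lit 117), (nat_lit 119), (nat_lit 1), (nat_lit 1)), ((nat_lit 120), (nat_lit 122), (nat_lit 1), (nat_lit 1)), ((nat_lit 123), (nat_lit 124), (nat_lit 1), (nat_lit 1)), ((nat_lit 127), (nat_lit 128), (nat_lit 1), (nat_lit 1)), ((nat_lit 132), (nat_lit 133), (nat_lit 1), (nat_lit 1)), ((nat_lit 138), (nat_lit 139), (nat_lit 1), (nat_lit 1)), ((nat_lit 144), (nat_lit 145), (nat_lit 1), (nat_lit 1)), ((nat_lit 149), (nat_lit 150), (nat_lit 1), (nat_lit 1)), ((nat_lit 153), (nat_lit 154), (nat_lit 1), (nat_lit 1)), ((nat_lit 156), (nat_lit 157), (nat_lit 1), (nat_lit 1)), ((nat_lit 160), (nat_lit 161), (nat_lit 1), (nat_lit 1)), ((nat_lit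 166), (nat_lit 167), (nat_lit 1), (nat_lit 1)), ((nat_lit 171), (nat_lit 172), (nat_lit 1), (nat_lit 1)), ((nat_lit 175), (nat_lit 176), (nat_lit 1), (nat_lit 1)), ((nat_lit 178), (nat_lit 179), (nat_lit 1), (nat_lit 1)), ((nat_lit 182), (nat_lit 183), (nat_lit 1), (nat_lit 1)), ((nat_lit 185), (nat_lit 186), (nat_lit 1), (nat_lit 1)), ((nat_lit 188), (nat_lit 189), (nat_lit 1), (nat_lit 1)), ((nat_lit 192), (nat_lit 193), (nat_lit 1), (nat_lit 1)), ((nat_lit 194), (nat_lit 195), (nat_lit 1), (nat_lit 1)), ((nat_lit 198), (nat_lit 199), (nat_lit 1), (nat_lit 1)), ((nat_lit 201), (nat_lit 202), (nat_lit 1), (nat_lit 1)), ((nat_lit 204), (nat_lit 205), (nat_lit 1), (nat_lit 1)), ((nat_lit 208), (nat_lit 209), (nat_lit 1), (nat_lit 1)), ((nat_lit 211), (nat_lit 212), (nat_lit 1), (nat_lit 1)), ((nat_lit 215), (nat_lit 216), (nat_lit 1), (nat_lit 1)), ((nat_lit 220), (nat_lit 221), (nat_lit 1), (nat_lit 1)), ((nat_lit 227), (nat_lit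 228), (nat_lit 1), (nat_lit 1)), ((nat_lit 237), (nat_lit 238), (nat_lit 1), (nat_lit 1))])))

def rows10 : Tr (List Entry) :=
  .node (.node (.node (.node (.leaf [((nat_lit 105), (nat_lit 0), (nat_lit 1), (nat_lit 1)), ((nat_lit 106), (nat_lit 1), (nat_lit 1), (nat_lit 1)), ((nat_lit 107), (nat_lit 2), (nat_lit 1), (nat_lit 1)), ((nat_lit 108), (nat_lit 3), (nat_lit 1), (nat_lit 1)), ((nat_lit 109), (nat_lit 4), (nat_lit 1), (nat_lit 1)), ((nat_lit 135), (nat_lit 6), (nat_lit 1), (nat_lit 1)), ((nat_lit 141), (nat_lit 7), (nat_lit 1), (nat_lit 1)), ((nat_lit 147), (nat_lit 9), (nat_lit 1), (nat_lit 1)), ((nat_lit 148), (nat_lit 10), (nat_lit 1), (nat_lit 1)), ((nat_lit 149), (nat_lit 11), (nat_lit 1), (nat_lit 1)), ((nat_lit 150), (nat_lit 12), (nat_lit 1), (nat_lit 1)), ((nat_lit 151), (nat_lit 13), (nat_lit 1), (nat_lit 1)), ((nat_lit 163), (nat_lit 14), (nat_lit 1), (nat_lit 1)), ((nat_lit 169), (nat_lit 16), (nat_lit 1), (nat_lit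 1)), ((nat_lit 170), (nat_lit 17), (nat_lit 1), (nat_lit 1)), ((nat_lit 171), (nat_lit 18), (nat_lit 1), (nat_lit 1)), ((nat_lit 172), (nat_lit 19), (nat_lit 1), (nat_lit 1)), ((nat_lit 173), (nat_lit 20), (nat_lit 1), (nat_lit 1)), ((nat_lit 184), (nat_lit 26), (nat_lit 1), (nat_lit 1)), ((nat_lit 185), (nat_lit 27), (nat_lit 1), (nat_lit 1)), ((nat_lit 186), (nat_lit 28), (nat_lit 1), (nat_lit 1)), ((nat_lit 187), (nat_lit 29), (nat_lit 1), (nat_lit 1)), ((nat_lit 188), (nat_lit 30), (nat_lit 1), (nat_lit 1)), ((nat_lit 189), (nat_lit 31), (nat_lit 1), (nat_lit 1)), ((nat_lit 190), (nat_lit 32), (nat_lit 1), (nat_lit 1)), ((nat_lit 191), (nat_lit 33), (nat_lit 1), (nat_lit 1)), ((nat_lit 192), (nat_lit 34), (nat_lit 1), (nat_lit 1)), ((nat_lit 193), (nat_lit 35), (nat_lit 1), (nat_lit 1)), ((nat_lit 204), (nat_lit 46), (nat_lit 1), (nat_lit 1)), ((nat_lit 205), (nat_lit 47), (nat_lit 1), (nat_lit 1)), ((nat_lit 206), (nat_lit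 48), (nat_lit 1), (nat_lit 1)), ((nat_lit 207), (nat_lit 49), (nat_lit 1), (nat_lit 1)), ((nat_lit 208), (nat_lit 50), (nat_lit 1), (nat_lit 1)), ((nat_lit 209), (nat_lit 51), (nat_lit 1), (nat_lit 1)), ((nat_lit 210), (nat_lit 52), (nat_lit 1), (nat_lit 1)), ((nat_lit 211), (nat_lit 53), (nat_lit 1), (nat_lit 1)), ((nat_lit 212), (nat_lit 54), (nat_lit 1), (nat_lit 1)), ((nat_lit 213), (nat_lit 55), (nat_lit 1), (nat_lit 1)), ((nat_lit 219), (nat_lit 66), (nat_lit 1), (nat_lit 1)), ((nat_lit 220), (nat_lit 67), (nat_lit 1), (nat_lit 1)), ((nat_lit 221), (nat_lit 68), (nat_lit 1), (nat_lit 1)), ((nat_lit 222), (nat_lit 69), (nat_lit 1), (nat_lit 1)), ((nat_lit 223), (nat_lit 70), (nat_lit 1), (nat_lit 1)), ((nat_lit 225), (nat_lit 76), (nat_lit 1), (nat_lit 1)), ((nat_lit 226), (nat_lit 88), (nat_lit 1), (nat_lit 1)), ((nat_lit 227), (nat_lit 89), (nat_lit 1), (nat_lit 1)), ((nat_lit 228), (nat_lit 90), (nat_lit 1), (nat_lit 1)),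 ((nat_lit 229), (nat_lit 91), (nat_lit 1), (nat_lit 1)), ((nat_lit 230), (nat_lit 92), (nat_lit 1), (nat_lit 1)), ((nat_lit 232), (nat_lit 98), (nat_lit 1), (nat_lit 1)), ((nat_lit 233), (nat_lit 104), (nat_lit 1), (nat_lit 1)), ((nat_lit 235), (nat_lit 130), (nat_lit 1), (nat_lit 1)), ((nat_lit 236), (nat_lit 131), (nat_lit 1), (nat_lit 1)), ((nat_lit 237), (nat_lit 132), (nat_lit 1), (nat_lit 1)), ((nat_lit 238), (nat_lit 133), (nat_lit 1), (nat_lit 1)), ((nat_lit 239), (nat_lit 134), (nat_lit 1), (nat_lit 1))]) (.leaf [((nat_lit 1), (nat_lit 5), (nat_lit 1), (nat_lit 1)), ((nat_lit 8), (nat_lit 12), (nat_lit 1), (nat_lit 1)), ((nat_lit 15), (nat_lit 19), (nat_lit 1), (nat_lit 1)), ((nat_lit 21), (nat_lit 28), (nat_lit 1), (nat_lit 1)), ((nat_lit 22), (nat_lit 31), (nat_lit 1), (nat_lit 1)), ((nat_lit 23), (nat_lit 33), (nat_lit 1), (nat_lit 1)), ((nat_lit 25), (nat_lit 35), (nat_lit 1), (nat_lit 1)), ((nat_lit 36), (nat_lit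 47), (nat_lit 1), (nat_lit 1)), ((nat_lit 37), (nat_lit 49), (nat_lit 1), (nat_lit 1)), ((nat_lit 39), (nat_lit 51), (nat_lit 1), (nat_lit 1)), ((nat_lit 40), (nat_lit 52), (nat_lit 1), (nat_lit 1)), ((nat_lit 42), (nat_lit 54), (nat_lit 1), (nat_lit 1)), ((nat_lit 44), (nat_lit 55), (nat_lit 1), (nat_lit 1)), ((nat_lit 56), (nat_lit 66), (nat_lit 1), (nat_lit 1)), ((nat_lit 58), (nat_lit 68), (nat_lit 1), (nat_lit 1)), ((nat_lit 60), (nat_lit 69), (nat_lit 1), (nat_lit 1)), ((nat_lit 63), (nat_lit 70), (nat_lit 1), (nat_lit 1)), ((nat_lit 72), (nat_lit 76), (nat_lit 1), (nat_lit 1)), ((nat_lit 78), (nat_lit 88), (nat_lit 1), (nat_lit 1)), ((nat_lit 80), (nat_lit 90), (nat_lit 1), (nat_lit 1)), ((nat_lit 82), (nat_lit 91), (nat_lit 1), (nat_lit 1)), ((nat_lit 85), (nat_lit 92), (nat_lit 1), (nat_lit 1)), ((nat_lit 94), (nat_lit 98), (nat_lit 1), (nat_lit 1)), ((nat_lit 100), (nat_lit 104), (nat_lit 1), (nat_lit 1)), ((nat_lit 105),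 (nat_lit 119), (nat_lit 1), (nat_lit 1)), ((nat_lit 107), (nat_lit 121), (nat_lit 1), (nat_lit 1)), ((nat_lit 108), (nat_lit 124), (nat_lit 1), (nat_lit 1)), ((nat_lit 109), (nat_lit 128), (nat_lit 1), (nat_lit 1)), ((nat_lit 111), (nat_lit 130), (nat_lit 1), (nat_lit 1)), ((nat_lit 115), (nat_lit 131), (nat_lit 1), (nat_lit 1)), ((nat_lit 118), (nat_lit 132), (nat_lit 1), (nat_lit 1)), ((nat_lit 120), (nat_lit 134), (nat_lit 1), (nat_lit 1)), ((nat_lit 135), (nat_lit 139), (nat_lit 1), (nat_lit 1)), ((nat_lit 141), (nat_lit 145), (nat_lit 1), (nat_lit 1)), ((nat_lit 147), (nat_lit 154), (nat_lit 1), (nat_lit 1)), ((nat_lit 148), (nat_lit 157), (nat_lit 1), (nat_lit 1)), ((nat_lit 149), (nat_lit 159), (nat_lit 1), (nat_lit 1)), ((nat_lit 151), (nat_lit 161), (nat_lit 1), (nat_lit 1)), ((nat_lit 163), (nat_lit 167), (nat_lit 1), (nat_lit 1)), ((nat_lit 169), (nat_lit 176), (nat_lit 1), (nat_lit 1)), ((nat_lit 170), (nat_lit 179),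 (nat_lit 1), (nat_lit 1)), ((nat_lit 171), (nat_lit 181), (nat_lit 1), (nat_lit 1)), ((nat_lit 173), (nat_lit 183), (nat_lit 1), (nat_lit 1)), ((nat_lit 184), (nat_lit 195), (nat_lit 1), (nat_lit 1)), ((nat_lit 185), (nat_lit 197), (nat_lit 1), (nat_lit 1)), ((nat_lit 187), (nat_lit 199), (nat_lit 1), (nat_lit 1)), ((nat_lit 188), (nat_lit 200), (nat_lit 1), (nat_lit 1)), ((nat_lit 190), (nat_lit 202), (nat_lit 1), (nat_lit 1)), ((nat_lit 192), (nat_lit 203), (nat_lit 1), (nat_lit 1)), ((nat_lit 204), (nat_lit 214), (nat_lit 1), (nat_lit 1)), ((nat_lit 206), (nat_lit 216), (nat_lit 1), (nat_lit 1)), ((nat_lit 208), (nat_lit 217), (nat_lit 1), (nat_lit 1)), ((nat_lit 211), (nat_lit 218), (nat_lit 1), (nat_lit 1)), ((nat_lit 220), (nat_lit 224), (nat_lit 1), (nat_lit 1)), ((nat_lit 227), (nat_lit 231), (nat_lit 1), (nat_lit 1)), ((nat_lit 234), (nat_lit 238), (nat_lit 1), (nat_lit 1))])) (.node (.leaf [((nat_lit 15), (nat_lit 3),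 (nat_lit 1), (nat_lit 1)), ((nat_lit 17), (nat_lit 5), (nat_lit 1), (nat_lit 1)), ((nat_lit 22), (nat_lit 6), (nat_lit 1), (nat_lit 1)), ((nat_lit 36), (nat_lit 9), (nat_lit 1), (nat_lit 1)), ((nat_lit 40), (nat_lit 11), (nat_lit 1), (nat_lit 1)), ((nat_lit 41), (nat_lit 12), (nat_lit 1), (nat_lit 1)), ((nat_lit 42), (nat_lit 13), (nat_lit 1), (nat_lit 1)), ((nat_lit 78), (nat_lit 27), (nat_lit 1), (nat_lit 1)), ((nat_lit 79), (nat_lit 28), (nat_lit 1), (nat_lit 1)), ((nat_lit 80), (nat_lit 29), (nat_lit 1), (nat_lit 1)), ((nat_lit 84), (nat_lit 33), (nat_lit 1), (nat_lit 1)), ((nat_lit 85), (nat_lit 34), (nat_lit 1), (nat_lit 1)), ((nat_lit 86), (nat_lit 35), (nat_lit 1), (nat_lit 1)), ((nat_lit 99), (nat_lit 49), (nat_lit 1), (nat_lit 1)), ((nat_lit 100), (nat_lit 50), (nat_lit 1), (nat_lit 1)), ((nat_lit 101), (nat_lit 51), (nat_lit 1), (nat_lit 1)), ((nat_lit 103), (nat_lit 55), (nat_lit 1), (nat_lit 1)), ((nat_lit 105), (nat_lit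 59), (nat_lit 1), (nat_lit 1)), ((nat_lit 106), (nat_lit 60), (nat_lit 1), (nat_lit 1)), ((nat_lit 107), (nat_lit 61), (nat_lit 1), (nat_lit 1)), ((nat_lit 109), (nat_lit 65), (nat_lit 1), (nat_lit 1)), ((nat_lit 114), (nat_lit 66), (nat_lit 1), (nat_lit 1)), ((nat_lit 115), (nat_lit 67), (nat_lit 1), (nat_lit 1)), ((nat_lit 116), (nat_lit 68), (nat_lit 1), (nat_lit 1)), ((nat_lit 126), (nat_lit 70), (nat_lit 1), (nat_lit 1)), ((nat_lit 141), (nat_lit 74), (nat_lit 1), (nat_lit 1)), ((nat_lit 143), (nat_lit 76), (nat_lit 1), (nat_lit 1)), ((nat_lit 148), (nat_lit 77), (nat_lit 1), (nat_lit 1)), ((nat_lit 162), (nat_lit 91), (nat_lit 1), (nat_lit 1)), ((nat_lit 163), (nat_lit 96), (nat_lit 1), (nat_lit 1)), ((nat_lit 165), (nat_lit 98), (nat_lit 1), (nat_lit 1)), ((nat_lit 169), (nat_lit 113), (nat_lit 1), (nat_lit 1)), ((nat_lit 171), (nat_lit 123), (nat_lit 1), (nat_lit 1)), ((nat_lit 172), (nat_lit 124), (nat_lit 1), (nat_lit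 1)), ((nat_lit 173), (nat_lit 125), (nat_lit 1), (nat_lit 1)), ((nat_lit 174), (nat_lit 130), (nat_lit 1), (nat_lit 1)), ((nat_lit 178), (nat_lit 132), (nat_lit 1), (nat_lit 1)), ((nat_lit 179), (nat_lit 133), (nat_lit 1), (nat_lit 1)), ((nat_lit 180), (nat_lit 134), (nat_lit 1), (nat_lit 1)), ((nat_lit 184), (nat_lit 136), (nat_lit 1), (nat_lit 1)), ((nat_lit 188), (nat_lit 138), (nat_lit 1), (nat_lit 1)), ((nat_lit 189), (nat_lit 139), (nat_lit 1), (nat_lit 1)), ((nat_lit 190), (nat_lit 140), (nat_lit 1), (nat_lit 1)), ((nat_lit 204), (nat_lit 153), (nat_lit 1), (nat_lit 1)), ((nat_lit 205), (nat_lit 154), (nat_lit 1), (nat_lit 1)), ((nat_lit 206), (nat_lit 155), (nat_lit 1), (nat_lit 1)), ((nat_lit 210), (nat_lit 159), (nat_lit 1), (nat_lit 1)), ((nat_lit 211), (nat_lit 160), (nat_lit 1), (nat_lit 1)), ((nat_lit 212), (nat_lit 161), (nat_lit 1), (nat_lit 1)), ((nat_lit 226), (nat_lit 197), (nat_lit 1), (nat_lit 1)), ((nat_lit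 227), (nat_lit 198), (nat_lit 1), (nat_lit 1)), ((nat_lit 228), (nat_lit 199), (nat_lit 1), (nat_lit 1)), ((nat_lit 230), (nat_lit 203), (nat_lit 1), (nat_lit 1)), ((nat_lit 233), (nat_lit 217), (nat_lit 1), (nat_lit 1)), ((nat_lit 234), (nat_lit 222), (nat_lit 1), (nat_lit 1)), ((nat_lit 236), (nat_lit 224), (nat_lit 1), (nat_lit 1))]) (.leaf [((nat_lit 1), (nat_lit 27), (nat_lit 1), (nat_lit 1)), ((nat_lit 2), (nat_lit 28), (nat_lit 1), (nat_lit 1)), ((nat_lit 4), (nat_lit 33), (nat_lit 1), (nat_lit 1)), ((nat_lit 7), (nat_lit 49), (nat_lit 1), (nat_lit 1)), ((nat_lit 8), (nat_lit 59), (nat_lit 1), (nat_lit 1)), ((nat_lit 10), (nat_lit 66), (nat_lit 1), (nat_lit 1)), ((nat_lit 13), (nat_lit 69), (nat_lit 1), (nat_lit 1)), ((nat_lit 15), (nat_lit 81), (nat_lit 1), (nat_lit 1)), ((nat_lit 17), (nat_lit 88), (nat_lit 1), (nat_lit 1)), ((nat_lit 20), (nat_lit 91), (nat_lit 1), (nat_lit 1)), ((nat_lit 22), (nat_lit 93), (nat_lit 1),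 (nat_lit 1)), ((nat_lit 25), (nat_lit 96), (nat_lit 1), (nat_lit 1)), ((nat_lit 32), (nat_lit 98), (nat_lit 1), (nat_lit 1)), ((nat_lit 36), (nat_lit 110), (nat_lit 1), (nat_lit 1)), ((nat_lit 39), (nat_lit 113), (nat_lit 1), (nat_lit 1)), ((nat_lit 40), (nat_lit 117), (nat_lit 1), (nat_lit 1)), ((nat_lit 41), (nat_lit 119), (nat_lit 1), (nat_lit 1)), ((nat_lit 44), (nat_lit 123), (nat_lit 1), (nat_lit 1)), ((nat_lit 45), (nat_lit 124), (nat_lit 1), (nat_lit 1)), ((nat_lit 48), (nat_lit 130), (nat_lit 1), (nat_lit 1)), ((nat_lit 53), (nat_lit 132), (nat_lit 1), (nat_lit 1)), ((nat_lit 54), (nat_lit 133), (nat_lit 1), (nat_lit 1)), ((nat_lit 58), (nat_lit 136), (nat_lit 1), (nat_lit 1)), ((nat_lit 63), (nat_lit 138), (nat_lit 1), (nat_lit 1)), ((nat_lit 64), (nat_lit 139), (nat_lit 1), (nat_lit 1)), ((nat_lit 72), (nat_lit 153), (nat_lit 1), (nat_lit 1)), ((nat_lit 73), (nat_lit 154), (nat_lit 1), (nat_lit 1)), ((nat_lit 75), (nat_lit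 159), (nat_lit 1), (nat_lit 1)), ((nat_lit 80), (nat_lit 164), (nat_lit 1), (nat_lit 1)), ((nat_lit 85), (nat_lit 166), (nat_lit 1), (nat_lit 1)), ((nat_lit 86), (nat_lit 167), (nat_lit 1), (nat_lit 1)), ((nat_lit 100), (nat_lit 175), (nat_lit 1), (nat_lit 1)), ((nat_lit 101), (nat_lit 176), (nat_lit 1), (nat_lit 1)), ((nat_lit 103), (nat_lit 181), (nat_lit 1), (nat_lit 1)), ((nat_lit 106), (nat_lit 185), (nat_lit 1), (nat_lit 1)), ((nat_lit 107), (nat_lit 186), (nat_lit 1), (nat_lit 1)), ((nat_lit 109), (nat_lit 191), (nat_lit 1), (nat_lit 1)), ((nat_lit 115), (nat_lit 194), (nat_lit 1), (nat_lit 1)), ((nat_lit 116), (nat_lit 195), (nat_lit 1), (nat_lit 1)), ((nat_lit 120), (nat_lit 198), (nat_lit 1), (nat_lit 1)), ((nat_lit 122), (nat_lit 199), (nat_lit 1), (nat_lit 1)), ((nat_lit 126), (nat_lit 200), (nat_lit 1), (nat_lit 1)), ((nat_lit 129), (nat_lit 203), (nat_lit 1), (nat_lit 1)), ((nat_lit 141), (nat_lit 207), (nat_lit 1),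 (nat_lit 1)), ((nat_lit 143), (nat_lit 214), (nat_lit 1), (nat_lit 1)), ((nat_lit 146), (nat_lit 217), (nat_lit 1), (nat_lit 1)), ((nat_lit 148), (nat_lit 219), (nat_lit 1), (nat_lit 1)), ((nat_lit 151), (nat_lit 222), (nat_lit 1), (nat_lit 1)), ((nat_lit 158), (nat_lit 224), (nat_lit 1), (nat_lit 1)), ((nat_lit 170), (nat_lit 226), (nat_lit 1), (nat_lit 1)), ((nat_lit 173), (nat_lit 229), (nat_lit 1), (nat_lit 1)), ((nat_lit 180), (nat_lit 231), (nat_lit 1), (nat_lit 1)), ((nat_lit 190), (nat_lit 232), (nat_lit 1), (nat_lit 1)), ((nat_lit 206), (nat_lit 235), (nat_lit 1), (nat_lit 1)), ((nat_lit 211), (nat_lit 237), (nat_lit 1), (nat_lit 1)), ((nat_lit 212), (nat_lit 238), (nat_lit 1), (nat_lit 1))]))) (.node (.node (.leaf [((nat_lit 31), (nat_lit 0), (nat_lit 1), (nat_lit 1)), ((nat_lit 32), (nat_lit 1), (nat_lit 1), (nat_lit 1)), ((nat_lit 35), (nat_lit 3), (nat_lit 1), (nat_lit 1)), ((nat_lit 54), (nat_lit 7), (nat_lit 1),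 (nat_lit 1)), ((nat_lit 64), (nat_lit 8), (nat_lit 1), (nat_lit 1)), ((nat_lit 68), (nat_lit 9), (nat_lit 1), (nat_lit 1)), ((nat_lit 70), (nat_lit 11), (nat_lit 1), (nat_lit 1)), ((nat_lit 86), (nat_lit 15), (nat_lit 1), (nat_lit 1)), ((nat_lit 90), (nat_lit 16), (nat_lit 1), (nat_lit 1)), ((nat_lit 92), (nat_lit 18), (nat_lit 1), (nat_lit 1)), ((nat_lit 95), (nat_lit 21), (nat_lit 1), (nat_lit 1)), ((nat_lit 97), (nat_lit 23), (nat_lit 1), (nat_lit 1)), ((nat_lit 98), (nat_lit 27), (nat_lit 1), (nat_lit 1)), ((nat_lit 116), (nat_lit 36), (nat_lit 1), (nat_lit 1)), ((nat_lit 121), (nat_lit 38), (nat_lit 1), (nat_lit 1)), ((nat_lit 122), (nat_lit 39), (nat_lit 1), (nat_lit 1)), ((nat_lit 126), (nat_lit 40), (nat_lit 1), (nat_lit 1)), ((nat_lit 128), (nat_lit 43), (nat_lit 1), (nat_lit 1)), ((nat_lit 129), (nat_lit 44), (nat_lit 1), (nat_lit 1)), ((nat_lit 131), (nat_lit 46), (nat_lit 1), (nat_lit 1)), ((nat_lit 133), (nat_lit 49),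 (nat_lit 1), (nat_lit 1)), ((nat_lit 134), (nat_lit 50), (nat_lit 1), (nat_lit 1)), ((nat_lit 137), (nat_lit 56), (nat_lit 1), (nat_lit 1)), ((nat_lit 139), (nat_lit 59), (nat_lit 1), (nat_lit 1)), ((nat_lit 140), (nat_lit 60), (nat_lit 1), (nat_lit 1)), ((nat_lit 157), (nat_lit 71), (nat_lit 1), (nat_lit 1)), ((nat_lit 158), (nat_lit 72), (nat_lit 1), (nat_lit 1)), ((nat_lit 161), (nat_lit 74), (nat_lit 1), (nat_lit 1)), ((nat_lit 165), (nat_lit 78), (nat_lit 1), (nat_lit 1)), ((nat_lit 167), (nat_lit 81), (nat_lit 1), (nat_lit 1)), ((nat_lit 168), (nat_lit 82), (nat_lit 1), (nat_lit 1)), ((nat_lit 179), (nat_lit 99), (nat_lit 1), (nat_lit 1)), ((nat_lit 180), (nat_lit 100), (nat_lit 1), (nat_lit 1)), ((nat_lit 183), (nat_lit 102), (nat_lit 1), (nat_lit 1)), ((nat_lit 189), (nat_lit 105), (nat_lit 1), (nat_lit 1)), ((nat_lit 190), (nat_lit 106), (nat_lit 1), (nat_lit 1)), ((nat_lit 193), (nat_lit 108), (nat_lit 1), (nat_lit 1)),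 ((nat_lit 195), (nat_lit 110), (nat_lit 1), (nat_lit 1)), ((nat_lit 196), (nat_lit 111), (nat_lit 1), (nat_lit 1)), ((nat_lit 199), (nat_lit 113), (nat_lit 1), (nat_lit 1)), ((nat_lit 200), (nat_lit 117), (nat_lit 1), (nat_lit 1)), ((nat_lit 201), (nat_lit 118), (nat_lit 1), (nat_lit 1)), ((nat_lit 203), (nat_lit 123), (nat_lit 1), (nat_lit 1)), ((nat_lit 212), (nat_lit 141), (nat_lit 1), (nat_lit 1)), ((nat_lit 216), (nat_lit 142), (nat_lit 1), (nat_lit 1)), ((nat_lit 218), (nat_lit 144), (nat_lit 1), (nat_lit 1)), ((nat_lit 221), (nat_lit 147), (nat_lit 1), (nat_lit 1)), ((nat_lit 223), (nat_lit 149), (nat_lit 1), (nat_lit 1)), ((nat_lit 224), (nat_lit 153), (nat_lit 1), (nat_lit 1)), ((nat_lit 228), (nat_lit 169), (nat_lit 1), (nat_lit 1)), ((nat_lit 230), (nat_lit 171), (nat_lit 1), (nat_lit 1)), ((nat_lit 231), (nat_lit 175), (nat_lit 1), (nat_lit 1)), ((nat_lit 232), (nat_lit 185), (nat_lit 1), (nat_lit 1)), ((nat_lit 236),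 (nat_lit 204), (nat_lit 1), (nat_lit 1)), ((nat_lit 238), (nat_lit 207), (nat_lit 1), (nat_lit 1)), ((nat_lit 239), (nat_lit 208), (nat_lit 1), (nat_lit 1))]) (.leaf [((nat_lit 3), (nat_lit 14), (nat_lit 1), (nat_lit 1)), ((nat_lit 7), (nat_lit 17), (nat_lit 1), (nat_lit 1)), ((nat_lit 8), (nat_lit 22), (nat_lit 1), (nat_lit 1)), ((nat_lit 9), (nat_lit 26), (nat_lit 1), (nat_lit 1)), ((nat_lit 11), (nat_lit 30), (nat_lit 1), (nat_lit 1)), ((nat_lit 12), (nat_lit 31), (nat_lit 1), (nat_lit 1)), ((nat_lit 13), (nat_lit 32), (nat_lit 1), (nat_lit 1)), ((nat_lit 37), (nat_lit 78), (nat_lit 1), (nat_lit 1)), ((nat_lit 38), (nat_lit 79), (nat_lit 1), (nat_lit 1)), ((nat_lit 39), (nat_lit 80), (nat_lit 1), (nat_lit 1)), ((nat_lit 43), (nat_lit 84), (nat_lit 1), (nat_lit 1)), ((nat_lit 44), (nat_lit 85), (nat_lit 1), (nat_lit 1)), ((nat_lit 45), (nat_lit 86), (nat_lit 1), (nat_lit 1)), ((nat_lit 49), (nat_lit 88), (nat_lit 1), (nat_lit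 1)), ((nat_lit 50), (nat_lit 89), (nat_lit 1), (nat_lit 1)), ((nat_lit 51), (nat_lit 90), (nat_lit 1), (nat_lit 1)), ((nat_lit 55), (nat_lit 92), (nat_lit 1), (nat_lit 1)), ((nat_lit 59), (nat_lit 93), (nat_lit 1), (nat_lit 1)), ((nat_lit 60), (nat_lit 94), (nat_lit 1), (nat_lit 1)), ((nat_lit 61), (nat_lit 95), (nat_lit 1), (nat_lit 1)), ((nat_lit 65), (nat_lit 97), (nat_lit 1), (nat_lit 1)), ((nat_lit 69), (nat_lit 98), (nat_lit 1), (nat_lit 1)), ((nat_lit 71), (nat_lit 114), (nat_lit 1), (nat_lit 1)), ((nat_lit 72), (nat_lit 115), (nat_lit 1), (nat_lit 1)), ((nat_lit 73), (nat_lit 116), (nat_lit 1), (nat_lit 1)), ((nat_lit 75), (nat_lit 126), (nat_lit 1), (nat_lit 1)), ((nat_lit 76), (nat_lit 131), (nat_lit 1), (nat_lit 1)), ((nat_lit 77), (nat_lit 137), (nat_lit 1), (nat_lit 1)), ((nat_lit 102), (nat_lit 162), (nat_lit 1), (nat_lit 1)), ((nat_lit 108), (nat_lit 163), (nat_lit 1), (nat_lit 1)), ((nat_lit 113), (nat_lit 164),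 (nat_lit 1), (nat_lit 1)), ((nat_lit 123), (nat_lit 166), (nat_lit 1), (nat_lit 1)), ((nat_lit 124), (nat_lit 167), (nat_lit 1), (nat_lit 1)), ((nat_lit 125), (nat_lit 168), (nat_lit 1), (nat_lit 1)), ((nat_lit 141), (nat_lit 170), (nat_lit 1), (nat_lit 1)), ((nat_lit 142), (nat_lit 174), (nat_lit 1), (nat_lit 1)), ((nat_lit 144), (nat_lit 178), (nat_lit 1), (nat_lit 1)), ((nat_lit 145), (nat_lit 179), (nat_lit 1), (nat_lit 1)), ((nat_lit 146), (nat_lit 180), (nat_lit 1), (nat_lit 1)), ((nat_lit 147), (nat_lit 184), (nat_lit 1), (nat_lit 1)), ((nat_lit 149), (nat_lit 188), (nat_lit 1), (nat_lit 1)), ((nat_lit 150), (nat_lit 189), (nat_lit 1), (nat_lit 1)), ((nat_lit 151), (nat_lit 190), (nat_lit 1), (nat_lit 1)), ((nat_lit 153), (nat_lit 194), (nat_lit 1), (nat_lit 1)), ((nat_lit 154), (nat_lit 195), (nat_lit 1), (nat_lit 1)), ((nat_lit 155), (nat_lit 196), (nat_lit 1), (nat_lit 1)), ((nat_lit 159), (nat_lit 200), (nat_lit 1),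 (nat_lit 1)), ((nat_lit 160), (nat_lit 201), (nat_lit 1), (nat_lit 1)), ((nat_lit 161), (nat_lit 202), (nat_lit 1), (nat_lit 1)), ((nat_lit 207), (nat_lit 226), (nat_lit 1), (nat_lit 1)), ((nat_lit 208), (nat_lit 227), (nat_lit 1), (nat_lit 1)), ((nat_lit 209), (nat_lit 228), (nat_lit 1), (nat_lit 1)), ((nat_lit 213), (nat_lit 230), (nat_lit 1), (nat_lit 1)), ((nat_lit 217), (nat_lit 231), (nat_lit 1), (nat_lit 1)), ((nat_lit 222), (nat_lit 232), (nat_lit 1), (nat_lit 1)), ((nat_lit 225), (nat_lit 236), (nat_lit 1), (nat_lit 1))])) (.node (.leaf [((nat_lit 6), (nat_lit 2), (nat_lit 1), (nat_lit 1)), ((nat_lit 11), (nat_lit 7), (nat_lit 1), (nat_lit 1)), ((nat_lit 23), (nat_lit 15), (nat_lit 1), (nat_lit 1)), ((nat_lit 27), (nat_lit 16), (nat_lit 1), (nat_lit 1)), ((nat_lit 30), (nat_lit 17), (nat_lit 1), (nat_lit 1)), ((nat_lit 33), (nat_lit 19), (nat_lit 1), (nat_lit 1)), ((nat_lit 34), (nat_lit 20), (nat_lit 1), (nat_lit 1)),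 ((nat_lit 56), (nat_lit 36), (nat_lit 1), (nat_lit 1)), ((nat_lit 59), (nat_lit 38), (nat_lit 1), (nat_lit 1)), ((nat_lit 60), (nat_lit 39), (nat_lit 1), (nat_lit 1)), ((nat_lit 62), (nat_lit 41), (nat_lit 1), (nat_lit 1)), ((nat_lit 63), (nat_lit 42), (nat_lit 1), (nat_lit 1)), ((nat_lit 65), (nat_lit 45), (nat_lit 1), (nat_lit 1)), ((nat_lit 66), (nat_lit 47), (nat_lit 1), (nat_lit 1)), ((nat_lit 67), (nat_lit 48), (nat_lit 1), (nat_lit 1)), ((nat_lit 69), (nat_lit 51), (nat_lit 1), (nat_lit 1)), ((nat_lit 70), (nat_lit 54), (nat_lit 1), (nat_lit 1)), ((nat_lit 77), (nat_lit 73), (nat_lit 1), (nat_lit 1)), ((nat_lit 93), (nat_lit 79), (nat_lit 1), (nat_lit 1)), ((nat_lit 94), (nat_lit 80), (nat_lit 1), (nat_lit 1)), ((nat_lit 96), (nat_lit 83), (nat_lit 1), (nat_lit 1)), ((nat_lit 97), (nat_lit 86), (nat_lit 1), (nat_lit 1)), ((nat_lit 98), (nat_lit 90), (nat_lit 1), (nat_lit 1)), ((nat_lit 117), (nat_lit 99), (nat_lit 1), (nat_lit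 1)), ((nat_lit 118), (nat_lit 100), (nat_lit 1), (nat_lit 1)), ((nat_lit 123), (nat_lit 102), (nat_lit 1), (nat_lit 1)), ((nat_lit 127), (nat_lit 103), (nat_lit 1), (nat_lit 1)), ((nat_lit 132), (nat_lit 104), (nat_lit 1), (nat_lit 1)), ((nat_lit 135), (nat_lit 107), (nat_lit 1), (nat_lit 1)), ((nat_lit 136), (nat_lit 112), (nat_lit 1), (nat_lit 1)), ((nat_lit 137), (nat_lit 116), (nat_lit 1), (nat_lit 1)), ((nat_lit 139), (nat_lit 121), (nat_lit 1), (nat_lit 1)), ((nat_lit 140), (nat_lit 122), (nat_lit 1), (nat_lit 1)), ((nat_lit 149), (nat_lit 141), (nat_lit 1), (nat_lit 1)), ((nat_lit 153), (nat_lit 142), (nat_lit 1), (nat_lit 1)), ((nat_lit 156), (nat_lit 143), (nat_lit 1), (nat_lit 1)), ((nat_lit 159), (nat_lit 145), (nat_lit 1), (nat_lit 1)), ((nat_lit 160), (nat_lit 146), (nat_lit 1), (nat_lit 1)), ((nat_lit 166), (nat_lit 162), (nat_lit 1), (nat_lit 1)), ((nat_lit 185), (nat_lit 169), (nat_lit 1), (nat_lit 1)), ((nat_lit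 188), (nat_lit 170), (nat_lit 1), (nat_lit 1)), ((nat_lit 191), (nat_lit 172), (nat_lit 1), (nat_lit 1)), ((nat_lit 192), (nat_lit 173), (nat_lit 1), (nat_lit 1)), ((nat_lit 194), (nat_lit 174), (nat_lit 1), (nat_lit 1)), ((nat_lit 197), (nat_lit 176), (nat_lit 1), (nat_lit 1)), ((nat_lit 198), (nat_lit 177), (nat_lit 1), (nat_lit 1)), ((nat_lit 200), (nat_lit 179), (nat_lit 1), (nat_lit 1)), ((nat_lit 201), (nat_lit 180), (nat_lit 1), (nat_lit 1)), ((nat_lit 203), (nat_lit 183), (nat_lit 1), (nat_lit 1)), ((nat_lit 219), (nat_lit 205), (nat_lit 1), (nat_lit 1)), ((nat_lit 220), (nat_lit 206), (nat_lit 1), (nat_lit 1)), ((nat_lit 222), (nat_lit 209), (nat_lit 1), (nat_lit 1)), ((nat_lit 223), (nat_lit 212), (nat_lit 1), (nat_lit 1)), ((nat_lit 224), (nat_lit 216), (nat_lit 1), (nat_lit 1)), ((nat_lit 232), (nat_lit 228), (nat_lit 1), (nat_lit 1)), ((nat_lit 237), (nat_lit 233), (nat_lit 1), (nat_lit 1))]) (.leaf [((nat_lit 0),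 (nat_lit 81), (nat_lit 1), (nat_lit 1)), ((nat_lit 1), (nat_lit 82), (nat_lit 1), (nat_lit 1)), ((nat_lit 2), (nat_lit 83), (nat_lit 1), (nat_lit 1)), ((nat_lit 4), (nat_lit 87), (nat_lit 1), (nat_lit 1)), ((nat_lit 5), (nat_lit 91), (nat_lit 1), (nat_lit 1)), ((nat_lit 6), (nat_lit 96), (nat_lit 1), (nat_lit 1)), ((nat_lit 7), (nat_lit 102), (nat_lit 1), (nat_lit 1)), ((nat_lit 8), (nat_lit 108), (nat_lit 1), (nat_lit 1)), ((nat_lit 9), (nat_lit 113), (nat_lit 1), (nat_lit 1)), ((nat_lit 11), (nat_lit 123), (nat_lit 1), (nat_lit 1)), ((nat_lit 12), (nat_lit 124), (nat_lit 1), (nat_lit 1)), ((nat_lit 13), (nat_lit 125), (nat_lit 1), (nat_lit 1)), ((nat_lit 17), (nat_lit 162), (nat_lit 1), (nat_lit 1)), ((nat_lit 22), (nat_lit 163), (nat_lit 1), (nat_lit 1)), ((nat_lit 26), (nat_lit 164), (nat_lit 1), (nat_lit 1)), ((nat_lit 30), (nat_lit 166), (nat_lit 1), (nat_lit 1)), ((nat_lit 31), (nat_lit 167), (nat_lit 1), (nat_lit 1)), ((nat_lit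 32), (nat_lit 168), (nat_lit 1), (nat_lit 1)), ((nat_lit 36), (nat_lit 169), (nat_lit 1), (nat_lit 1)), ((nat_lit 40), (nat_lit 171), (nat_lit 1), (nat_lit 1)), ((nat_lit 41), (nat_lit 172), (nat_lit 1), (nat_lit 1)), ((nat_lit 42), (nat_lit 173), (nat_lit 1), (nat_lit 1)), ((nat_lit 46), (nat_lit 175), (nat_lit 1), (nat_lit 1)), ((nat_lit 47), (nat_lit 176), (nat_lit 1), (nat_lit 1)), ((nat_lit 48), (nat_lit 177), (nat_lit 1), (nat_lit 1)), ((nat_lit 52), (nat_lit 181), (nat_lit 1), (nat_lit 1)), ((nat_lit 53), (nat_lit 182), (nat_lit 1), (nat_lit 1)), ((nat_lit 54), (nat_lit 183), (nat_lit 1), (nat_lit 1)), ((nat_lit 56), (nat_lit 185), (nat_lit 1), (nat_lit 1)), ((nat_lit 57), (nat_lit 186), (nat_lit 1), (nat_lit 1)), ((nat_lit 58), (nat_lit 187), (nat_lit 1), (nat_lit 1)), ((nat_lit 62), (nat_lit 191), (nat_lit 1), (nat_lit 1)), ((nat_lit 63), (nat_lit 192), (nat_lit 1), (nat_lit 1)), ((nat_lit 64), (nat_lit 193), (nat_lit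 1), (nat_lit 1)), ((nat_lit 66), (nat_lit 197), (nat_lit 1), (nat_lit 1)), ((nat_lit 67), (nat_lit 198), (nat_lit 1), (nat_lit 1)), ((nat_lit 68), (nat_lit 199), (nat_lit 1), (nat_lit 1)), ((nat_lit 70), (nat_lit 203), (nat_lit 1), (nat_lit 1)), ((nat_lit 71), (nat_lit 207), (nat_lit 1), (nat_lit 1)), ((nat_lit 72), (nat_lit 208), (nat_lit 1), (nat_lit 1)), ((nat_lit 73), (nat_lit 209), (nat_lit 1), (nat_lit 1)), ((nat_lit 75), (nat_lit 213), (nat_lit 1), (nat_lit 1)), ((nat_lit 76), (nat_lit 217), (nat_lit 1), (nat_lit 1)), ((nat_lit 77), (nat_lit 222), (nat_lit 1), (nat_lit 1)), ((nat_lit 114), (nat_lit 226), (nat_lit 1), (nat_lit 1)), ((nat_lit 115), (nat_lit 227), (nat_lit 1), (nat_lit 1)), ((nat_lit 116), (nat_lit 228), (nat_lit 1), (nat_lit 1)), ((nat_lit 126), (nat_lit 230), (nat_lit 1), (nat_lit 1)), ((nat_lit 131), (nat_lit 231), (nat_lit 1), (nat_lit 1)), ((nat_lit 137), (nat_lit 232), (nat_lit 1), (nat_lit 1)), ((nat_lit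 143), (nat_lit 233), (nat_lit 1), (nat_lit 1)), ((nat_lit 148), (nat_lit 234), (nat_lit 1), (nat_lit 1)), ((nat_lit 152), (nat_lit 235), (nat_lit 1), (nat_lit 1)), ((nat_lit 156), (nat_lit 237), (nat_lit 1), (nat_lit 1)), ((nat_lit 157), (nat_lit 238), (nat_lit 1), (nat_lit 1)), ((nat_lit 158), (nat_lit 239), (nat_lit 1), (nat_lit 1))])))) (.node (.node (.node (.leaf [((nat_lit 52), (nat_lit 0), (nat_lit 1), (nat_lit 1)), ((nat_lit 53), (nat_lit 1), (nat_lit 1), (nat_lit 1)), ((nat_lit 54), (nat_lit 2), (nat_lit 1), (nat_lit 1)), ((nat_lit 55), (nat_lit 3), (nat_lit 1), (nat_lit 1)), ((nat_lit 70), (nat_lit 6), (nat_lit 1), (nat_lit 1)), ((nat_lit 75), (nat_lit 8), (nat_lit 1), (nat_lit 1)), ((nat_lit 76), (nat_lit 9), (nat_lit 1), (nat_lit 1)), ((nat_lit 92), (nat_lit 14), (nat_lit 1), (nat_lit 1)), ((nat_lit 103), (nat_lit 15), (nat_lit 1), (nat_lit 1)), ((nat_lit 104), (nat_lit 16), (nat_lit 1), (nat_lit 1)), ((nat_lit 126),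 (nat_lit 22), (nat_lit 1), (nat_lit 1)), ((nat_lit 127), (nat_lit 23), (nat_lit 1), (nat_lit 1)), ((nat_lit 128), (nat_lit 24), (nat_lit 1), (nat_lit 1)), ((nat_lit 129), (nat_lit 25), (nat_lit 1), (nat_lit 1)), ((nat_lit 131), (nat_lit 26), (nat_lit 1), (nat_lit 1)), ((nat_lit 132), (nat_lit 27), (nat_lit 1), (nat_lit 1)), ((nat_lit 133), (nat_lit 28), (nat_lit 1), (nat_lit 1)), ((nat_lit 134), (nat_lit 29), (nat_lit 1), (nat_lit 1)), ((nat_lit 143), (nat_lit 36), (nat_lit 1), (nat_lit 1)), ((nat_lit 144), (nat_lit 37), (nat_lit 1), (nat_lit 1)), ((nat_lit 145), (nat_lit 38), (nat_lit 1), (nat_lit 1)), ((nat_lit 146), (nat_lit 39), (nat_lit 1), (nat_lit 1)), ((nat_lit 156), (nat_lit 56), (nat_lit 1), (nat_lit 1)), ((nat_lit 157), (nat_lit 57), (nat_lit 1), (nat_lit 1)), ((nat_lit 158), (nat_lit 58), (nat_lit 1), (nat_lit 1)), ((nat_lit 159), (nat_lit 59), (nat_lit 1), (nat_lit 1)), ((nat_lit 160), (nat_lit 60), (nat_lit 1), (nat_lit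 1)), ((nat_lit 161), (nat_lit 61), (nat_lit 1), (nat_lit 1)), ((nat_lit 178), (nat_lit 78), (nat_lit 1), (nat_lit 1)), ((nat_lit 179), (nat_lit 79), (nat_lit 1), (nat_lit 1)), ((nat_lit 180), (nat_lit 80), (nat_lit 1), (nat_lit 1)), ((nat_lit 181), (nat_lit 81), (nat_lit 1), (nat_lit 1)), ((nat_lit 182), (nat_lit 82), (nat_lit 1), (nat_lit 1)), ((nat_lit 183), (nat_lit 83), (nat_lit 1), (nat_lit 1)), ((nat_lit 200), (nat_lit 93), (nat_lit 1), (nat_lit 1)), ((nat_lit 201), (nat_lit 94), (nat_lit 1), (nat_lit 1)), ((nat_lit 202), (nat_lit 95), (nat_lit 1), (nat_lit 1)), ((nat_lit 203), (nat_lit 96), (nat_lit 1), (nat_lit 1)), ((nat_lit 210), (nat_lit 105), (nat_lit 1), (nat_lit 1)), ((nat_lit 211), (nat_lit 106), (nat_lit 1), (nat_lit 1)), ((nat_lit 212), (nat_lit 107), (nat_lit 1), (nat_lit 1)), ((nat_lit 213), (nat_lit 108), (nat_lit 1), (nat_lit 1)), ((nat_lit 214), (nat_lit 110), (nat_lit 1), (nat_lit 1)), ((nat_lit 215), (nat_lit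 111), (nat_lit 1), (nat_lit 1)), ((nat_lit 216), (nat_lit 112), (nat_lit 1), (nat_lit 1)), ((nat_lit 217), (nat_lit 113), (nat_lit 1), (nat_lit 1)), ((nat_lit 223), (nat_lit 135), (nat_lit 1), (nat_lit 1)), ((nat_lit 224), (nat_lit 136), (nat_lit 1), (nat_lit 1)), ((nat_lit 225), (nat_lit 147), (nat_lit 1), (nat_lit 1)), ((nat_lit 230), (nat_lit 163), (nat_lit 1), (nat_lit 1)), ((nat_lit 231), (nat_lit 164), (nat_lit 1), (nat_lit 1)), ((nat_lit 233), (nat_lit 169), (nat_lit 1), (nat_lit 1)), ((nat_lit 236), (nat_lit 184), (nat_lit 1), (nat_lit 1)), ((nat_lit 237), (nat_lit 185), (nat_lit 1), (nat_lit 1)), ((nat_lit 238), (nat_lit 186), (nat_lit 1), (nat_lit 1)), ((nat_lit 239), (nat_lit 187), (nat_lit 1), (nat_lit 1))]) (.leaf [((nat_lit 2), (nat_lit 8), (nat_lit 1), (nat_lit 1)), ((nat_lit 5), (nat_lit 11), (nat_lit 1), (nat_lit 1)), ((nat_lit 14), (nat_lit 23), (nat_lit 1), (nat_lit 1)), ((nat_lit 16), (nat_lit 37), (nat_lit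 1), (nat_lit 1)), ((nat_lit 17), (nat_lit 40), (nat_lit 1), (nat_lit 1)), ((nat_lit 19), (nat_lit 43), (nat_lit 1), (nat_lit 1)), ((nat_lit 20), (nat_lit 44), (nat_lit 1), (nat_lit 1)), ((nat_lit 26), (nat_lit 56), (nat_lit 1), (nat_lit 1)), ((nat_lit 28), (nat_lit 59), (nat_lit 1), (nat_lit 1)), ((nat_lit 29), (nat_lit 60), (nat_lit 1), (nat_lit 1)), ((nat_lit 31), (nat_lit 62), (nat_lit 1), (nat_lit 1)), ((nat_lit 32), (nat_lit 63), (nat_lit 1), (nat_lit 1)), ((nat_lit 35), (nat_lit 65), (nat_lit 1), (nat_lit 1)), ((nat_lit 47), (nat_lit 71), (nat_lit 1), (nat_lit 1)), ((nat_lit 48), (nat_lit 72), (nat_lit 1), (nat_lit 1)), ((nat_lit 51), (nat_lit 74), (nat_lit 1), (nat_lit 1)), ((nat_lit 54), (nat_lit 75), (nat_lit 1), (nat_lit 1)), ((nat_lit 68), (nat_lit 77), (nat_lit 1), (nat_lit 1)), ((nat_lit 79), (nat_lit 105), (nat_lit 1), (nat_lit 1)), ((nat_lit 80), (nat_lit 106), (nat_lit 1), (nat_lit 1)), ((nat_lit 83), (nat_lit 108),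 (nat_lit 1), (nat_lit 1)), ((nat_lit 86), (nat_lit 109), (nat_lit 1), (nat_lit 1)), ((nat_lit 88), (nat_lit 117), (nat_lit 1), (nat_lit 1)), ((nat_lit 89), (nat_lit 118), (nat_lit 1), (nat_lit 1)), ((nat_lit 91), (nat_lit 123), (nat_lit 1), (nat_lit 1)), ((nat_lit 92), (nat_lit 127), (nat_lit 1), (nat_lit 1)), ((nat_lit 95), (nat_lit 135), (nat_lit 1), (nat_lit 1)), ((nat_lit 98), (nat_lit 138), (nat_lit 1), (nat_lit 1)), ((nat_lit 101), (nat_lit 141), (nat_lit 1), (nat_lit 1)), ((nat_lit 104), (nat_lit 144), (nat_lit 1), (nat_lit 1)), ((nat_lit 112), (nat_lit 147), (nat_lit 1), (nat_lit 1)), ((nat_lit 116), (nat_lit 148), (nat_lit 1), (nat_lit 1)), ((nat_lit 121), (nat_lit 150), (nat_lit 1), (nat_lit 1)), ((nat_lit 122), (nat_lit 151), (nat_lit 1), (nat_lit 1)), ((nat_lit 130), (nat_lit 153), (nat_lit 1), (nat_lit 1)), ((nat_lit 131), (nat_lit 156), (nat_lit 1), (nat_lit 1)), ((nat_lit 133), (nat_lit 159), (nat_lit 1), (nat_lit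 1)), ((nat_lit 134), (nat_lit 160), (nat_lit 1), (nat_lit 1)), ((nat_lit 162), (nat_lit 171), (nat_lit 1), (nat_lit 1)), ((nat_lit 164), (nat_lit 185), (nat_lit 1), (nat_lit 1)), ((nat_lit 165), (nat_lit 188), (nat_lit 1), (nat_lit 1)), ((nat_lit 167), (nat_lit 191), (nat_lit 1), (nat_lit 1)), ((nat_lit 168), (nat_lit 192), (nat_lit 1), (nat_lit 1)), ((nat_lit 174), (nat_lit 204), (nat_lit 1), (nat_lit 1)), ((nat_lit 176), (nat_lit 207), (nat_lit 1), (nat_lit 1)), ((nat_lit 177), (nat_lit 208), (nat_lit 1), (nat_lit 1)), ((nat_lit 179), (nat_lit 210), (nat_lit 1), (nat_lit 1)), ((nat_lit 180), (nat_lit 211), (nat_lit 1), (nat_lit 1)), ((nat_lit 183), (nat_lit 213), (nat_lit 1), (nat_lit 1)), ((nat_lit 195), (nat_lit 219), (nat_lit 1), (nat_lit 1)), ((nat_lit 196), (nat_lit 220), (nat_lit 1), (nat_lit 1)), ((nat_lit 199), (nat_lit 222), (nat_lit 1), (nat_lit 1)), ((nat_lit 202), (nat_lit 223), (nat_lit 1), (nat_lit 1)), ((nat_lit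 216), (nat_lit 225), (nat_lit 1), (nat_lit 1)), ((nat_lit 228), (nat_lit 234), (nat_lit 1), (nat_lit 1)), ((nat_lit 231), (nat_lit 237), (nat_lit 1), (nat_lit 1))])) (.node (.leaf [((nat_lit 9), (nat_lit 1), (nat_lit 1), (nat_lit 1)), ((nat_lit 12), (nat_lit 4), (nat_lit 1), (nat_lit 1)), ((nat_lit 28), (nat_lit 14), (nat_lit 1), (nat_lit 1)), ((nat_lit 38), (nat_lit 15), (nat_lit 1), (nat_lit 1)), ((nat_lit 47), (nat_lit 17), (nat_lit 1), (nat_lit 1)), ((nat_lit 49), (nat_lit 18), (nat_lit 1), (nat_lit 1)), ((nat_lit 51), (nat_lit 20), (nat_lit 1), (nat_lit 1)), ((nat_lit 57), (nat_lit 22), (nat_lit 1), (nat_lit 1)), ((nat_lit 59), (nat_lit 23), (nat_lit 1), (nat_lit 1)), ((nat_lit 61), (nat_lit 25), (nat_lit 1), (nat_lit 1)), ((nat_lit 66), (nat_lit 30), (nat_lit 1), (nat_lit 1)), ((nat_lit 68), (nat_lit 32), (nat_lit 1), (nat_lit 1)), ((nat_lit 69), (nat_lit 34), (nat_lit 1), (nat_lit 1)), ((nat_lit 71), (nat_lit 40), (nat_lit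 1), (nat_lit 1)), ((nat_lit 73), (nat_lit 42), (nat_lit 1), (nat_lit 1)), ((nat_lit 74), (nat_lit 44), (nat_lit 1), (nat_lit 1)), ((nat_lit 76), (nat_lit 53), (nat_lit 1), (nat_lit 1)), ((nat_lit 77), (nat_lit 63), (nat_lit 1), (nat_lit 1)), ((nat_lit 110), (nat_lit 78), (nat_lit 1), (nat_lit 1)), ((nat_lit 112), (nat_lit 80), (nat_lit 1), (nat_lit 1)), ((nat_lit 113), (nat_lit 82), (nat_lit 1), (nat_lit 1)), ((nat_lit 119), (nat_lit 84), (nat_lit 1), (nat_lit 1)), ((nat_lit 121), (nat_lit 86), (nat_lit 1), (nat_lit 1)), ((nat_lit 124), (nat_lit 87), (nat_lit 1), (nat_lit 1)), ((nat_lit 130), (nat_lit 89), (nat_lit 1), (nat_lit 1)), ((nat_lit 133), (nat_lit 92), (nat_lit 1), (nat_lit 1)), ((nat_lit 136), (nat_lit 94), (nat_lit 1), (nat_lit 1)), ((nat_lit 139), (nat_lit 97), (nat_lit 1), (nat_lit 1)), ((nat_lit 142), (nat_lit 100), (nat_lit 1), (nat_lit 1)), ((nat_lit 145), (nat_lit 103), (nat_lit 1), (nat_lit 1)), ((nat_lit 147),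 (nat_lit 106), (nat_lit 1), (nat_lit 1)), ((nat_lit 150), (nat_lit 109), (nat_lit 1), (nat_lit 1)), ((nat_lit 152), (nat_lit 115), (nat_lit 1), (nat_lit 1)), ((nat_lit 153), (nat_lit 118), (nat_lit 1), (nat_lit 1)), ((nat_lit 155), (nat_lit 120), (nat_lit 1), (nat_lit 1)), ((nat_lit 157), (nat_lit 126), (nat_lit 1), (nat_lit 1)), ((nat_lit 159), (nat_lit 127), (nat_lit 1), (nat_lit 1)), ((nat_lit 161), (nat_lit 129), (nat_lit 1), (nat_lit 1)), ((nat_lit 176), (nat_lit 162), (nat_lit 1), (nat_lit 1)), ((nat_lit 186), (nat_lit 163), (nat_lit 1), (nat_lit 1)), ((nat_lit 195), (nat_lit 165), (nat_lit 1), (nat_lit 1)), ((nat_lit 197), (nat_lit 166), (nat_lit 1), (nat_lit 1)), ((nat_lit 199), (nat_lit 168), (nat_lit 1), (nat_lit 1)), ((nat_lit 205), (nat_lit 170), (nat_lit 1), (nat_lit 1)), ((nat_lit 207), (nat_lit 171), (nat_lit 1), (nat_lit 1)), ((nat_lit 209), (nat_lit 173), (nat_lit 1), (nat_lit 1)), ((nat_lit 214), (nat_lit 178),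 (nat_lit 1), (nat_lit 1)), ((nat_lit 216), (nat_lit 180), (nat_lit 1), (nat_lit 1)), ((nat_lit 217), (nat_lit 182), (nat_lit 1), (nat_lit 1)), ((nat_lit 219), (nat_lit 188), (nat_lit 1), (nat_lit 1)), ((nat_lit 221), (nat_lit 190), (nat_lit 1), (nat_lit 1)), ((nat_lit 222), (nat_lit 192), (nat_lit 1), (nat_lit 1)), ((nat_lit 224), (nat_lit 201), (nat_lit 1), (nat_lit 1)), ((nat_lit 225), (nat_lit 211), (nat_lit 1), (nat_lit 1)), ((nat_lit 235), (nat_lit 227), (nat_lit 1), (nat_lit 1)), ((nat_lit 238), (nat_lit 230), (nat_lit 1), (nat_lit 1))]) (.leaf [((nat_lit 0), (nat_lit 43), (nat_lit 1), (nat_lit 1)), ((nat_lit 1), (nat_lit 44), (nat_lit 1), (nat_lit 1)), ((nat_lit 2), (nat_lit 45), (nat_lit 1), (nat_lit 1)), ((nat_lit 5), (nat_lit 55), (nat_lit 1), (nat_lit 1)), ((nat_lit 6), (nat_lit 65), (nat_lit 1), (nat_lit 1)), ((nat_lit 9), (nat_lit 74), (nat_lit 1), (nat_lit 1)), ((nat_lit 10), (nat_lit 75), (nat_lit 1), (nat_lit 1)),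 ((nat_lit 14), (nat_lit 87), (nat_lit 1), (nat_lit 1)), ((nat_lit 16), (nat_lit 102), (nat_lit 1), (nat_lit 1)), ((nat_lit 17), (nat_lit 103), (nat_lit 1), (nat_lit 1)), ((nat_lit 21), (nat_lit 108), (nat_lit 1), (nat_lit 1)), ((nat_lit 22), (nat_lit 109), (nat_lit 1), (nat_lit 1)), ((nat_lit 27), (nat_lit 123), (nat_lit 1), (nat_lit 1)), ((nat_lit 28), (nat_lit 124), (nat_lit 1), (nat_lit 1)), ((nat_lit 29), (nat_lit 125), (nat_lit 1), (nat_lit 1)), ((nat_lit 30), (nat_lit 127), (nat_lit 1), (nat_lit 1)), ((nat_lit 31), (nat_lit 128), (nat_lit 1), (nat_lit 1)), ((nat_lit 32), (nat_lit 129), (nat_lit 1), (nat_lit 1)), ((nat_lit 36), (nat_lit 141), (nat_lit 1), (nat_lit 1)), ((nat_lit 46), (nat_lit 144), (nat_lit 1), (nat_lit 1)), ((nat_lit 47), (nat_lit 145), (nat_lit 1), (nat_lit 1)), ((nat_lit 48), (nat_lit 146), (nat_lit 1), (nat_lit 1)), ((nat_lit 56), (nat_lit 149), (nat_lit 1), (nat_lit 1)), ((nat_lit 57), (nat_lit 150),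 (nat_lit 1), (nat_lit 1)), ((nat_lit 58), (nat_lit 151), (nat_lit 1), (nat_lit 1)), ((nat_lit 66), (nat_lit 159), (nat_lit 1), (nat_lit 1)), ((nat_lit 67), (nat_lit 160), (nat_lit 1), (nat_lit 1)), ((nat_lit 68), (nat_lit 161), (nat_lit 1), (nat_lit 1)), ((nat_lit 78), (nat_lit 171), (nat_lit 1), (nat_lit 1)), ((nat_lit 79), (nat_lit 172), (nat_lit 1), (nat_lit 1)), ((nat_lit 80), (nat_lit 173), (nat_lit 1), (nat_lit 1)), ((nat_lit 88), (nat_lit 181), (nat_lit 1), (nat_lit 1)), ((nat_lit 89), (nat_lit 182), (nat_lit 1), (nat_lit 1)), ((nat_lit 90), (nat_lit 183), (nat_lit 1), (nat_lit 1)), ((nat_lit 93), (nat_lit 191), (nat_lit 1), (nat_lit 1)), ((nat_lit 94), (nat_lit 192), (nat_lit 1), (nat_lit 1)), ((nat_lit 95), (nat_lit 193), (nat_lit 1), (nat_lit 1)), ((nat_lit 98), (nat_lit 203), (nat_lit 1), (nat_lit 1)), ((nat_lit 110), (nat_lit 207), (nat_lit 1), (nat_lit 1)), ((nat_lit 111), (nat_lit 208), (nat_lit 1), (nat_lit 1)),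 ((nat_lit 112), (nat_lit 209), (nat_lit 1), (nat_lit 1)), ((nat_lit 114), (nat_lit 210), (nat_lit 1), (nat_lit 1)), ((nat_lit 115), (nat_lit 211), (nat_lit 1), (nat_lit 1)), ((nat_lit 116), (nat_lit 212), (nat_lit 1), (nat_lit 1)), ((nat_lit 130), (nat_lit 217), (nat_lit 1), (nat_lit 1)), ((nat_lit 131), (nat_lit 218), (nat_lit 1), (nat_lit 1)), ((nat_lit 136), (nat_lit 222), (nat_lit 1), (nat_lit 1)), ((nat_lit 137), (nat_lit 223), (nat_lit 1), (nat_lit 1)), ((nat_lit 152), (nat_lit 225), (nat_lit 1), (nat_lit 1)), ((nat_lit 164), (nat_lit 229), (nat_lit 1), (nat_lit 1)), ((nat_lit 165), (nat_lit 230), (nat_lit 1), (nat_lit 1)), ((nat_lit 174), (nat_lit 233), (nat_lit 1), (nat_lit 1)), ((nat_lit 184), (nat_lit 234), (nat_lit 1), (nat_lit 1)), ((nat_lit 194), (nat_lit 237), (nat_lit 1), (nat_lit 1)), ((nat_lit 195), (nat_lit 238), (nat_lit 1), (nat_lit 1)), ((nat_lit 196), (nat_lit 239), (nat_lit 1), (nat_lit 1))]))) (.node (.node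 (.leaf [((nat_lit 21), (nat_lit 1), (nat_lit 1), (nat_lit 1)), ((nat_lit 24), (nat_lit 4), (nat_lit 1), (nat_lit 1)), ((nat_lit 28), (nat_lit 5), (nat_lit 1), (nat_lit 1)), ((nat_lit 38), (nat_lit 7), (nat_lit 1), (nat_lit 1)), ((nat_lit 57), (nat_lit 10), (nat_lit 1), (nat_lit 1)), ((nat_lit 59), (nat_lit 11), (nat_lit 1), (nat_lit 1)), ((nat_lit 61), (nat_lit 13), (nat_lit 1), (nat_lit 1)), ((nat_lit 79), (nat_lit 17), (nat_lit 1), (nat_lit 1)), ((nat_lit 81), (nat_lit 18), (nat_lit 1), (nat_lit 1)), ((nat_lit 83), (nat_lit 20), (nat_lit 1), (nat_lit 1)), ((nat_lit 93), (nat_lit 30), (nat_lit 1), (nat_lit 1)), ((nat_lit 95), (nat_lit 32), (nat_lit 1), (nat_lit 1)), ((nat_lit 96), (nat_lit 34), (nat_lit 1), (nat_lit 1)), ((nat_lit 105), (nat_lit 40), (nat_lit 1), (nat_lit 1)), ((nat_lit 107), (nat_lit 42), (nat_lit 1), (nat_lit 1)), ((nat_lit 108), (nat_lit 44), (nat_lit 1), (nat_lit 1)), ((nat_lit 110), (nat_lit 46), (nat_lit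 1), (nat_lit 1)), ((nat_lit 112), (nat_lit 48), (nat_lit 1), (nat_lit 1)), ((nat_lit 113), (nat_lit 50), (nat_lit 1), (nat_lit 1)), ((nat_lit 119), (nat_lit 52), (nat_lit 1), (nat_lit 1)), ((nat_lit 121), (nat_lit 54), (nat_lit 1), (nat_lit 1)), ((nat_lit 124), (nat_lit 55), (nat_lit 1), (nat_lit 1)), ((nat_lit 135), (nat_lit 63), (nat_lit 1), (nat_lit 1)), ((nat_lit 136), (nat_lit 67), (nat_lit 1), (nat_lit 1)), ((nat_lit 139), (nat_lit 70), (nat_lit 1), (nat_lit 1)), ((nat_lit 147), (nat_lit 72), (nat_lit 1), (nat_lit 1)), ((nat_lit 150), (nat_lit 75), (nat_lit 1), (nat_lit 1)), ((nat_lit 154), (nat_lit 76), (nat_lit 1), (nat_lit 1)), ((nat_lit 163), (nat_lit 85), (nat_lit 1), (nat_lit 1)), ((nat_lit 164), (nat_lit 89), (nat_lit 1), (nat_lit 1)), ((nat_lit 167), (nat_lit 92), (nat_lit 1), (nat_lit 1)), ((nat_lit 169), (nat_lit 100), (nat_lit 1), (nat_lit 1)), ((nat_lit 172), (nat_lit 103), (nat_lit 1), (nat_lit 1)), ((nat_lit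 176), (nat_lit 104), (nat_lit 1), (nat_lit 1)), ((nat_lit 184), (nat_lit 115), (nat_lit 1), (nat_lit 1)), ((nat_lit 185), (nat_lit 118), (nat_lit 1), (nat_lit 1)), ((nat_lit 187), (nat_lit 120), (nat_lit 1), (nat_lit 1)), ((nat_lit 189), (nat_lit 126), (nat_lit 1), (nat_lit 1)), ((nat_lit 191), (nat_lit 127), (nat_lit 1), (nat_lit 1)), ((nat_lit 193), (nat_lit 129), (nat_lit 1), (nat_lit 1)), ((nat_lit 195), (nat_lit 131), (nat_lit 1), (nat_lit 1)), ((nat_lit 197), (nat_lit 132), (nat_lit 1), (nat_lit 1)), ((nat_lit 199), (nat_lit 134), (nat_lit 1), (nat_lit 1)), ((nat_lit 205), (nat_lit 143), (nat_lit 1), (nat_lit 1)), ((nat_lit 207), (nat_lit 144), (nat_lit 1), (nat_lit 1)), ((nat_lit 209), (nat_lit 146), (nat_lit 1), (nat_lit 1)), ((nat_lit 219), (nat_lit 156), (nat_lit 1), (nat_lit 1)), ((nat_lit 221), (nat_lit 158), (nat_lit 1), (nat_lit 1)), ((nat_lit 222), (nat_lit 160), (nat_lit 1), (nat_lit 1)), ((nat_lit 226), (nat_lit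 178), (nat_lit 1), (nat_lit 1)), ((nat_lit 228), (nat_lit 180), (nat_lit 1), (nat_lit 1)), ((nat_lit 229), (nat_lit 182), (nat_lit 1), (nat_lit 1)), ((nat_lit 232), (nat_lit 201), (nat_lit 1), (nat_lit 1)), ((nat_lit 234), (nat_lit 211), (nat_lit 1), (nat_lit 1)), ((nat_lit 235), (nat_lit 215), (nat_lit 1), (nat_lit 1)), ((nat_lit 238), (nat_lit 218), (nat_lit 1), (nat_lit 1))]) (.leaf [((nat_lit 1), (nat_lit 18), (nat_lit 1), (nat_lit 1)), ((nat_lit 2), (nat_lit 19), (nat_lit 1), (nat_lit 1)), ((nat_lit 6), (nat_lit 33), (nat_lit 1), (nat_lit 1)), ((nat_lit 8), (nat_lit 43), (nat_lit 1), (nat_lit 1)), ((nat_lit 9), (nat_lit 49), (nat_lit 1), (nat_lit 1)), ((nat_lit 10), (nat_lit 52), (nat_lit 1), (nat_lit 1)), ((nat_lit 13), (nat_lit 55), (nat_lit 1), (nat_lit 1)), ((nat_lit 21), (nat_lit 81), (nat_lit 1), (nat_lit 1)), ((nat_lit 22), (nat_lit 84), (nat_lit 1), (nat_lit 1)), ((nat_lit 25), (nat_lit 87), (nat_lit 1), (nat_lit 1)),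 ((nat_lit 26), (nat_lit 88), (nat_lit 1), (nat_lit 1)), ((nat_lit 29), (nat_lit 91), (nat_lit 1), (nat_lit 1)), ((nat_lit 32), (nat_lit 92), (nat_lit 1), (nat_lit 1)), ((nat_lit 36), (nat_lit 99), (nat_lit 1), (nat_lit 1)), ((nat_lit 39), (nat_lit 102), (nat_lit 1), (nat_lit 1)), ((nat_lit 42), (nat_lit 103), (nat_lit 1), (nat_lit 1)), ((nat_lit 48), (nat_lit 104), (nat_lit 1), (nat_lit 1)), ((nat_lit 56), (nat_lit 117), (nat_lit 1), (nat_lit 1)), ((nat_lit 57), (nat_lit 119), (nat_lit 1), (nat_lit 1)), ((nat_lit 60), (nat_lit 123), (nat_lit 1), (nat_lit 1)), ((nat_lit 61), (nat_lit 124), (nat_lit 1), (nat_lit 1)), ((nat_lit 63), (nat_lit 127), (nat_lit 1), (nat_lit 1)), ((nat_lit 64), (nat_lit 128), (nat_lit 1), (nat_lit 1)), ((nat_lit 67), (nat_lit 132), (nat_lit 1), (nat_lit 1)), ((nat_lit 68), (nat_lit 133), (nat_lit 1), (nat_lit 1)), ((nat_lit 72), (nat_lit 144), (nat_lit 1), (nat_lit 1)), ((nat_lit 73), (nat_lit 145), (nat_lit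 1), (nat_lit 1)), ((nat_lit 77), (nat_lit 159), (nat_lit 1), (nat_lit 1)), ((nat_lit 80), (nat_lit 162), (nat_lit 1), (nat_lit 1)), ((nat_lit 94), (nat_lit 166), (nat_lit 1), (nat_lit 1)), ((nat_lit 95), (nat_lit 167), (nat_lit 1), (nat_lit 1)), ((nat_lit 106), (nat_lit 171), (nat_lit 1), (nat_lit 1)), ((nat_lit 107), (nat_lit 172), (nat_lit 1), (nat_lit 1)), ((nat_lit 111), (nat_lit 175), (nat_lit 1), (nat_lit 1)), ((nat_lit 112), (nat_lit 176), (nat_lit 1), (nat_lit 1)), ((nat_lit 115), (nat_lit 178), (nat_lit 1), (nat_lit 1)), ((nat_lit 116), (nat_lit 179), (nat_lit 1), (nat_lit 1)), ((nat_lit 120), (nat_lit 182), (nat_lit 1), (nat_lit 1)), ((nat_lit 122), (nat_lit 183), (nat_lit 1), (nat_lit 1)), ((nat_lit 135), (nat_lit 191), (nat_lit 1), (nat_lit 1)), ((nat_lit 136), (nat_lit 197), (nat_lit 1), (nat_lit 1)), ((nat_lit 137), (nat_lit 200), (nat_lit 1), (nat_lit 1)), ((nat_lit 140), (nat_lit 203), (nat_lit 1), (nat_lit 1)),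 ((nat_lit 147), (nat_lit 207), (nat_lit 1), (nat_lit 1)), ((nat_lit 148), (nat_lit 210), (nat_lit 1), (nat_lit 1)), ((nat_lit 151), (nat_lit 213), (nat_lit 1), (nat_lit 1)), ((nat_lit 152), (nat_lit 214), (nat_lit 1), (nat_lit 1)), ((nat_lit 155), (nat_lit 217), (nat_lit 1), (nat_lit 1)), ((nat_lit 158), (nat_lit 218), (nat_lit 1), (nat_lit 1)), ((nat_lit 184), (nat_lit 226), (nat_lit 1), (nat_lit 1)), ((nat_lit 187), (nat_lit 229), (nat_lit 1), (nat_lit 1)), ((nat_lit 190), (nat_lit 230), (nat_lit 1), (nat_lit 1)), ((nat_lit 196), (nat_lit 231), (nat_lit 1), (nat_lit 1)), ((nat_lit 206), (nat_lit 233), (nat_lit 1), (nat_lit 1)), ((nat_lit 220), (nat_lit 237), (nat_lit 1), (nat_lit 1)), ((nat_lit 221), (nat_lit 238), (nat_lit 1), (nat_lit 1))])) (.leaf [((nat_lit 2), (nat_lit 0), (nat_lit 1), (nat_lit 1)), ((nat_lit 13), (nat_lit 11), (nat_lit 1), (nat_lit 1)), ((nat_lit 20), (nat_lit 18), (nat_lit 1), (nat_lit 1)), ((nat_lit 25),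 (nat_lit 23), (nat_lit 1), (nat_lit 1)), ((nat_lit 29), (nat_lit 27), (nat_lit 1), (nat_lit 1)), ((nat_lit 32), (nat_lit 30), (nat_lit 1), (nat_lit 1)), ((nat_lit 35), (nat_lit 33), (nat_lit 1), (nat_lit 1)), ((nat_lit 39), (nat_lit 37), (nat_lit 1), (nat_lit 1)), ((nat_lit 42), (nat_lit 40), (nat_lit 1), (nat_lit 1)), ((nat_lit 45), (nat_lit 43), (nat_lit 1), (nat_lit 1)), ((nat_lit 48), (nat_lit 46), (nat_lit 1), (nat_lit 1)), ((nat_lit 51), (nat_lit 49), (nat_lit 1), (nat_lit 1)), ((nat_lit 54), (nat_lit 52), (nat_lit 1), (nat_lit 1)), ((nat_lit 58), (nat_lit 56), (nat_lit 1), (nat_lit 1)), ((nat_lit 61), (nat_lit 59), (nat_lit 1), (nat_lit 1)), ((nat_lit 64), (nat_lit 62), (nat_lit 1), (nat_lit 1)), ((nat_lit 68), (nat_lit 66), (nat_lit 1), (nat_lit 1)), ((nat_lit 73), (nat_lit 71), (nat_lit 1), (nat_lit 1)), ((nat_lit 80), (nat_lit 78), (nat_lit 1), (nat_lit 1)), ((nat_lit 83), (nat_lit 81), (nat_lit 1), (nat_lit 1)), ((nat_lit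 86), (nat_lit 84), (nat_lit 1), (nat_lit 1)), ((nat_lit 90), (nat_lit 88), (nat_lit 1), (nat_lit 1)), ((nat_lit 95), (nat_lit 93), (nat_lit 1), (nat_lit 1)), ((nat_lit 101), (nat_lit 99), (nat_lit 1), (nat_lit 1)), ((nat_lit 107), (nat_lit 105), (nat_lit 1), (nat_lit 1)), ((nat_lit 112), (nat_lit 110), (nat_lit 1), (nat_lit 1)), ((nat_lit 116), (nat_lit 114), (nat_lit 1), (nat_lit 1)), ((nat_lit 120), (nat_lit 118), (nat_lit 1), (nat_lit 1)), ((nat_lit 121), (nat_lit 119), (nat_lit 1), (nat_lit 1)), ((nat_lit 125), (nat_lit 123), (nat_lit 1), (nat_lit 1)), ((nat_lit 129), (nat_lit 127), (nat_lit 1), (nat_lit 1)), ((nat_lit 134), (nat_lit 132), (nat_lit 1), (nat_lit 1)), ((nat_lit 140), (nat_lit 138), (nat_lit 1), (nat_lit 1)), ((nat_lit 146), (nat_lit 144), (nat_lit 1), (nat_lit 1)), ((nat_lit 151), (nat_lit 149), (nat_lit 1), (nat_lit 1)), ((nat_lit 155), (nat_lit 153), (nat_lit 1), (nat_lit 1)), ((nat_lit 158), (nat_lit 156),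 (nat_lit 1), (nat_lit 1)), ((nat_lit 161), (nat_lit 159), (nat_lit 1), (nat_lit 1)), ((nat_lit 168), (nat_lit 166), (nat_lit 1), (nat_lit 1)), ((nat_lit 173), (nat_lit 171), (nat_lit 1), (nat_lit 1)), ((nat_lit 177), (nat_lit 175), (nat_lit 1), (nat_lit 1)), ((nat_lit 180), (nat_lit 178), (nat_lit 1), (nat_lit 1)), ((nat_lit 183), (nat_lit 181), (nat_lit 1), (nat_lit 1)), ((nat_lit 187), (nat_lit 185), (nat_lit 1), (nat_lit 1)), ((nat_lit 190), (nat_lit 188), (nat_lit 1), (nat_lit 1)), ((nat_lit 193), (nat_lit 191), (nat_lit 1), (nat_lit 1)), ((nat_lit 196), (nat_lit 194), (nat_lit 1), (nat_lit 1)), ((nat_lit 199), (nat_lit 197), (nat_lit 1), (nat_lit 1)), ((nat_lit 202), (nat_lit 200), (nat_lit 1), (nat_lit 1)), ((nat_lit 206), (nat_lit 204), (nat_lit 1), (nat_lit 1)), ((nat_lit 209), (nat_lit 207), (nat_lit 1), (nat_lit 1)), ((nat_lit 212), (nat_lit 210), (nat_lit 1), (nat_lit 1)), ((nat_lit 216), (nat_lit 214), (nat_lit 1),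 (nat_lit 1)), ((nat_lit 221), (nat_lit 219), (nat_lit 1), (nat_lit 1)), ((nat_lit 228), (nat_lit 226), (nat_lit 1), (nat_lit 1)), ((nat_lit 239), (nat_lit 237), (nat_lit 1), (nat_lit 1))])))

def rows11 : Tr (List Entry) :=
  .node (.node (.node (.node (.leaf [((nat_lit 78), (nat_lit 1), (nat_lit 1), (nat_lit 1)), ((nat_lit 79), (nat_lit 2), (nat_lit 1), (nat_lit 1)), ((nat_lit 81), (nat_lit 3), (nat_lit 1), (nat_lit 1)), ((nat_lit 84), (nat_lit 4), (nat_lit 1), (nat_lit 1)), ((nat_lit 88), (nat_lit 5), (nat_lit 1), (nat_lit 1)), ((nat_lit 93), (nat_lit 6), (nat_lit 1), (nat_lit 1)), ((nat_lit 99), (nat_lit 7), (nat_lit 1), (nat_lit 1)), ((nat_lit 105), (nat_lit 8), (nat_lit 1), (nat_lit 1)), ((nat_lit 110), (nat_lit 9), (nat_lit 1), (nat_lit 1)), ((nat_lit 114), (nat_lit 10), (nat_lit 1), (nat_lit 1)), ((nat_lit 117), (nat_lit 11), (nat_lit 1), (nat_lit 1)), ((nat_lit 119), (nat_lit 12), (nat_lit 1), (nat_lit 1)), ((nat_lit 162),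 (nat_lit 20), (nat_lit 1), (nat_lit 1)), ((nat_lit 163), (nat_lit 25), (nat_lit 1), (nat_lit 1)), ((nat_lit 164), (nat_lit 29), (nat_lit 1), (nat_lit 1)), ((nat_lit 165), (nat_lit 32), (nat_lit 1), (nat_lit 1)), ((nat_lit 166), (nat_lit 34), (nat_lit 1), (nat_lit 1)), ((nat_lit 167), (nat_lit 35), (nat_lit 1), (nat_lit 1)), ((nat_lit 169), (nat_lit 39), (nat_lit 1), (nat_lit 1)), ((nat_lit 170), (nat_lit 42), (nat_lit 1), (nat_lit 1)), ((nat_lit 171), (nat_lit 44), (nat_lit 1), (nat_lit 1)), ((nat_lit 172), (nat_lit 45), (nat_lit 1), (nat_lit 1)), ((nat_lit 174), (nat_lit 48), (nat_lit 1), (nat_lit 1)), ((nat_lit 175), (nat_lit 50), (nat_lit 1), (nat_lit 1)), ((nat_lit 176), (nat_lit 51), (nat_lit 1), (nat_lit 1)), ((nat_lit 178), (nat_lit 53), (nat_lit 1), (nat_lit 1)), ((nat_lit 179), (nat_lit 54), (nat_lit 1), (nat_lit 1)), ((nat_lit 181), (nat_lit 55), (nat_lit 1), (nat_lit 1)), ((nat_lit 184), (nat_lit 58), (nat_lit 1), (nat_lit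 1)), ((nat_lit 185), (nat_lit 60), (nat_lit 1), (nat_lit 1)), ((nat_lit 186), (nat_lit 61), (nat_lit 1), (nat_lit 1)), ((nat_lit 188), (nat_lit 63), (nat_lit 1), (nat_lit 1)), ((nat_lit 189), (nat_lit 64), (nat_lit 1), (nat_lit 1)), ((nat_lit 191), (nat_lit 65), (nat_lit 1), (nat_lit 1)), ((nat_lit 194), (nat_lit 67), (nat_lit 1), (nat_lit 1)), ((nat_lit 195), (nat_lit 68), (nat_lit 1), (nat_lit 1)), ((nat_lit 197), (nat_lit 69), (nat_lit 1), (nat_lit 1)), ((nat_lit 200), (nat_lit 70), (nat_lit 1), (nat_lit 1)), ((nat_lit 204), (nat_lit 72), (nat_lit 1), (nat_lit 1)), ((nat_lit 205), (nat_lit 73), (nat_lit 1), (nat_lit 1)), ((nat_lit 207), (nat_lit 74), (nat_lit 1), (nat_lit 1)), ((nat_lit 210), (nat_lit 75), (nat_lit 1), (nat_lit 1)), ((nat_lit 214), (nat_lit 76), (nat_lit 1), (nat_lit 1)), ((nat_lit 219), (nat_lit 77), (nat_lit 1), (nat_lit 1)), ((nat_lit 227), (nat_lit 120), (nat_lit 1), (nat_lit 1)), ((nat_lit 228), (nat_lit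 122), (nat_lit 1), (nat_lit 1)), ((nat_lit 229), (nat_lit 125), (nat_lit 1), (nat_lit 1)), ((nat_lit 230), (nat_lit 129), (nat_lit 1), (nat_lit 1)), ((nat_lit 231), (nat_lit 134), (nat_lit 1), (nat_lit 1)), ((nat_lit 232), (nat_lit 140), (nat_lit 1), (nat_lit 1)), ((nat_lit 233), (nat_lit 146), (nat_lit 1), (nat_lit 1)), ((nat_lit 234), (nat_lit 151), (nat_lit 1), (nat_lit 1)), ((nat_lit 235), (nat_lit 155), (nat_lit 1), (nat_lit 1)), ((nat_lit 236), (nat_lit 158), (nat_lit 1), (nat_lit 1)), ((nat_lit 237), (nat_lit 160), (nat_lit 1), (nat_lit 1)), ((nat_lit 238), (nat_lit 161), (nat_lit 1), (nat_lit 1))]) (.leaf [((nat_lit 5), (nat_lit 7), (nat_lit 1), (nat_lit 1)), ((nat_lit 6), (nat_lit 8), (nat_lit 1), (nat_lit 1)), ((nat_lit 14), (nat_lit 15), (nat_lit 1), (nat_lit 1)), ((nat_lit 26), (nat_lit 36), (nat_lit 1), (nat_lit 1)), ((nat_lit 27), (nat_lit 37), (nat_lit 1), (nat_lit 1)), ((nat_lit 28), (nat_lit 38), (nat_lit 1), (nat_lit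 1)), ((nat_lit 29), (nat_lit 39), (nat_lit 1), (nat_lit 1)), ((nat_lit 30), (nat_lit 40), (nat_lit 1), (nat_lit 1)), ((nat_lit 31), (nat_lit 41), (nat_lit 1), (nat_lit 1)), ((nat_lit 32), (nat_lit 42), (nat_lit 1), (nat_lit 1)), ((nat_lit 33), (nat_lit 43), (nat_lit 1), (nat_lit 1)), ((nat_lit 34), (nat_lit 44), (nat_lit 1), (nat_lit 1)), ((nat_lit 35), (nat_lit 45), (nat_lit 1), (nat_lit 1)), ((nat_lit 66), (nat_lit 71), (nat_lit 1), (nat_lit 1)), ((nat_lit 67), (nat_lit 72), (nat_lit 1), (nat_lit 1)), ((nat_lit 68), (nat_lit 73), (nat_lit 1), (nat_lit 1)), ((nat_lit 69), (nat_lit 74), (nat_lit 1), (nat_lit 1)), ((nat_lit 70), (nat_lit 75), (nat_lit 1), (nat_lit 1)), ((nat_lit 88), (nat_lit 99), (nat_lit 1), (nat_lit 1)), ((nat_lit 89), (nat_lit 100), (nat_lit 1), (nat_lit 1)), ((nat_lit 90), (nat_lit 101), (nat_lit 1), (nat_lit 1)), ((nat_lit 91), (nat_lit 102), (nat_lit 1), (nat_lit 1)), ((nat_lit 92), (nat_lit 103), (nat_lit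 1), (nat_lit 1)), ((nat_lit 93), (nat_lit 105), (nat_lit 1), (nat_lit 1)), ((nat_lit 94), (nat_lit 106), (nat_lit 1), (nat_lit 1)), ((nat_lit 95), (nat_lit 107), (nat_lit 1), (nat_lit 1)), ((nat_lit 96), (nat_lit 108), (nat_lit 1), (nat_lit 1)), ((nat_lit 97), (nat_lit 109), (nat_lit 1), (nat_lit 1)), ((nat_lit 130), (nat_lit 142), (nat_lit 1), (nat_lit 1)), ((nat_lit 131), (nat_lit 143), (nat_lit 1), (nat_lit 1)), ((nat_lit 132), (nat_lit 144), (nat_lit 1), (nat_lit 1)), ((nat_lit 133), (nat_lit 145), (nat_lit 1), (nat_lit 1)), ((nat_lit 134), (nat_lit 146), (nat_lit 1), (nat_lit 1)), ((nat_lit 136), (nat_lit 147), (nat_lit 1), (nat_lit 1)), ((nat_lit 137), (nat_lit 148), (nat_lit 1), (nat_lit 1)), ((nat_lit 138), (nat_lit 149), (nat_lit 1), (nat_lit 1)), ((nat_lit 139), (nat_lit 150), (nat_lit 1), (nat_lit 1)), ((nat_lit 140), (nat_lit 151), (nat_lit 1), (nat_lit 1)), ((nat_lit 164), (nat_lit 169), (nat_lit 1), (nat_lit 1)),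 ((nat_lit 165), (nat_lit 170), (nat_lit 1), (nat_lit 1)), ((nat_lit 166), (nat_lit 171), (nat_lit 1), (nat_lit 1)), ((nat_lit 167), (nat_lit 172), (nat_lit 1), (nat_lit 1)), ((nat_lit 168), (nat_lit 173), (nat_lit 1), (nat_lit 1)), ((nat_lit 194), (nat_lit 204), (nat_lit 1), (nat_lit 1)), ((nat_lit 195), (nat_lit 205), (nat_lit 1), (nat_lit 1)), ((nat_lit 196), (nat_lit 206), (nat_lit 1), (nat_lit 1)), ((nat_lit 197), (nat_lit 207), (nat_lit 1), (nat_lit 1)), ((nat_lit 198), (nat_lit 208), (nat_lit 1), (nat_lit 1)), ((nat_lit 199), (nat_lit 209), (nat_lit 1), (nat_lit 1)), ((nat_lit 200), (nat_lit 210), (nat_lit 1), (nat_lit 1)), ((nat_lit 201), (nat_lit 211), (nat_lit 1), (nat_lit 1)), ((nat_lit 202), (nat_lit 212), (nat_lit 1), (nat_lit 1)), ((nat_lit 203), (nat_lit 213), (nat_lit 1), (nat_lit 1)), ((nat_lit 224), (nat_lit 225), (nat_lit 1), (nat_lit 1)), ((nat_lit 231), (nat_lit 233), (nat_lit 1), (nat_lit 1)), ((nat_lit 232),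 (nat_lit 234), (nat_lit 1), (nat_lit 1))])) (.node (.leaf [((nat_lit 14), (nat_lit 6), (nat_lit 1), (nat_lit 1)), ((nat_lit 15), (nat_lit 8), (nat_lit 1), (nat_lit 1)), ((nat_lit 16), (nat_lit 9), (nat_lit 1), (nat_lit 1)), ((nat_lit 17), (nat_lit 10), (nat_lit 1), (nat_lit 1)), ((nat_lit 18), (nat_lit 11), (nat_lit 1), (nat_lit 1)), ((nat_lit 19), (nat_lit 12), (nat_lit 1), (nat_lit 1)), ((nat_lit 20), (nat_lit 13), (nat_lit 1), (nat_lit 1)), ((nat_lit 78), (nat_lit 56), (nat_lit 1), (nat_lit 1)), ((nat_lit 79), (nat_lit 57), (nat_lit 1), (nat_lit 1)), ((nat_lit 80), (nat_lit 58), (nat_lit 1), (nat_lit 1)), ((nat_lit 81), (nat_lit 59), (nat_lit 1), (nat_lit 1)), ((nat_lit 82), (nat_lit 60), (nat_lit 1), (nat_lit 1)), ((nat_lit 83), (nat_lit 61), (nat_lit 1), (nat_lit 1)), ((nat_lit 84), (nat_lit 62), (nat_lit 1), (nat_lit 1)), ((nat_lit 85), (nat_lit 63), (nat_lit 1), (nat_lit 1)), ((nat_lit 86), (nat_lit 64), (nat_lit 1), (nat_lit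 1)), ((nat_lit 87), (nat_lit 65), (nat_lit 1), (nat_lit 1)), ((nat_lit 88), (nat_lit 66), (nat_lit 1), (nat_lit 1)), ((nat_lit 89), (nat_lit 67), (nat_lit 1), (nat_lit 1)), ((nat_lit 90), (nat_lit 68), (nat_lit 1), (nat_lit 1)), ((nat_lit 91), (nat_lit 69), (nat_lit 1), (nat_lit 1)), ((nat_lit 92), (nat_lit 70), (nat_lit 1), (nat_lit 1)), ((nat_lit 99), (nat_lit 71), (nat_lit 1), (nat_lit 1)), ((nat_lit 100), (nat_lit 72), (nat_lit 1), (nat_lit 1)), ((nat_lit 101), (nat_lit 73), (nat_lit 1), (nat_lit 1)), ((nat_lit 102), (nat_lit 74), (nat_lit 1), (nat_lit 1)), ((nat_lit 103), (nat_lit 75), (nat_lit 1), (nat_lit 1)), ((nat_lit 104), (nat_lit 76), (nat_lit 1), (nat_lit 1)), ((nat_lit 163), (nat_lit 135), (nat_lit 1), (nat_lit 1)), ((nat_lit 164), (nat_lit 136), (nat_lit 1), (nat_lit 1)), ((nat_lit 165), (nat_lit 137), (nat_lit 1), (nat_lit 1)), ((nat_lit 166), (nat_lit 138), (nat_lit 1), (nat_lit 1)), ((nat_lit 167), (nat_lit 139),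 (nat_lit 1), (nat_lit 1)), ((nat_lit 168), (nat_lit 140), (nat_lit 1), (nat_lit 1)), ((nat_lit 169), (nat_lit 147), (nat_lit 1), (nat_lit 1)), ((nat_lit 170), (nat_lit 148), (nat_lit 1), (nat_lit 1)), ((nat_lit 171), (nat_lit 149), (nat_lit 1), (nat_lit 1)), ((nat_lit 172), (nat_lit 150), (nat_lit 1), (nat_lit 1)), ((nat_lit 173), (nat_lit 151), (nat_lit 1), (nat_lit 1)), ((nat_lit 174), (nat_lit 152), (nat_lit 1), (nat_lit 1)), ((nat_lit 175), (nat_lit 153), (nat_lit 1), (nat_lit 1)), ((nat_lit 176), (nat_lit 154), (nat_lit 1), (nat_lit 1)), ((nat_lit 177), (nat_lit 155), (nat_lit 1), (nat_lit 1)), ((nat_lit 178), (nat_lit 156), (nat_lit 1), (nat_lit 1)), ((nat_lit 179), (nat_lit 157), (nat_lit 1), (nat_lit 1)), ((nat_lit 180), (nat_lit 158), (nat_lit 1), (nat_lit 1)), ((nat_lit 181), (nat_lit 159), (nat_lit 1), (nat_lit 1)), ((nat_lit 182), (nat_lit 160), (nat_lit 1), (nat_lit 1)), ((nat_lit 183), (nat_lit 161), (nat_lit 1),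 (nat_lit 1)), ((nat_lit 226), (nat_lit 219), (nat_lit 1), (nat_lit 1)), ((nat_lit 227), (nat_lit 220), (nat_lit 1), (nat_lit 1)), ((nat_lit 228), (nat_lit 221), (nat_lit 1), (nat_lit 1)), ((nat_lit 229), (nat_lit 222), (nat_lit 1), (nat_lit 1)), ((nat_lit 230), (nat_lit 223), (nat_lit 1), (nat_lit 1)), ((nat_lit 231), (nat_lit 224), (nat_lit 1), (nat_lit 1)), ((nat_lit 233), (nat_lit 225), (nat_lit 1), (nat_lit 1))]) (.leaf [((nat_lit 1), (nat_lit 36), (nat_lit 1), (nat_lit 1)), ((nat_lit 3), (nat_lit 38), (nat_lit 1), (nat_lit 1)), ((nat_lit 4), (nat_lit 41), (nat_lit 1), (nat_lit 1)), ((nat_lit 5), (nat_lit 47), (nat_lit 1), (nat_lit 1)), ((nat_lit 6), (nat_lit 57), (nat_lit 1), (nat_lit 1)), ((nat_lit 11), (nat_lit 71), (nat_lit 1), (nat_lit 1)), ((nat_lit 13), (nat_lit 73), (nat_lit 1), (nat_lit 1)), ((nat_lit 14), (nat_lit 79), (nat_lit 1), (nat_lit 1)), ((nat_lit 18), (nat_lit 99), (nat_lit 1), (nat_lit 1)), ((nat_lit 20),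 (nat_lit 101), (nat_lit 1), (nat_lit 1)), ((nat_lit 23), (nat_lit 105), (nat_lit 1), (nat_lit 1)), ((nat_lit 25), (nat_lit 107), (nat_lit 1), (nat_lit 1)), ((nat_lit 27), (nat_lit 110), (nat_lit 1), (nat_lit 1)), ((nat_lit 29), (nat_lit 112), (nat_lit 1), (nat_lit 1)), ((nat_lit 30), (nat_lit 114), (nat_lit 1), (nat_lit 1)), ((nat_lit 32), (nat_lit 116), (nat_lit 1), (nat_lit 1)), ((nat_lit 33), (nat_lit 119), (nat_lit 1), (nat_lit 1)), ((nat_lit 35), (nat_lit 121), (nat_lit 1), (nat_lit 1)), ((nat_lit 44), (nat_lit 141), (nat_lit 1), (nat_lit 1)), ((nat_lit 50), (nat_lit 142), (nat_lit 1), (nat_lit 1)), ((nat_lit 53), (nat_lit 143), (nat_lit 1), (nat_lit 1)), ((nat_lit 55), (nat_lit 145), (nat_lit 1), (nat_lit 1)), ((nat_lit 60), (nat_lit 147), (nat_lit 1), (nat_lit 1)), ((nat_lit 63), (nat_lit 148), (nat_lit 1), (nat_lit 1)), ((nat_lit 65), (nat_lit 150), (nat_lit 1), (nat_lit 1)), ((nat_lit 67), (nat_lit 152), (nat_lit 1), (nat_lit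 1)), ((nat_lit 69), (nat_lit 154), (nat_lit 1), (nat_lit 1)), ((nat_lit 70), (nat_lit 157), (nat_lit 1), (nat_lit 1)), ((nat_lit 82), (nat_lit 169), (nat_lit 1), (nat_lit 1)), ((nat_lit 85), (nat_lit 170), (nat_lit 1), (nat_lit 1)), ((nat_lit 87), (nat_lit 172), (nat_lit 1), (nat_lit 1)), ((nat_lit 89), (nat_lit 174), (nat_lit 1), (nat_lit 1)), ((nat_lit 91), (nat_lit 176), (nat_lit 1), (nat_lit 1)), ((nat_lit 92), (nat_lit 179), (nat_lit 1), (nat_lit 1)), ((nat_lit 94), (nat_lit 184), (nat_lit 1), (nat_lit 1)), ((nat_lit 96), (nat_lit 186), (nat_lit 1), (nat_lit 1)), ((nat_lit 97), (nat_lit 189), (nat_lit 1), (nat_lit 1)), ((nat_lit 98), (nat_lit 195), (nat_lit 1), (nat_lit 1)), ((nat_lit 118), (nat_lit 204), (nat_lit 1), (nat_lit 1)), ((nat_lit 120), (nat_lit 206), (nat_lit 1), (nat_lit 1)), ((nat_lit 123), (nat_lit 207), (nat_lit 1), (nat_lit 1)), ((nat_lit 125), (nat_lit 209), (nat_lit 1), (nat_lit 1)), ((nat_lit 127), (nat_lit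 210), (nat_lit 1), (nat_lit 1)), ((nat_lit 129), (nat_lit 212), (nat_lit 1), (nat_lit 1)), ((nat_lit 132), (nat_lit 214), (nat_lit 1), (nat_lit 1)), ((nat_lit 134), (nat_lit 216), (nat_lit 1), (nat_lit 1)), ((nat_lit 138), (nat_lit 219), (nat_lit 1), (nat_lit 1)), ((nat_lit 140), (nat_lit 221), (nat_lit 1), (nat_lit 1)), ((nat_lit 160), (nat_lit 225), (nat_lit 1), (nat_lit 1)), ((nat_lit 166), (nat_lit 226), (nat_lit 1), (nat_lit 1)), ((nat_lit 168), (nat_lit 228), (nat_lit 1), (nat_lit 1)), ((nat_lit 182), (nat_lit 233), (nat_lit 1), (nat_lit 1)), ((nat_lit 192), (nat_lit 234), (nat_lit 1), (nat_lit 1)), ((nat_lit 198), (nat_lit 235), (nat_lit 1), (nat_lit 1)), ((nat_lit 201), (nat_lit 236), (nat_lit 1), (nat_lit 1)), ((nat_lit 203), (nat_lit 238), (nat_lit 1), (nat_lit 1))]))) (.node (.node (.leaf [((nat_lit 26), (nat_lit 2), (nat_lit 1), (nat_lit 1)), ((nat_lit 27), (nat_lit 3), (nat_lit 1), (nat_lit 1)), ((nat_lit 30), (nat_lit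 4), (nat_lit 1), (nat_lit 1)), ((nat_lit 46), (nat_lit 7), (nat_lit 1), (nat_lit 1)), ((nat_lit 56), (nat_lit 8), (nat_lit 1), (nat_lit 1)), ((nat_lit 66), (nat_lit 12), (nat_lit 1), (nat_lit 1)), ((nat_lit 67), (nat_lit 13), (nat_lit 1), (nat_lit 1)), ((nat_lit 78), (nat_lit 15), (nat_lit 1), (nat_lit 1)), ((nat_lit 88), (nat_lit 19), (nat_lit 1), (nat_lit 1)), ((nat_lit 89), (nat_lit 20), (nat_lit 1), (nat_lit 1)), ((nat_lit 93), (nat_lit 24), (nat_lit 1), (nat_lit 1)), ((nat_lit 94), (nat_lit 25), (nat_lit 1), (nat_lit 1)), ((nat_lit 98), (nat_lit 35), (nat_lit 1), (nat_lit 1)), ((nat_lit 110), (nat_lit 38), (nat_lit 1), (nat_lit 1)), ((nat_lit 111), (nat_lit 39), (nat_lit 1), (nat_lit 1)), ((nat_lit 114), (nat_lit 41), (nat_lit 1), (nat_lit 1)), ((nat_lit 115), (nat_lit 42), (nat_lit 1), (nat_lit 1)), ((nat_lit 117), (nat_lit 43), (nat_lit 1), (nat_lit 1)), ((nat_lit 118), (nat_lit 44), (nat_lit 1), (nat_lit 1)), ((nat_lit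 130), (nat_lit 51), (nat_lit 1), (nat_lit 1)), ((nat_lit 131), (nat_lit 54), (nat_lit 1), (nat_lit 1)), ((nat_lit 132), (nat_lit 55), (nat_lit 1), (nat_lit 1)), ((nat_lit 136), (nat_lit 61), (nat_lit 1), (nat_lit 1)), ((nat_lit 137), (nat_lit 64), (nat_lit 1), (nat_lit 1)), ((nat_lit 138), (nat_lit 65), (nat_lit 1), (nat_lit 1)), ((nat_lit 152), (nat_lit 73), (nat_lit 1), (nat_lit 1)), ((nat_lit 153), (nat_lit 74), (nat_lit 1), (nat_lit 1)), ((nat_lit 156), (nat_lit 75), (nat_lit 1), (nat_lit 1)), ((nat_lit 164), (nat_lit 83), (nat_lit 1), (nat_lit 1)), ((nat_lit 165), (nat_lit 86), (nat_lit 1), (nat_lit 1)), ((nat_lit 166), (nat_lit 87), (nat_lit 1), (nat_lit 1)), ((nat_lit 174), (nat_lit 101), (nat_lit 1), (nat_lit 1)), ((nat_lit 175), (nat_lit 102), (nat_lit 1), (nat_lit 1)), ((nat_lit 178), (nat_lit 103), (nat_lit 1), (nat_lit 1)), ((nat_lit 184), (nat_lit 107), (nat_lit 1), (nat_lit 1)), ((nat_lit 185), (nat_lit 108), (nat_lit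 1), (nat_lit 1)), ((nat_lit 188), (nat_lit 109), (nat_lit 1), (nat_lit 1)), ((nat_lit 195), (nat_lit 121), (nat_lit 1), (nat_lit 1)), ((nat_lit 196), (nat_lit 122), (nat_lit 1), (nat_lit 1)), ((nat_lit 197), (nat_lit 124), (nat_lit 1), (nat_lit 1)), ((nat_lit 198), (nat_lit 125), (nat_lit 1), (nat_lit 1)), ((nat_lit 200), (nat_lit 128), (nat_lit 1), (nat_lit 1)), ((nat_lit 201), (nat_lit 129), (nat_lit 1), (nat_lit 1)), ((nat_lit 204), (nat_lit 141), (nat_lit 1), (nat_lit 1)), ((nat_lit 214), (nat_lit 145), (nat_lit 1), (nat_lit 1)), ((nat_lit 215), (nat_lit 146), (nat_lit 1), (nat_lit 1)), ((nat_lit 219), (nat_lit 150), (nat_lit 1), (nat_lit 1)), ((nat_lit 220), (nat_lit 151), (nat_lit 1), (nat_lit 1)), ((nat_lit 224), (nat_lit 161), (nat_lit 1), (nat_lit 1)), ((nat_lit 226), (nat_lit 172), (nat_lit 1), (nat_lit 1)), ((nat_lit 227), (nat_lit 173), (nat_lit 1), (nat_lit 1)), ((nat_lit 231), (nat_lit 183), (nat_lit 1), (nat_lit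 1)), ((nat_lit 232), (nat_lit 193), (nat_lit 1), (nat_lit 1)), ((nat_lit 235), (nat_lit 209), (nat_lit 1), (nat_lit 1)), ((nat_lit 236), (nat_lit 212), (nat_lit 1), (nat_lit 1)), ((nat_lit 237), (nat_lit 213), (nat_lit 1), (nat_lit 1))]) (.leaf [((nat_lit 0), (nat_lit 15), (nat_lit 1), (nat_lit 1)), ((nat_lit 5), (nat_lit 20), (nat_lit 1), (nat_lit 1)), ((nat_lit 6), (nat_lit 25), (nat_lit 1), (nat_lit 1)), ((nat_lit 9), (nat_lit 39), (nat_lit 1), (nat_lit 1)), ((nat_lit 10), (nat_lit 42), (nat_lit 1), (nat_lit 1)), ((nat_lit 11), (nat_lit 44), (nat_lit 1), (nat_lit 1)), ((nat_lit 12), (nat_lit 45), (nat_lit 1), (nat_lit 1)), ((nat_lit 26), (nat_lit 80), (nat_lit 1), (nat_lit 1)), ((nat_lit 27), (nat_lit 82), (nat_lit 1), (nat_lit 1)), ((nat_lit 28), (nat_lit 83), (nat_lit 1), (nat_lit 1)), ((nat_lit 30), (nat_lit 85), (nat_lit 1), (nat_lit 1)), ((nat_lit 31), (nat_lit 86), (nat_lit 1), (nat_lit 1)), ((nat_lit 33), (nat_lit 87),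 (nat_lit 1), (nat_lit 1)), ((nat_lit 46), (nat_lit 100), (nat_lit 1), (nat_lit 1)), ((nat_lit 47), (nat_lit 101), (nat_lit 1), (nat_lit 1)), ((nat_lit 49), (nat_lit 102), (nat_lit 1), (nat_lit 1)), ((nat_lit 52), (nat_lit 103), (nat_lit 1), (nat_lit 1)), ((nat_lit 56), (nat_lit 106), (nat_lit 1), (nat_lit 1)), ((nat_lit 57), (nat_lit 107), (nat_lit 1), (nat_lit 1)), ((nat_lit 59), (nat_lit 108), (nat_lit 1), (nat_lit 1)), ((nat_lit 62), (nat_lit 109), (nat_lit 1), (nat_lit 1)), ((nat_lit 67), (nat_lit 120), (nat_lit 1), (nat_lit 1)), ((nat_lit 68), (nat_lit 122), (nat_lit 1), (nat_lit 1)), ((nat_lit 69), (nat_lit 125), (nat_lit 1), (nat_lit 1)), ((nat_lit 70), (nat_lit 129), (nat_lit 1), (nat_lit 1)), ((nat_lit 71), (nat_lit 141), (nat_lit 1), (nat_lit 1)), ((nat_lit 76), (nat_lit 146), (nat_lit 1), (nat_lit 1)), ((nat_lit 77), (nat_lit 151), (nat_lit 1), (nat_lit 1)), ((nat_lit 88), (nat_lit 162), (nat_lit 1), (nat_lit 1)), ((nat_lit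 93), (nat_lit 163), (nat_lit 1), (nat_lit 1)), ((nat_lit 98), (nat_lit 168), (nat_lit 1), (nat_lit 1)), ((nat_lit 110), (nat_lit 169), (nat_lit 1), (nat_lit 1)), ((nat_lit 114), (nat_lit 170), (nat_lit 1), (nat_lit 1)), ((nat_lit 117), (nat_lit 171), (nat_lit 1), (nat_lit 1)), ((nat_lit 119), (nat_lit 172), (nat_lit 1), (nat_lit 1)), ((nat_lit 130), (nat_lit 177), (nat_lit 1), (nat_lit 1)), ((nat_lit 131), (nat_lit 180), (nat_lit 1), (nat_lit 1)), ((nat_lit 132), (nat_lit 182), (nat_lit 1), (nat_lit 1)), ((nat_lit 133), (nat_lit 183), (nat_lit 1), (nat_lit 1)), ((nat_lit 136), (nat_lit 187), (nat_lit 1), (nat_lit 1)), ((nat_lit 137), (nat_lit 190), (nat_lit 1), (nat_lit 1)), ((nat_lit 138), (nat_lit 192), (nat_lit 1), (nat_lit 1)), ((nat_lit 139), (nat_lit 193), (nat_lit 1), (nat_lit 1)), ((nat_lit 152), (nat_lit 206), (nat_lit 1), (nat_lit 1)), ((nat_lit 153), (nat_lit 208), (nat_lit 1), (nat_lit 1)), ((nat_lit 154), (nat_lit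 209), (nat_lit 1), (nat_lit 1)), ((nat_lit 156), (nat_lit 211), (nat_lit 1), (nat_lit 1)), ((nat_lit 157), (nat_lit 212), (nat_lit 1), (nat_lit 1)), ((nat_lit 159), (nat_lit 213), (nat_lit 1), (nat_lit 1)), ((nat_lit 194), (nat_lit 227), (nat_lit 1), (nat_lit 1)), ((nat_lit 195), (nat_lit 228), (nat_lit 1), (nat_lit 1)), ((nat_lit 197), (nat_lit 229), (nat_lit 1), (nat_lit 1)), ((nat_lit 200), (nat_lit 230), (nat_lit 1), (nat_lit 1)), ((nat_lit 214), (nat_lit 233), (nat_lit 1), (nat_lit 1)), ((nat_lit 219), (nat_lit 234), (nat_lit 1), (nat_lit 1)), ((nat_lit 224), (nat_lit 239), (nat_lit 1), (nat_lit 1))])) (.node (.leaf [((nat_lit 5), (nat_lit 4), (nat_lit 1), (nat_lit 1)), ((nat_lit 9), (nat_lit 8), (nat_lit 1), (nat_lit 1)), ((nat_lit 16), (nat_lit 15), (nat_lit 1), (nat_lit 1)), ((nat_lit 26), (nat_lit 22), (nat_lit 1), (nat_lit 1)), ((nat_lit 27), (nat_lit 23), (nat_lit 1), (nat_lit 1)), ((nat_lit 28), (nat_lit 24), (nat_lit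 1), (nat_lit 1)), ((nat_lit 29), (nat_lit 25), (nat_lit 1), (nat_lit 1)), ((nat_lit 46), (nat_lit 40), (nat_lit 1), (nat_lit 1)), ((nat_lit 47), (nat_lit 41), (nat_lit 1), (nat_lit 1)), ((nat_lit 48), (nat_lit 42), (nat_lit 1), (nat_lit 1)), ((nat_lit 49), (nat_lit 43), (nat_lit 1), (nat_lit 1)), ((nat_lit 50), (nat_lit 44), (nat_lit 1), (nat_lit 1)), ((nat_lit 51), (nat_lit 45), (nat_lit 1), (nat_lit 1)), ((nat_lit 66), (nat_lit 62), (nat_lit 1), (nat_lit 1)), ((nat_lit 67), (nat_lit 63), (nat_lit 1), (nat_lit 1)), ((nat_lit 68), (nat_lit 64), (nat_lit 1), (nat_lit 1)), ((nat_lit 69), (nat_lit 65), (nat_lit 1), (nat_lit 1)), ((nat_lit 76), (nat_lit 75), (nat_lit 1), (nat_lit 1)), ((nat_lit 88), (nat_lit 84), (nat_lit 1), (nat_lit 1)), ((nat_lit 89), (nat_lit 85), (nat_lit 1), (nat_lit 1)), ((nat_lit 90), (nat_lit 86), (nat_lit 1), (nat_lit 1)), ((nat_lit 91), (nat_lit 87), (nat_lit 1), (nat_lit 1)), ((nat_lit 98), (nat_lit 97),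 (nat_lit 1), (nat_lit 1)), ((nat_lit 104), (nat_lit 103), (nat_lit 1), (nat_lit 1)), ((nat_lit 110), (nat_lit 105), (nat_lit 1), (nat_lit 1)), ((nat_lit 111), (nat_lit 106), (nat_lit 1), (nat_lit 1)), ((nat_lit 112), (nat_lit 107), (nat_lit 1), (nat_lit 1)), ((nat_lit 113), (nat_lit 108), (nat_lit 1), (nat_lit 1)), ((nat_lit 131), (nat_lit 126), (nat_lit 1), (nat_lit 1)), ((nat_lit 132), (nat_lit 127), (nat_lit 1), (nat_lit 1)), ((nat_lit 133), (nat_lit 128), (nat_lit 1), (nat_lit 1)), ((nat_lit 134), (nat_lit 129), (nat_lit 1), (nat_lit 1)), ((nat_lit 136), (nat_lit 135), (nat_lit 1), (nat_lit 1)), ((nat_lit 142), (nat_lit 141), (nat_lit 1), (nat_lit 1)), ((nat_lit 152), (nat_lit 148), (nat_lit 1), (nat_lit 1)), ((nat_lit 153), (nat_lit 149), (nat_lit 1), (nat_lit 1)), ((nat_lit 154), (nat_lit 150), (nat_lit 1), (nat_lit 1)), ((nat_lit 155), (nat_lit 151), (nat_lit 1), (nat_lit 1)), ((nat_lit 164), (nat_lit 163), (nat_lit 1),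 (nat_lit 1)), ((nat_lit 174), (nat_lit 170), (nat_lit 1), (nat_lit 1)), ((nat_lit 175), (nat_lit 171), (nat_lit 1), (nat_lit 1)), ((nat_lit 176), (nat_lit 172), (nat_lit 1), (nat_lit 1)), ((nat_lit 177), (nat_lit 173), (nat_lit 1), (nat_lit 1)), ((nat_lit 194), (nat_lit 188), (nat_lit 1), (nat_lit 1)), ((nat_lit 195), (nat_lit 189), (nat_lit 1), (nat_lit 1)), ((nat_lit 196), (nat_lit 190), (nat_lit 1), (nat_lit 1)), ((nat_lit 197), (nat_lit 191), (nat_lit 1), (nat_lit 1)), ((nat_lit 198), (nat_lit 192), (nat_lit 1), (nat_lit 1)), ((nat_lit 199), (nat_lit 193), (nat_lit 1), (nat_lit 1)), ((nat_lit 214), (nat_lit 210), (nat_lit 1), (nat_lit 1)), ((nat_lit 215), (nat_lit 211), (nat_lit 1), (nat_lit 1)), ((nat_lit 216), (nat_lit 212), (nat_lit 1), (nat_lit 1)), ((nat_lit 217), (nat_lit 213), (nat_lit 1), (nat_lit 1)), ((nat_lit 224), (nat_lit 223), (nat_lit 1), (nat_lit 1)), ((nat_lit 231), (nat_lit 230), (nat_lit 1), (nat_lit 1)),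 ((nat_lit 235), (nat_lit 234), (nat_lit 1), (nat_lit 1))]) (.leaf [((nat_lit 0), (nat_lit 117), (nat_lit 1), (nat_lit 1)), ((nat_lit 1), (nat_lit 118), (nat_lit 1), (nat_lit 1)), ((nat_lit 3), (nat_lit 123), (nat_lit 1), (nat_lit 1)), ((nat_lit 4), (nat_lit 127), (nat_lit 1), (nat_lit 1)), ((nat_lit 5), (nat_lit 132), (nat_lit 1), (nat_lit 1)), ((nat_lit 6), (nat_lit 138), (nat_lit 1), (nat_lit 1)), ((nat_lit 7), (nat_lit 144), (nat_lit 1), (nat_lit 1)), ((nat_lit 8), (nat_lit 149), (nat_lit 1), (nat_lit 1)), ((nat_lit 9), (nat_lit 153), (nat_lit 1), (nat_lit 1)), ((nat_lit 10), (nat_lit 156), (nat_lit 1), (nat_lit 1)), ((nat_lit 12), (nat_lit 159), (nat_lit 1), (nat_lit 1)), ((nat_lit 13), (nat_lit 160), (nat_lit 1), (nat_lit 1)), ((nat_lit 14), (nat_lit 166), (nat_lit 1), (nat_lit 1)), ((nat_lit 15), (nat_lit 171), (nat_lit 1), (nat_lit 1)), ((nat_lit 16), (nat_lit 175), (nat_lit 1), (nat_lit 1)), ((nat_lit 17), (nat_lit 178),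 (nat_lit 1), (nat_lit 1)), ((nat_lit 19), (nat_lit 181), (nat_lit 1), (nat_lit 1)), ((nat_lit 20), (nat_lit 182), (nat_lit 1), (nat_lit 1)), ((nat_lit 21), (nat_lit 185), (nat_lit 1), (nat_lit 1)), ((nat_lit 22), (nat_lit 188), (nat_lit 1), (nat_lit 1)), ((nat_lit 24), (nat_lit 191), (nat_lit 1), (nat_lit 1)), ((nat_lit 25), (nat_lit 192), (nat_lit 1), (nat_lit 1)), ((nat_lit 26), (nat_lit 194), (nat_lit 1), (nat_lit 1)), ((nat_lit 28), (nat_lit 197), (nat_lit 1), (nat_lit 1)), ((nat_lit 29), (nat_lit 198), (nat_lit 1), (nat_lit 1)), ((nat_lit 31), (nat_lit 200), (nat_lit 1), (nat_lit 1)), ((nat_lit 32), (nat_lit 201), (nat_lit 1), (nat_lit 1)), ((nat_lit 35), (nat_lit 203), (nat_lit 1), (nat_lit 1)), ((nat_lit 36), (nat_lit 204), (nat_lit 1), (nat_lit 1)), ((nat_lit 38), (nat_lit 207), (nat_lit 1), (nat_lit 1)), ((nat_lit 39), (nat_lit 208), (nat_lit 1), (nat_lit 1)), ((nat_lit 41), (nat_lit 210), (nat_lit 1), (nat_lit 1)), ((nat_lit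 42), (nat_lit 211), (nat_lit 1), (nat_lit 1)), ((nat_lit 45), (nat_lit 213), (nat_lit 1), (nat_lit 1)), ((nat_lit 47), (nat_lit 214), (nat_lit 1), (nat_lit 1)), ((nat_lit 48), (nat_lit 215), (nat_lit 1), (nat_lit 1)), ((nat_lit 51), (nat_lit 217), (nat_lit 1), (nat_lit 1)), ((nat_lit 54), (nat_lit 218), (nat_lit 1), (nat_lit 1)), ((nat_lit 57), (nat_lit 219), (nat_lit 1), (nat_lit 1)), ((nat_lit 58), (nat_lit 220), (nat_lit 1), (nat_lit 1)), ((nat_lit 61), (nat_lit 222), (nat_lit 1), (nat_lit 1)), ((nat_lit 64), (nat_lit 223), (nat_lit 1), (nat_lit 1)), ((nat_lit 68), (nat_lit 224), (nat_lit 1), (nat_lit 1)), ((nat_lit 73), (nat_lit 225), (nat_lit 1), (nat_lit 1)), ((nat_lit 79), (nat_lit 226), (nat_lit 1), (nat_lit 1)), ((nat_lit 80), (nat_lit 227), (nat_lit 1), (nat_lit 1)), ((nat_lit 83), (nat_lit 229), (nat_lit 1), (nat_lit 1)), ((nat_lit 86), (nat_lit 230), (nat_lit 1), (nat_lit 1)), ((nat_lit 90), (nat_lit 231), (nat_lit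 1), (nat_lit 1)), ((nat_lit 95), (nat_lit 232), (nat_lit 1), (nat_lit 1)), ((nat_lit 101), (nat_lit 233), (nat_lit 1), (nat_lit 1)), ((nat_lit 107), (nat_lit 234), (nat_lit 1), (nat_lit 1)), ((nat_lit 112), (nat_lit 235), (nat_lit 1), (nat_lit 1)), ((nat_lit 116), (nat_lit 236), (nat_lit 1), (nat_lit 1)), ((nat_lit 121), (nat_lit 238), (nat_lit 1), (nat_lit 1)), ((nat_lit 122), (nat_lit 239), (nat_lit 1), (nat_lit 1))])))) (.node (.node (.node (.leaf [((nat_lit 40), (nat_lit 1), (nat_lit 1), (nat_lit 1)), ((nat_lit 41), (nat_lit 2), (nat_lit 1), (nat_lit 1)), ((nat_lit 43), (nat_lit 3), (nat_lit 1), (nat_lit 1)), ((nat_lit 52), (nat_lit 5), (nat_lit 1), (nat_lit 1)), ((nat_lit 62), (nat_lit 6), (nat_lit 1), (nat_lit 1)), ((nat_lit 71), (nat_lit 9), (nat_lit 1), (nat_lit 1)), ((nat_lit 75), (nat_lit 13), (nat_lit 1), (nat_lit 1)), ((nat_lit 84), (nat_lit 14), (nat_lit 1), (nat_lit 1)), ((nat_lit 99), (nat_lit 16), (nat_lit 1), (nat_lit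 1)), ((nat_lit 103), (nat_lit 20), (nat_lit 1), (nat_lit 1)), ((nat_lit 105), (nat_lit 21), (nat_lit 1), (nat_lit 1)), ((nat_lit 109), (nat_lit 25), (nat_lit 1), (nat_lit 1)), ((nat_lit 114), (nat_lit 26), (nat_lit 1), (nat_lit 1)), ((nat_lit 117), (nat_lit 27), (nat_lit 1), (nat_lit 1)), ((nat_lit 119), (nat_lit 28), (nat_lit 1), (nat_lit 1)), ((nat_lit 126), (nat_lit 32), (nat_lit 1), (nat_lit 1)), ((nat_lit 127), (nat_lit 34), (nat_lit 1), (nat_lit 1)), ((nat_lit 128), (nat_lit 35), (nat_lit 1), (nat_lit 1)), ((nat_lit 141), (nat_lit 39), (nat_lit 1), (nat_lit 1)), ((nat_lit 143), (nat_lit 48), (nat_lit 1), (nat_lit 1)), ((nat_lit 144), (nat_lit 50), (nat_lit 1), (nat_lit 1)), ((nat_lit 145), (nat_lit 51), (nat_lit 1), (nat_lit 1)), ((nat_lit 148), (nat_lit 58), (nat_lit 1), (nat_lit 1)), ((nat_lit 149), (nat_lit 60), (nat_lit 1), (nat_lit 1)), ((nat_lit 150), (nat_lit 61), (nat_lit 1), (nat_lit 1)), ((nat_lit 156), (nat_lit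 67), (nat_lit 1), (nat_lit 1)), ((nat_lit 157), (nat_lit 68), (nat_lit 1), (nat_lit 1)), ((nat_lit 159), (nat_lit 69), (nat_lit 1), (nat_lit 1)), ((nat_lit 170), (nat_lit 80), (nat_lit 1), (nat_lit 1)), ((nat_lit 171), (nat_lit 82), (nat_lit 1), (nat_lit 1)), ((nat_lit 172), (nat_lit 83), (nat_lit 1), (nat_lit 1)), ((nat_lit 178), (nat_lit 89), (nat_lit 1), (nat_lit 1)), ((nat_lit 179), (nat_lit 90), (nat_lit 1), (nat_lit 1)), ((nat_lit 181), (nat_lit 91), (nat_lit 1), (nat_lit 1)), ((nat_lit 188), (nat_lit 94), (nat_lit 1), (nat_lit 1)), ((nat_lit 189), (nat_lit 95), (nat_lit 1), (nat_lit 1)), ((nat_lit 191), (nat_lit 96), (nat_lit 1), (nat_lit 1)), ((nat_lit 200), (nat_lit 98), (nat_lit 1), (nat_lit 1)), ((nat_lit 204), (nat_lit 111), (nat_lit 1), (nat_lit 1)), ((nat_lit 205), (nat_lit 112), (nat_lit 1), (nat_lit 1)), ((nat_lit 207), (nat_lit 113), (nat_lit 1), (nat_lit 1)), ((nat_lit 211), (nat_lit 120), (nat_lit 1), (nat_lit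 1)), ((nat_lit 212), (nat_lit 122), (nat_lit 1), (nat_lit 1)), ((nat_lit 213), (nat_lit 125), (nat_lit 1), (nat_lit 1)), ((nat_lit 214), (nat_lit 130), (nat_lit 1), (nat_lit 1)), ((nat_lit 218), (nat_lit 134), (nat_lit 1), (nat_lit 1)), ((nat_lit 219), (nat_lit 136), (nat_lit 1), (nat_lit 1)), ((nat_lit 223), (nat_lit 140), (nat_lit 1), (nat_lit 1)), ((nat_lit 225), (nat_lit 155), (nat_lit 1), (nat_lit 1)), ((nat_lit 226), (nat_lit 164), (nat_lit 1), (nat_lit 1)), ((nat_lit 230), (nat_lit 168), (nat_lit 1), (nat_lit 1)), ((nat_lit 233), (nat_lit 177), (nat_lit 1), (nat_lit 1)), ((nat_lit 234), (nat_lit 187), (nat_lit 1), (nat_lit 1)), ((nat_lit 236), (nat_lit 196), (nat_lit 1), (nat_lit 1)), ((nat_lit 237), (nat_lit 198), (nat_lit 1), (nat_lit 1)), ((nat_lit 238), (nat_lit 199), (nat_lit 1), (nat_lit 1))]) (.leaf [((nat_lit 1), (nat_lit 10), (nat_lit 1), (nat_lit 1)), ((nat_lit 3), (nat_lit 12), (nat_lit 1), (nat_lit 1)), ((nat_lit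 14), (nat_lit 31), (nat_lit 1), (nat_lit 1)), ((nat_lit 15), (nat_lit 41), (nat_lit 1), (nat_lit 1)), ((nat_lit 16), (nat_lit 47), (nat_lit 1), (nat_lit 1)), ((nat_lit 18), (nat_lit 52), (nat_lit 1), (nat_lit 1)), ((nat_lit 20), (nat_lit 54), (nat_lit 1), (nat_lit 1)), ((nat_lit 21), (nat_lit 57), (nat_lit 1), (nat_lit 1)), ((nat_lit 23), (nat_lit 62), (nat_lit 1), (nat_lit 1)), ((nat_lit 25), (nat_lit 64), (nat_lit 1), (nat_lit 1)), ((nat_lit 27), (nat_lit 66), (nat_lit 1), (nat_lit 1)), ((nat_lit 29), (nat_lit 68), (nat_lit 1), (nat_lit 1)), ((nat_lit 34), (nat_lit 70), (nat_lit 1), (nat_lit 1)), ((nat_lit 37), (nat_lit 71), (nat_lit 1), (nat_lit 1)), ((nat_lit 39), (nat_lit 73), (nat_lit 1), (nat_lit 1)), ((nat_lit 44), (nat_lit 75), (nat_lit 1), (nat_lit 1)), ((nat_lit 50), (nat_lit 76), (nat_lit 1), (nat_lit 1)), ((nat_lit 60), (nat_lit 77), (nat_lit 1), (nat_lit 1)), ((nat_lit 78), (nat_lit 114), (nat_lit 1), (nat_lit 1)),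 ((nat_lit 80), (nat_lit 116), (nat_lit 1), (nat_lit 1)), ((nat_lit 81), (nat_lit 119), (nat_lit 1), (nat_lit 1)), ((nat_lit 83), (nat_lit 121), (nat_lit 1), (nat_lit 1)), ((nat_lit 85), (nat_lit 126), (nat_lit 1), (nat_lit 1)), ((nat_lit 87), (nat_lit 128), (nat_lit 1), (nat_lit 1)), ((nat_lit 89), (nat_lit 131), (nat_lit 1), (nat_lit 1)), ((nat_lit 91), (nat_lit 133), (nat_lit 1), (nat_lit 1)), ((nat_lit 94), (nat_lit 137), (nat_lit 1), (nat_lit 1)), ((nat_lit 96), (nat_lit 139), (nat_lit 1), (nat_lit 1)), ((nat_lit 100), (nat_lit 143), (nat_lit 1), (nat_lit 1)), ((nat_lit 102), (nat_lit 145), (nat_lit 1), (nat_lit 1)), ((nat_lit 106), (nat_lit 148), (nat_lit 1), (nat_lit 1)), ((nat_lit 108), (nat_lit 150), (nat_lit 1), (nat_lit 1)), ((nat_lit 111), (nat_lit 152), (nat_lit 1), (nat_lit 1)), ((nat_lit 113), (nat_lit 154), (nat_lit 1), (nat_lit 1)), ((nat_lit 118), (nat_lit 156), (nat_lit 1), (nat_lit 1)), ((nat_lit 120), (nat_lit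 158), (nat_lit 1), (nat_lit 1)), ((nat_lit 123), (nat_lit 159), (nat_lit 1), (nat_lit 1)), ((nat_lit 125), (nat_lit 161), (nat_lit 1), (nat_lit 1)), ((nat_lit 162), (nat_lit 179), (nat_lit 1), (nat_lit 1)), ((nat_lit 163), (nat_lit 189), (nat_lit 1), (nat_lit 1)), ((nat_lit 164), (nat_lit 195), (nat_lit 1), (nat_lit 1)), ((nat_lit 166), (nat_lit 200), (nat_lit 1), (nat_lit 1)), ((nat_lit 168), (nat_lit 202), (nat_lit 1), (nat_lit 1)), ((nat_lit 169), (nat_lit 205), (nat_lit 1), (nat_lit 1)), ((nat_lit 171), (nat_lit 210), (nat_lit 1), (nat_lit 1)), ((nat_lit 173), (nat_lit 212), (nat_lit 1), (nat_lit 1)), ((nat_lit 175), (nat_lit 214), (nat_lit 1), (nat_lit 1)), ((nat_lit 177), (nat_lit 216), (nat_lit 1), (nat_lit 1)), ((nat_lit 182), (nat_lit 218), (nat_lit 1), (nat_lit 1)), ((nat_lit 185), (nat_lit 219), (nat_lit 1), (nat_lit 1)), ((nat_lit 187), (nat_lit 221), (nat_lit 1), (nat_lit 1)), ((nat_lit 192), (nat_lit 223), (nat_lit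 1), (nat_lit 1)), ((nat_lit 198), (nat_lit 224), (nat_lit 1), (nat_lit 1)), ((nat_lit 208), (nat_lit 225), (nat_lit 1), (nat_lit 1)), ((nat_lit 227), (nat_lit 236), (nat_lit 1), (nat_lit 1)), ((nat_lit 229), (nat_lit 238), (nat_lit 1), (nat_lit 1))])) (.node (.leaf [((nat_lit 7), (nat_lit 0), (nat_lit 1), (nat_lit 1)), ((nat_lit 13), (nat_lit 6), (nat_lit 1), (nat_lit 1)), ((nat_lit 20), (nat_lit 14), (nat_lit 1), (nat_lit 1)), ((nat_lit 39), (nat_lit 21), (nat_lit 1), (nat_lit 1)), ((nat_lit 42), (nat_lit 22), (nat_lit 1), (nat_lit 1)), ((nat_lit 44), (nat_lit 23), (nat_lit 1), (nat_lit 1)), ((nat_lit 45), (nat_lit 24), (nat_lit 1), (nat_lit 1)), ((nat_lit 48), (nat_lit 26), (nat_lit 1), (nat_lit 1)), ((nat_lit 50), (nat_lit 27), (nat_lit 1), (nat_lit 1)), ((nat_lit 51), (nat_lit 28), (nat_lit 1), (nat_lit 1)), ((nat_lit 53), (nat_lit 30), (nat_lit 1), (nat_lit 1)), ((nat_lit 54), (nat_lit 31), (nat_lit 1), (nat_lit 1)), ((nat_lit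 55), (nat_lit 33), (nat_lit 1), (nat_lit 1)), ((nat_lit 72), (nat_lit 56), (nat_lit 1), (nat_lit 1)), ((nat_lit 73), (nat_lit 57), (nat_lit 1), (nat_lit 1)), ((nat_lit 74), (nat_lit 59), (nat_lit 1), (nat_lit 1)), ((nat_lit 75), (nat_lit 62), (nat_lit 1), (nat_lit 1)), ((nat_lit 76), (nat_lit 66), (nat_lit 1), (nat_lit 1)), ((nat_lit 100), (nat_lit 78), (nat_lit 1), (nat_lit 1)), ((nat_lit 101), (nat_lit 79), (nat_lit 1), (nat_lit 1)), ((nat_lit 102), (nat_lit 81), (nat_lit 1), (nat_lit 1)), ((nat_lit 103), (nat_lit 84), (nat_lit 1), (nat_lit 1)), ((nat_lit 104), (nat_lit 88), (nat_lit 1), (nat_lit 1)), ((nat_lit 120), (nat_lit 94), (nat_lit 1), (nat_lit 1)), ((nat_lit 122), (nat_lit 95), (nat_lit 1), (nat_lit 1)), ((nat_lit 125), (nat_lit 96), (nat_lit 1), (nat_lit 1)), ((nat_lit 129), (nat_lit 97), (nat_lit 1), (nat_lit 1)), ((nat_lit 134), (nat_lit 98), (nat_lit 1), (nat_lit 1)), ((nat_lit 141), (nat_lit 105), (nat_lit 1), (nat_lit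 1)), ((nat_lit 142), (nat_lit 110), (nat_lit 1), (nat_lit 1)), ((nat_lit 143), (nat_lit 114), (nat_lit 1), (nat_lit 1)), ((nat_lit 144), (nat_lit 117), (nat_lit 1), (nat_lit 1)), ((nat_lit 145), (nat_lit 119), (nat_lit 1), (nat_lit 1)), ((nat_lit 151), (nat_lit 135), (nat_lit 1), (nat_lit 1)), ((nat_lit 155), (nat_lit 136), (nat_lit 1), (nat_lit 1)), ((nat_lit 158), (nat_lit 137), (nat_lit 1), (nat_lit 1)), ((nat_lit 160), (nat_lit 138), (nat_lit 1), (nat_lit 1)), ((nat_lit 161), (nat_lit 139), (nat_lit 1), (nat_lit 1)), ((nat_lit 173), (nat_lit 163), (nat_lit 1), (nat_lit 1)), ((nat_lit 177), (nat_lit 164), (nat_lit 1), (nat_lit 1)), ((nat_lit 180), (nat_lit 165), (nat_lit 1), (nat_lit 1)), ((nat_lit 182), (nat_lit 166), (nat_lit 1), (nat_lit 1)), ((nat_lit 183), (nat_lit 167), (nat_lit 1), (nat_lit 1)), ((nat_lit 206), (nat_lit 184), (nat_lit 1), (nat_lit 1)), ((nat_lit 208), (nat_lit 185), (nat_lit 1), (nat_lit 1)), ((nat_lit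 209), (nat_lit 186), (nat_lit 1), (nat_lit 1)), ((nat_lit 211), (nat_lit 188), (nat_lit 1), (nat_lit 1)), ((nat_lit 212), (nat_lit 189), (nat_lit 1), (nat_lit 1)), ((nat_lit 213), (nat_lit 191), (nat_lit 1), (nat_lit 1)), ((nat_lit 215), (nat_lit 194), (nat_lit 1), (nat_lit 1)), ((nat_lit 216), (nat_lit 195), (nat_lit 1), (nat_lit 1)), ((nat_lit 217), (nat_lit 197), (nat_lit 1), (nat_lit 1)), ((nat_lit 218), (nat_lit 200), (nat_lit 1), (nat_lit 1)), ((nat_lit 225), (nat_lit 219), (nat_lit 1), (nat_lit 1)), ((nat_lit 233), (nat_lit 226), (nat_lit 1), (nat_lit 1)), ((nat_lit 239), (nat_lit 232), (nat_lit 1), (nat_lit 1))]) (.leaf [((nat_lit 0), (nat_lit 57), (nat_lit 1), (nat_lit 1)), ((nat_lit 1), (nat_lit 58), (nat_lit 1), (nat_lit 1)), ((nat_lit 3), (nat_lit 61), (nat_lit 1), (nat_lit 1)), ((nat_lit 4), (nat_lit 64), (nat_lit 1), (nat_lit 1)), ((nat_lit 5), (nat_lit 68), (nat_lit 1), (nat_lit 1)), ((nat_lit 7), (nat_lit 73), (nat_lit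 1), (nat_lit 1)), ((nat_lit 11), (nat_lit 77), (nat_lit 1), (nat_lit 1)), ((nat_lit 14), (nat_lit 95), (nat_lit 1), (nat_lit 1)), ((nat_lit 15), (nat_lit 107), (nat_lit 1), (nat_lit 1)), ((nat_lit 16), (nat_lit 112), (nat_lit 1), (nat_lit 1)), ((nat_lit 17), (nat_lit 116), (nat_lit 1), (nat_lit 1)), ((nat_lit 19), (nat_lit 121), (nat_lit 1), (nat_lit 1)), ((nat_lit 20), (nat_lit 122), (nat_lit 1), (nat_lit 1)), ((nat_lit 23), (nat_lit 135), (nat_lit 1), (nat_lit 1)), ((nat_lit 27), (nat_lit 136), (nat_lit 1), (nat_lit 1)), ((nat_lit 30), (nat_lit 137), (nat_lit 1), (nat_lit 1)), ((nat_lit 33), (nat_lit 139), (nat_lit 1), (nat_lit 1)), ((nat_lit 34), (nat_lit 140), (nat_lit 1), (nat_lit 1)), ((nat_lit 37), (nat_lit 147), (nat_lit 1), (nat_lit 1)), ((nat_lit 40), (nat_lit 148), (nat_lit 1), (nat_lit 1)), ((nat_lit 43), (nat_lit 150), (nat_lit 1), (nat_lit 1)), ((nat_lit 44), (nat_lit 151), (nat_lit 1), (nat_lit 1)), ((nat_lit 46),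 (nat_lit 152), (nat_lit 1), (nat_lit 1)), ((nat_lit 49), (nat_lit 154), (nat_lit 1), (nat_lit 1)), ((nat_lit 50), (nat_lit 155), (nat_lit 1), (nat_lit 1)), ((nat_lit 52), (nat_lit 157), (nat_lit 1), (nat_lit 1)), ((nat_lit 53), (nat_lit 158), (nat_lit 1), (nat_lit 1)), ((nat_lit 55), (nat_lit 161), (nat_lit 1), (nat_lit 1)), ((nat_lit 78), (nat_lit 184), (nat_lit 1), (nat_lit 1)), ((nat_lit 81), (nat_lit 186), (nat_lit 1), (nat_lit 1)), ((nat_lit 82), (nat_lit 187), (nat_lit 1), (nat_lit 1)), ((nat_lit 84), (nat_lit 189), (nat_lit 1), (nat_lit 1)), ((nat_lit 85), (nat_lit 190), (nat_lit 1), (nat_lit 1)), ((nat_lit 87), (nat_lit 193), (nat_lit 1), (nat_lit 1)), ((nat_lit 88), (nat_lit 195), (nat_lit 1), (nat_lit 1)), ((nat_lit 89), (nat_lit 196), (nat_lit 1), (nat_lit 1)), ((nat_lit 91), (nat_lit 199), (nat_lit 1), (nat_lit 1)), ((nat_lit 92), (nat_lit 202), (nat_lit 1), (nat_lit 1)), ((nat_lit 99), (nat_lit 205), (nat_lit 1), (nat_lit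 1)), ((nat_lit 100), (nat_lit 206), (nat_lit 1), (nat_lit 1)), ((nat_lit 102), (nat_lit 209), (nat_lit 1), (nat_lit 1)), ((nat_lit 103), (nat_lit 212), (nat_lit 1), (nat_lit 1)), ((nat_lit 104), (nat_lit 216), (nat_lit 1), (nat_lit 1)), ((nat_lit 117), (nat_lit 219), (nat_lit 1), (nat_lit 1)), ((nat_lit 118), (nat_lit 220), (nat_lit 1), (nat_lit 1)), ((nat_lit 123), (nat_lit 222), (nat_lit 1), (nat_lit 1)), ((nat_lit 127), (nat_lit 223), (nat_lit 1), (nat_lit 1)), ((nat_lit 132), (nat_lit 224), (nat_lit 1), (nat_lit 1)), ((nat_lit 144), (nat_lit 225), (nat_lit 1), (nat_lit 1)), ((nat_lit 162), (nat_lit 228), (nat_lit 1), (nat_lit 1)), ((nat_lit 166), (nat_lit 232), (nat_lit 1), (nat_lit 1)), ((nat_lit 171), (nat_lit 234), (nat_lit 1), (nat_lit 1)), ((nat_lit 175), (nat_lit 235), (nat_lit 1), (nat_lit 1)), ((nat_lit 178), (nat_lit 236), (nat_lit 1), (nat_lit 1)), ((nat_lit 181), (nat_lit 238), (nat_lit 1), (nat_lit 1)), ((nat_lit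 182), (nat_lit 239), (nat_lit 1), (nat_lit 1))]))) (.node (.node (.leaf [((nat_lit 17), (nat_lit 2), (nat_lit 1), (nat_lit 1)), ((nat_lit 18), (nat_lit 3), (nat_lit 1), (nat_lit 1)), ((nat_lit 30), (nat_lit 6), (nat_lit 1), (nat_lit 1)), ((nat_lit 40), (nat_lit 8), (nat_lit 1), (nat_lit 1)), ((nat_lit 46), (nat_lit 9), (nat_lit 1), (nat_lit 1)), ((nat_lit 52), (nat_lit 12), (nat_lit 1), (nat_lit 1)), ((nat_lit 53), (nat_lit 13), (nat_lit 1), (nat_lit 1)), ((nat_lit 78), (nat_lit 21), (nat_lit 1), (nat_lit 1)), ((nat_lit 84), (nat_lit 24), (nat_lit 1), (nat_lit 1)), ((nat_lit 85), (nat_lit 25), (nat_lit 1), (nat_lit 1)), ((nat_lit 88), (nat_lit 28), (nat_lit 1), (nat_lit 1)), ((nat_lit 89), (nat_lit 29), (nat_lit 1), (nat_lit 1)), ((nat_lit 92), (nat_lit 35), (nat_lit 1), (nat_lit 1)), ((nat_lit 99), (nat_lit 38), (nat_lit 1), (nat_lit 1)), ((nat_lit 100), (nat_lit 39), (nat_lit 1), (nat_lit 1)), ((nat_lit 103), (nat_lit 45), (nat_lit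 1), (nat_lit 1)), ((nat_lit 104), (nat_lit 51), (nat_lit 1), (nat_lit 1)), ((nat_lit 114), (nat_lit 57), (nat_lit 1), (nat_lit 1)), ((nat_lit 115), (nat_lit 58), (nat_lit 1), (nat_lit 1)), ((nat_lit 117), (nat_lit 59), (nat_lit 1), (nat_lit 1)), ((nat_lit 118), (nat_lit 60), (nat_lit 1), (nat_lit 1)), ((nat_lit 126), (nat_lit 64), (nat_lit 1), (nat_lit 1)), ((nat_lit 127), (nat_lit 65), (nat_lit 1), (nat_lit 1)), ((nat_lit 131), (nat_lit 68), (nat_lit 1), (nat_lit 1)), ((nat_lit 132), (nat_lit 69), (nat_lit 1), (nat_lit 1)), ((nat_lit 143), (nat_lit 73), (nat_lit 1), (nat_lit 1)), ((nat_lit 144), (nat_lit 74), (nat_lit 1), (nat_lit 1)), ((nat_lit 156), (nat_lit 77), (nat_lit 1), (nat_lit 1)), ((nat_lit 162), (nat_lit 83), (nat_lit 1), (nat_lit 1)), ((nat_lit 165), (nat_lit 95), (nat_lit 1), (nat_lit 1)), ((nat_lit 166), (nat_lit 96), (nat_lit 1), (nat_lit 1)), ((nat_lit 170), (nat_lit 107), (nat_lit 1), (nat_lit 1)), ((nat_lit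 171), (nat_lit 108), (nat_lit 1), (nat_lit 1)), ((nat_lit 174), (nat_lit 112), (nat_lit 1), (nat_lit 1)), ((nat_lit 175), (nat_lit 113), (nat_lit 1), (nat_lit 1)), ((nat_lit 179), (nat_lit 121), (nat_lit 1), (nat_lit 1)), ((nat_lit 180), (nat_lit 122), (nat_lit 1), (nat_lit 1)), ((nat_lit 181), (nat_lit 124), (nat_lit 1), (nat_lit 1)), ((nat_lit 182), (nat_lit 125), (nat_lit 1), (nat_lit 1)), ((nat_lit 188), (nat_lit 135), (nat_lit 1), (nat_lit 1)), ((nat_lit 194), (nat_lit 136), (nat_lit 1), (nat_lit 1)), ((nat_lit 200), (nat_lit 139), (nat_lit 1), (nat_lit 1)), ((nat_lit 201), (nat_lit 140), (nat_lit 1), (nat_lit 1)), ((nat_lit 204), (nat_lit 147), (nat_lit 1), (nat_lit 1)), ((nat_lit 210), (nat_lit 150), (nat_lit 1), (nat_lit 1)), ((nat_lit 211), (nat_lit 151), (nat_lit 1), (nat_lit 1)), ((nat_lit 214), (nat_lit 154), (nat_lit 1), (nat_lit 1)), ((nat_lit 215), (nat_lit 155), (nat_lit 1), (nat_lit 1)), ((nat_lit 218), (nat_lit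 161), (nat_lit 1), (nat_lit 1)), ((nat_lit 226), (nat_lit 186), (nat_lit 1), (nat_lit 1)), ((nat_lit 227), (nat_lit 187), (nat_lit 1), (nat_lit 1)), ((nat_lit 230), (nat_lit 193), (nat_lit 1), (nat_lit 1)), ((nat_lit 231), (nat_lit 199), (nat_lit 1), (nat_lit 1)), ((nat_lit 233), (nat_lit 209), (nat_lit 1), (nat_lit 1)), ((nat_lit 236), (nat_lit 221), (nat_lit 1), (nat_lit 1)), ((nat_lit 237), (nat_lit 222), (nat_lit 1), (nat_lit 1))]) (.leaf [((nat_lit 1), (nat_lit 22), (nat_lit 1), (nat_lit 1)), ((nat_lit 3), (nat_lit 24), (nat_lit 1), (nat_lit 1)), ((nat_lit 5), (nat_lit 31), (nat_lit 1), (nat_lit 1)), ((nat_lit 7), (nat_lit 41), (nat_lit 1), (nat_lit 1)), ((nat_lit 9), (nat_lit 57), (nat_lit 1), (nat_lit 1)), ((nat_lit 11), (nat_lit 62), (nat_lit 1), (nat_lit 1)), ((nat_lit 13), (nat_lit 64), (nat_lit 1), (nat_lit 1)), ((nat_lit 16), (nat_lit 79), (nat_lit 1), (nat_lit 1)), ((nat_lit 18), (nat_lit 84), (nat_lit 1), (nat_lit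 1)), ((nat_lit 20), (nat_lit 86), (nat_lit 1), (nat_lit 1)), ((nat_lit 27), (nat_lit 93), (nat_lit 1), (nat_lit 1)), ((nat_lit 29), (nat_lit 95), (nat_lit 1), (nat_lit 1)), ((nat_lit 34), (nat_lit 97), (nat_lit 1), (nat_lit 1)), ((nat_lit 37), (nat_lit 105), (nat_lit 1), (nat_lit 1)), ((nat_lit 39), (nat_lit 107), (nat_lit 1), (nat_lit 1)), ((nat_lit 44), (nat_lit 109), (nat_lit 1), (nat_lit 1)), ((nat_lit 46), (nat_lit 114), (nat_lit 1), (nat_lit 1)), ((nat_lit 48), (nat_lit 116), (nat_lit 1), (nat_lit 1)), ((nat_lit 49), (nat_lit 119), (nat_lit 1), (nat_lit 1)), ((nat_lit 51), (nat_lit 121), (nat_lit 1), (nat_lit 1)), ((nat_lit 53), (nat_lit 126), (nat_lit 1), (nat_lit 1)), ((nat_lit 55), (nat_lit 128), (nat_lit 1), (nat_lit 1)), ((nat_lit 60), (nat_lit 135), (nat_lit 1), (nat_lit 1)), ((nat_lit 67), (nat_lit 137), (nat_lit 1), (nat_lit 1)), ((nat_lit 69), (nat_lit 139), (nat_lit 1), (nat_lit 1)), ((nat_lit 72), (nat_lit 148),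 (nat_lit 1), (nat_lit 1)), ((nat_lit 74), (nat_lit 150), (nat_lit 1), (nat_lit 1)), ((nat_lit 76), (nat_lit 157), (nat_lit 1), (nat_lit 1)), ((nat_lit 82), (nat_lit 163), (nat_lit 1), (nat_lit 1)), ((nat_lit 89), (nat_lit 165), (nat_lit 1), (nat_lit 1)), ((nat_lit 91), (nat_lit 167), (nat_lit 1), (nat_lit 1)), ((nat_lit 100), (nat_lit 170), (nat_lit 1), (nat_lit 1)), ((nat_lit 102), (nat_lit 172), (nat_lit 1), (nat_lit 1)), ((nat_lit 104), (nat_lit 179), (nat_lit 1), (nat_lit 1)), ((nat_lit 111), (nat_lit 184), (nat_lit 1), (nat_lit 1)), ((nat_lit 113), (nat_lit 186), (nat_lit 1), (nat_lit 1)), ((nat_lit 118), (nat_lit 188), (nat_lit 1), (nat_lit 1)), ((nat_lit 120), (nat_lit 190), (nat_lit 1), (nat_lit 1)), ((nat_lit 123), (nat_lit 191), (nat_lit 1), (nat_lit 1)), ((nat_lit 125), (nat_lit 193), (nat_lit 1), (nat_lit 1)), ((nat_lit 130), (nat_lit 195), (nat_lit 1), (nat_lit 1)), ((nat_lit 132), (nat_lit 200), (nat_lit 1), (nat_lit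 1)), ((nat_lit 134), (nat_lit 202), (nat_lit 1), (nat_lit 1)), ((nat_lit 142), (nat_lit 205), (nat_lit 1), (nat_lit 1)), ((nat_lit 144), (nat_lit 210), (nat_lit 1), (nat_lit 1)), ((nat_lit 146), (nat_lit 212), (nat_lit 1), (nat_lit 1)), ((nat_lit 153), (nat_lit 219), (nat_lit 1), (nat_lit 1)), ((nat_lit 155), (nat_lit 221), (nat_lit 1), (nat_lit 1)), ((nat_lit 160), (nat_lit 223), (nat_lit 1), (nat_lit 1)), ((nat_lit 175), (nat_lit 226), (nat_lit 1), (nat_lit 1)), ((nat_lit 177), (nat_lit 228), (nat_lit 1), (nat_lit 1)), ((nat_lit 182), (nat_lit 230), (nat_lit 1), (nat_lit 1)), ((nat_lit 198), (nat_lit 232), (nat_lit 1), (nat_lit 1)), ((nat_lit 208), (nat_lit 234), (nat_lit 1), (nat_lit 1)), ((nat_lit 215), (nat_lit 236), (nat_lit 1), (nat_lit 1)), ((nat_lit 217), (nat_lit 238), (nat_lit 1), (nat_lit 1))])) (.leaf [((nat_lit 0), (nat_lit 3), (nat_lit 1), (nat_lit 1)), ((nat_lit 10), (nat_lit 13), (nat_lit 1), (nat_lit 1)), ((nat_lit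 17), (nat_lit 20), (nat_lit 1), (nat_lit 1)), ((nat_lit 22), (nat_lit 25), (nat_lit 1), (nat_lit 1)), ((nat_lit 26), (nat_lit 29), (nat_lit 1), (nat_lit 1)), ((nat_lit 30), (nat_lit 34), (nat_lit 1), (nat_lit 1)), ((nat_lit 31), (nat_lit 35), (nat_lit 1), (nat_lit 1)), ((nat_lit 36), (nat_lit 39), (nat_lit 1), (nat_lit 1)), ((nat_lit 40), (nat_lit 44), (nat_lit 1), (nat_lit 1)), ((nat_lit 41), (nat_lit 45), (nat_lit 1), (nat_lit 1)), ((nat_lit 46), (nat_lit 50), (nat_lit 1), (nat_lit 1)), ((nat_lit 47), (nat_lit 51), (nat_lit 1), (nat_lit 1)), ((nat_lit 52), (nat_lit 55), (nat_lit 1), (nat_lit 1)), ((nat_lit 56), (nat_lit 60), (nat_lit 1), (nat_lit 1)), ((nat_lit 57), (nat_lit 61), (nat_lit 1), (nat_lit 1)), ((nat_lit 62), (nat_lit 65), (nat_lit 1), (nat_lit 1)), ((nat_lit 66), (nat_lit 69), (nat_lit 1), (nat_lit 1)), ((nat_lit 71), (nat_lit 74), (nat_lit 1), (nat_lit 1)), ((nat_lit 78), (nat_lit 82), (nat_lit 1), (nat_lit 1)),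 ((nat_lit 79), (nat_lit 83), (nat_lit 1), (nat_lit 1)), ((nat_lit 84), (nat_lit 87), (nat_lit 1), (nat_lit 1)), ((nat_lit 88), (nat_lit 91), (nat_lit 1), (nat_lit 1)), ((nat_lit 93), (nat_lit 96), (nat_lit 1), (nat_lit 1)), ((nat_lit 99), (nat_lit 102), (nat_lit 1), (nat_lit 1)), ((nat_lit 105), (nat_lit 108), (nat_lit 1), (nat_lit 1)), ((nat_lit 110), (nat_lit 113), (nat_lit 1), (nat_lit 1)), ((nat_lit 115), (nat_lit 120), (nat_lit 1), (nat_lit 1)), ((nat_lit 116), (nat_lit 122), (nat_lit 1), (nat_lit 1)), ((nat_lit 117), (nat_lit 123), (nat_lit 1), (nat_lit 1)), ((nat_lit 119), (nat_lit 124), (nat_lit 1), (nat_lit 1)), ((nat_lit 126), (nat_lit 129), (nat_lit 1), (nat_lit 1)), ((nat_lit 131), (nat_lit 134), (nat_lit 1), (nat_lit 1)), ((nat_lit 137), (nat_lit 140), (nat_lit 1), (nat_lit 1)), ((nat_lit 143), (nat_lit 146), (nat_lit 1), (nat_lit 1)), ((nat_lit 148), (nat_lit 151), (nat_lit 1), (nat_lit 1)), ((nat_lit 152), (nat_lit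 155), (nat_lit 1), (nat_lit 1)), ((nat_lit 156), (nat_lit 160), (nat_lit 1), (nat_lit 1)), ((nat_lit 157), (nat_lit 161), (nat_lit 1), (nat_lit 1)), ((nat_lit 165), (nat_lit 168), (nat_lit 1), (nat_lit 1)), ((nat_lit 170), (nat_lit 173), (nat_lit 1), (nat_lit 1)), ((nat_lit 174), (nat_lit 177), (nat_lit 1), (nat_lit 1)), ((nat_lit 178), (nat_lit 182), (nat_lit 1), (nat_lit 1)), ((nat_lit 179), (nat_lit 183), (nat_lit 1), (nat_lit 1)), ((nat_lit 184), (nat_lit 187), (nat_lit 1), (nat_lit 1)), ((nat_lit 188), (nat_lit 192), (nat_lit 1), (nat_lit 1)), ((nat_lit 189), (nat_lit 193), (nat_lit 1), (nat_lit 1)), ((nat_lit 194), (nat_lit 198), (nat_lit 1), (nat_lit 1)), ((nat_lit 195), (nat_lit 199), (nat_lit 1), (nat_lit 1)), ((nat_lit 200), (nat_lit 203), (nat_lit 1), (nat_lit 1)), ((nat_lit 204), (nat_lit 208), (nat_lit 1), (nat_lit 1)), ((nat_lit 205), (nat_lit 209), (nat_lit 1), (nat_lit 1)), ((nat_lit 210), (nat_lit 213), (nat_lit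 1), (nat_lit 1)), ((nat_lit 214), (nat_lit 217), (nat_lit 1), (nat_lit 1)), ((nat_lit 219), (nat_lit 222), (nat_lit 1), (nat_lit 1)), ((nat_lit 226), (nat_lit 229), (nat_lit 1), (nat_lit 1)), ((nat_lit 236), (nat_lit 239), (nat_lit 1), (nat_lit 1))])))

def rows12 : Tr (List Entry) :=
  .node (.node (.node (.node (.leaf [((nat_lit 114), (nat_lit 0), (nat_lit 1), (nat_lit 1)), ((nat_lit 115), (nat_lit 1), (nat_lit 1), (nat_lit 1)), ((nat_lit 116), (nat_lit 2), (nat_lit 1), (nat_lit 1)), ((nat_lit 126), (nat_lit 4), (nat_lit 1), (nat_lit 1)), ((nat_lit 131), (nat_lit 5), (nat_lit 1), (nat_lit 1)), ((nat_lit 137), (nat_lit 6), (nat_lit 1), (nat_lit 1)), ((nat_lit 143), (nat_lit 7), (nat_lit 1), (nat_lit 1)), ((nat_lit 148), (nat_lit 8), (nat_lit 1), (nat_lit 1)), ((nat_lit 152), (nat_lit 9), (nat_lit 1), (nat_lit 1)), ((nat_lit 156), (nat_lit 11), (nat_lit 1), (nat_lit 1)), ((nat_lit 157), (nat_lit 12), (nat_lit 1), (nat_lit 1)),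 ((nat_lit 158), (nat_lit 13), (nat_lit 1), (nat_lit 1)), ((nat_lit 165), (nat_lit 14), (nat_lit 1), (nat_lit 1)), ((nat_lit 170), (nat_lit 15), (nat_lit 1), (nat_lit 1)), ((nat_lit 174), (nat_lit 16), (nat_lit 1), (nat_lit 1)), ((nat_lit 178), (nat_lit 18), (nat_lit 1), (nat_lit 1)), ((nat_lit 179), (nat_lit 19), (nat_lit 1), (nat_lit 1)), ((nat_lit 180), (nat_lit 20), (nat_lit 1), (nat_lit 1)), ((nat_lit 184), (nat_lit 21), (nat_lit 1), (nat_lit 1)), ((nat_lit 188), (nat_lit 23), (nat_lit 1), (nat_lit 1)), ((nat_lit 189), (nat_lit 24), (nat_lit 1), (nat_lit 1)), ((nat_lit 190), (nat_lit 25), (nat_lit 1), (nat_lit 1)), ((nat_lit 194), (nat_lit 27), (nat_lit 1), (nat_lit 1)), ((nat_lit 195), (nat_lit 28), (nat_lit 1), (nat_lit 1)), ((nat_lit 196), (nat_lit 29), (nat_lit 1), (nat_lit 1)), ((nat_lit 200), (nat_lit 33), (nat_lit 1), (nat_lit 1)), ((nat_lit 201), (nat_lit 34), (nat_lit 1), (nat_lit 1)), ((nat_lit 202), (nat_lit 35),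 (nat_lit 1), (nat_lit 1)), ((nat_lit 204), (nat_lit 37), (nat_lit 1), (nat_lit 1)), ((nat_lit 205), (nat_lit 38), (nat_lit 1), (nat_lit 1)), ((nat_lit 206), (nat_lit 39), (nat_lit 1), (nat_lit 1)), ((nat_lit 210), (nat_lit 43), (nat_lit 1), (nat_lit 1)), ((nat_lit 211), (nat_lit 44), (nat_lit 1), (nat_lit 1)), ((nat_lit 212), (nat_lit 45), (nat_lit 1), (nat_lit 1)), ((nat_lit 214), (nat_lit 49), (nat_lit 1), (nat_lit 1)), ((nat_lit 215), (nat_lit 50), (nat_lit 1), (nat_lit 1)), ((nat_lit 216), (nat_lit 51), (nat_lit 1), (nat_lit 1)), ((nat_lit 218), (nat_lit 55), (nat_lit 1), (nat_lit 1)), ((nat_lit 219), (nat_lit 59), (nat_lit 1), (nat_lit 1)), ((nat_lit 220), (nat_lit 60), (nat_lit 1), (nat_lit 1)), ((nat_lit 221), (nat_lit 61), (nat_lit 1), (nat_lit 1)), ((nat_lit 223), (nat_lit 65), (nat_lit 1), (nat_lit 1)), ((nat_lit 224), (nat_lit 69), (nat_lit 1), (nat_lit 1)), ((nat_lit 225), (nat_lit 74), (nat_lit 1), (nat_lit 1)), ((nat_lit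 226), (nat_lit 81), (nat_lit 1), (nat_lit 1)), ((nat_lit 227), (nat_lit 82), (nat_lit 1), (nat_lit 1)), ((nat_lit 228), (nat_lit 83), (nat_lit 1), (nat_lit 1)), ((nat_lit 230), (nat_lit 87), (nat_lit 1), (nat_lit 1)), ((nat_lit 231), (nat_lit 91), (nat_lit 1), (nat_lit 1)), ((nat_lit 232), (nat_lit 96), (nat_lit 1), (nat_lit 1)), ((nat_lit 233), (nat_lit 102), (nat_lit 1), (nat_lit 1)), ((nat_lit 234), (nat_lit 108), (nat_lit 1), (nat_lit 1)), ((nat_lit 235), (nat_lit 113), (nat_lit 1), (nat_lit 1)), ((nat_lit 237), (nat_lit 123), (nat_lit 1), (nat_lit 1)), ((nat_lit 238), (nat_lit 124), (nat_lit 1), (nat_lit 1)), ((nat_lit 239), (nat_lit 125), (nat_lit 1), (nat_lit 1))]) (.leaf [((nat_lit 3), (nat_lit 5), (nat_lit 1), (nat_lit 1)), ((nat_lit 8), (nat_lit 10), (nat_lit 1), (nat_lit 1)), ((nat_lit 15), (nat_lit 17), (nat_lit 1), (nat_lit 1)), ((nat_lit 21), (nat_lit 26), (nat_lit 1), (nat_lit 1)), ((nat_lit 23), (nat_lit 30), (nat_lit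 1), (nat_lit 1)), ((nat_lit 24), (nat_lit 31), (nat_lit 1), (nat_lit 1)), ((nat_lit 25), (nat_lit 32), (nat_lit 1), (nat_lit 1)), ((nat_lit 37), (nat_lit 46), (nat_lit 1), (nat_lit 1)), ((nat_lit 38), (nat_lit 47), (nat_lit 1), (nat_lit 1)), ((nat_lit 39), (nat_lit 48), (nat_lit 1), (nat_lit 1)), ((nat_lit 43), (nat_lit 52), (nat_lit 1), (nat_lit 1)), ((nat_lit 44), (nat_lit 53), (nat_lit 1), (nat_lit 1)), ((nat_lit 45), (nat_lit 54), (nat_lit 1), (nat_lit 1)), ((nat_lit 59), (nat_lit 66), (nat_lit 1), (nat_lit 1)), ((nat_lit 60), (nat_lit 67), (nat_lit 1), (nat_lit 1)), ((nat_lit 61), (nat_lit 68), (nat_lit 1), (nat_lit 1)), ((nat_lit 65), (nat_lit 70), (nat_lit 1), (nat_lit 1)), ((nat_lit 74), (nat_lit 76), (nat_lit 1), (nat_lit 1)), ((nat_lit 81), (nat_lit 88), (nat_lit 1), (nat_lit 1)), ((nat_lit 82), (nat_lit 89), (nat_lit 1), (nat_lit 1)), ((nat_lit 83), (nat_lit 90), (nat_lit 1), (nat_lit 1)), ((nat_lit 87), (nat_lit 92),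 (nat_lit 1), (nat_lit 1)), ((nat_lit 96), (nat_lit 98), (nat_lit 1), (nat_lit 1)), ((nat_lit 102), (nat_lit 104), (nat_lit 1), (nat_lit 1)), ((nat_lit 105), (nat_lit 114), (nat_lit 1), (nat_lit 1)), ((nat_lit 106), (nat_lit 115), (nat_lit 1), (nat_lit 1)), ((nat_lit 107), (nat_lit 116), (nat_lit 1), (nat_lit 1)), ((nat_lit 109), (nat_lit 126), (nat_lit 1), (nat_lit 1)), ((nat_lit 113), (nat_lit 130), (nat_lit 1), (nat_lit 1)), ((nat_lit 123), (nat_lit 132), (nat_lit 1), (nat_lit 1)), ((nat_lit 124), (nat_lit 133), (nat_lit 1), (nat_lit 1)), ((nat_lit 125), (nat_lit 134), (nat_lit 1), (nat_lit 1)), ((nat_lit 135), (nat_lit 137), (nat_lit 1), (nat_lit 1)), ((nat_lit 141), (nat_lit 143), (nat_lit 1), (nat_lit 1)), ((nat_lit 147), (nat_lit 152), (nat_lit 1), (nat_lit 1)), ((nat_lit 149), (nat_lit 156), (nat_lit 1), (nat_lit 1)), ((nat_lit 150), (nat_lit 157), (nat_lit 1), (nat_lit 1)), ((nat_lit 151), (nat_lit 158), (nat_lit 1), (nat_lit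 1)), ((nat_lit 163), (nat_lit 165), (nat_lit 1), (nat_lit 1)), ((nat_lit 169), (nat_lit 174), (nat_lit 1), (nat_lit 1)), ((nat_lit 171), (nat_lit 178), (nat_lit 1), (nat_lit 1)), ((nat_lit 172), (nat_lit 179), (nat_lit 1), (nat_lit 1)), ((nat_lit 173), (nat_lit 180), (nat_lit 1), (nat_lit 1)), ((nat_lit 185), (nat_lit 194), (nat_lit 1), (nat_lit 1)), ((nat_lit 186), (nat_lit 195), (nat_lit 1), (nat_lit 1)), ((nat_lit 187), (nat_lit 196), (nat_lit 1), (nat_lit 1)), ((nat_lit 191), (nat_lit 200), (nat_lit 1), (nat_lit 1)), ((nat_lit 192), (nat_lit 201), (nat_lit 1), (nat_lit 1)), ((nat_lit 193), (nat_lit 202), (nat_lit 1), (nat_lit 1)), ((nat_lit 207), (nat_lit 214), (nat_lit 1), (nat_lit 1)), ((nat_lit 208), (nat_lit 215), (nat_lit 1), (nat_lit 1)), ((nat_lit 209), (nat_lit 216), (nat_lit 1), (nat_lit 1)), ((nat_lit 213), (nat_lit 218), (nat_lit 1), (nat_lit 1)), ((nat_lit 222), (nat_lit 224), (nat_lit 1), (nat_lit 1)), ((nat_lit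 229), (nat_lit 231), (nat_lit 1), (nat_lit 1)), ((nat_lit 234), (nat_lit 236), (nat_lit 1), (nat_lit 1))])) (.node (.leaf [((nat_lit 15), (nat_lit 1), (nat_lit 1), (nat_lit 1)), ((nat_lit 19), (nat_lit 5), (nat_lit 1), (nat_lit 1)), ((nat_lit 24), (nat_lit 6), (nat_lit 1), (nat_lit 1)), ((nat_lit 38), (nat_lit 9), (nat_lit 1), (nat_lit 1)), ((nat_lit 41), (nat_lit 10), (nat_lit 1), (nat_lit 1)), ((nat_lit 43), (nat_lit 11), (nat_lit 1), (nat_lit 1)), ((nat_lit 45), (nat_lit 13), (nat_lit 1), (nat_lit 1)), ((nat_lit 79), (nat_lit 26), (nat_lit 1), (nat_lit 1)), ((nat_lit 81), (nat_lit 27), (nat_lit 1), (nat_lit 1)), ((nat_lit 83), (nat_lit 29), (nat_lit 1), (nat_lit 1)), ((nat_lit 84), (nat_lit 30), (nat_lit 1), (nat_lit 1)), ((nat_lit 86), (nat_lit 32), (nat_lit 1), (nat_lit 1)), ((nat_lit 87), (nat_lit 34), (nat_lit 1), (nat_lit 1)), ((nat_lit 99), (nat_lit 46), (nat_lit 1), (nat_lit 1)), ((nat_lit 101), (nat_lit 48), (nat_lit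 1), (nat_lit 1)), ((nat_lit 102), (nat_lit 50), (nat_lit 1), (nat_lit 1)), ((nat_lit 103), (nat_lit 53), (nat_lit 1), (nat_lit 1)), ((nat_lit 105), (nat_lit 56), (nat_lit 1), (nat_lit 1)), ((nat_lit 107), (nat_lit 58), (nat_lit 1), (nat_lit 1)), ((nat_lit 108), (nat_lit 60), (nat_lit 1), (nat_lit 1)), ((nat_lit 109), (nat_lit 63), (nat_lit 1), (nat_lit 1)), ((nat_lit 119), (nat_lit 66), (nat_lit 1), (nat_lit 1)), ((nat_lit 121), (nat_lit 68), (nat_lit 1), (nat_lit 1)), ((nat_lit 124), (nat_lit 69), (nat_lit 1), (nat_lit 1)), ((nat_lit 128), (nat_lit 70), (nat_lit 1), (nat_lit 1)), ((nat_lit 141), (nat_lit 72), (nat_lit 1), (nat_lit 1)), ((nat_lit 145), (nat_lit 76), (nat_lit 1), (nat_lit 1)), ((nat_lit 150), (nat_lit 77), (nat_lit 1), (nat_lit 1)), ((nat_lit 162), (nat_lit 89), (nat_lit 1), (nat_lit 1)), ((nat_lit 163), (nat_lit 94), (nat_lit 1), (nat_lit 1)), ((nat_lit 167), (nat_lit 98), (nat_lit 1), (nat_lit 1)), ((nat_lit 169),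 (nat_lit 111), (nat_lit 1), (nat_lit 1)), ((nat_lit 170), (nat_lit 115), (nat_lit 1), (nat_lit 1)), ((nat_lit 171), (nat_lit 118), (nat_lit 1), (nat_lit 1)), ((nat_lit 173), (nat_lit 120), (nat_lit 1), (nat_lit 1)), ((nat_lit 176), (nat_lit 130), (nat_lit 1), (nat_lit 1)), ((nat_lit 179), (nat_lit 131), (nat_lit 1), (nat_lit 1)), ((nat_lit 181), (nat_lit 132), (nat_lit 1), (nat_lit 1)), ((nat_lit 183), (nat_lit 134), (nat_lit 1), (nat_lit 1)), ((nat_lit 186), (nat_lit 136), (nat_lit 1), (nat_lit 1)), ((nat_lit 189), (nat_lit 137), (nat_lit 1), (nat_lit 1)), ((nat_lit 191), (nat_lit 138), (nat_lit 1), (nat_lit 1)), ((nat_lit 193), (nat_lit 140), (nat_lit 1), (nat_lit 1)), ((nat_lit 205), (nat_lit 152), (nat_lit 1), (nat_lit 1)), ((nat_lit 207), (nat_lit 153), (nat_lit 1), (nat_lit 1)), ((nat_lit 209), (nat_lit 155), (nat_lit 1), (nat_lit 1)), ((nat_lit 210), (nat_lit 156), (nat_lit 1), (nat_lit 1)), ((nat_lit 212), (nat_lit 158),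 (nat_lit 1), (nat_lit 1)), ((nat_lit 213), (nat_lit 160), (nat_lit 1), (nat_lit 1)), ((nat_lit 226), (nat_lit 194), (nat_lit 1), (nat_lit 1)), ((nat_lit 228), (nat_lit 196), (nat_lit 1), (nat_lit 1)), ((nat_lit 229), (nat_lit 198), (nat_lit 1), (nat_lit 1)), ((nat_lit 230), (nat_lit 201), (nat_lit 1), (nat_lit 1)), ((nat_lit 233), (nat_lit 215), (nat_lit 1), (nat_lit 1)), ((nat_lit 234), (nat_lit 220), (nat_lit 1), (nat_lit 1)), ((nat_lit 238), (nat_lit 224), (nat_lit 1), (nat_lit 1))]) (.leaf [((nat_lit 1), (nat_lit 26), (nat_lit 1), (nat_lit 1)), ((nat_lit 3), (nat_lit 28), (nat_lit 1), (nat_lit 1)), ((nat_lit 4), (nat_lit 31), (nat_lit 1), (nat_lit 1)), ((nat_lit 7), (nat_lit 47), (nat_lit 1), (nat_lit 1)), ((nat_lit 8), (nat_lit 57), (nat_lit 1), (nat_lit 1)), ((nat_lit 11), (nat_lit 66), (nat_lit 1), (nat_lit 1)), ((nat_lit 13), (nat_lit 68), (nat_lit 1), (nat_lit 1)), ((nat_lit 15), (nat_lit 79), (nat_lit 1), (nat_lit 1)),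 ((nat_lit 18), (nat_lit 88), (nat_lit 1), (nat_lit 1)), ((nat_lit 20), (nat_lit 90), (nat_lit 1), (nat_lit 1)), ((nat_lit 23), (nat_lit 93), (nat_lit 1), (nat_lit 1)), ((nat_lit 25), (nat_lit 95), (nat_lit 1), (nat_lit 1)), ((nat_lit 34), (nat_lit 98), (nat_lit 1), (nat_lit 1)), ((nat_lit 37), (nat_lit 110), (nat_lit 1), (nat_lit 1)), ((nat_lit 39), (nat_lit 112), (nat_lit 1), (nat_lit 1)), ((nat_lit 40), (nat_lit 114), (nat_lit 1), (nat_lit 1)), ((nat_lit 42), (nat_lit 116), (nat_lit 1), (nat_lit 1)), ((nat_lit 43), (nat_lit 119), (nat_lit 1), (nat_lit 1)), ((nat_lit 45), (nat_lit 121), (nat_lit 1), (nat_lit 1)), ((nat_lit 50), (nat_lit 130), (nat_lit 1), (nat_lit 1)), ((nat_lit 53), (nat_lit 131), (nat_lit 1), (nat_lit 1)), ((nat_lit 55), (nat_lit 133), (nat_lit 1), (nat_lit 1)), ((nat_lit 60), (nat_lit 136), (nat_lit 1), (nat_lit 1)), ((nat_lit 63), (nat_lit 137), (nat_lit 1), (nat_lit 1)), ((nat_lit 65), (nat_lit 139), (nat_lit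 1), (nat_lit 1)), ((nat_lit 72), (nat_lit 152), (nat_lit 1), (nat_lit 1)), ((nat_lit 74), (nat_lit 154), (nat_lit 1), (nat_lit 1)), ((nat_lit 75), (nat_lit 157), (nat_lit 1), (nat_lit 1)), ((nat_lit 82), (nat_lit 164), (nat_lit 1), (nat_lit 1)), ((nat_lit 85), (nat_lit 165), (nat_lit 1), (nat_lit 1)), ((nat_lit 87), (nat_lit 167), (nat_lit 1), (nat_lit 1)), ((nat_lit 100), (nat_lit 174), (nat_lit 1), (nat_lit 1)), ((nat_lit 102), (nat_lit 176), (nat_lit 1), (nat_lit 1)), ((nat_lit 103), (nat_lit 179), (nat_lit 1), (nat_lit 1)), ((nat_lit 106), (nat_lit 184), (nat_lit 1), (nat_lit 1)), ((nat_lit 108), (nat_lit 186), (nat_lit 1), (nat_lit 1)), ((nat_lit 109), (nat_lit 189), (nat_lit 1), (nat_lit 1)), ((nat_lit 118), (nat_lit 194), (nat_lit 1), (nat_lit 1)), ((nat_lit 120), (nat_lit 196), (nat_lit 1), (nat_lit 1)), ((nat_lit 123), (nat_lit 197), (nat_lit 1), (nat_lit 1)), ((nat_lit 125), (nat_lit 199), (nat_lit 1), (nat_lit 1)), ((nat_lit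 127), (nat_lit 200), (nat_lit 1), (nat_lit 1)), ((nat_lit 129), (nat_lit 202), (nat_lit 1), (nat_lit 1)), ((nat_lit 141), (nat_lit 205), (nat_lit 1), (nat_lit 1)), ((nat_lit 144), (nat_lit 214), (nat_lit 1), (nat_lit 1)), ((nat_lit 146), (nat_lit 216), (nat_lit 1), (nat_lit 1)), ((nat_lit 149), (nat_lit 219), (nat_lit 1), (nat_lit 1)), ((nat_lit 151), (nat_lit 221), (nat_lit 1), (nat_lit 1)), ((nat_lit 160), (nat_lit 224), (nat_lit 1), (nat_lit 1)), ((nat_lit 171), (nat_lit 226), (nat_lit 1), (nat_lit 1)), ((nat_lit 173), (nat_lit 228), (nat_lit 1), (nat_lit 1)), ((nat_lit 182), (nat_lit 231), (nat_lit 1), (nat_lit 1)), ((nat_lit 192), (nat_lit 232), (nat_lit 1), (nat_lit 1)), ((nat_lit 208), (nat_lit 235), (nat_lit 1), (nat_lit 1)), ((nat_lit 211), (nat_lit 236), (nat_lit 1), (nat_lit 1)), ((nat_lit 213), (nat_lit 238), (nat_lit 1), (nat_lit 1))]))) (.node (.node (.leaf [((nat_lit 36), (nat_lit 2), (nat_lit 1), (nat_lit 1)), ((nat_lit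 37), (nat_lit 3), (nat_lit 1), (nat_lit 1)), ((nat_lit 40), (nat_lit 4), (nat_lit 1), (nat_lit 1)), ((nat_lit 46), (nat_lit 5), (nat_lit 1), (nat_lit 1)), ((nat_lit 56), (nat_lit 6), (nat_lit 1), (nat_lit 1)), ((nat_lit 71), (nat_lit 12), (nat_lit 1), (nat_lit 1)), ((nat_lit 72), (nat_lit 13), (nat_lit 1), (nat_lit 1)), ((nat_lit 78), (nat_lit 14), (nat_lit 1), (nat_lit 1)), ((nat_lit 99), (nat_lit 19), (nat_lit 1), (nat_lit 1)), ((nat_lit 100), (nat_lit 20), (nat_lit 1), (nat_lit 1)), ((nat_lit 105), (nat_lit 24), (nat_lit 1), (nat_lit 1)), ((nat_lit 106), (nat_lit 25), (nat_lit 1), (nat_lit 1)), ((nat_lit 110), (nat_lit 28), (nat_lit 1), (nat_lit 1)), ((nat_lit 111), (nat_lit 29), (nat_lit 1), (nat_lit 1)), ((nat_lit 114), (nat_lit 31), (nat_lit 1), (nat_lit 1)), ((nat_lit 115), (nat_lit 32), (nat_lit 1), (nat_lit 1)), ((nat_lit 117), (nat_lit 33), (nat_lit 1), (nat_lit 1)), ((nat_lit 118), (nat_lit 34), (nat_lit 1), (nat_lit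 1)), ((nat_lit 141), (nat_lit 45), (nat_lit 1), (nat_lit 1)), ((nat_lit 142), (nat_lit 51), (nat_lit 1), (nat_lit 1)), ((nat_lit 143), (nat_lit 54), (nat_lit 1), (nat_lit 1)), ((nat_lit 144), (nat_lit 55), (nat_lit 1), (nat_lit 1)), ((nat_lit 147), (nat_lit 61), (nat_lit 1), (nat_lit 1)), ((nat_lit 148), (nat_lit 64), (nat_lit 1), (nat_lit 1)), ((nat_lit 149), (nat_lit 65), (nat_lit 1), (nat_lit 1)), ((nat_lit 152), (nat_lit 68), (nat_lit 1), (nat_lit 1)), ((nat_lit 153), (nat_lit 69), (nat_lit 1), (nat_lit 1)), ((nat_lit 156), (nat_lit 70), (nat_lit 1), (nat_lit 1)), ((nat_lit 169), (nat_lit 83), (nat_lit 1), (nat_lit 1)), ((nat_lit 170), (nat_lit 86), (nat_lit 1), (nat_lit 1)), ((nat_lit 171), (nat_lit 87), (nat_lit 1), (nat_lit 1)), ((nat_lit 174), (nat_lit 90), (nat_lit 1), (nat_lit 1)), ((nat_lit 175), (nat_lit 91), (nat_lit 1), (nat_lit 1)), ((nat_lit 178), (nat_lit 92), (nat_lit 1), (nat_lit 1)), ((nat_lit 184), (nat_lit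 95), (nat_lit 1), (nat_lit 1)), ((nat_lit 185), (nat_lit 96), (nat_lit 1), (nat_lit 1)), ((nat_lit 188), (nat_lit 97), (nat_lit 1), (nat_lit 1)), ((nat_lit 194), (nat_lit 98), (nat_lit 1), (nat_lit 1)), ((nat_lit 205), (nat_lit 121), (nat_lit 1), (nat_lit 1)), ((nat_lit 206), (nat_lit 122), (nat_lit 1), (nat_lit 1)), ((nat_lit 207), (nat_lit 124), (nat_lit 1), (nat_lit 1)), ((nat_lit 208), (nat_lit 125), (nat_lit 1), (nat_lit 1)), ((nat_lit 210), (nat_lit 128), (nat_lit 1), (nat_lit 1)), ((nat_lit 211), (nat_lit 129), (nat_lit 1), (nat_lit 1)), ((nat_lit 214), (nat_lit 133), (nat_lit 1), (nat_lit 1)), ((nat_lit 215), (nat_lit 134), (nat_lit 1), (nat_lit 1)), ((nat_lit 219), (nat_lit 139), (nat_lit 1), (nat_lit 1)), ((nat_lit 220), (nat_lit 140), (nat_lit 1), (nat_lit 1)), ((nat_lit 225), (nat_lit 161), (nat_lit 1), (nat_lit 1)), ((nat_lit 226), (nat_lit 167), (nat_lit 1), (nat_lit 1)), ((nat_lit 227), (nat_lit 168), (nat_lit 1),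 (nat_lit 1)), ((nat_lit 233), (nat_lit 183), (nat_lit 1), (nat_lit 1)), ((nat_lit 234), (nat_lit 193), (nat_lit 1), (nat_lit 1)), ((nat_lit 235), (nat_lit 199), (nat_lit 1), (nat_lit 1)), ((nat_lit 236), (nat_lit 202), (nat_lit 1), (nat_lit 1)), ((nat_lit 237), (nat_lit 203), (nat_lit 1), (nat_lit 1))]) (.leaf [((nat_lit 5), (nat_lit 14), (nat_lit 1), (nat_lit 1)), ((nat_lit 7), (nat_lit 15), (nat_lit 1), (nat_lit 1)), ((nat_lit 9), (nat_lit 21), (nat_lit 1), (nat_lit 1)), ((nat_lit 10), (nat_lit 22), (nat_lit 1), (nat_lit 1)), ((nat_lit 11), (nat_lit 23), (nat_lit 1), (nat_lit 1)), ((nat_lit 12), (nat_lit 24), (nat_lit 1), (nat_lit 1)), ((nat_lit 13), (nat_lit 25), (nat_lit 1), (nat_lit 1)), ((nat_lit 46), (nat_lit 78), (nat_lit 1), (nat_lit 1)), ((nat_lit 47), (nat_lit 79), (nat_lit 1), (nat_lit 1)), ((nat_lit 48), (nat_lit 80), (nat_lit 1), (nat_lit 1)), ((nat_lit 49), (nat_lit 81), (nat_lit 1), (nat_lit 1)), ((nat_lit 50),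 (nat_lit 82), (nat_lit 1), (nat_lit 1)), ((nat_lit 51), (nat_lit 83), (nat_lit 1), (nat_lit 1)), ((nat_lit 52), (nat_lit 84), (nat_lit 1), (nat_lit 1)), ((nat_lit 53), (nat_lit 85), (nat_lit 1), (nat_lit 1)), ((nat_lit 54), (nat_lit 86), (nat_lit 1), (nat_lit 1)), ((nat_lit 55), (nat_lit 87), (nat_lit 1), (nat_lit 1)), ((nat_lit 66), (nat_lit 93), (nat_lit 1), (nat_lit 1)), ((nat_lit 67), (nat_lit 94), (nat_lit 1), (nat_lit 1)), ((nat_lit 68), (nat_lit 95), (nat_lit 1), (nat_lit 1)), ((nat_lit 69), (nat_lit 96), (nat_lit 1), (nat_lit 1)), ((nat_lit 70), (nat_lit 97), (nat_lit 1), (nat_lit 1)), ((nat_lit 71), (nat_lit 105), (nat_lit 1), (nat_lit 1)), ((nat_lit 72), (nat_lit 106), (nat_lit 1), (nat_lit 1)), ((nat_lit 73), (nat_lit 107), (nat_lit 1), (nat_lit 1)), ((nat_lit 74), (nat_lit 108), (nat_lit 1), (nat_lit 1)), ((nat_lit 75), (nat_lit 109), (nat_lit 1), (nat_lit 1)), ((nat_lit 77), (nat_lit 135), (nat_lit 1), (nat_lit 1)),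 ((nat_lit 104), (nat_lit 162), (nat_lit 1), (nat_lit 1)), ((nat_lit 130), (nat_lit 164), (nat_lit 1), (nat_lit 1)), ((nat_lit 131), (nat_lit 165), (nat_lit 1), (nat_lit 1)), ((nat_lit 132), (nat_lit 166), (nat_lit 1), (nat_lit 1)), ((nat_lit 133), (nat_lit 167), (nat_lit 1), (nat_lit 1)), ((nat_lit 134), (nat_lit 168), (nat_lit 1), (nat_lit 1)), ((nat_lit 142), (nat_lit 169), (nat_lit 1), (nat_lit 1)), ((nat_lit 143), (nat_lit 170), (nat_lit 1), (nat_lit 1)), ((nat_lit 144), (nat_lit 171), (nat_lit 1), (nat_lit 1)), ((nat_lit 145), (nat_lit 172), (nat_lit 1), (nat_lit 1)), ((nat_lit 146), (nat_lit 173), (nat_lit 1), (nat_lit 1)), ((nat_lit 152), (nat_lit 184), (nat_lit 1), (nat_lit 1)), ((nat_lit 153), (nat_lit 185), (nat_lit 1), (nat_lit 1)), ((nat_lit 154), (nat_lit 186), (nat_lit 1), (nat_lit 1)), ((nat_lit 155), (nat_lit 187), (nat_lit 1), (nat_lit 1)), ((nat_lit 156), (nat_lit 188), (nat_lit 1), (nat_lit 1)), ((nat_lit 157),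 (nat_lit 189), (nat_lit 1), (nat_lit 1)), ((nat_lit 158), (nat_lit 190), (nat_lit 1), (nat_lit 1)), ((nat_lit 159), (nat_lit 191), (nat_lit 1), (nat_lit 1)), ((nat_lit 160), (nat_lit 192), (nat_lit 1), (nat_lit 1)), ((nat_lit 161), (nat_lit 193), (nat_lit 1), (nat_lit 1)), ((nat_lit 214), (nat_lit 226), (nat_lit 1), (nat_lit 1)), ((nat_lit 215), (nat_lit 227), (nat_lit 1), (nat_lit 1)), ((nat_lit 216), (nat_lit 228), (nat_lit 1), (nat_lit 1)), ((nat_lit 217), (nat_lit 229), (nat_lit 1), (nat_lit 1)), ((nat_lit 218), (nat_lit 230), (nat_lit 1), (nat_lit 1)), ((nat_lit 224), (nat_lit 232), (nat_lit 1), (nat_lit 1)), ((nat_lit 225), (nat_lit 234), (nat_lit 1), (nat_lit 1))])) (.node (.leaf [((nat_lit 6), (nat_lit 0), (nat_lit 1), (nat_lit 1)), ((nat_lit 13), (nat_lit 7), (nat_lit 1), (nat_lit 1)), ((nat_lit 25), (nat_lit 15), (nat_lit 1), (nat_lit 1)), ((nat_lit 29), (nat_lit 16), (nat_lit 1), (nat_lit 1)), ((nat_lit 32), (nat_lit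 17), (nat_lit 1), (nat_lit 1)), ((nat_lit 34), (nat_lit 18), (nat_lit 1), (nat_lit 1)), ((nat_lit 35), (nat_lit 19), (nat_lit 1), (nat_lit 1)), ((nat_lit 58), (nat_lit 36), (nat_lit 1), (nat_lit 1)), ((nat_lit 60), (nat_lit 37), (nat_lit 1), (nat_lit 1)), ((nat_lit 61), (nat_lit 38), (nat_lit 1), (nat_lit 1)), ((nat_lit 63), (nat_lit 40), (nat_lit 1), (nat_lit 1)), ((nat_lit 64), (nat_lit 41), (nat_lit 1), (nat_lit 1)), ((nat_lit 65), (nat_lit 43), (nat_lit 1), (nat_lit 1)), ((nat_lit 67), (nat_lit 46), (nat_lit 1), (nat_lit 1)), ((nat_lit 68), (nat_lit 47), (nat_lit 1), (nat_lit 1)), ((nat_lit 69), (nat_lit 49), (nat_lit 1), (nat_lit 1)), ((nat_lit 70), (nat_lit 52), (nat_lit 1), (nat_lit 1)), ((nat_lit 77), (nat_lit 71), (nat_lit 1), (nat_lit 1)), ((nat_lit 94), (nat_lit 78), (nat_lit 1), (nat_lit 1)), ((nat_lit 95), (nat_lit 79), (nat_lit 1), (nat_lit 1)), ((nat_lit 96), (nat_lit 81), (nat_lit 1), (nat_lit 1)), ((nat_lit 97),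 (nat_lit 84), (nat_lit 1), (nat_lit 1)), ((nat_lit 98), (nat_lit 88), (nat_lit 1), (nat_lit 1)), ((nat_lit 120), (nat_lit 100), (nat_lit 1), (nat_lit 1)), ((nat_lit 122), (nat_lit 101), (nat_lit 1), (nat_lit 1)), ((nat_lit 125), (nat_lit 102), (nat_lit 1), (nat_lit 1)), ((nat_lit 129), (nat_lit 103), (nat_lit 1), (nat_lit 1)), ((nat_lit 134), (nat_lit 104), (nat_lit 1), (nat_lit 1)), ((nat_lit 135), (nat_lit 105), (nat_lit 1), (nat_lit 1)), ((nat_lit 136), (nat_lit 110), (nat_lit 1), (nat_lit 1)), ((nat_lit 137), (nat_lit 114), (nat_lit 1), (nat_lit 1)), ((nat_lit 138), (nat_lit 117), (nat_lit 1), (nat_lit 1)), ((nat_lit 139), (nat_lit 119), (nat_lit 1), (nat_lit 1)), ((nat_lit 151), (nat_lit 141), (nat_lit 1), (nat_lit 1)), ((nat_lit 155), (nat_lit 142), (nat_lit 1), (nat_lit 1)), ((nat_lit 158), (nat_lit 143), (nat_lit 1), (nat_lit 1)), ((nat_lit 160), (nat_lit 144), (nat_lit 1), (nat_lit 1)), ((nat_lit 161), (nat_lit 145), (nat_lit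 1), (nat_lit 1)), ((nat_lit 168), (nat_lit 162), (nat_lit 1), (nat_lit 1)), ((nat_lit 187), (nat_lit 169), (nat_lit 1), (nat_lit 1)), ((nat_lit 190), (nat_lit 170), (nat_lit 1), (nat_lit 1)), ((nat_lit 192), (nat_lit 171), (nat_lit 1), (nat_lit 1)), ((nat_lit 193), (nat_lit 172), (nat_lit 1), (nat_lit 1)), ((nat_lit 196), (nat_lit 174), (nat_lit 1), (nat_lit 1)), ((nat_lit 198), (nat_lit 175), (nat_lit 1), (nat_lit 1)), ((nat_lit 199), (nat_lit 176), (nat_lit 1), (nat_lit 1)), ((nat_lit 201), (nat_lit 178), (nat_lit 1), (nat_lit 1)), ((nat_lit 202), (nat_lit 179), (nat_lit 1), (nat_lit 1)), ((nat_lit 203), (nat_lit 181), (nat_lit 1), (nat_lit 1)), ((nat_lit 220), (nat_lit 204), (nat_lit 1), (nat_lit 1)), ((nat_lit 221), (nat_lit 205), (nat_lit 1), (nat_lit 1)), ((nat_lit 222), (nat_lit 207), (nat_lit 1), (nat_lit 1)), ((nat_lit 223), (nat_lit 210), (nat_lit 1), (nat_lit 1)), ((nat_lit 224), (nat_lit 214), (nat_lit 1), (nat_lit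 1)), ((nat_lit 232), (nat_lit 226), (nat_lit 1), (nat_lit 1)), ((nat_lit 239), (nat_lit 233), (nat_lit 1), (nat_lit 1))]) (.leaf [((nat_lit 0), (nat_lit 78), (nat_lit 1), (nat_lit 1)), ((nat_lit 2), (nat_lit 80), (nat_lit 1), (nat_lit 1)), ((nat_lit 3), (nat_lit 82), (nat_lit 1), (nat_lit 1)), ((nat_lit 4), (nat_lit 85), (nat_lit 1), (nat_lit 1)), ((nat_lit 5), (nat_lit 89), (nat_lit 1), (nat_lit 1)), ((nat_lit 6), (nat_lit 94), (nat_lit 1), (nat_lit 1)), ((nat_lit 7), (nat_lit 100), (nat_lit 1), (nat_lit 1)), ((nat_lit 8), (nat_lit 106), (nat_lit 1), (nat_lit 1)), ((nat_lit 9), (nat_lit 111), (nat_lit 1), (nat_lit 1)), ((nat_lit 10), (nat_lit 115), (nat_lit 1), (nat_lit 1)), ((nat_lit 11), (nat_lit 118), (nat_lit 1), (nat_lit 1)), ((nat_lit 13), (nat_lit 120), (nat_lit 1), (nat_lit 1)), ((nat_lit 19), (nat_lit 162), (nat_lit 1), (nat_lit 1)), ((nat_lit 24), (nat_lit 163), (nat_lit 1), (nat_lit 1)), ((nat_lit 28), (nat_lit 164),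 (nat_lit 1), (nat_lit 1)), ((nat_lit 31), (nat_lit 165), (nat_lit 1), (nat_lit 1)), ((nat_lit 33), (nat_lit 166), (nat_lit 1), (nat_lit 1)), ((nat_lit 35), (nat_lit 168), (nat_lit 1), (nat_lit 1)), ((nat_lit 38), (nat_lit 169), (nat_lit 1), (nat_lit 1)), ((nat_lit 41), (nat_lit 170), (nat_lit 1), (nat_lit 1)), ((nat_lit 43), (nat_lit 171), (nat_lit 1), (nat_lit 1)), ((nat_lit 45), (nat_lit 173), (nat_lit 1), (nat_lit 1)), ((nat_lit 47), (nat_lit 174), (nat_lit 1), (nat_lit 1)), ((nat_lit 49), (nat_lit 175), (nat_lit 1), (nat_lit 1)), ((nat_lit 51), (nat_lit 177), (nat_lit 1), (nat_lit 1)), ((nat_lit 52), (nat_lit 178), (nat_lit 1), (nat_lit 1)), ((nat_lit 54), (nat_lit 180), (nat_lit 1), (nat_lit 1)), ((nat_lit 55), (nat_lit 182), (nat_lit 1), (nat_lit 1)), ((nat_lit 57), (nat_lit 184), (nat_lit 1), (nat_lit 1)), ((nat_lit 59), (nat_lit 185), (nat_lit 1), (nat_lit 1)), ((nat_lit 61), (nat_lit 187), (nat_lit 1), (nat_lit 1)), ((nat_lit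 62), (nat_lit 188), (nat_lit 1), (nat_lit 1)), ((nat_lit 64), (nat_lit 190), (nat_lit 1), (nat_lit 1)), ((nat_lit 65), (nat_lit 192), (nat_lit 1), (nat_lit 1)), ((nat_lit 66), (nat_lit 194), (nat_lit 1), (nat_lit 1)), ((nat_lit 68), (nat_lit 196), (nat_lit 1), (nat_lit 1)), ((nat_lit 69), (nat_lit 198), (nat_lit 1), (nat_lit 1)), ((nat_lit 70), (nat_lit 201), (nat_lit 1), (nat_lit 1)), ((nat_lit 71), (nat_lit 204), (nat_lit 1), (nat_lit 1)), ((nat_lit 73), (nat_lit 206), (nat_lit 1), (nat_lit 1)), ((nat_lit 74), (nat_lit 208), (nat_lit 1), (nat_lit 1)), ((nat_lit 75), (nat_lit 211), (nat_lit 1), (nat_lit 1)), ((nat_lit 76), (nat_lit 215), (nat_lit 1), (nat_lit 1)), ((nat_lit 77), (nat_lit 220), (nat_lit 1), (nat_lit 1)), ((nat_lit 119), (nat_lit 226), (nat_lit 1), (nat_lit 1)), ((nat_lit 121), (nat_lit 228), (nat_lit 1), (nat_lit 1)), ((nat_lit 124), (nat_lit 229), (nat_lit 1), (nat_lit 1)), ((nat_lit 128), (nat_lit 230), (nat_lit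 1), (nat_lit 1)), ((nat_lit 133), (nat_lit 231), (nat_lit 1), (nat_lit 1)), ((nat_lit 139), (nat_lit 232), (nat_lit 1), (nat_lit 1)), ((nat_lit 145), (nat_lit 233), (nat_lit 1), (nat_lit 1)), ((nat_lit 150), (nat_lit 234), (nat_lit 1), (nat_lit 1)), ((nat_lit 154), (nat_lit 235), (nat_lit 1), (nat_lit 1)), ((nat_lit 157), (nat_lit 236), (nat_lit 1), (nat_lit 1)), ((nat_lit 159), (nat_lit 237), (nat_lit 1), (nat_lit 1)), ((nat_lit 161), (nat_lit 239), (nat_lit 1), (nat_lit 1))])))) (.node (.node (.node (.leaf [((nat_lit 56), (nat_lit 0), (nat_lit 1), (nat_lit 1)), ((nat_lit 58), (nat_lit 2), (nat_lit 1), (nat_lit 1)), ((nat_lit 60), (nat_lit 3), (nat_lit 1), (nat_lit 1)), ((nat_lit 63), (nat_lit 4), (nat_lit 1), (nat_lit 1)), ((nat_lit 67), (nat_lit 5), (nat_lit 1), (nat_lit 1)), ((nat_lit 72), (nat_lit 7), (nat_lit 1), (nat_lit 1)), ((nat_lit 77), (nat_lit 12), (nat_lit 1), (nat_lit 1)), ((nat_lit 94), (nat_lit 14), (nat_lit 1),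 (nat_lit 1)), ((nat_lit 106), (nat_lit 15), (nat_lit 1), (nat_lit 1)), ((nat_lit 111), (nat_lit 16), (nat_lit 1), (nat_lit 1)), ((nat_lit 115), (nat_lit 17), (nat_lit 1), (nat_lit 1)), ((nat_lit 118), (nat_lit 18), (nat_lit 1), (nat_lit 1)), ((nat_lit 120), (nat_lit 20), (nat_lit 1), (nat_lit 1)), ((nat_lit 135), (nat_lit 24), (nat_lit 1), (nat_lit 1)), ((nat_lit 136), (nat_lit 28), (nat_lit 1), (nat_lit 1)), ((nat_lit 137), (nat_lit 31), (nat_lit 1), (nat_lit 1)), ((nat_lit 138), (nat_lit 33), (nat_lit 1), (nat_lit 1)), ((nat_lit 140), (nat_lit 35), (nat_lit 1), (nat_lit 1)), ((nat_lit 147), (nat_lit 38), (nat_lit 1), (nat_lit 1)), ((nat_lit 148), (nat_lit 41), (nat_lit 1), (nat_lit 1)), ((nat_lit 149), (nat_lit 43), (nat_lit 1), (nat_lit 1)), ((nat_lit 151), (nat_lit 45), (nat_lit 1), (nat_lit 1)), ((nat_lit 152), (nat_lit 47), (nat_lit 1), (nat_lit 1)), ((nat_lit 153), (nat_lit 49), (nat_lit 1), (nat_lit 1)), ((nat_lit 155),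 (nat_lit 51), (nat_lit 1), (nat_lit 1)), ((nat_lit 156), (nat_lit 52), (nat_lit 1), (nat_lit 1)), ((nat_lit 158), (nat_lit 54), (nat_lit 1), (nat_lit 1)), ((nat_lit 160), (nat_lit 55), (nat_lit 1), (nat_lit 1)), ((nat_lit 184), (nat_lit 79), (nat_lit 1), (nat_lit 1)), ((nat_lit 185), (nat_lit 81), (nat_lit 1), (nat_lit 1)), ((nat_lit 187), (nat_lit 83), (nat_lit 1), (nat_lit 1)), ((nat_lit 188), (nat_lit 84), (nat_lit 1), (nat_lit 1)), ((nat_lit 190), (nat_lit 86), (nat_lit 1), (nat_lit 1)), ((nat_lit 192), (nat_lit 87), (nat_lit 1), (nat_lit 1)), ((nat_lit 194), (nat_lit 88), (nat_lit 1), (nat_lit 1)), ((nat_lit 196), (nat_lit 90), (nat_lit 1), (nat_lit 1)), ((nat_lit 198), (nat_lit 91), (nat_lit 1), (nat_lit 1)), ((nat_lit 201), (nat_lit 92), (nat_lit 1), (nat_lit 1)), ((nat_lit 204), (nat_lit 99), (nat_lit 1), (nat_lit 1)), ((nat_lit 206), (nat_lit 101), (nat_lit 1), (nat_lit 1)), ((nat_lit 208), (nat_lit 102), (nat_lit 1),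 (nat_lit 1)), ((nat_lit 211), (nat_lit 103), (nat_lit 1), (nat_lit 1)), ((nat_lit 215), (nat_lit 104), (nat_lit 1), (nat_lit 1)), ((nat_lit 219), (nat_lit 119), (nat_lit 1), (nat_lit 1)), ((nat_lit 221), (nat_lit 121), (nat_lit 1), (nat_lit 1)), ((nat_lit 222), (nat_lit 124), (nat_lit 1), (nat_lit 1)), ((nat_lit 223), (nat_lit 128), (nat_lit 1), (nat_lit 1)), ((nat_lit 224), (nat_lit 133), (nat_lit 1), (nat_lit 1)), ((nat_lit 225), (nat_lit 145), (nat_lit 1), (nat_lit 1)), ((nat_lit 227), (nat_lit 162), (nat_lit 1), (nat_lit 1)), ((nat_lit 232), (nat_lit 167), (nat_lit 1), (nat_lit 1)), ((nat_lit 234), (nat_lit 172), (nat_lit 1), (nat_lit 1)), ((nat_lit 235), (nat_lit 176), (nat_lit 1), (nat_lit 1)), ((nat_lit 236), (nat_lit 179), (nat_lit 1), (nat_lit 1)), ((nat_lit 237), (nat_lit 181), (nat_lit 1), (nat_lit 1)), ((nat_lit 239), (nat_lit 183), (nat_lit 1), (nat_lit 1))]) (.leaf [((nat_lit 4), (nat_lit 8), (nat_lit 1), (nat_lit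 1)), ((nat_lit 5), (nat_lit 9), (nat_lit 1), (nat_lit 1)), ((nat_lit 14), (nat_lit 21), (nat_lit 1), (nat_lit 1)), ((nat_lit 17), (nat_lit 36), (nat_lit 1), (nat_lit 1)), ((nat_lit 18), (nat_lit 37), (nat_lit 1), (nat_lit 1)), ((nat_lit 19), (nat_lit 38), (nat_lit 1), (nat_lit 1)), ((nat_lit 20), (nat_lit 39), (nat_lit 1), (nat_lit 1)), ((nat_lit 30), (nat_lit 56), (nat_lit 1), (nat_lit 1)), ((nat_lit 31), (nat_lit 57), (nat_lit 1), (nat_lit 1)), ((nat_lit 32), (nat_lit 58), (nat_lit 1), (nat_lit 1)), ((nat_lit 33), (nat_lit 59), (nat_lit 1), (nat_lit 1)), ((nat_lit 34), (nat_lit 60), (nat_lit 1), (nat_lit 1)), ((nat_lit 35), (nat_lit 61), (nat_lit 1), (nat_lit 1)), ((nat_lit 52), (nat_lit 71), (nat_lit 1), (nat_lit 1)), ((nat_lit 53), (nat_lit 72), (nat_lit 1), (nat_lit 1)), ((nat_lit 54), (nat_lit 73), (nat_lit 1), (nat_lit 1)), ((nat_lit 55), (nat_lit 74), (nat_lit 1), (nat_lit 1)), ((nat_lit 70), (nat_lit 77), (nat_lit 1),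 (nat_lit 1)), ((nat_lit 84), (nat_lit 105), (nat_lit 1), (nat_lit 1)), ((nat_lit 85), (nat_lit 106), (nat_lit 1), (nat_lit 1)), ((nat_lit 86), (nat_lit 107), (nat_lit 1), (nat_lit 1)), ((nat_lit 87), (nat_lit 108), (nat_lit 1), (nat_lit 1)), ((nat_lit 88), (nat_lit 110), (nat_lit 1), (nat_lit 1)), ((nat_lit 89), (nat_lit 111), (nat_lit 1), (nat_lit 1)), ((nat_lit 90), (nat_lit 112), (nat_lit 1), (nat_lit 1)), ((nat_lit 91), (nat_lit 113), (nat_lit 1), (nat_lit 1)), ((nat_lit 97), (nat_lit 135), (nat_lit 1), (nat_lit 1)), ((nat_lit 98), (nat_lit 136), (nat_lit 1), (nat_lit 1)), ((nat_lit 103), (nat_lit 141), (nat_lit 1), (nat_lit 1)), ((nat_lit 104), (nat_lit 142), (nat_lit 1), (nat_lit 1)), ((nat_lit 126), (nat_lit 148), (nat_lit 1), (nat_lit 1)), ((nat_lit 127), (nat_lit 149), (nat_lit 1), (nat_lit 1)), ((nat_lit 128), (nat_lit 150), (nat_lit 1), (nat_lit 1)), ((nat_lit 129), (nat_lit 151), (nat_lit 1), (nat_lit 1)), ((nat_lit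 131), (nat_lit 152), (nat_lit 1), (nat_lit 1)), ((nat_lit 132), (nat_lit 153), (nat_lit 1), (nat_lit 1)), ((nat_lit 133), (nat_lit 154), (nat_lit 1), (nat_lit 1)), ((nat_lit 134), (nat_lit 155), (nat_lit 1), (nat_lit 1)), ((nat_lit 162), (nat_lit 169), (nat_lit 1), (nat_lit 1)), ((nat_lit 165), (nat_lit 184), (nat_lit 1), (nat_lit 1)), ((nat_lit 166), (nat_lit 185), (nat_lit 1), (nat_lit 1)), ((nat_lit 167), (nat_lit 186), (nat_lit 1), (nat_lit 1)), ((nat_lit 168), (nat_lit 187), (nat_lit 1), (nat_lit 1)), ((nat_lit 178), (nat_lit 204), (nat_lit 1), (nat_lit 1)), ((nat_lit 179), (nat_lit 205), (nat_lit 1), (nat_lit 1)), ((nat_lit 180), (nat_lit 206), (nat_lit 1), (nat_lit 1)), ((nat_lit 181), (nat_lit 207), (nat_lit 1), (nat_lit 1)), ((nat_lit 182), (nat_lit 208), (nat_lit 1), (nat_lit 1)), ((nat_lit 183), (nat_lit 209), (nat_lit 1), (nat_lit 1)), ((nat_lit 200), (nat_lit 219), (nat_lit 1), (nat_lit 1)), ((nat_lit 201), (nat_lit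 220), (nat_lit 1), (nat_lit 1)), ((nat_lit 202), (nat_lit 221), (nat_lit 1), (nat_lit 1)), ((nat_lit 203), (nat_lit 222), (nat_lit 1), (nat_lit 1)), ((nat_lit 218), (nat_lit 225), (nat_lit 1), (nat_lit 1)), ((nat_lit 230), (nat_lit 234), (nat_lit 1), (nat_lit 1)), ((nat_lit 231), (nat_lit 235), (nat_lit 1), (nat_lit 1))])) (.node (.leaf [((nat_lit 10), (nat_lit 2), (nat_lit 1), (nat_lit 1)), ((nat_lit 11), (nat_lit 3), (nat_lit 1), (nat_lit 1)), ((nat_lit 30), (nat_lit 14), (nat_lit 1), (nat_lit 1)), ((nat_lit 40), (nat_lit 15), (nat_lit 1), (nat_lit 1)), ((nat_lit 46), (nat_lit 16), (nat_lit 1), (nat_lit 1)), ((nat_lit 52), (nat_lit 19), (nat_lit 1), (nat_lit 1)), ((nat_lit 53), (nat_lit 20), (nat_lit 1), (nat_lit 1)), ((nat_lit 56), (nat_lit 21), (nat_lit 1), (nat_lit 1)), ((nat_lit 62), (nat_lit 24), (nat_lit 1), (nat_lit 1)), ((nat_lit 63), (nat_lit 25), (nat_lit 1), (nat_lit 1)), ((nat_lit 66), (nat_lit 28), (nat_lit 1), (nat_lit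 1)), ((nat_lit 67), (nat_lit 29), (nat_lit 1), (nat_lit 1)), ((nat_lit 70), (nat_lit 35), (nat_lit 1), (nat_lit 1)), ((nat_lit 71), (nat_lit 38), (nat_lit 1), (nat_lit 1)), ((nat_lit 72), (nat_lit 39), (nat_lit 1), (nat_lit 1)), ((nat_lit 75), (nat_lit 45), (nat_lit 1), (nat_lit 1)), ((nat_lit 76), (nat_lit 51), (nat_lit 1), (nat_lit 1)), ((nat_lit 77), (nat_lit 61), (nat_lit 1), (nat_lit 1)), ((nat_lit 114), (nat_lit 79), (nat_lit 1), (nat_lit 1)), ((nat_lit 115), (nat_lit 80), (nat_lit 1), (nat_lit 1)), ((nat_lit 117), (nat_lit 81), (nat_lit 1), (nat_lit 1)), ((nat_lit 118), (nat_lit 82), (nat_lit 1), (nat_lit 1)), ((nat_lit 126), (nat_lit 86), (nat_lit 1), (nat_lit 1)), ((nat_lit 127), (nat_lit 87), (nat_lit 1), (nat_lit 1)), ((nat_lit 131), (nat_lit 90), (nat_lit 1), (nat_lit 1)), ((nat_lit 132), (nat_lit 91), (nat_lit 1), (nat_lit 1)), ((nat_lit 137), (nat_lit 95), (nat_lit 1), (nat_lit 1)), ((nat_lit 138), (nat_lit 96), (nat_lit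 1), (nat_lit 1)), ((nat_lit 143), (nat_lit 101), (nat_lit 1), (nat_lit 1)), ((nat_lit 144), (nat_lit 102), (nat_lit 1), (nat_lit 1)), ((nat_lit 148), (nat_lit 107), (nat_lit 1), (nat_lit 1)), ((nat_lit 149), (nat_lit 108), (nat_lit 1), (nat_lit 1)), ((nat_lit 152), (nat_lit 112), (nat_lit 1), (nat_lit 1)), ((nat_lit 153), (nat_lit 113), (nat_lit 1), (nat_lit 1)), ((nat_lit 157), (nat_lit 121), (nat_lit 1), (nat_lit 1)), ((nat_lit 158), (nat_lit 122), (nat_lit 1), (nat_lit 1)), ((nat_lit 159), (nat_lit 124), (nat_lit 1), (nat_lit 1)), ((nat_lit 160), (nat_lit 125), (nat_lit 1), (nat_lit 1)), ((nat_lit 178), (nat_lit 162), (nat_lit 1), (nat_lit 1)), ((nat_lit 188), (nat_lit 163), (nat_lit 1), (nat_lit 1)), ((nat_lit 194), (nat_lit 164), (nat_lit 1), (nat_lit 1)), ((nat_lit 200), (nat_lit 167), (nat_lit 1), (nat_lit 1)), ((nat_lit 201), (nat_lit 168), (nat_lit 1), (nat_lit 1)), ((nat_lit 204), (nat_lit 169), (nat_lit 1), (nat_lit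 1)), ((nat_lit 210), (nat_lit 172), (nat_lit 1), (nat_lit 1)), ((nat_lit 211), (nat_lit 173), (nat_lit 1), (nat_lit 1)), ((nat_lit 214), (nat_lit 176), (nat_lit 1), (nat_lit 1)), ((nat_lit 215), (nat_lit 177), (nat_lit 1), (nat_lit 1)), ((nat_lit 218), (nat_lit 183), (nat_lit 1), (nat_lit 1)), ((nat_lit 219), (nat_lit 186), (nat_lit 1), (nat_lit 1)), ((nat_lit 220), (nat_lit 187), (nat_lit 1), (nat_lit 1)), ((nat_lit 223), (nat_lit 193), (nat_lit 1), (nat_lit 1)), ((nat_lit 224), (nat_lit 199), (nat_lit 1), (nat_lit 1)), ((nat_lit 225), (nat_lit 209), (nat_lit 1), (nat_lit 1)), ((nat_lit 236), (nat_lit 228), (nat_lit 1), (nat_lit 1)), ((nat_lit 237), (nat_lit 229), (nat_lit 1), (nat_lit 1))]) (.leaf [((nat_lit 0), (nat_lit 40), (nat_lit 1), (nat_lit 1)), ((nat_lit 2), (nat_lit 42), (nat_lit 1), (nat_lit 1)), ((nat_lit 3), (nat_lit 44), (nat_lit 1), (nat_lit 1)), ((nat_lit 5), (nat_lit 53), (nat_lit 1), (nat_lit 1)), ((nat_lit 6),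 (nat_lit 63), (nat_lit 1), (nat_lit 1)), ((nat_lit 9), (nat_lit 72), (nat_lit 1), (nat_lit 1)), ((nat_lit 12), (nat_lit 75), (nat_lit 1), (nat_lit 1)), ((nat_lit 14), (nat_lit 85), (nat_lit 1), (nat_lit 1)), ((nat_lit 16), (nat_lit 100), (nat_lit 1), (nat_lit 1)), ((nat_lit 19), (nat_lit 103), (nat_lit 1), (nat_lit 1)), ((nat_lit 21), (nat_lit 106), (nat_lit 1), (nat_lit 1)), ((nat_lit 24), (nat_lit 109), (nat_lit 1), (nat_lit 1)), ((nat_lit 26), (nat_lit 115), (nat_lit 1), (nat_lit 1)), ((nat_lit 27), (nat_lit 118), (nat_lit 1), (nat_lit 1)), ((nat_lit 29), (nat_lit 120), (nat_lit 1), (nat_lit 1)), ((nat_lit 31), (nat_lit 126), (nat_lit 1), (nat_lit 1)), ((nat_lit 33), (nat_lit 127), (nat_lit 1), (nat_lit 1)), ((nat_lit 35), (nat_lit 129), (nat_lit 1), (nat_lit 1)), ((nat_lit 38), (nat_lit 141), (nat_lit 1), (nat_lit 1)), ((nat_lit 47), (nat_lit 143), (nat_lit 1), (nat_lit 1)), ((nat_lit 49), (nat_lit 144), (nat_lit 1), (nat_lit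 1)), ((nat_lit 51), (nat_lit 146), (nat_lit 1), (nat_lit 1)), ((nat_lit 57), (nat_lit 148), (nat_lit 1), (nat_lit 1)), ((nat_lit 59), (nat_lit 149), (nat_lit 1), (nat_lit 1)), ((nat_lit 61), (nat_lit 151), (nat_lit 1), (nat_lit 1)), ((nat_lit 66), (nat_lit 156), (nat_lit 1), (nat_lit 1)), ((nat_lit 68), (nat_lit 158), (nat_lit 1), (nat_lit 1)), ((nat_lit 69), (nat_lit 160), (nat_lit 1), (nat_lit 1)), ((nat_lit 79), (nat_lit 170), (nat_lit 1), (nat_lit 1)), ((nat_lit 81), (nat_lit 171), (nat_lit 1), (nat_lit 1)), ((nat_lit 83), (nat_lit 173), (nat_lit 1), (nat_lit 1)), ((nat_lit 88), (nat_lit 178), (nat_lit 1), (nat_lit 1)), ((nat_lit 90), (nat_lit 180), (nat_lit 1), (nat_lit 1)), ((nat_lit 91), (nat_lit 182), (nat_lit 1), (nat_lit 1)), ((nat_lit 93), (nat_lit 188), (nat_lit 1), (nat_lit 1)), ((nat_lit 95), (nat_lit 190), (nat_lit 1), (nat_lit 1)), ((nat_lit 96), (nat_lit 192), (nat_lit 1), (nat_lit 1)), ((nat_lit 98), (nat_lit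 201), (nat_lit 1), (nat_lit 1)), ((nat_lit 110), (nat_lit 204), (nat_lit 1), (nat_lit 1)), ((nat_lit 112), (nat_lit 206), (nat_lit 1), (nat_lit 1)), ((nat_lit 113), (nat_lit 208), (nat_lit 1), (nat_lit 1)), ((nat_lit 119), (nat_lit 210), (nat_lit 1), (nat_lit 1)), ((nat_lit 121), (nat_lit 212), (nat_lit 1), (nat_lit 1)), ((nat_lit 124), (nat_lit 213), (nat_lit 1), (nat_lit 1)), ((nat_lit 130), (nat_lit 215), (nat_lit 1), (nat_lit 1)), ((nat_lit 133), (nat_lit 218), (nat_lit 1), (nat_lit 1)), ((nat_lit 136), (nat_lit 220), (nat_lit 1), (nat_lit 1)), ((nat_lit 139), (nat_lit 223), (nat_lit 1), (nat_lit 1)), ((nat_lit 154), (nat_lit 225), (nat_lit 1), (nat_lit 1)), ((nat_lit 164), (nat_lit 227), (nat_lit 1), (nat_lit 1)), ((nat_lit 167), (nat_lit 230), (nat_lit 1), (nat_lit 1)), ((nat_lit 176), (nat_lit 233), (nat_lit 1), (nat_lit 1)), ((nat_lit 186), (nat_lit 234), (nat_lit 1), (nat_lit 1)), ((nat_lit 195), (nat_lit 236), (nat_lit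 1), (nat_lit 1)), ((nat_lit 197), (nat_lit 237), (nat_lit 1), (nat_lit 1)), ((nat_lit 199), (nat_lit 239), (nat_lit 1), (nat_lit 1))]))) (.node (.node (.leaf [((nat_lit 22), (nat_lit 2), (nat_lit 1), (nat_lit 1)), ((nat_lit 23), (nat_lit 3), (nat_lit 1), (nat_lit 1)), ((nat_lit 30), (nat_lit 5), (nat_lit 1), (nat_lit 1)), ((nat_lit 40), (nat_lit 7), (nat_lit 1), (nat_lit 1)), ((nat_lit 56), (nat_lit 9), (nat_lit 1), (nat_lit 1)), ((nat_lit 62), (nat_lit 12), (nat_lit 1), (nat_lit 1)), ((nat_lit 63), (nat_lit 13), (nat_lit 1), (nat_lit 1)), ((nat_lit 78), (nat_lit 16), (nat_lit 1), (nat_lit 1)), ((nat_lit 84), (nat_lit 19), (nat_lit 1), (nat_lit 1)), ((nat_lit 85), (nat_lit 20), (nat_lit 1), (nat_lit 1)), ((nat_lit 93), (nat_lit 28), (nat_lit 1), (nat_lit 1)), ((nat_lit 94), (nat_lit 29), (nat_lit 1), (nat_lit 1)), ((nat_lit 97), (nat_lit 35), (nat_lit 1), (nat_lit 1)), ((nat_lit 105), (nat_lit 38), (nat_lit 1), (nat_lit 1)), ((nat_lit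 106), (nat_lit 39), (nat_lit 1), (nat_lit 1)), ((nat_lit 109), (nat_lit 45), (nat_lit 1), (nat_lit 1)), ((nat_lit 114), (nat_lit 47), (nat_lit 1), (nat_lit 1)), ((nat_lit 115), (nat_lit 48), (nat_lit 1), (nat_lit 1)), ((nat_lit 117), (nat_lit 49), (nat_lit 1), (nat_lit 1)), ((nat_lit 118), (nat_lit 50), (nat_lit 1), (nat_lit 1)), ((nat_lit 126), (nat_lit 54), (nat_lit 1), (nat_lit 1)), ((nat_lit 127), (nat_lit 55), (nat_lit 1), (nat_lit 1)), ((nat_lit 135), (nat_lit 61), (nat_lit 1), (nat_lit 1)), ((nat_lit 137), (nat_lit 68), (nat_lit 1), (nat_lit 1)), ((nat_lit 138), (nat_lit 69), (nat_lit 1), (nat_lit 1)), ((nat_lit 148), (nat_lit 73), (nat_lit 1), (nat_lit 1)), ((nat_lit 149), (nat_lit 74), (nat_lit 1), (nat_lit 1)), ((nat_lit 156), (nat_lit 76), (nat_lit 1), (nat_lit 1)), ((nat_lit 163), (nat_lit 83), (nat_lit 1), (nat_lit 1)), ((nat_lit 165), (nat_lit 90), (nat_lit 1), (nat_lit 1)), ((nat_lit 166), (nat_lit 91), (nat_lit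 1), (nat_lit 1)), ((nat_lit 170), (nat_lit 101), (nat_lit 1), (nat_lit 1)), ((nat_lit 171), (nat_lit 102), (nat_lit 1), (nat_lit 1)), ((nat_lit 178), (nat_lit 104), (nat_lit 1), (nat_lit 1)), ((nat_lit 184), (nat_lit 112), (nat_lit 1), (nat_lit 1)), ((nat_lit 185), (nat_lit 113), (nat_lit 1), (nat_lit 1)), ((nat_lit 189), (nat_lit 121), (nat_lit 1), (nat_lit 1)), ((nat_lit 190), (nat_lit 122), (nat_lit 1), (nat_lit 1)), ((nat_lit 191), (nat_lit 124), (nat_lit 1), (nat_lit 1)), ((nat_lit 192), (nat_lit 125), (nat_lit 1), (nat_lit 1)), ((nat_lit 194), (nat_lit 130), (nat_lit 1), (nat_lit 1)), ((nat_lit 200), (nat_lit 133), (nat_lit 1), (nat_lit 1)), ((nat_lit 201), (nat_lit 134), (nat_lit 1), (nat_lit 1)), ((nat_lit 204), (nat_lit 142), (nat_lit 1), (nat_lit 1)), ((nat_lit 210), (nat_lit 145), (nat_lit 1), (nat_lit 1)), ((nat_lit 211), (nat_lit 146), (nat_lit 1), (nat_lit 1)), ((nat_lit 219), (nat_lit 154), (nat_lit 1), (nat_lit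 1)), ((nat_lit 220), (nat_lit 155), (nat_lit 1), (nat_lit 1)), ((nat_lit 223), (nat_lit 161), (nat_lit 1), (nat_lit 1)), ((nat_lit 226), (nat_lit 176), (nat_lit 1), (nat_lit 1)), ((nat_lit 227), (nat_lit 177), (nat_lit 1), (nat_lit 1)), ((nat_lit 230), (nat_lit 183), (nat_lit 1), (nat_lit 1)), ((nat_lit 232), (nat_lit 199), (nat_lit 1), (nat_lit 1)), ((nat_lit 234), (nat_lit 209), (nat_lit 1), (nat_lit 1)), ((nat_lit 236), (nat_lit 216), (nat_lit 1), (nat_lit 1)), ((nat_lit 237), (nat_lit 217), (nat_lit 1), (nat_lit 1))]) (.leaf [((nat_lit 1), (nat_lit 17), (nat_lit 1), (nat_lit 1)), ((nat_lit 3), (nat_lit 19), (nat_lit 1), (nat_lit 1)), ((nat_lit 6), (nat_lit 31), (nat_lit 1), (nat_lit 1)), ((nat_lit 8), (nat_lit 41), (nat_lit 1), (nat_lit 1)), ((nat_lit 9), (nat_lit 47), (nat_lit 1), (nat_lit 1)), ((nat_lit 11), (nat_lit 52), (nat_lit 1), (nat_lit 1)), ((nat_lit 13), (nat_lit 54), (nat_lit 1), (nat_lit 1)), ((nat_lit 21), (nat_lit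 79), (nat_lit 1), (nat_lit 1)), ((nat_lit 23), (nat_lit 84), (nat_lit 1), (nat_lit 1)), ((nat_lit 25), (nat_lit 86), (nat_lit 1), (nat_lit 1)), ((nat_lit 27), (nat_lit 88), (nat_lit 1), (nat_lit 1)), ((nat_lit 29), (nat_lit 90), (nat_lit 1), (nat_lit 1)), ((nat_lit 34), (nat_lit 92), (nat_lit 1), (nat_lit 1)), ((nat_lit 37), (nat_lit 99), (nat_lit 1), (nat_lit 1)), ((nat_lit 39), (nat_lit 101), (nat_lit 1), (nat_lit 1)), ((nat_lit 44), (nat_lit 103), (nat_lit 1), (nat_lit 1)), ((nat_lit 50), (nat_lit 104), (nat_lit 1), (nat_lit 1)), ((nat_lit 56), (nat_lit 114), (nat_lit 1), (nat_lit 1)), ((nat_lit 58), (nat_lit 116), (nat_lit 1), (nat_lit 1)), ((nat_lit 59), (nat_lit 119), (nat_lit 1), (nat_lit 1)), ((nat_lit 61), (nat_lit 121), (nat_lit 1), (nat_lit 1)), ((nat_lit 63), (nat_lit 126), (nat_lit 1), (nat_lit 1)), ((nat_lit 65), (nat_lit 128), (nat_lit 1), (nat_lit 1)), ((nat_lit 67), (nat_lit 131), (nat_lit 1), (nat_lit 1)), ((nat_lit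 69), (nat_lit 133), (nat_lit 1), (nat_lit 1)), ((nat_lit 72), (nat_lit 143), (nat_lit 1), (nat_lit 1)), ((nat_lit 74), (nat_lit 145), (nat_lit 1), (nat_lit 1)), ((nat_lit 77), (nat_lit 157), (nat_lit 1), (nat_lit 1)), ((nat_lit 82), (nat_lit 162), (nat_lit 1), (nat_lit 1)), ((nat_lit 94), (nat_lit 165), (nat_lit 1), (nat_lit 1)), ((nat_lit 96), (nat_lit 167), (nat_lit 1), (nat_lit 1)), ((nat_lit 106), (nat_lit 170), (nat_lit 1), (nat_lit 1)), ((nat_lit 108), (nat_lit 172), (nat_lit 1), (nat_lit 1)), ((nat_lit 111), (nat_lit 174), (nat_lit 1), (nat_lit 1)), ((nat_lit 113), (nat_lit 176), (nat_lit 1), (nat_lit 1)), ((nat_lit 118), (nat_lit 178), (nat_lit 1), (nat_lit 1)), ((nat_lit 120), (nat_lit 180), (nat_lit 1), (nat_lit 1)), ((nat_lit 123), (nat_lit 181), (nat_lit 1), (nat_lit 1)), ((nat_lit 125), (nat_lit 183), (nat_lit 1), (nat_lit 1)), ((nat_lit 135), (nat_lit 189), (nat_lit 1), (nat_lit 1)), ((nat_lit 136), (nat_lit 195),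 (nat_lit 1), (nat_lit 1)), ((nat_lit 138), (nat_lit 200), (nat_lit 1), (nat_lit 1)), ((nat_lit 140), (nat_lit 202), (nat_lit 1), (nat_lit 1)), ((nat_lit 147), (nat_lit 205), (nat_lit 1), (nat_lit 1)), ((nat_lit 149), (nat_lit 210), (nat_lit 1), (nat_lit 1)), ((nat_lit 151), (nat_lit 212), (nat_lit 1), (nat_lit 1)), ((nat_lit 153), (nat_lit 214), (nat_lit 1), (nat_lit 1)), ((nat_lit 155), (nat_lit 216), (nat_lit 1), (nat_lit 1)), ((nat_lit 160), (nat_lit 218), (nat_lit 1), (nat_lit 1)), ((nat_lit 185), (nat_lit 226), (nat_lit 1), (nat_lit 1)), ((nat_lit 187), (nat_lit 228), (nat_lit 1), (nat_lit 1)), ((nat_lit 192), (nat_lit 230), (nat_lit 1), (nat_lit 1)), ((nat_lit 198), (nat_lit 231), (nat_lit 1), (nat_lit 1)), ((nat_lit 208), (nat_lit 233), (nat_lit 1), (nat_lit 1)), ((nat_lit 220), (nat_lit 236), (nat_lit 1), (nat_lit 1)), ((nat_lit 222), (nat_lit 238), (nat_lit 1), (nat_lit 1))])) (.leaf [((nat_lit 3), (nat_lit 1), (nat_lit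 1), (nat_lit 1)), ((nat_lit 12), (nat_lit 10), (nat_lit 1), (nat_lit 1)), ((nat_lit 19), (nat_lit 17), (nat_lit 1), (nat_lit 1)), ((nat_lit 24), (nat_lit 22), (nat_lit 1), (nat_lit 1)), ((nat_lit 28), (nat_lit 26), (nat_lit 1), (nat_lit 1)), ((nat_lit 33), (nat_lit 30), (nat_lit 1), (nat_lit 1)), ((nat_lit 35), (nat_lit 32), (nat_lit 1), (nat_lit 1)), ((nat_lit 38), (nat_lit 36), (nat_lit 1), (nat_lit 1)), ((nat_lit 43), (nat_lit 40), (nat_lit 1), (nat_lit 1)), ((nat_lit 45), (nat_lit 42), (nat_lit 1), (nat_lit 1)), ((nat_lit 49), (nat_lit 46), (nat_lit 1), (nat_lit 1)), ((nat_lit 51), (nat_lit 48), (nat_lit 1), (nat_lit 1)), ((nat_lit 55), (nat_lit 53), (nat_lit 1), (nat_lit 1)), ((nat_lit 59), (nat_lit 56), (nat_lit 1), (nat_lit 1)), ((nat_lit 61), (nat_lit 58), (nat_lit 1), (nat_lit 1)), ((nat_lit 65), (nat_lit 63), (nat_lit 1), (nat_lit 1)), ((nat_lit 69), (nat_lit 67), (nat_lit 1), (nat_lit 1)), ((nat_lit 74), (nat_lit 72),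 (nat_lit 1), (nat_lit 1)), ((nat_lit 81), (nat_lit 78), (nat_lit 1), (nat_lit 1)), ((nat_lit 83), (nat_lit 80), (nat_lit 1), (nat_lit 1)), ((nat_lit 87), (nat_lit 85), (nat_lit 1), (nat_lit 1)), ((nat_lit 91), (nat_lit 89), (nat_lit 1), (nat_lit 1)), ((nat_lit 96), (nat_lit 94), (nat_lit 1), (nat_lit 1)), ((nat_lit 102), (nat_lit 100), (nat_lit 1), (nat_lit 1)), ((nat_lit 108), (nat_lit 106), (nat_lit 1), (nat_lit 1)), ((nat_lit 113), (nat_lit 111), (nat_lit 1), (nat_lit 1)), ((nat_lit 119), (nat_lit 114), (nat_lit 1), (nat_lit 1)), ((nat_lit 121), (nat_lit 116), (nat_lit 1), (nat_lit 1)), ((nat_lit 123), (nat_lit 118), (nat_lit 1), (nat_lit 1)), ((nat_lit 125), (nat_lit 120), (nat_lit 1), (nat_lit 1)), ((nat_lit 128), (nat_lit 126), (nat_lit 1), (nat_lit 1)), ((nat_lit 133), (nat_lit 131), (nat_lit 1), (nat_lit 1)), ((nat_lit 139), (nat_lit 137), (nat_lit 1), (nat_lit 1)), ((nat_lit 145), (nat_lit 143), (nat_lit 1), (nat_lit 1)),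 ((nat_lit 150), (nat_lit 148), (nat_lit 1), (nat_lit 1)), ((nat_lit 154), (nat_lit 152), (nat_lit 1), (nat_lit 1)), ((nat_lit 159), (nat_lit 156), (nat_lit 1), (nat_lit 1)), ((nat_lit 161), (nat_lit 158), (nat_lit 1), (nat_lit 1)), ((nat_lit 167), (nat_lit 165), (nat_lit 1), (nat_lit 1)), ((nat_lit 172), (nat_lit 170), (nat_lit 1), (nat_lit 1)), ((nat_lit 176), (nat_lit 174), (nat_lit 1), (nat_lit 1)), ((nat_lit 181), (nat_lit 178), (nat_lit 1), (nat_lit 1)), ((nat_lit 183), (nat_lit 180), (nat_lit 1), (nat_lit 1)), ((nat_lit 186), (nat_lit 184), (nat_lit 1), (nat_lit 1)), ((nat_lit 191), (nat_lit 188), (nat_lit 1), (nat_lit 1)), ((nat_lit 193), (nat_lit 190), (nat_lit 1), (nat_lit 1)), ((nat_lit 197), (nat_lit 194), (nat_lit 1), (nat_lit 1)), ((nat_lit 199), (nat_lit 196), (nat_lit 1), (nat_lit 1)), ((nat_lit 203), (nat_lit 201), (nat_lit 1), (nat_lit 1)), ((nat_lit 207), (nat_lit 204), (nat_lit 1), (nat_lit 1)), ((nat_lit 209),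 (nat_lit 206), (nat_lit 1), (nat_lit 1)), ((nat_lit 213), (nat_lit 211), (nat_lit 1), (nat_lit 1)), ((nat_lit 217), (nat_lit 215), (nat_lit 1), (nat_lit 1)), ((nat_lit 222), (nat_lit 220), (nat_lit 1), (nat_lit 1)), ((nat_lit 229), (nat_lit 227), (nat_lit 1), (nat_lit 1)), ((nat_lit 238), (nat_lit 236), (nat_lit 1), (nat_lit 1))])))

def rows13 : Tr (List Entry) :=
  .node (.node (.node (.node (.leaf [((nat_lit 79), (nat_lit 0), (nat_lit 1), (nat_lit 1)), ((nat_lit 80), (nat_lit 1), (nat_lit 1), (nat_lit 1)), ((nat_lit 83), (nat_lit 3), (nat_lit 1), (nat_lit 1)), ((nat_lit 86), (nat_lit 4), (nat_lit 1), (nat_lit 1)), ((nat_lit 90), (nat_lit 5), (nat_lit 1), (nat_lit 1)), ((nat_lit 95), (nat_lit 6), (nat_lit 1), (nat_lit 1)), ((nat_lit 101), (nat_lit 7), (nat_lit 1), (nat_lit 1)), ((nat_lit 107), (nat_lit 8), (nat_lit 1), (nat_lit 1)), ((nat_lit 112), (nat_lit 9), (nat_lit 1), (nat_lit 1)), ((nat_lit 116), (nat_lit 10), (nat_lit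 1), (nat_lit 1)), ((nat_lit 121), (nat_lit 12), (nat_lit 1), (nat_lit 1)), ((nat_lit 122), (nat_lit 13), (nat_lit 1), (nat_lit 1)), ((nat_lit 162), (nat_lit 18), (nat_lit 1), (nat_lit 1)), ((nat_lit 163), (nat_lit 23), (nat_lit 1), (nat_lit 1)), ((nat_lit 164), (nat_lit 27), (nat_lit 1), (nat_lit 1)), ((nat_lit 165), (nat_lit 30), (nat_lit 1), (nat_lit 1)), ((nat_lit 167), (nat_lit 33), (nat_lit 1), (nat_lit 1)), ((nat_lit 168), (nat_lit 34), (nat_lit 1), (nat_lit 1)), ((nat_lit 169), (nat_lit 37), (nat_lit 1), (nat_lit 1)), ((nat_lit 170), (nat_lit 40), (nat_lit 1), (nat_lit 1)), ((nat_lit 172), (nat_lit 43), (nat_lit 1), (nat_lit 1)), ((nat_lit 173), (nat_lit 44), (nat_lit 1), (nat_lit 1)), ((nat_lit 174), (nat_lit 46), (nat_lit 1), (nat_lit 1)), ((nat_lit 176), (nat_lit 49), (nat_lit 1), (nat_lit 1)), ((nat_lit 177), (nat_lit 50), (nat_lit 1), (nat_lit 1)), ((nat_lit 179), (nat_lit 52), (nat_lit 1), (nat_lit 1)), ((nat_lit 180),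 (nat_lit 53), (nat_lit 1), (nat_lit 1)), ((nat_lit 183), (nat_lit 55), (nat_lit 1), (nat_lit 1)), ((nat_lit 184), (nat_lit 56), (nat_lit 1), (nat_lit 1)), ((nat_lit 186), (nat_lit 59), (nat_lit 1), (nat_lit 1)), ((nat_lit 187), (nat_lit 60), (nat_lit 1), (nat_lit 1)), ((nat_lit 189), (nat_lit 62), (nat_lit 1), (nat_lit 1)), ((nat_lit 190), (nat_lit 63), (nat_lit 1), (nat_lit 1)), ((nat_lit 193), (nat_lit 65), (nat_lit 1), (nat_lit 1)), ((nat_lit 195), (nat_lit 66), (nat_lit 1), (nat_lit 1)), ((nat_lit 196), (nat_lit 67), (nat_lit 1), (nat_lit 1)), ((nat_lit 199), (nat_lit 69), (nat_lit 1), (nat_lit 1)), ((nat_lit 202), (nat_lit 70), (nat_lit 1), (nat_lit 1)), ((nat_lit 205), (nat_lit 71), (nat_lit 1), (nat_lit 1)), ((nat_lit 206), (nat_lit 72), (nat_lit 1), (nat_lit 1)), ((nat_lit 209), (nat_lit 74), (nat_lit 1), (nat_lit 1)), ((nat_lit 212), (nat_lit 75), (nat_lit 1), (nat_lit 1)), ((nat_lit 216), (nat_lit 76), (nat_lit 1), (nat_lit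 1)), ((nat_lit 221), (nat_lit 77), (nat_lit 1), (nat_lit 1)), ((nat_lit 226), (nat_lit 117), (nat_lit 1), (nat_lit 1)), ((nat_lit 227), (nat_lit 118), (nat_lit 1), (nat_lit 1)), ((nat_lit 229), (nat_lit 123), (nat_lit 1), (nat_lit 1)), ((nat_lit 230), (nat_lit 127), (nat_lit 1), (nat_lit 1)), ((nat_lit 231), (nat_lit 132), (nat_lit 1), (nat_lit 1)), ((nat_lit 232), (nat_lit 138), (nat_lit 1), (nat_lit 1)), ((nat_lit 233), (nat_lit 144), (nat_lit 1), (nat_lit 1)), ((nat_lit 234), (nat_lit 149), (nat_lit 1), (nat_lit 1)), ((nat_lit 235), (nat_lit 153), (nat_lit 1), (nat_lit 1)), ((nat_lit 236), (nat_lit 156), (nat_lit 1), (nat_lit 1)), ((nat_lit 238), (nat_lit 159), (nat_lit 1), (nat_lit 1)), ((nat_lit 239), (nat_lit 160), (nat_lit 1), (nat_lit 1))]) (.leaf [((nat_lit 1), (nat_lit 6), (nat_lit 1), (nat_lit 1)), ((nat_lit 7), (nat_lit 12), (nat_lit 1), (nat_lit 1)), ((nat_lit 15), (nat_lit 24), (nat_lit 1), (nat_lit 1)), ((nat_lit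 16), (nat_lit 28), (nat_lit 1), (nat_lit 1)), ((nat_lit 17), (nat_lit 31), (nat_lit 1), (nat_lit 1)), ((nat_lit 18), (nat_lit 33), (nat_lit 1), (nat_lit 1)), ((nat_lit 20), (nat_lit 35), (nat_lit 1), (nat_lit 1)), ((nat_lit 36), (nat_lit 57), (nat_lit 1), (nat_lit 1)), ((nat_lit 37), (nat_lit 59), (nat_lit 1), (nat_lit 1)), ((nat_lit 39), (nat_lit 61), (nat_lit 1), (nat_lit 1)), ((nat_lit 40), (nat_lit 62), (nat_lit 1), (nat_lit 1)), ((nat_lit 42), (nat_lit 64), (nat_lit 1), (nat_lit 1)), ((nat_lit 44), (nat_lit 65), (nat_lit 1), (nat_lit 1)), ((nat_lit 46), (nat_lit 66), (nat_lit 1), (nat_lit 1)), ((nat_lit 48), (nat_lit 68), (nat_lit 1), (nat_lit 1)), ((nat_lit 50), (nat_lit 69), (nat_lit 1), (nat_lit 1)), ((nat_lit 53), (nat_lit 70), (nat_lit 1), (nat_lit 1)), ((nat_lit 72), (nat_lit 77), (nat_lit 1), (nat_lit 1)), ((nat_lit 78), (nat_lit 93), (nat_lit 1), (nat_lit 1)), ((nat_lit 80), (nat_lit 95), (nat_lit 1), (nat_lit 1)),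 ((nat_lit 82), (nat_lit 96), (nat_lit 1), (nat_lit 1)), ((nat_lit 85), (nat_lit 97), (nat_lit 1), (nat_lit 1)), ((nat_lit 89), (nat_lit 98), (nat_lit 1), (nat_lit 1)), ((nat_lit 99), (nat_lit 119), (nat_lit 1), (nat_lit 1)), ((nat_lit 101), (nat_lit 121), (nat_lit 1), (nat_lit 1)), ((nat_lit 102), (nat_lit 124), (nat_lit 1), (nat_lit 1)), ((nat_lit 103), (nat_lit 128), (nat_lit 1), (nat_lit 1)), ((nat_lit 104), (nat_lit 133), (nat_lit 1), (nat_lit 1)), ((nat_lit 106), (nat_lit 135), (nat_lit 1), (nat_lit 1)), ((nat_lit 111), (nat_lit 136), (nat_lit 1), (nat_lit 1)), ((nat_lit 115), (nat_lit 137), (nat_lit 1), (nat_lit 1)), ((nat_lit 118), (nat_lit 138), (nat_lit 1), (nat_lit 1)), ((nat_lit 120), (nat_lit 140), (nat_lit 1), (nat_lit 1)), ((nat_lit 141), (nat_lit 150), (nat_lit 1), (nat_lit 1)), ((nat_lit 142), (nat_lit 154), (nat_lit 1), (nat_lit 1)), ((nat_lit 143), (nat_lit 157), (nat_lit 1), (nat_lit 1)), ((nat_lit 144), (nat_lit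 159), (nat_lit 1), (nat_lit 1)), ((nat_lit 146), (nat_lit 161), (nat_lit 1), (nat_lit 1)), ((nat_lit 162), (nat_lit 167), (nat_lit 1), (nat_lit 1)), ((nat_lit 169), (nat_lit 186), (nat_lit 1), (nat_lit 1)), ((nat_lit 170), (nat_lit 189), (nat_lit 1), (nat_lit 1)), ((nat_lit 171), (nat_lit 191), (nat_lit 1), (nat_lit 1)), ((nat_lit 173), (nat_lit 193), (nat_lit 1), (nat_lit 1)), ((nat_lit 174), (nat_lit 195), (nat_lit 1), (nat_lit 1)), ((nat_lit 175), (nat_lit 197), (nat_lit 1), (nat_lit 1)), ((nat_lit 177), (nat_lit 199), (nat_lit 1), (nat_lit 1)), ((nat_lit 178), (nat_lit 200), (nat_lit 1), (nat_lit 1)), ((nat_lit 180), (nat_lit 202), (nat_lit 1), (nat_lit 1)), ((nat_lit 182), (nat_lit 203), (nat_lit 1), (nat_lit 1)), ((nat_lit 204), (nat_lit 219), (nat_lit 1), (nat_lit 1)), ((nat_lit 206), (nat_lit 221), (nat_lit 1), (nat_lit 1)), ((nat_lit 208), (nat_lit 222), (nat_lit 1), (nat_lit 1)), ((nat_lit 211), (nat_lit 223), (nat_lit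 1), (nat_lit 1)), ((nat_lit 215), (nat_lit 224), (nat_lit 1), (nat_lit 1)), ((nat_lit 227), (nat_lit 232), (nat_lit 1), (nat_lit 1)), ((nat_lit 233), (nat_lit 238), (nat_lit 1), (nat_lit 1))])) (.node (.leaf [((nat_lit 14), (nat_lit 4), (nat_lit 1), (nat_lit 1)), ((nat_lit 16), (nat_lit 7), (nat_lit 1), (nat_lit 1)), ((nat_lit 21), (nat_lit 8), (nat_lit 1), (nat_lit 1)), ((nat_lit 26), (nat_lit 10), (nat_lit 1), (nat_lit 1)), ((nat_lit 27), (nat_lit 11), (nat_lit 1), (nat_lit 1)), ((nat_lit 28), (nat_lit 12), (nat_lit 1), (nat_lit 1)), ((nat_lit 29), (nat_lit 13), (nat_lit 1), (nat_lit 1)), ((nat_lit 78), (nat_lit 40), (nat_lit 1), (nat_lit 1)), ((nat_lit 79), (nat_lit 41), (nat_lit 1), (nat_lit 1)), ((nat_lit 80), (nat_lit 42), (nat_lit 1), (nat_lit 1)), ((nat_lit 81), (nat_lit 43), (nat_lit 1), (nat_lit 1)), ((nat_lit 82), (nat_lit 44), (nat_lit 1), (nat_lit 1)), ((nat_lit 83), (nat_lit 45), (nat_lit 1), (nat_lit 1)), ((nat_lit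 88), (nat_lit 52), (nat_lit 1), (nat_lit 1)), ((nat_lit 89), (nat_lit 53), (nat_lit 1), (nat_lit 1)), ((nat_lit 90), (nat_lit 54), (nat_lit 1), (nat_lit 1)), ((nat_lit 91), (nat_lit 55), (nat_lit 1), (nat_lit 1)), ((nat_lit 93), (nat_lit 62), (nat_lit 1), (nat_lit 1)), ((nat_lit 94), (nat_lit 63), (nat_lit 1), (nat_lit 1)), ((nat_lit 95), (nat_lit 64), (nat_lit 1), (nat_lit 1)), ((nat_lit 96), (nat_lit 65), (nat_lit 1), (nat_lit 1)), ((nat_lit 98), (nat_lit 70), (nat_lit 1), (nat_lit 1)), ((nat_lit 110), (nat_lit 71), (nat_lit 1), (nat_lit 1)), ((nat_lit 111), (nat_lit 72), (nat_lit 1), (nat_lit 1)), ((nat_lit 112), (nat_lit 73), (nat_lit 1), (nat_lit 1)), ((nat_lit 113), (nat_lit 74), (nat_lit 1), (nat_lit 1)), ((nat_lit 130), (nat_lit 76), (nat_lit 1), (nat_lit 1)), ((nat_lit 136), (nat_lit 77), (nat_lit 1), (nat_lit 1)), ((nat_lit 162), (nat_lit 103), (nat_lit 1), (nat_lit 1)), ((nat_lit 163), (nat_lit 109), (nat_lit 1), (nat_lit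 1)), ((nat_lit 165), (nat_lit 126), (nat_lit 1), (nat_lit 1)), ((nat_lit 166), (nat_lit 127), (nat_lit 1), (nat_lit 1)), ((nat_lit 167), (nat_lit 128), (nat_lit 1), (nat_lit 1)), ((nat_lit 168), (nat_lit 129), (nat_lit 1), (nat_lit 1)), ((nat_lit 169), (nat_lit 141), (nat_lit 1), (nat_lit 1)), ((nat_lit 174), (nat_lit 143), (nat_lit 1), (nat_lit 1)), ((nat_lit 175), (nat_lit 144), (nat_lit 1), (nat_lit 1)), ((nat_lit 176), (nat_lit 145), (nat_lit 1), (nat_lit 1)), ((nat_lit 177), (nat_lit 146), (nat_lit 1), (nat_lit 1)), ((nat_lit 184), (nat_lit 148), (nat_lit 1), (nat_lit 1)), ((nat_lit 185), (nat_lit 149), (nat_lit 1), (nat_lit 1)), ((nat_lit 186), (nat_lit 150), (nat_lit 1), (nat_lit 1)), ((nat_lit 187), (nat_lit 151), (nat_lit 1), (nat_lit 1)), ((nat_lit 194), (nat_lit 156), (nat_lit 1), (nat_lit 1)), ((nat_lit 195), (nat_lit 157), (nat_lit 1), (nat_lit 1)), ((nat_lit 196), (nat_lit 158), (nat_lit 1), (nat_lit 1)), ((nat_lit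 197), (nat_lit 159), (nat_lit 1), (nat_lit 1)), ((nat_lit 198), (nat_lit 160), (nat_lit 1), (nat_lit 1)), ((nat_lit 199), (nat_lit 161), (nat_lit 1), (nat_lit 1)), ((nat_lit 226), (nat_lit 210), (nat_lit 1), (nat_lit 1)), ((nat_lit 227), (nat_lit 211), (nat_lit 1), (nat_lit 1)), ((nat_lit 228), (nat_lit 212), (nat_lit 1), (nat_lit 1)), ((nat_lit 229), (nat_lit 213), (nat_lit 1), (nat_lit 1)), ((nat_lit 231), (nat_lit 218), (nat_lit 1), (nat_lit 1)), ((nat_lit 232), (nat_lit 223), (nat_lit 1), (nat_lit 1)), ((nat_lit 235), (nat_lit 225), (nat_lit 1), (nat_lit 1))]) (.leaf [((nat_lit 0), (nat_lit 33), (nat_lit 1), (nat_lit 1)), ((nat_lit 1), (nat_lit 34), (nat_lit 1), (nat_lit 1)), ((nat_lit 2), (nat_lit 35), (nat_lit 1), (nat_lit 1)), ((nat_lit 7), (nat_lit 55), (nat_lit 1), (nat_lit 1)), ((nat_lit 8), (nat_lit 65), (nat_lit 1), (nat_lit 1)), ((nat_lit 9), (nat_lit 69), (nat_lit 1), (nat_lit 1)), ((nat_lit 10), (nat_lit 70), (nat_lit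 1), (nat_lit 1)), ((nat_lit 15), (nat_lit 87), (nat_lit 1), (nat_lit 1)), ((nat_lit 16), (nat_lit 91), (nat_lit 1), (nat_lit 1)), ((nat_lit 17), (nat_lit 92), (nat_lit 1), (nat_lit 1)), ((nat_lit 21), (nat_lit 96), (nat_lit 1), (nat_lit 1)), ((nat_lit 22), (nat_lit 97), (nat_lit 1), (nat_lit 1)), ((nat_lit 26), (nat_lit 98), (nat_lit 1), (nat_lit 1)), ((nat_lit 37), (nat_lit 123), (nat_lit 1), (nat_lit 1)), ((nat_lit 38), (nat_lit 124), (nat_lit 1), (nat_lit 1)), ((nat_lit 39), (nat_lit 125), (nat_lit 1), (nat_lit 1)), ((nat_lit 40), (nat_lit 127), (nat_lit 1), (nat_lit 1)), ((nat_lit 41), (nat_lit 128), (nat_lit 1), (nat_lit 1)), ((nat_lit 42), (nat_lit 129), (nat_lit 1), (nat_lit 1)), ((nat_lit 46), (nat_lit 132), (nat_lit 1), (nat_lit 1)), ((nat_lit 47), (nat_lit 133), (nat_lit 1), (nat_lit 1)), ((nat_lit 48), (nat_lit 134), (nat_lit 1), (nat_lit 1)), ((nat_lit 56), (nat_lit 138), (nat_lit 1), (nat_lit 1)), ((nat_lit 57), (nat_lit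 139), (nat_lit 1), (nat_lit 1)), ((nat_lit 58), (nat_lit 140), (nat_lit 1), (nat_lit 1)), ((nat_lit 71), (nat_lit 159), (nat_lit 1), (nat_lit 1)), ((nat_lit 72), (nat_lit 160), (nat_lit 1), (nat_lit 1)), ((nat_lit 73), (nat_lit 161), (nat_lit 1), (nat_lit 1)), ((nat_lit 78), (nat_lit 166), (nat_lit 1), (nat_lit 1)), ((nat_lit 79), (nat_lit 167), (nat_lit 1), (nat_lit 1)), ((nat_lit 80), (nat_lit 168), (nat_lit 1), (nat_lit 1)), ((nat_lit 99), (nat_lit 181), (nat_lit 1), (nat_lit 1)), ((nat_lit 100), (nat_lit 182), (nat_lit 1), (nat_lit 1)), ((nat_lit 101), (nat_lit 183), (nat_lit 1), (nat_lit 1)), ((nat_lit 105), (nat_lit 191), (nat_lit 1), (nat_lit 1)), ((nat_lit 106), (nat_lit 192), (nat_lit 1), (nat_lit 1)), ((nat_lit 107), (nat_lit 193), (nat_lit 1), (nat_lit 1)), ((nat_lit 110), (nat_lit 197), (nat_lit 1), (nat_lit 1)), ((nat_lit 111), (nat_lit 198), (nat_lit 1), (nat_lit 1)), ((nat_lit 112), (nat_lit 199), (nat_lit 1), (nat_lit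 1)), ((nat_lit 114), (nat_lit 200), (nat_lit 1), (nat_lit 1)), ((nat_lit 115), (nat_lit 201), (nat_lit 1), (nat_lit 1)), ((nat_lit 116), (nat_lit 202), (nat_lit 1), (nat_lit 1)), ((nat_lit 141), (nat_lit 213), (nat_lit 1), (nat_lit 1)), ((nat_lit 142), (nat_lit 217), (nat_lit 1), (nat_lit 1)), ((nat_lit 143), (nat_lit 218), (nat_lit 1), (nat_lit 1)), ((nat_lit 147), (nat_lit 222), (nat_lit 1), (nat_lit 1)), ((nat_lit 148), (nat_lit 223), (nat_lit 1), (nat_lit 1)), ((nat_lit 152), (nat_lit 224), (nat_lit 1), (nat_lit 1)), ((nat_lit 169), (nat_lit 229), (nat_lit 1), (nat_lit 1)), ((nat_lit 170), (nat_lit 230), (nat_lit 1), (nat_lit 1)), ((nat_lit 174), (nat_lit 231), (nat_lit 1), (nat_lit 1)), ((nat_lit 184), (nat_lit 232), (nat_lit 1), (nat_lit 1)), ((nat_lit 204), (nat_lit 237), (nat_lit 1), (nat_lit 1)), ((nat_lit 205), (nat_lit 238), (nat_lit 1), (nat_lit 1)), ((nat_lit 206), (nat_lit 239), (nat_lit 1), (nat_lit 1))]))) (.node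 (.node (.leaf [((nat_lit 26), (nat_lit 0), (nat_lit 1), (nat_lit 1)), ((nat_lit 29), (nat_lit 3), (nat_lit 1), (nat_lit 1)), ((nat_lit 32), (nat_lit 4), (nat_lit 1), (nat_lit 1)), ((nat_lit 48), (nat_lit 7), (nat_lit 1), (nat_lit 1)), ((nat_lit 58), (nat_lit 8), (nat_lit 1), (nat_lit 1)), ((nat_lit 67), (nat_lit 11), (nat_lit 1), (nat_lit 1)), ((nat_lit 68), (nat_lit 12), (nat_lit 1), (nat_lit 1)), ((nat_lit 80), (nat_lit 15), (nat_lit 1), (nat_lit 1)), ((nat_lit 89), (nat_lit 18), (nat_lit 1), (nat_lit 1)), ((nat_lit 90), (nat_lit 19), (nat_lit 1), (nat_lit 1)), ((nat_lit 94), (nat_lit 23), (nat_lit 1), (nat_lit 1)), ((nat_lit 95), (nat_lit 24), (nat_lit 1), (nat_lit 1)), ((nat_lit 98), (nat_lit 33), (nat_lit 1), (nat_lit 1)), ((nat_lit 111), (nat_lit 37), (nat_lit 1), (nat_lit 1)), ((nat_lit 112), (nat_lit 38), (nat_lit 1), (nat_lit 1)), ((nat_lit 115), (nat_lit 40), (nat_lit 1), (nat_lit 1)), ((nat_lit 116), (nat_lit 41), (nat_lit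 1), (nat_lit 1)), ((nat_lit 120), (nat_lit 44), (nat_lit 1), (nat_lit 1)), ((nat_lit 122), (nat_lit 45), (nat_lit 1), (nat_lit 1)), ((nat_lit 130), (nat_lit 49), (nat_lit 1), (nat_lit 1)), ((nat_lit 131), (nat_lit 52), (nat_lit 1), (nat_lit 1)), ((nat_lit 134), (nat_lit 55), (nat_lit 1), (nat_lit 1)), ((nat_lit 136), (nat_lit 59), (nat_lit 1), (nat_lit 1)), ((nat_lit 137), (nat_lit 62), (nat_lit 1), (nat_lit 1)), ((nat_lit 140), (nat_lit 65), (nat_lit 1), (nat_lit 1)), ((nat_lit 152), (nat_lit 71), (nat_lit 1), (nat_lit 1)), ((nat_lit 155), (nat_lit 74), (nat_lit 1), (nat_lit 1)), ((nat_lit 158), (nat_lit 75), (nat_lit 1), (nat_lit 1)), ((nat_lit 164), (nat_lit 81), (nat_lit 1), (nat_lit 1)), ((nat_lit 165), (nat_lit 84), (nat_lit 1), (nat_lit 1)), ((nat_lit 168), (nat_lit 87), (nat_lit 1), (nat_lit 1)), ((nat_lit 174), (nat_lit 99), (nat_lit 1), (nat_lit 1)), ((nat_lit 177), (nat_lit 102), (nat_lit 1), (nat_lit 1)), ((nat_lit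 180), (nat_lit 103), (nat_lit 1), (nat_lit 1)), ((nat_lit 184), (nat_lit 105), (nat_lit 1), (nat_lit 1)), ((nat_lit 187), (nat_lit 108), (nat_lit 1), (nat_lit 1)), ((nat_lit 190), (nat_lit 109), (nat_lit 1), (nat_lit 1)), ((nat_lit 194), (nat_lit 117), (nat_lit 1), (nat_lit 1)), ((nat_lit 195), (nat_lit 119), (nat_lit 1), (nat_lit 1)), ((nat_lit 198), (nat_lit 123), (nat_lit 1), (nat_lit 1)), ((nat_lit 199), (nat_lit 124), (nat_lit 1), (nat_lit 1)), ((nat_lit 201), (nat_lit 127), (nat_lit 1), (nat_lit 1)), ((nat_lit 202), (nat_lit 128), (nat_lit 1), (nat_lit 1)), ((nat_lit 206), (nat_lit 141), (nat_lit 1), (nat_lit 1)), ((nat_lit 215), (nat_lit 144), (nat_lit 1), (nat_lit 1)), ((nat_lit 216), (nat_lit 145), (nat_lit 1), (nat_lit 1)), ((nat_lit 220), (nat_lit 149), (nat_lit 1), (nat_lit 1)), ((nat_lit 221), (nat_lit 150), (nat_lit 1), (nat_lit 1)), ((nat_lit 224), (nat_lit 159), (nat_lit 1), (nat_lit 1)), ((nat_lit 227), (nat_lit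 171), (nat_lit 1), (nat_lit 1)), ((nat_lit 228), (nat_lit 172), (nat_lit 1), (nat_lit 1)), ((nat_lit 231), (nat_lit 181), (nat_lit 1), (nat_lit 1)), ((nat_lit 232), (nat_lit 191), (nat_lit 1), (nat_lit 1)), ((nat_lit 235), (nat_lit 207), (nat_lit 1), (nat_lit 1)), ((nat_lit 236), (nat_lit 210), (nat_lit 1), (nat_lit 1)), ((nat_lit 239), (nat_lit 213), (nat_lit 1), (nat_lit 1))]) (.leaf [((nat_lit 2), (nat_lit 15), (nat_lit 1), (nat_lit 1)), ((nat_lit 5), (nat_lit 18), (nat_lit 1), (nat_lit 1)), ((nat_lit 6), (nat_lit 23), (nat_lit 1), (nat_lit 1)), ((nat_lit 9), (nat_lit 37), (nat_lit 1), (nat_lit 1)), ((nat_lit 10), (nat_lit 40), (nat_lit 1), (nat_lit 1)), ((nat_lit 12), (nat_lit 43), (nat_lit 1), (nat_lit 1)), ((nat_lit 13), (nat_lit 44), (nat_lit 1), (nat_lit 1)), ((nat_lit 26), (nat_lit 78), (nat_lit 1), (nat_lit 1)), ((nat_lit 28), (nat_lit 81), (nat_lit 1), (nat_lit 1)), ((nat_lit 29), (nat_lit 82), (nat_lit 1), (nat_lit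 1)), ((nat_lit 31), (nat_lit 84), (nat_lit 1), (nat_lit 1)), ((nat_lit 32), (nat_lit 85), (nat_lit 1), (nat_lit 1)), ((nat_lit 35), (nat_lit 87), (nat_lit 1), (nat_lit 1)), ((nat_lit 47), (nat_lit 99), (nat_lit 1), (nat_lit 1)), ((nat_lit 48), (nat_lit 100), (nat_lit 1), (nat_lit 1)), ((nat_lit 51), (nat_lit 102), (nat_lit 1), (nat_lit 1)), ((nat_lit 54), (nat_lit 103), (nat_lit 1), (nat_lit 1)), ((nat_lit 57), (nat_lit 105), (nat_lit 1), (nat_lit 1)), ((nat_lit 58), (nat_lit 106), (nat_lit 1), (nat_lit 1)), ((nat_lit 61), (nat_lit 108), (nat_lit 1), (nat_lit 1)), ((nat_lit 64), (nat_lit 109), (nat_lit 1), (nat_lit 1)), ((nat_lit 66), (nat_lit 117), (nat_lit 1), (nat_lit 1)), ((nat_lit 67), (nat_lit 118), (nat_lit 1), (nat_lit 1)), ((nat_lit 69), (nat_lit 123), (nat_lit 1), (nat_lit 1)), ((nat_lit 70), (nat_lit 127), (nat_lit 1), (nat_lit 1)), ((nat_lit 73), (nat_lit 141), (nat_lit 1), (nat_lit 1)), ((nat_lit 76), (nat_lit 144),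 (nat_lit 1), (nat_lit 1)), ((nat_lit 77), (nat_lit 149), (nat_lit 1), (nat_lit 1)), ((nat_lit 90), (nat_lit 162), (nat_lit 1), (nat_lit 1)), ((nat_lit 95), (nat_lit 163), (nat_lit 1), (nat_lit 1)), ((nat_lit 98), (nat_lit 166), (nat_lit 1), (nat_lit 1)), ((nat_lit 112), (nat_lit 169), (nat_lit 1), (nat_lit 1)), ((nat_lit 116), (nat_lit 170), (nat_lit 1), (nat_lit 1)), ((nat_lit 121), (nat_lit 172), (nat_lit 1), (nat_lit 1)), ((nat_lit 122), (nat_lit 173), (nat_lit 1), (nat_lit 1)), ((nat_lit 130), (nat_lit 175), (nat_lit 1), (nat_lit 1)), ((nat_lit 131), (nat_lit 178), (nat_lit 1), (nat_lit 1)), ((nat_lit 133), (nat_lit 181), (nat_lit 1), (nat_lit 1)), ((nat_lit 134), (nat_lit 182), (nat_lit 1), (nat_lit 1)), ((nat_lit 136), (nat_lit 185), (nat_lit 1), (nat_lit 1)), ((nat_lit 137), (nat_lit 188), (nat_lit 1), (nat_lit 1)), ((nat_lit 139), (nat_lit 191), (nat_lit 1), (nat_lit 1)), ((nat_lit 140), (nat_lit 192), (nat_lit 1), (nat_lit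 1)), ((nat_lit 152), (nat_lit 204), (nat_lit 1), (nat_lit 1)), ((nat_lit 154), (nat_lit 207), (nat_lit 1), (nat_lit 1)), ((nat_lit 155), (nat_lit 208), (nat_lit 1), (nat_lit 1)), ((nat_lit 157), (nat_lit 210), (nat_lit 1), (nat_lit 1)), ((nat_lit 158), (nat_lit 211), (nat_lit 1), (nat_lit 1)), ((nat_lit 161), (nat_lit 213), (nat_lit 1), (nat_lit 1)), ((nat_lit 195), (nat_lit 226), (nat_lit 1), (nat_lit 1)), ((nat_lit 196), (nat_lit 227), (nat_lit 1), (nat_lit 1)), ((nat_lit 199), (nat_lit 229), (nat_lit 1), (nat_lit 1)), ((nat_lit 202), (nat_lit 230), (nat_lit 1), (nat_lit 1)), ((nat_lit 216), (nat_lit 233), (nat_lit 1), (nat_lit 1)), ((nat_lit 221), (nat_lit 234), (nat_lit 1), (nat_lit 1)), ((nat_lit 224), (nat_lit 237), (nat_lit 1), (nat_lit 1))])) (.node (.leaf [((nat_lit 5), (nat_lit 2), (nat_lit 1), (nat_lit 1)), ((nat_lit 11), (nat_lit 8), (nat_lit 1), (nat_lit 1)), ((nat_lit 18), (nat_lit 15), (nat_lit 1), (nat_lit 1)),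 ((nat_lit 27), (nat_lit 21), (nat_lit 1), (nat_lit 1)), ((nat_lit 30), (nat_lit 22), (nat_lit 1), (nat_lit 1)), ((nat_lit 33), (nat_lit 24), (nat_lit 1), (nat_lit 1)), ((nat_lit 34), (nat_lit 25), (nat_lit 1), (nat_lit 1)), ((nat_lit 46), (nat_lit 36), (nat_lit 1), (nat_lit 1)), ((nat_lit 49), (nat_lit 38), (nat_lit 1), (nat_lit 1)), ((nat_lit 50), (nat_lit 39), (nat_lit 1), (nat_lit 1)), ((nat_lit 52), (nat_lit 41), (nat_lit 1), (nat_lit 1)), ((nat_lit 53), (nat_lit 42), (nat_lit 1), (nat_lit 1)), ((nat_lit 55), (nat_lit 45), (nat_lit 1), (nat_lit 1)), ((nat_lit 66), (nat_lit 57), (nat_lit 1), (nat_lit 1)), ((nat_lit 67), (nat_lit 58), (nat_lit 1), (nat_lit 1)), ((nat_lit 69), (nat_lit 61), (nat_lit 1), (nat_lit 1)), ((nat_lit 70), (nat_lit 64), (nat_lit 1), (nat_lit 1)), ((nat_lit 76), (nat_lit 73), (nat_lit 1), (nat_lit 1)), ((nat_lit 88), (nat_lit 79), (nat_lit 1), (nat_lit 1)), ((nat_lit 89), (nat_lit 80), (nat_lit 1), (nat_lit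 1)), ((nat_lit 91), (nat_lit 83), (nat_lit 1), (nat_lit 1)), ((nat_lit 92), (nat_lit 86), (nat_lit 1), (nat_lit 1)), ((nat_lit 98), (nat_lit 95), (nat_lit 1), (nat_lit 1)), ((nat_lit 104), (nat_lit 101), (nat_lit 1), (nat_lit 1)), ((nat_lit 117), (nat_lit 105), (nat_lit 1), (nat_lit 1)), ((nat_lit 118), (nat_lit 106), (nat_lit 1), (nat_lit 1)), ((nat_lit 123), (nat_lit 108), (nat_lit 1), (nat_lit 1)), ((nat_lit 127), (nat_lit 109), (nat_lit 1), (nat_lit 1)), ((nat_lit 130), (nat_lit 112), (nat_lit 1), (nat_lit 1)), ((nat_lit 131), (nat_lit 116), (nat_lit 1), (nat_lit 1)), ((nat_lit 133), (nat_lit 121), (nat_lit 1), (nat_lit 1)), ((nat_lit 134), (nat_lit 122), (nat_lit 1), (nat_lit 1)), ((nat_lit 138), (nat_lit 135), (nat_lit 1), (nat_lit 1)), ((nat_lit 144), (nat_lit 141), (nat_lit 1), (nat_lit 1)), ((nat_lit 153), (nat_lit 147), (nat_lit 1), (nat_lit 1)), ((nat_lit 156), (nat_lit 148), (nat_lit 1), (nat_lit 1)), ((nat_lit 159),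 (nat_lit 150), (nat_lit 1), (nat_lit 1)), ((nat_lit 160), (nat_lit 151), (nat_lit 1), (nat_lit 1)), ((nat_lit 166), (nat_lit 163), (nat_lit 1), (nat_lit 1)), ((nat_lit 175), (nat_lit 169), (nat_lit 1), (nat_lit 1)), ((nat_lit 178), (nat_lit 170), (nat_lit 1), (nat_lit 1)), ((nat_lit 181), (nat_lit 172), (nat_lit 1), (nat_lit 1)), ((nat_lit 182), (nat_lit 173), (nat_lit 1), (nat_lit 1)), ((nat_lit 194), (nat_lit 184), (nat_lit 1), (nat_lit 1)), ((nat_lit 197), (nat_lit 186), (nat_lit 1), (nat_lit 1)), ((nat_lit 198), (nat_lit 187), (nat_lit 1), (nat_lit 1)), ((nat_lit 200), (nat_lit 189), (nat_lit 1), (nat_lit 1)), ((nat_lit 201), (nat_lit 190), (nat_lit 1), (nat_lit 1)), ((nat_lit 203), (nat_lit 193), (nat_lit 1), (nat_lit 1)), ((nat_lit 214), (nat_lit 205), (nat_lit 1), (nat_lit 1)), ((nat_lit 215), (nat_lit 206), (nat_lit 1), (nat_lit 1)), ((nat_lit 217), (nat_lit 209), (nat_lit 1), (nat_lit 1)), ((nat_lit 218), (nat_lit 212),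 (nat_lit 1), (nat_lit 1)), ((nat_lit 224), (nat_lit 221), (nat_lit 1), (nat_lit 1)), ((nat_lit 231), (nat_lit 228), (nat_lit 1), (nat_lit 1)), ((nat_lit 237), (nat_lit 234), (nat_lit 1), (nat_lit 1))]) (.leaf [((nat_lit 0), (nat_lit 110), (nat_lit 1), (nat_lit 1)), ((nat_lit 1), (nat_lit 111), (nat_lit 1), (nat_lit 1)), ((nat_lit 2), (nat_lit 112), (nat_lit 1), (nat_lit 1)), ((nat_lit 3), (nat_lit 113), (nat_lit 1), (nat_lit 1)), ((nat_lit 5), (nat_lit 130), (nat_lit 1), (nat_lit 1)), ((nat_lit 6), (nat_lit 136), (nat_lit 1), (nat_lit 1)), ((nat_lit 7), (nat_lit 142), (nat_lit 1), (nat_lit 1)), ((nat_lit 8), (nat_lit 147), (nat_lit 1), (nat_lit 1)), ((nat_lit 10), (nat_lit 152), (nat_lit 1), (nat_lit 1)), ((nat_lit 11), (nat_lit 153), (nat_lit 1), (nat_lit 1)), ((nat_lit 12), (nat_lit 154), (nat_lit 1), (nat_lit 1)), ((nat_lit 13), (nat_lit 155), (nat_lit 1), (nat_lit 1)), ((nat_lit 14), (nat_lit 164), (nat_lit 1), (nat_lit 1)),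 ((nat_lit 15), (nat_lit 169), (nat_lit 1), (nat_lit 1)), ((nat_lit 17), (nat_lit 174), (nat_lit 1), (nat_lit 1)), ((nat_lit 18), (nat_lit 175), (nat_lit 1), (nat_lit 1)), ((nat_lit 19), (nat_lit 176), (nat_lit 1), (nat_lit 1)), ((nat_lit 20), (nat_lit 177), (nat_lit 1), (nat_lit 1)), ((nat_lit 22), (nat_lit 184), (nat_lit 1), (nat_lit 1)), ((nat_lit 23), (nat_lit 185), (nat_lit 1), (nat_lit 1)), ((nat_lit 24), (nat_lit 186), (nat_lit 1), (nat_lit 1)), ((nat_lit 25), (nat_lit 187), (nat_lit 1), (nat_lit 1)), ((nat_lit 30), (nat_lit 194), (nat_lit 1), (nat_lit 1)), ((nat_lit 31), (nat_lit 195), (nat_lit 1), (nat_lit 1)), ((nat_lit 32), (nat_lit 196), (nat_lit 1), (nat_lit 1)), ((nat_lit 33), (nat_lit 197), (nat_lit 1), (nat_lit 1)), ((nat_lit 34), (nat_lit 198), (nat_lit 1), (nat_lit 1)), ((nat_lit 35), (nat_lit 199), (nat_lit 1), (nat_lit 1)), ((nat_lit 40), (nat_lit 204), (nat_lit 1), (nat_lit 1)), ((nat_lit 41), (nat_lit 205),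 (nat_lit 1), (nat_lit 1)), ((nat_lit 42), (nat_lit 206), (nat_lit 1), (nat_lit 1)), ((nat_lit 43), (nat_lit 207), (nat_lit 1), (nat_lit 1)), ((nat_lit 44), (nat_lit 208), (nat_lit 1), (nat_lit 1)), ((nat_lit 45), (nat_lit 209), (nat_lit 1), (nat_lit 1)), ((nat_lit 52), (nat_lit 214), (nat_lit 1), (nat_lit 1)), ((nat_lit 53), (nat_lit 215), (nat_lit 1), (nat_lit 1)), ((nat_lit 54), (nat_lit 216), (nat_lit 1), (nat_lit 1)), ((nat_lit 55), (nat_lit 217), (nat_lit 1), (nat_lit 1)), ((nat_lit 62), (nat_lit 219), (nat_lit 1), (nat_lit 1)), ((nat_lit 63), (nat_lit 220), (nat_lit 1), (nat_lit 1)), ((nat_lit 64), (nat_lit 221), (nat_lit 1), (nat_lit 1)), ((nat_lit 65), (nat_lit 222), (nat_lit 1), (nat_lit 1)), ((nat_lit 70), (nat_lit 224), (nat_lit 1), (nat_lit 1)), ((nat_lit 75), (nat_lit 225), (nat_lit 1), (nat_lit 1)), ((nat_lit 84), (nat_lit 226), (nat_lit 1), (nat_lit 1)), ((nat_lit 85), (nat_lit 227), (nat_lit 1), (nat_lit 1)), ((nat_lit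 86), (nat_lit 228), (nat_lit 1), (nat_lit 1)), ((nat_lit 87), (nat_lit 229), (nat_lit 1), (nat_lit 1)), ((nat_lit 92), (nat_lit 231), (nat_lit 1), (nat_lit 1)), ((nat_lit 97), (nat_lit 232), (nat_lit 1), (nat_lit 1)), ((nat_lit 103), (nat_lit 233), (nat_lit 1), (nat_lit 1)), ((nat_lit 109), (nat_lit 234), (nat_lit 1), (nat_lit 1)), ((nat_lit 126), (nat_lit 236), (nat_lit 1), (nat_lit 1)), ((nat_lit 127), (nat_lit 237), (nat_lit 1), (nat_lit 1)), ((nat_lit 128), (nat_lit 238), (nat_lit 1), (nat_lit 1)), ((nat_lit 129), (nat_lit 239), (nat_lit 1), (nat_lit 1))])))) (.node (.node (.node (.leaf [((nat_lit 41), (nat_lit 0), (nat_lit 1), (nat_lit 1)), ((nat_lit 42), (nat_lit 1), (nat_lit 1), (nat_lit 1)), ((nat_lit 45), (nat_lit 3), (nat_lit 1), (nat_lit 1)), ((nat_lit 54), (nat_lit 5), (nat_lit 1), (nat_lit 1)), ((nat_lit 64), (nat_lit 6), (nat_lit 1), (nat_lit 1)), ((nat_lit 73), (nat_lit 9), (nat_lit 1), (nat_lit 1)), ((nat_lit 75),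 (nat_lit 11), (nat_lit 1), (nat_lit 1)), ((nat_lit 86), (nat_lit 14), (nat_lit 1), (nat_lit 1)), ((nat_lit 101), (nat_lit 16), (nat_lit 1), (nat_lit 1)), ((nat_lit 103), (nat_lit 18), (nat_lit 1), (nat_lit 1)), ((nat_lit 107), (nat_lit 21), (nat_lit 1), (nat_lit 1)), ((nat_lit 109), (nat_lit 23), (nat_lit 1), (nat_lit 1)), ((nat_lit 116), (nat_lit 26), (nat_lit 1), (nat_lit 1)), ((nat_lit 121), (nat_lit 28), (nat_lit 1), (nat_lit 1)), ((nat_lit 122), (nat_lit 29), (nat_lit 1), (nat_lit 1)), ((nat_lit 126), (nat_lit 30), (nat_lit 1), (nat_lit 1)), ((nat_lit 128), (nat_lit 33), (nat_lit 1), (nat_lit 1)), ((nat_lit 129), (nat_lit 34), (nat_lit 1), (nat_lit 1)), ((nat_lit 141), (nat_lit 37), (nat_lit 1), (nat_lit 1)), ((nat_lit 143), (nat_lit 46), (nat_lit 1), (nat_lit 1)), ((nat_lit 145), (nat_lit 49), (nat_lit 1), (nat_lit 1)), ((nat_lit 146), (nat_lit 50), (nat_lit 1), (nat_lit 1)), ((nat_lit 148), (nat_lit 56), (nat_lit 1), (nat_lit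 1)), ((nat_lit 150), (nat_lit 59), (nat_lit 1), (nat_lit 1)), ((nat_lit 151), (nat_lit 60), (nat_lit 1), (nat_lit 1)), ((nat_lit 157), (nat_lit 66), (nat_lit 1), (nat_lit 1)), ((nat_lit 158), (nat_lit 67), (nat_lit 1), (nat_lit 1)), ((nat_lit 161), (nat_lit 69), (nat_lit 1), (nat_lit 1)), ((nat_lit 170), (nat_lit 78), (nat_lit 1), (nat_lit 1)), ((nat_lit 172), (nat_lit 81), (nat_lit 1), (nat_lit 1)), ((nat_lit 173), (nat_lit 82), (nat_lit 1), (nat_lit 1)), ((nat_lit 179), (nat_lit 88), (nat_lit 1), (nat_lit 1)), ((nat_lit 180), (nat_lit 89), (nat_lit 1), (nat_lit 1)), ((nat_lit 183), (nat_lit 91), (nat_lit 1), (nat_lit 1)), ((nat_lit 189), (nat_lit 93), (nat_lit 1), (nat_lit 1)), ((nat_lit 190), (nat_lit 94), (nat_lit 1), (nat_lit 1)), ((nat_lit 193), (nat_lit 96), (nat_lit 1), (nat_lit 1)), ((nat_lit 202), (nat_lit 98), (nat_lit 1), (nat_lit 1)), ((nat_lit 205), (nat_lit 110), (nat_lit 1), (nat_lit 1)), ((nat_lit 206), (nat_lit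 111), (nat_lit 1), (nat_lit 1)), ((nat_lit 209), (nat_lit 113), (nat_lit 1), (nat_lit 1)), ((nat_lit 210), (nat_lit 117), (nat_lit 1), (nat_lit 1)), ((nat_lit 211), (nat_lit 118), (nat_lit 1), (nat_lit 1)), ((nat_lit 213), (nat_lit 123), (nat_lit 1), (nat_lit 1)), ((nat_lit 216), (nat_lit 130), (nat_lit 1), (nat_lit 1)), ((nat_lit 218), (nat_lit 132), (nat_lit 1), (nat_lit 1)), ((nat_lit 221), (nat_lit 136), (nat_lit 1), (nat_lit 1)), ((nat_lit 223), (nat_lit 138), (nat_lit 1), (nat_lit 1)), ((nat_lit 225), (nat_lit 153), (nat_lit 1), (nat_lit 1)), ((nat_lit 228), (nat_lit 164), (nat_lit 1), (nat_lit 1)), ((nat_lit 230), (nat_lit 166), (nat_lit 1), (nat_lit 1)), ((nat_lit 233), (nat_lit 175), (nat_lit 1), (nat_lit 1)), ((nat_lit 234), (nat_lit 185), (nat_lit 1), (nat_lit 1)), ((nat_lit 236), (nat_lit 194), (nat_lit 1), (nat_lit 1)), ((nat_lit 238), (nat_lit 197), (nat_lit 1), (nat_lit 1)), ((nat_lit 239), (nat_lit 198), (nat_lit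 1), (nat_lit 1))]) (.leaf [((nat_lit 0), (nat_lit 9), (nat_lit 1), (nat_lit 1)), ((nat_lit 4), (nat_lit 13), (nat_lit 1), (nat_lit 1)), ((nat_lit 14), (nat_lit 29), (nat_lit 1), (nat_lit 1)), ((nat_lit 15), (nat_lit 39), (nat_lit 1), (nat_lit 1)), ((nat_lit 17), (nat_lit 48), (nat_lit 1), (nat_lit 1)), ((nat_lit 18), (nat_lit 50), (nat_lit 1), (nat_lit 1)), ((nat_lit 19), (nat_lit 51), (nat_lit 1), (nat_lit 1)), ((nat_lit 22), (nat_lit 58), (nat_lit 1), (nat_lit 1)), ((nat_lit 23), (nat_lit 60), (nat_lit 1), (nat_lit 1)), ((nat_lit 24), (nat_lit 61), (nat_lit 1), (nat_lit 1)), ((nat_lit 30), (nat_lit 67), (nat_lit 1), (nat_lit 1)), ((nat_lit 31), (nat_lit 68), (nat_lit 1), (nat_lit 1)), ((nat_lit 33), (nat_lit 69), (nat_lit 1), (nat_lit 1)), ((nat_lit 40), (nat_lit 72), (nat_lit 1), (nat_lit 1)), ((nat_lit 41), (nat_lit 73), (nat_lit 1), (nat_lit 1)), ((nat_lit 43), (nat_lit 74), (nat_lit 1), (nat_lit 1)), ((nat_lit 52), (nat_lit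 76), (nat_lit 1), (nat_lit 1)), ((nat_lit 62), (nat_lit 77), (nat_lit 1), (nat_lit 1)), ((nat_lit 78), (nat_lit 111), (nat_lit 1), (nat_lit 1)), ((nat_lit 79), (nat_lit 112), (nat_lit 1), (nat_lit 1)), ((nat_lit 81), (nat_lit 113), (nat_lit 1), (nat_lit 1)), ((nat_lit 85), (nat_lit 120), (nat_lit 1), (nat_lit 1)), ((nat_lit 86), (nat_lit 122), (nat_lit 1), (nat_lit 1)), ((nat_lit 87), (nat_lit 125), (nat_lit 1), (nat_lit 1)), ((nat_lit 88), (nat_lit 130), (nat_lit 1), (nat_lit 1)), ((nat_lit 92), (nat_lit 134), (nat_lit 1), (nat_lit 1)), ((nat_lit 93), (nat_lit 136), (nat_lit 1), (nat_lit 1)), ((nat_lit 97), (nat_lit 140), (nat_lit 1), (nat_lit 1)), ((nat_lit 99), (nat_lit 142), (nat_lit 1), (nat_lit 1)), ((nat_lit 103), (nat_lit 146), (nat_lit 1), (nat_lit 1)), ((nat_lit 105), (nat_lit 147), (nat_lit 1), (nat_lit 1)), ((nat_lit 109), (nat_lit 151), (nat_lit 1), (nat_lit 1)), ((nat_lit 114), (nat_lit 152), (nat_lit 1), (nat_lit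 1)), ((nat_lit 117), (nat_lit 153), (nat_lit 1), (nat_lit 1)), ((nat_lit 119), (nat_lit 154), (nat_lit 1), (nat_lit 1)), ((nat_lit 126), (nat_lit 158), (nat_lit 1), (nat_lit 1)), ((nat_lit 127), (nat_lit 160), (nat_lit 1), (nat_lit 1)), ((nat_lit 128), (nat_lit 161), (nat_lit 1), (nat_lit 1)), ((nat_lit 162), (nat_lit 177), (nat_lit 1), (nat_lit 1)), ((nat_lit 163), (nat_lit 187), (nat_lit 1), (nat_lit 1)), ((nat_lit 165), (nat_lit 196), (nat_lit 1), (nat_lit 1)), ((nat_lit 166), (nat_lit 198), (nat_lit 1), (nat_lit 1)), ((nat_lit 167), (nat_lit 199), (nat_lit 1), (nat_lit 1)), ((nat_lit 170), (nat_lit 206), (nat_lit 1), (nat_lit 1)), ((nat_lit 171), (nat_lit 208), (nat_lit 1), (nat_lit 1)), ((nat_lit 172), (nat_lit 209), (nat_lit 1), (nat_lit 1)), ((nat_lit 178), (nat_lit 215), (nat_lit 1), (nat_lit 1)), ((nat_lit 179), (nat_lit 216), (nat_lit 1), (nat_lit 1)), ((nat_lit 181), (nat_lit 217), (nat_lit 1), (nat_lit 1)), ((nat_lit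 188), (nat_lit 220), (nat_lit 1), (nat_lit 1)), ((nat_lit 189), (nat_lit 221), (nat_lit 1), (nat_lit 1)), ((nat_lit 191), (nat_lit 222), (nat_lit 1), (nat_lit 1)), ((nat_lit 200), (nat_lit 224), (nat_lit 1), (nat_lit 1)), ((nat_lit 210), (nat_lit 225), (nat_lit 1), (nat_lit 1)), ((nat_lit 226), (nat_lit 235), (nat_lit 1), (nat_lit 1)), ((nat_lit 230), (nat_lit 239), (nat_lit 1), (nat_lit 1))])) (.node (.leaf [((nat_lit 8), (nat_lit 3), (nat_lit 1), (nat_lit 1)), ((nat_lit 10), (nat_lit 5), (nat_lit 1), (nat_lit 1)), ((nat_lit 22), (nat_lit 14), (nat_lit 1), (nat_lit 1)), ((nat_lit 36), (nat_lit 16), (nat_lit 1), (nat_lit 1)), ((nat_lit 40), (nat_lit 18), (nat_lit 1), (nat_lit 1)), ((nat_lit 41), (nat_lit 19), (nat_lit 1), (nat_lit 1)), ((nat_lit 42), (nat_lit 20), (nat_lit 1), (nat_lit 1)), ((nat_lit 56), (nat_lit 27), (nat_lit 1), (nat_lit 1)), ((nat_lit 57), (nat_lit 28), (nat_lit 1), (nat_lit 1)), ((nat_lit 58), (nat_lit 29),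 (nat_lit 1), (nat_lit 1)), ((nat_lit 62), (nat_lit 33), (nat_lit 1), (nat_lit 1)), ((nat_lit 63), (nat_lit 34), (nat_lit 1), (nat_lit 1)), ((nat_lit 64), (nat_lit 35), (nat_lit 1), (nat_lit 1)), ((nat_lit 71), (nat_lit 49), (nat_lit 1), (nat_lit 1)), ((nat_lit 72), (nat_lit 50), (nat_lit 1), (nat_lit 1)), ((nat_lit 73), (nat_lit 51), (nat_lit 1), (nat_lit 1)), ((nat_lit 75), (nat_lit 55), (nat_lit 1), (nat_lit 1)), ((nat_lit 77), (nat_lit 69), (nat_lit 1), (nat_lit 1)), ((nat_lit 105), (nat_lit 81), (nat_lit 1), (nat_lit 1)), ((nat_lit 106), (nat_lit 82), (nat_lit 1), (nat_lit 1)), ((nat_lit 107), (nat_lit 83), (nat_lit 1), (nat_lit 1)), ((nat_lit 109), (nat_lit 87), (nat_lit 1), (nat_lit 1)), ((nat_lit 114), (nat_lit 88), (nat_lit 1), (nat_lit 1)), ((nat_lit 115), (nat_lit 89), (nat_lit 1), (nat_lit 1)), ((nat_lit 116), (nat_lit 90), (nat_lit 1), (nat_lit 1)), ((nat_lit 126), (nat_lit 92), (nat_lit 1), (nat_lit 1)), ((nat_lit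 135), (nat_lit 96), (nat_lit 1), (nat_lit 1)), ((nat_lit 137), (nat_lit 98), (nat_lit 1), (nat_lit 1)), ((nat_lit 141), (nat_lit 102), (nat_lit 1), (nat_lit 1)), ((nat_lit 143), (nat_lit 104), (nat_lit 1), (nat_lit 1)), ((nat_lit 147), (nat_lit 113), (nat_lit 1), (nat_lit 1)), ((nat_lit 149), (nat_lit 123), (nat_lit 1), (nat_lit 1)), ((nat_lit 150), (nat_lit 124), (nat_lit 1), (nat_lit 1)), ((nat_lit 151), (nat_lit 125), (nat_lit 1), (nat_lit 1)), ((nat_lit 152), (nat_lit 130), (nat_lit 1), (nat_lit 1)), ((nat_lit 156), (nat_lit 132), (nat_lit 1), (nat_lit 1)), ((nat_lit 157), (nat_lit 133), (nat_lit 1), (nat_lit 1)), ((nat_lit 158), (nat_lit 134), (nat_lit 1), (nat_lit 1)), ((nat_lit 170), (nat_lit 162), (nat_lit 1), (nat_lit 1)), ((nat_lit 184), (nat_lit 164), (nat_lit 1), (nat_lit 1)), ((nat_lit 188), (nat_lit 166), (nat_lit 1), (nat_lit 1)), ((nat_lit 189), (nat_lit 167), (nat_lit 1), (nat_lit 1)), ((nat_lit 190), (nat_lit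 168), (nat_lit 1), (nat_lit 1)), ((nat_lit 204), (nat_lit 175), (nat_lit 1), (nat_lit 1)), ((nat_lit 205), (nat_lit 176), (nat_lit 1), (nat_lit 1)), ((nat_lit 206), (nat_lit 177), (nat_lit 1), (nat_lit 1)), ((nat_lit 210), (nat_lit 181), (nat_lit 1), (nat_lit 1)), ((nat_lit 211), (nat_lit 182), (nat_lit 1), (nat_lit 1)), ((nat_lit 212), (nat_lit 183), (nat_lit 1), (nat_lit 1)), ((nat_lit 219), (nat_lit 197), (nat_lit 1), (nat_lit 1)), ((nat_lit 220), (nat_lit 198), (nat_lit 1), (nat_lit 1)), ((nat_lit 221), (nat_lit 199), (nat_lit 1), (nat_lit 1)), ((nat_lit 223), (nat_lit 203), (nat_lit 1), (nat_lit 1)), ((nat_lit 225), (nat_lit 217), (nat_lit 1), (nat_lit 1)), ((nat_lit 234), (nat_lit 229), (nat_lit 1), (nat_lit 1)), ((nat_lit 236), (nat_lit 231), (nat_lit 1), (nat_lit 1))]) (.leaf [((nat_lit 1), (nat_lit 56), (nat_lit 1), (nat_lit 1)), ((nat_lit 2), (nat_lit 57), (nat_lit 1), (nat_lit 1)), ((nat_lit 3), (nat_lit 59), (nat_lit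 1), (nat_lit 1)), ((nat_lit 4), (nat_lit 62), (nat_lit 1), (nat_lit 1)), ((nat_lit 5), (nat_lit 66), (nat_lit 1), (nat_lit 1)), ((nat_lit 7), (nat_lit 71), (nat_lit 1), (nat_lit 1)), ((nat_lit 13), (nat_lit 77), (nat_lit 1), (nat_lit 1)), ((nat_lit 14), (nat_lit 93), (nat_lit 1), (nat_lit 1)), ((nat_lit 15), (nat_lit 105), (nat_lit 1), (nat_lit 1)), ((nat_lit 16), (nat_lit 110), (nat_lit 1), (nat_lit 1)), ((nat_lit 17), (nat_lit 114), (nat_lit 1), (nat_lit 1)), ((nat_lit 18), (nat_lit 117), (nat_lit 1), (nat_lit 1)), ((nat_lit 19), (nat_lit 119), (nat_lit 1), (nat_lit 1)), ((nat_lit 25), (nat_lit 135), (nat_lit 1), (nat_lit 1)), ((nat_lit 29), (nat_lit 136), (nat_lit 1), (nat_lit 1)), ((nat_lit 32), (nat_lit 137), (nat_lit 1), (nat_lit 1)), ((nat_lit 34), (nat_lit 138), (nat_lit 1), (nat_lit 1)), ((nat_lit 35), (nat_lit 139), (nat_lit 1), (nat_lit 1)), ((nat_lit 39), (nat_lit 147), (nat_lit 1), (nat_lit 1)), ((nat_lit 42), (nat_lit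 148), (nat_lit 1), (nat_lit 1)), ((nat_lit 44), (nat_lit 149), (nat_lit 1), (nat_lit 1)), ((nat_lit 45), (nat_lit 150), (nat_lit 1), (nat_lit 1)), ((nat_lit 48), (nat_lit 152), (nat_lit 1), (nat_lit 1)), ((nat_lit 50), (nat_lit 153), (nat_lit 1), (nat_lit 1)), ((nat_lit 51), (nat_lit 154), (nat_lit 1), (nat_lit 1)), ((nat_lit 53), (nat_lit 156), (nat_lit 1), (nat_lit 1)), ((nat_lit 54), (nat_lit 157), (nat_lit 1), (nat_lit 1)), ((nat_lit 55), (nat_lit 159), (nat_lit 1), (nat_lit 1)), ((nat_lit 80), (nat_lit 184), (nat_lit 1), (nat_lit 1)), ((nat_lit 82), (nat_lit 185), (nat_lit 1), (nat_lit 1)), ((nat_lit 83), (nat_lit 186), (nat_lit 1), (nat_lit 1)), ((nat_lit 85), (nat_lit 188), (nat_lit 1), (nat_lit 1)), ((nat_lit 86), (nat_lit 189), (nat_lit 1), (nat_lit 1)), ((nat_lit 87), (nat_lit 191), (nat_lit 1), (nat_lit 1)), ((nat_lit 89), (nat_lit 194), (nat_lit 1), (nat_lit 1)), ((nat_lit 90), (nat_lit 195), (nat_lit 1), (nat_lit 1)),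 ((nat_lit 91), (nat_lit 197), (nat_lit 1), (nat_lit 1)), ((nat_lit 92), (nat_lit 200), (nat_lit 1), (nat_lit 1)), ((nat_lit 100), (nat_lit 204), (nat_lit 1), (nat_lit 1)), ((nat_lit 101), (nat_lit 205), (nat_lit 1), (nat_lit 1)), ((nat_lit 102), (nat_lit 207), (nat_lit 1), (nat_lit 1)), ((nat_lit 103), (nat_lit 210), (nat_lit 1), (nat_lit 1)), ((nat_lit 104), (nat_lit 214), (nat_lit 1), (nat_lit 1)), ((nat_lit 120), (nat_lit 220), (nat_lit 1), (nat_lit 1)), ((nat_lit 122), (nat_lit 221), (nat_lit 1), (nat_lit 1)), ((nat_lit 125), (nat_lit 222), (nat_lit 1), (nat_lit 1)), ((nat_lit 129), (nat_lit 223), (nat_lit 1), (nat_lit 1)), ((nat_lit 134), (nat_lit 224), (nat_lit 1), (nat_lit 1)), ((nat_lit 146), (nat_lit 225), (nat_lit 1), (nat_lit 1)), ((nat_lit 162), (nat_lit 226), (nat_lit 1), (nat_lit 1)), ((nat_lit 168), (nat_lit 232), (nat_lit 1), (nat_lit 1)), ((nat_lit 173), (nat_lit 234), (nat_lit 1), (nat_lit 1)), ((nat_lit 177),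 (nat_lit 235), (nat_lit 1), (nat_lit 1)), ((nat_lit 180), (nat_lit 236), (nat_lit 1), (nat_lit 1)), ((nat_lit 182), (nat_lit 237), (nat_lit 1), (nat_lit 1)), ((nat_lit 183), (nat_lit 238), (nat_lit 1), (nat_lit 1))]))) (.node (.node (.leaf [((nat_lit 17), (nat_lit 0), (nat_lit 1), (nat_lit 1)), ((nat_lit 20), (nat_lit 3), (nat_lit 1), (nat_lit 1)), ((nat_lit 32), (nat_lit 6), (nat_lit 1), (nat_lit 1)), ((nat_lit 42), (nat_lit 8), (nat_lit 1), (nat_lit 1)), ((nat_lit 48), (nat_lit 9), (nat_lit 1), (nat_lit 1)), ((nat_lit 53), (nat_lit 11), (nat_lit 1), (nat_lit 1)), ((nat_lit 54), (nat_lit 12), (nat_lit 1), (nat_lit 1)), ((nat_lit 80), (nat_lit 21), (nat_lit 1), (nat_lit 1)), ((nat_lit 85), (nat_lit 23), (nat_lit 1), (nat_lit 1)), ((nat_lit 86), (nat_lit 24), (nat_lit 1), (nat_lit 1)), ((nat_lit 89), (nat_lit 27), (nat_lit 1), (nat_lit 1)), ((nat_lit 90), (nat_lit 28), (nat_lit 1), (nat_lit 1)), ((nat_lit 92), (nat_lit 33), (nat_lit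 1), (nat_lit 1)), ((nat_lit 100), (nat_lit 37), (nat_lit 1), (nat_lit 1)), ((nat_lit 101), (nat_lit 38), (nat_lit 1), (nat_lit 1)), ((nat_lit 103), (nat_lit 43), (nat_lit 1), (nat_lit 1)), ((nat_lit 104), (nat_lit 49), (nat_lit 1), (nat_lit 1)), ((nat_lit 115), (nat_lit 56), (nat_lit 1), (nat_lit 1)), ((nat_lit 116), (nat_lit 57), (nat_lit 1), (nat_lit 1)), ((nat_lit 120), (nat_lit 60), (nat_lit 1), (nat_lit 1)), ((nat_lit 122), (nat_lit 61), (nat_lit 1), (nat_lit 1)), ((nat_lit 126), (nat_lit 62), (nat_lit 1), (nat_lit 1)), ((nat_lit 129), (nat_lit 65), (nat_lit 1), (nat_lit 1)), ((nat_lit 131), (nat_lit 66), (nat_lit 1), (nat_lit 1)), ((nat_lit 134), (nat_lit 69), (nat_lit 1), (nat_lit 1)), ((nat_lit 143), (nat_lit 71), (nat_lit 1), (nat_lit 1)), ((nat_lit 146), (nat_lit 74), (nat_lit 1), (nat_lit 1)), ((nat_lit 158), (nat_lit 77), (nat_lit 1), (nat_lit 1)), ((nat_lit 162), (nat_lit 81), (nat_lit 1), (nat_lit 1)), ((nat_lit 165),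 (nat_lit 93), (nat_lit 1), (nat_lit 1)), ((nat_lit 168), (nat_lit 96), (nat_lit 1), (nat_lit 1)), ((nat_lit 170), (nat_lit 105), (nat_lit 1), (nat_lit 1)), ((nat_lit 173), (nat_lit 108), (nat_lit 1), (nat_lit 1)), ((nat_lit 174), (nat_lit 110), (nat_lit 1), (nat_lit 1)), ((nat_lit 177), (nat_lit 113), (nat_lit 1), (nat_lit 1)), ((nat_lit 178), (nat_lit 117), (nat_lit 1), (nat_lit 1)), ((nat_lit 179), (nat_lit 119), (nat_lit 1), (nat_lit 1)), ((nat_lit 182), (nat_lit 123), (nat_lit 1), (nat_lit 1)), ((nat_lit 183), (nat_lit 124), (nat_lit 1), (nat_lit 1)), ((nat_lit 190), (nat_lit 135), (nat_lit 1), (nat_lit 1)), ((nat_lit 196), (nat_lit 136), (nat_lit 1), (nat_lit 1)), ((nat_lit 201), (nat_lit 138), (nat_lit 1), (nat_lit 1)), ((nat_lit 202), (nat_lit 139), (nat_lit 1), (nat_lit 1)), ((nat_lit 206), (nat_lit 147), (nat_lit 1), (nat_lit 1)), ((nat_lit 211), (nat_lit 149), (nat_lit 1), (nat_lit 1)), ((nat_lit 212), (nat_lit 150),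 (nat_lit 1), (nat_lit 1)), ((nat_lit 215), (nat_lit 153), (nat_lit 1), (nat_lit 1)), ((nat_lit 216), (nat_lit 154), (nat_lit 1), (nat_lit 1)), ((nat_lit 218), (nat_lit 159), (nat_lit 1), (nat_lit 1)), ((nat_lit 227), (nat_lit 185), (nat_lit 1), (nat_lit 1)), ((nat_lit 228), (nat_lit 186), (nat_lit 1), (nat_lit 1)), ((nat_lit 230), (nat_lit 191), (nat_lit 1), (nat_lit 1)), ((nat_lit 231), (nat_lit 197), (nat_lit 1), (nat_lit 1)), ((nat_lit 233), (nat_lit 207), (nat_lit 1), (nat_lit 1)), ((nat_lit 236), (nat_lit 219), (nat_lit 1), (nat_lit 1)), ((nat_lit 239), (nat_lit 222), (nat_lit 1), (nat_lit 1))]) (.leaf [((nat_lit 0), (nat_lit 21), (nat_lit 1), (nat_lit 1)), ((nat_lit 4), (nat_lit 25), (nat_lit 1), (nat_lit 1)), ((nat_lit 5), (nat_lit 29), (nat_lit 1), (nat_lit 1)), ((nat_lit 7), (nat_lit 39), (nat_lit 1), (nat_lit 1)), ((nat_lit 10), (nat_lit 58), (nat_lit 1), (nat_lit 1)), ((nat_lit 11), (nat_lit 60), (nat_lit 1), (nat_lit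 1)), ((nat_lit 12), (nat_lit 61), (nat_lit 1), (nat_lit 1)), ((nat_lit 17), (nat_lit 80), (nat_lit 1), (nat_lit 1)), ((nat_lit 18), (nat_lit 82), (nat_lit 1), (nat_lit 1)), ((nat_lit 19), (nat_lit 83), (nat_lit 1), (nat_lit 1)), ((nat_lit 30), (nat_lit 94), (nat_lit 1), (nat_lit 1)), ((nat_lit 31), (nat_lit 95), (nat_lit 1), (nat_lit 1)), ((nat_lit 33), (nat_lit 96), (nat_lit 1), (nat_lit 1)), ((nat_lit 40), (nat_lit 106), (nat_lit 1), (nat_lit 1)), ((nat_lit 41), (nat_lit 107), (nat_lit 1), (nat_lit 1)), ((nat_lit 43), (nat_lit 108), (nat_lit 1), (nat_lit 1)), ((nat_lit 46), (nat_lit 111), (nat_lit 1), (nat_lit 1)), ((nat_lit 47), (nat_lit 112), (nat_lit 1), (nat_lit 1)), ((nat_lit 49), (nat_lit 113), (nat_lit 1), (nat_lit 1)), ((nat_lit 53), (nat_lit 120), (nat_lit 1), (nat_lit 1)), ((nat_lit 54), (nat_lit 122), (nat_lit 1), (nat_lit 1)), ((nat_lit 55), (nat_lit 125), (nat_lit 1), (nat_lit 1)), ((nat_lit 62), (nat_lit 135), (nat_lit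 1), (nat_lit 1)), ((nat_lit 66), (nat_lit 136), (nat_lit 1), (nat_lit 1)), ((nat_lit 70), (nat_lit 140), (nat_lit 1), (nat_lit 1)), ((nat_lit 71), (nat_lit 147), (nat_lit 1), (nat_lit 1)), ((nat_lit 75), (nat_lit 151), (nat_lit 1), (nat_lit 1)), ((nat_lit 76), (nat_lit 155), (nat_lit 1), (nat_lit 1)), ((nat_lit 84), (nat_lit 163), (nat_lit 1), (nat_lit 1)), ((nat_lit 88), (nat_lit 164), (nat_lit 1), (nat_lit 1)), ((nat_lit 92), (nat_lit 168), (nat_lit 1), (nat_lit 1)), ((nat_lit 99), (nat_lit 169), (nat_lit 1), (nat_lit 1)), ((nat_lit 103), (nat_lit 173), (nat_lit 1), (nat_lit 1)), ((nat_lit 104), (nat_lit 177), (nat_lit 1), (nat_lit 1)), ((nat_lit 114), (nat_lit 184), (nat_lit 1), (nat_lit 1)), ((nat_lit 117), (nat_lit 185), (nat_lit 1), (nat_lit 1)), ((nat_lit 119), (nat_lit 186), (nat_lit 1), (nat_lit 1)), ((nat_lit 126), (nat_lit 190), (nat_lit 1), (nat_lit 1)), ((nat_lit 127), (nat_lit 192), (nat_lit 1), (nat_lit 1)), ((nat_lit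 128), (nat_lit 193), (nat_lit 1), (nat_lit 1)), ((nat_lit 131), (nat_lit 196), (nat_lit 1), (nat_lit 1)), ((nat_lit 132), (nat_lit 198), (nat_lit 1), (nat_lit 1)), ((nat_lit 133), (nat_lit 199), (nat_lit 1), (nat_lit 1)), ((nat_lit 143), (nat_lit 206), (nat_lit 1), (nat_lit 1)), ((nat_lit 144), (nat_lit 208), (nat_lit 1), (nat_lit 1)), ((nat_lit 145), (nat_lit 209), (nat_lit 1), (nat_lit 1)), ((nat_lit 156), (nat_lit 220), (nat_lit 1), (nat_lit 1)), ((nat_lit 157), (nat_lit 221), (nat_lit 1), (nat_lit 1)), ((nat_lit 159), (nat_lit 222), (nat_lit 1), (nat_lit 1)), ((nat_lit 178), (nat_lit 227), (nat_lit 1), (nat_lit 1)), ((nat_lit 179), (nat_lit 228), (nat_lit 1), (nat_lit 1)), ((nat_lit 181), (nat_lit 229), (nat_lit 1), (nat_lit 1)), ((nat_lit 200), (nat_lit 232), (nat_lit 1), (nat_lit 1)), ((nat_lit 210), (nat_lit 234), (nat_lit 1), (nat_lit 1)), ((nat_lit 214), (nat_lit 235), (nat_lit 1), (nat_lit 1)), ((nat_lit 218), (nat_lit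 239), (nat_lit 1), (nat_lit 1))])) (.leaf [((nat_lit 2), (nat_lit 3), (nat_lit 1), (nat_lit 1)), ((nat_lit 10), (nat_lit 11), (nat_lit 1), (nat_lit 1)), ((nat_lit 17), (nat_lit 18), (nat_lit 1), (nat_lit 1)), ((nat_lit 22), (nat_lit 23), (nat_lit 1), (nat_lit 1)), ((nat_lit 26), (nat_lit 27), (nat_lit 1), (nat_lit 1)), ((nat_lit 31), (nat_lit 33), (nat_lit 1), (nat_lit 1)), ((nat_lit 32), (nat_lit 34), (nat_lit 1), (nat_lit 1)), ((nat_lit 36), (nat_lit 37), (nat_lit 1), (nat_lit 1)), ((nat_lit 41), (nat_lit 43), (nat_lit 1), (nat_lit 1)), ((nat_lit 42), (nat_lit 44), (nat_lit 1), (nat_lit 1)), ((nat_lit 47), (nat_lit 49), (nat_lit 1), (nat_lit 1)), ((nat_lit 48), (nat_lit 50), (nat_lit 1), (nat_lit 1)), ((nat_lit 54), (nat_lit 55), (nat_lit 1), (nat_lit 1)), ((nat_lit 57), (nat_lit 59), (nat_lit 1), (nat_lit 1)), ((nat_lit 58), (nat_lit 60), (nat_lit 1), (nat_lit 1)), ((nat_lit 64), (nat_lit 65), (nat_lit 1), (nat_lit 1)), ((nat_lit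 68), (nat_lit 69), (nat_lit 1), (nat_lit 1)), ((nat_lit 73), (nat_lit 74), (nat_lit 1), (nat_lit 1)), ((nat_lit 79), (nat_lit 81), (nat_lit 1), (nat_lit 1)), ((nat_lit 80), (nat_lit 82), (nat_lit 1), (nat_lit 1)), ((nat_lit 86), (nat_lit 87), (nat_lit 1), (nat_lit 1)), ((nat_lit 90), (nat_lit 91), (nat_lit 1), (nat_lit 1)), ((nat_lit 95), (nat_lit 96), (nat_lit 1), (nat_lit 1)), ((nat_lit 101), (nat_lit 102), (nat_lit 1), (nat_lit 1)), ((nat_lit 107), (nat_lit 108), (nat_lit 1), (nat_lit 1)), ((nat_lit 112), (nat_lit 113), (nat_lit 1), (nat_lit 1)), ((nat_lit 114), (nat_lit 117), (nat_lit 1), (nat_lit 1)), ((nat_lit 115), (nat_lit 118), (nat_lit 1), (nat_lit 1)), ((nat_lit 121), (nat_lit 124), (nat_lit 1), (nat_lit 1)), ((nat_lit 122), (nat_lit 125), (nat_lit 1), (nat_lit 1)), ((nat_lit 126), (nat_lit 127), (nat_lit 1), (nat_lit 1)), ((nat_lit 131), (nat_lit 132), (nat_lit 1), (nat_lit 1)), ((nat_lit 137), (nat_lit 138), (nat_lit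 1), (nat_lit 1)), ((nat_lit 143), (nat_lit 144), (nat_lit 1), (nat_lit 1)), ((nat_lit 148), (nat_lit 149), (nat_lit 1), (nat_lit 1)), ((nat_lit 152), (nat_lit 153), (nat_lit 1), (nat_lit 1)), ((nat_lit 157), (nat_lit 159), (nat_lit 1), (nat_lit 1)), ((nat_lit 158), (nat_lit 160), (nat_lit 1), (nat_lit 1)), ((nat_lit 165), (nat_lit 166), (nat_lit 1), (nat_lit 1)), ((nat_lit 170), (nat_lit 171), (nat_lit 1), (nat_lit 1)), ((nat_lit 174), (nat_lit 175), (nat_lit 1), (nat_lit 1)), ((nat_lit 179), (nat_lit 181), (nat_lit 1), (nat_lit 1)), ((nat_lit 180), (nat_lit 182), (nat_lit 1), (nat_lit 1)), ((nat_lit 184), (nat_lit 185), (nat_lit 1), (nat_lit 1)), ((nat_lit 189), (nat_lit 191), (nat_lit 1), (nat_lit 1)), ((nat_lit 190), (nat_lit 192), (nat_lit 1), (nat_lit 1)), ((nat_lit 195), (nat_lit 197), (nat_lit 1), (nat_lit 1)), ((nat_lit 196), (nat_lit 198), (nat_lit 1), (nat_lit 1)), ((nat_lit 202), (nat_lit 203), (nat_lit 1), (nat_lit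 1)), ((nat_lit 205), (nat_lit 207), (nat_lit 1), (nat_lit 1)), ((nat_lit 206), (nat_lit 208), (nat_lit 1), (nat_lit 1)), ((nat_lit 212), (nat_lit 213), (nat_lit 1), (nat_lit 1)), ((nat_lit 216), (nat_lit 217), (nat_lit 1), (nat_lit 1)), ((nat_lit 221), (nat_lit 222), (nat_lit 1), (nat_lit 1)), ((nat_lit 228), (nat_lit 229), (nat_lit 1), (nat_lit 1)), ((nat_lit 236), (nat_lit 237), (nat_lit 1), (nat_lit 1))])))

def rows14 : Tr (List Entry) :=
  .node (.node (.node (.node (.leaf [((nat_lit 93), (nat_lit 0), (nat_lit 1), (nat_lit 1)), ((nat_lit 94), (nat_lit 1), (nat_lit 1), (nat_lit 1)), ((nat_lit 95), (nat_lit 2), (nat_lit 1), (nat_lit 1)), ((nat_lit 96), (nat_lit 3), (nat_lit 1), (nat_lit 1)), ((nat_lit 97), (nat_lit 4), (nat_lit 1), (nat_lit 1)), ((nat_lit 98), (nat_lit 5), (nat_lit 1), (nat_lit 1)), ((nat_lit 135), (nat_lit 8), (nat_lit 1), (nat_lit 1)), ((nat_lit 136), (nat_lit 9), (nat_lit 1), (nat_lit 1)), ((nat_lit 137),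 (nat_lit 10), (nat_lit 1), (nat_lit 1)), ((nat_lit 138), (nat_lit 11), (nat_lit 1), (nat_lit 1)), ((nat_lit 139), (nat_lit 12), (nat_lit 1), (nat_lit 1)), ((nat_lit 140), (nat_lit 13), (nat_lit 1), (nat_lit 1)), ((nat_lit 163), (nat_lit 15), (nat_lit 1), (nat_lit 1)), ((nat_lit 164), (nat_lit 16), (nat_lit 1), (nat_lit 1)), ((nat_lit 165), (nat_lit 17), (nat_lit 1), (nat_lit 1)), ((nat_lit 166), (nat_lit 18), (nat_lit 1), (nat_lit 1)), ((nat_lit 167), (nat_lit 19), (nat_lit 1), (nat_lit 1)), ((nat_lit 168), (nat_lit 20), (nat_lit 1), (nat_lit 1)), ((nat_lit 184), (nat_lit 36), (nat_lit 1), (nat_lit 1)), ((nat_lit 185), (nat_lit 37), (nat_lit 1), (nat_lit 1)), ((nat_lit 186), (nat_lit 38), (nat_lit 1), (nat_lit 1)), ((nat_lit 187), (nat_lit 39), (nat_lit 1), (nat_lit 1)), ((nat_lit 188), (nat_lit 40), (nat_lit 1), (nat_lit 1)), ((nat_lit 189), (nat_lit 41), (nat_lit 1), (nat_lit 1)), ((nat_lit 190), (nat_lit 42), (nat_lit 1), (nat_lit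 1)), ((nat_lit 191), (nat_lit 43), (nat_lit 1), (nat_lit 1)), ((nat_lit 192), (nat_lit 44), (nat_lit 1), (nat_lit 1)), ((nat_lit 193), (nat_lit 45), (nat_lit 1), (nat_lit 1)), ((nat_lit 194), (nat_lit 46), (nat_lit 1), (nat_lit 1)), ((nat_lit 195), (nat_lit 47), (nat_lit 1), (nat_lit 1)), ((nat_lit 196), (nat_lit 48), (nat_lit 1), (nat_lit 1)), ((nat_lit 197), (nat_lit 49), (nat_lit 1), (nat_lit 1)), ((nat_lit 198), (nat_lit 50), (nat_lit 1), (nat_lit 1)), ((nat_lit 199), (nat_lit 51), (nat_lit 1), (nat_lit 1)), ((nat_lit 200), (nat_lit 52), (nat_lit 1), (nat_lit 1)), ((nat_lit 201), (nat_lit 53), (nat_lit 1), (nat_lit 1)), ((nat_lit 202), (nat_lit 54), (nat_lit 1), (nat_lit 1)), ((nat_lit 203), (nat_lit 55), (nat_lit 1), (nat_lit 1)), ((nat_lit 219), (nat_lit 71), (nat_lit 1), (nat_lit 1)), ((nat_lit 220), (nat_lit 72), (nat_lit 1), (nat_lit 1)), ((nat_lit 221), (nat_lit 73), (nat_lit 1), (nat_lit 1)), ((nat_lit 222), (nat_lit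 74), (nat_lit 1), (nat_lit 1)), ((nat_lit 223), (nat_lit 75), (nat_lit 1), (nat_lit 1)), ((nat_lit 224), (nat_lit 76), (nat_lit 1), (nat_lit 1)), ((nat_lit 226), (nat_lit 99), (nat_lit 1), (nat_lit 1)), ((nat_lit 227), (nat_lit 100), (nat_lit 1), (nat_lit 1)), ((nat_lit 228), (nat_lit 101), (nat_lit 1), (nat_lit 1)), ((nat_lit 229), (nat_lit 102), (nat_lit 1), (nat_lit 1)), ((nat_lit 230), (nat_lit 103), (nat_lit 1), (nat_lit 1)), ((nat_lit 231), (nat_lit 104), (nat_lit 1), (nat_lit 1)), ((nat_lit 234), (nat_lit 141), (nat_lit 1), (nat_lit 1)), ((nat_lit 235), (nat_lit 142), (nat_lit 1), (nat_lit 1)), ((nat_lit 236), (nat_lit 143), (nat_lit 1), (nat_lit 1)), ((nat_lit 237), (nat_lit 144), (nat_lit 1), (nat_lit 1)), ((nat_lit 238), (nat_lit 145), (nat_lit 1), (nat_lit 1)), ((nat_lit 239), (nat_lit 146), (nat_lit 1), (nat_lit 1))]) (.leaf [((nat_lit 5), (nat_lit 6), (nat_lit 1), (nat_lit 1)), ((nat_lit 7), (nat_lit 8), (nat_lit 1),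 (nat_lit 1)), ((nat_lit 16), (nat_lit 21), (nat_lit 1), (nat_lit 1)), ((nat_lit 17), (nat_lit 22), (nat_lit 1), (nat_lit 1)), ((nat_lit 18), (nat_lit 23), (nat_lit 1), (nat_lit 1)), ((nat_lit 19), (nat_lit 24), (nat_lit 1), (nat_lit 1)), ((nat_lit 20), (nat_lit 25), (nat_lit 1), (nat_lit 1)), ((nat_lit 46), (nat_lit 56), (nat_lit 1), (nat_lit 1)), ((nat_lit 47), (nat_lit 57), (nat_lit 1), (nat_lit 1)), ((nat_lit 48), (nat_lit 58), (nat_lit 1), (nat_lit 1)), ((nat_lit 49), (nat_lit 59), (nat_lit 1), (nat_lit 1)), ((nat_lit 50), (nat_lit 60), (nat_lit 1), (nat_lit 1)), ((nat_lit 51), (nat_lit 61), (nat_lit 1), (nat_lit 1)), ((nat_lit 52), (nat_lit 62), (nat_lit 1), (nat_lit 1)), ((nat_lit 53), (nat_lit 63), (nat_lit 1), (nat_lit 1)), ((nat_lit 54), (nat_lit 64), (nat_lit 1), (nat_lit 1)), ((nat_lit 55), (nat_lit 65), (nat_lit 1), (nat_lit 1)), ((nat_lit 76), (nat_lit 77), (nat_lit 1), (nat_lit 1)), ((nat_lit 88), (nat_lit 93), (nat_lit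 1), (nat_lit 1)), ((nat_lit 89), (nat_lit 94), (nat_lit 1), (nat_lit 1)), ((nat_lit 90), (nat_lit 95), (nat_lit 1), (nat_lit 1)), ((nat_lit 91), (nat_lit 96), (nat_lit 1), (nat_lit 1)), ((nat_lit 92), (nat_lit 97), (nat_lit 1), (nat_lit 1)), ((nat_lit 99), (nat_lit 105), (nat_lit 1), (nat_lit 1)), ((nat_lit 100), (nat_lit 106), (nat_lit 1), (nat_lit 1)), ((nat_lit 101), (nat_lit 107), (nat_lit 1), (nat_lit 1)), ((nat_lit 102), (nat_lit 108), (nat_lit 1), (nat_lit 1)), ((nat_lit 103), (nat_lit 109), (nat_lit 1), (nat_lit 1)), ((nat_lit 130), (nat_lit 136), (nat_lit 1), (nat_lit 1)), ((nat_lit 131), (nat_lit 137), (nat_lit 1), (nat_lit 1)), ((nat_lit 132), (nat_lit 138), (nat_lit 1), (nat_lit 1)), ((nat_lit 133), (nat_lit 139), (nat_lit 1), (nat_lit 1)), ((nat_lit 134), (nat_lit 140), (nat_lit 1), (nat_lit 1)), ((nat_lit 142), (nat_lit 147), (nat_lit 1), (nat_lit 1)), ((nat_lit 143), (nat_lit 148), (nat_lit 1), (nat_lit 1)), ((nat_lit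 144), (nat_lit 149), (nat_lit 1), (nat_lit 1)), ((nat_lit 145), (nat_lit 150), (nat_lit 1), (nat_lit 1)), ((nat_lit 146), (nat_lit 151), (nat_lit 1), (nat_lit 1)), ((nat_lit 162), (nat_lit 163), (nat_lit 1), (nat_lit 1)), ((nat_lit 174), (nat_lit 184), (nat_lit 1), (nat_lit 1)), ((nat_lit 175), (nat_lit 185), (nat_lit 1), (nat_lit 1)), ((nat_lit 176), (nat_lit 186), (nat_lit 1), (nat_lit 1)), ((nat_lit 177), (nat_lit 187), (nat_lit 1), (nat_lit 1)), ((nat_lit 178), (nat_lit 188), (nat_lit 1), (nat_lit 1)), ((nat_lit 179), (nat_lit 189), (nat_lit 1), (nat_lit 1)), ((nat_lit 180), (nat_lit 190), (nat_lit 1), (nat_lit 1)), ((nat_lit 181), (nat_lit 191), (nat_lit 1), (nat_lit 1)), ((nat_lit 182), (nat_lit 192), (nat_lit 1), (nat_lit 1)), ((nat_lit 183), (nat_lit 193), (nat_lit 1), (nat_lit 1)), ((nat_lit 214), (nat_lit 219), (nat_lit 1), (nat_lit 1)), ((nat_lit 215), (nat_lit 220), (nat_lit 1), (nat_lit 1)), ((nat_lit 216), (nat_lit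 221), (nat_lit 1), (nat_lit 1)), ((nat_lit 217), (nat_lit 222), (nat_lit 1), (nat_lit 1)), ((nat_lit 218), (nat_lit 223), (nat_lit 1), (nat_lit 1)), ((nat_lit 231), (nat_lit 232), (nat_lit 1), (nat_lit 1)), ((nat_lit 233), (nat_lit 234), (nat_lit 1), (nat_lit 1))])) (.node (.leaf [((nat_lit 14), (nat_lit 0), (nat_lit 1), (nat_lit 1)), ((nat_lit 20), (nat_lit 7), (nat_lit 1), (nat_lit 1)), ((nat_lit 25), (nat_lit 8), (nat_lit 1), (nat_lit 1)), ((nat_lit 29), (nat_lit 9), (nat_lit 1), (nat_lit 1)), ((nat_lit 32), (nat_lit 10), (nat_lit 1), (nat_lit 1)), ((nat_lit 34), (nat_lit 11), (nat_lit 1), (nat_lit 1)), ((nat_lit 35), (nat_lit 12), (nat_lit 1), (nat_lit 1)), ((nat_lit 80), (nat_lit 36), (nat_lit 1), (nat_lit 1)), ((nat_lit 82), (nat_lit 37), (nat_lit 1), (nat_lit 1)), ((nat_lit 83), (nat_lit 38), (nat_lit 1), (nat_lit 1)), ((nat_lit 85), (nat_lit 40), (nat_lit 1), (nat_lit 1)), ((nat_lit 86), (nat_lit 41), (nat_lit 1), (nat_lit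 1)), ((nat_lit 87), (nat_lit 43), (nat_lit 1), (nat_lit 1)), ((nat_lit 89), (nat_lit 46), (nat_lit 1), (nat_lit 1)), ((nat_lit 90), (nat_lit 47), (nat_lit 1), (nat_lit 1)), ((nat_lit 91), (nat_lit 49), (nat_lit 1), (nat_lit 1)), ((nat_lit 92), (nat_lit 52), (nat_lit 1), (nat_lit 1)), ((nat_lit 94), (nat_lit 56), (nat_lit 1), (nat_lit 1)), ((nat_lit 95), (nat_lit 57), (nat_lit 1), (nat_lit 1)), ((nat_lit 96), (nat_lit 59), (nat_lit 1), (nat_lit 1)), ((nat_lit 97), (nat_lit 62), (nat_lit 1), (nat_lit 1)), ((nat_lit 98), (nat_lit 66), (nat_lit 1), (nat_lit 1)), ((nat_lit 120), (nat_lit 72), (nat_lit 1), (nat_lit 1)), ((nat_lit 122), (nat_lit 73), (nat_lit 1), (nat_lit 1)), ((nat_lit 125), (nat_lit 74), (nat_lit 1), (nat_lit 1)), ((nat_lit 129), (nat_lit 75), (nat_lit 1), (nat_lit 1)), ((nat_lit 134), (nat_lit 76), (nat_lit 1), (nat_lit 1)), ((nat_lit 140), (nat_lit 77), (nat_lit 1), (nat_lit 1)), ((nat_lit 162), (nat_lit 99), (nat_lit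 1), (nat_lit 1)), ((nat_lit 163), (nat_lit 105), (nat_lit 1), (nat_lit 1)), ((nat_lit 164), (nat_lit 110), (nat_lit 1), (nat_lit 1)), ((nat_lit 165), (nat_lit 114), (nat_lit 1), (nat_lit 1)), ((nat_lit 166), (nat_lit 117), (nat_lit 1), (nat_lit 1)), ((nat_lit 167), (nat_lit 119), (nat_lit 1), (nat_lit 1)), ((nat_lit 173), (nat_lit 141), (nat_lit 1), (nat_lit 1)), ((nat_lit 177), (nat_lit 142), (nat_lit 1), (nat_lit 1)), ((nat_lit 180), (nat_lit 143), (nat_lit 1), (nat_lit 1)), ((nat_lit 182), (nat_lit 144), (nat_lit 1), (nat_lit 1)), ((nat_lit 183), (nat_lit 145), (nat_lit 1), (nat_lit 1)), ((nat_lit 187), (nat_lit 147), (nat_lit 1), (nat_lit 1)), ((nat_lit 190), (nat_lit 148), (nat_lit 1), (nat_lit 1)), ((nat_lit 192), (nat_lit 149), (nat_lit 1), (nat_lit 1)), ((nat_lit 193), (nat_lit 150), (nat_lit 1), (nat_lit 1)), ((nat_lit 196), (nat_lit 152), (nat_lit 1), (nat_lit 1)), ((nat_lit 198), (nat_lit 153), (nat_lit 1), (nat_lit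 1)), ((nat_lit 199), (nat_lit 154), (nat_lit 1), (nat_lit 1)), ((nat_lit 201), (nat_lit 156), (nat_lit 1), (nat_lit 1)), ((nat_lit 202), (nat_lit 157), (nat_lit 1), (nat_lit 1)), ((nat_lit 203), (nat_lit 159), (nat_lit 1), (nat_lit 1)), ((nat_lit 227), (nat_lit 204), (nat_lit 1), (nat_lit 1)), ((nat_lit 228), (nat_lit 205), (nat_lit 1), (nat_lit 1)), ((nat_lit 229), (nat_lit 207), (nat_lit 1), (nat_lit 1)), ((nat_lit 230), (nat_lit 210), (nat_lit 1), (nat_lit 1)), ((nat_lit 231), (nat_lit 214), (nat_lit 1), (nat_lit 1)), ((nat_lit 232), (nat_lit 219), (nat_lit 1), (nat_lit 1)), ((nat_lit 239), (nat_lit 225), (nat_lit 1), (nat_lit 1))]) (.leaf [((nat_lit 0), (nat_lit 28), (nat_lit 1), (nat_lit 1)), ((nat_lit 1), (nat_lit 29), (nat_lit 1), (nat_lit 1)), ((nat_lit 4), (nat_lit 35), (nat_lit 1), (nat_lit 1)), ((nat_lit 7), (nat_lit 51), (nat_lit 1), (nat_lit 1)), ((nat_lit 8), (nat_lit 61), (nat_lit 1), (nat_lit 1)), ((nat_lit 10),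 (nat_lit 68), (nat_lit 1), (nat_lit 1)), ((nat_lit 11), (nat_lit 69), (nat_lit 1), (nat_lit 1)), ((nat_lit 15), (nat_lit 83), (nat_lit 1), (nat_lit 1)), ((nat_lit 17), (nat_lit 90), (nat_lit 1), (nat_lit 1)), ((nat_lit 18), (nat_lit 91), (nat_lit 1), (nat_lit 1)), ((nat_lit 22), (nat_lit 95), (nat_lit 1), (nat_lit 1)), ((nat_lit 23), (nat_lit 96), (nat_lit 1), (nat_lit 1)), ((nat_lit 30), (nat_lit 98), (nat_lit 1), (nat_lit 1)), ((nat_lit 36), (nat_lit 112), (nat_lit 1), (nat_lit 1)), ((nat_lit 37), (nat_lit 113), (nat_lit 1), (nat_lit 1)), ((nat_lit 41), (nat_lit 121), (nat_lit 1), (nat_lit 1)), ((nat_lit 42), (nat_lit 122), (nat_lit 1), (nat_lit 1)), ((nat_lit 43), (nat_lit 124), (nat_lit 1), (nat_lit 1)), ((nat_lit 44), (nat_lit 125), (nat_lit 1), (nat_lit 1)), ((nat_lit 46), (nat_lit 130), (nat_lit 1), (nat_lit 1)), ((nat_lit 52), (nat_lit 133), (nat_lit 1), (nat_lit 1)), ((nat_lit 53), (nat_lit 134), (nat_lit 1), (nat_lit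 1)), ((nat_lit 56), (nat_lit 136), (nat_lit 1), (nat_lit 1)), ((nat_lit 62), (nat_lit 139), (nat_lit 1), (nat_lit 1)), ((nat_lit 63), (nat_lit 140), (nat_lit 1), (nat_lit 1)), ((nat_lit 71), (nat_lit 154), (nat_lit 1), (nat_lit 1)), ((nat_lit 72), (nat_lit 155), (nat_lit 1), (nat_lit 1)), ((nat_lit 75), (nat_lit 161), (nat_lit 1), (nat_lit 1)), ((nat_lit 78), (nat_lit 164), (nat_lit 1), (nat_lit 1)), ((nat_lit 84), (nat_lit 167), (nat_lit 1), (nat_lit 1)), ((nat_lit 85), (nat_lit 168), (nat_lit 1), (nat_lit 1)), ((nat_lit 99), (nat_lit 176), (nat_lit 1), (nat_lit 1)), ((nat_lit 100), (nat_lit 177), (nat_lit 1), (nat_lit 1)), ((nat_lit 103), (nat_lit 183), (nat_lit 1), (nat_lit 1)), ((nat_lit 105), (nat_lit 186), (nat_lit 1), (nat_lit 1)), ((nat_lit 106), (nat_lit 187), (nat_lit 1), (nat_lit 1)), ((nat_lit 109), (nat_lit 193), (nat_lit 1), (nat_lit 1)), ((nat_lit 114), (nat_lit 195), (nat_lit 1), (nat_lit 1)), ((nat_lit 115), (nat_lit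 196), (nat_lit 1), (nat_lit 1)), ((nat_lit 117), (nat_lit 197), (nat_lit 1), (nat_lit 1)), ((nat_lit 118), (nat_lit 198), (nat_lit 1), (nat_lit 1)), ((nat_lit 126), (nat_lit 202), (nat_lit 1), (nat_lit 1)), ((nat_lit 127), (nat_lit 203), (nat_lit 1), (nat_lit 1)), ((nat_lit 141), (nat_lit 209), (nat_lit 1), (nat_lit 1)), ((nat_lit 143), (nat_lit 216), (nat_lit 1), (nat_lit 1)), ((nat_lit 144), (nat_lit 217), (nat_lit 1), (nat_lit 1)), ((nat_lit 148), (nat_lit 221), (nat_lit 1), (nat_lit 1)), ((nat_lit 149), (nat_lit 222), (nat_lit 1), (nat_lit 1)), ((nat_lit 156), (nat_lit 224), (nat_lit 1), (nat_lit 1)), ((nat_lit 170), (nat_lit 228), (nat_lit 1), (nat_lit 1)), ((nat_lit 171), (nat_lit 229), (nat_lit 1), (nat_lit 1)), ((nat_lit 178), (nat_lit 231), (nat_lit 1), (nat_lit 1)), ((nat_lit 188), (nat_lit 232), (nat_lit 1), (nat_lit 1)), ((nat_lit 204), (nat_lit 235), (nat_lit 1), (nat_lit 1)), ((nat_lit 210), (nat_lit 238), (nat_lit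 1), (nat_lit 1)), ((nat_lit 211), (nat_lit 239), (nat_lit 1), (nat_lit 1))]))) (.node (.node (.leaf [((nat_lit 30), (nat_lit 1), (nat_lit 1), (nat_lit 1)), ((nat_lit 31), (nat_lit 2), (nat_lit 1), (nat_lit 1)), ((nat_lit 33), (nat_lit 3), (nat_lit 1), (nat_lit 1)), ((nat_lit 52), (nat_lit 7), (nat_lit 1), (nat_lit 1)), ((nat_lit 62), (nat_lit 8), (nat_lit 1), (nat_lit 1)), ((nat_lit 66), (nat_lit 9), (nat_lit 1), (nat_lit 1)), ((nat_lit 70), (nat_lit 13), (nat_lit 1), (nat_lit 1)), ((nat_lit 84), (nat_lit 15), (nat_lit 1), (nat_lit 1)), ((nat_lit 88), (nat_lit 16), (nat_lit 1), (nat_lit 1)), ((nat_lit 92), (nat_lit 20), (nat_lit 1), (nat_lit 1)), ((nat_lit 93), (nat_lit 21), (nat_lit 1), (nat_lit 1)), ((nat_lit 97), (nat_lit 25), (nat_lit 1), (nat_lit 1)), ((nat_lit 98), (nat_lit 29), (nat_lit 1), (nat_lit 1)), ((nat_lit 114), (nat_lit 36), (nat_lit 1), (nat_lit 1)), ((nat_lit 117), (nat_lit 37), (nat_lit 1), (nat_lit 1)), ((nat_lit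 119), (nat_lit 38), (nat_lit 1), (nat_lit 1)), ((nat_lit 126), (nat_lit 42), (nat_lit 1), (nat_lit 1)), ((nat_lit 127), (nat_lit 44), (nat_lit 1), (nat_lit 1)), ((nat_lit 128), (nat_lit 45), (nat_lit 1), (nat_lit 1)), ((nat_lit 131), (nat_lit 48), (nat_lit 1), (nat_lit 1)), ((nat_lit 132), (nat_lit 50), (nat_lit 1), (nat_lit 1)), ((nat_lit 133), (nat_lit 51), (nat_lit 1), (nat_lit 1)), ((nat_lit 137), (nat_lit 58), (nat_lit 1), (nat_lit 1)), ((nat_lit 138), (nat_lit 60), (nat_lit 1), (nat_lit 1)), ((nat_lit 139), (nat_lit 61), (nat_lit 1), (nat_lit 1)), ((nat_lit 156), (nat_lit 72), (nat_lit 1), (nat_lit 1)), ((nat_lit 157), (nat_lit 73), (nat_lit 1), (nat_lit 1)), ((nat_lit 159), (nat_lit 74), (nat_lit 1), (nat_lit 1)), ((nat_lit 165), (nat_lit 80), (nat_lit 1), (nat_lit 1)), ((nat_lit 166), (nat_lit 82), (nat_lit 1), (nat_lit 1)), ((nat_lit 167), (nat_lit 83), (nat_lit 1), (nat_lit 1)), ((nat_lit 178), (nat_lit 100), (nat_lit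 1), (nat_lit 1)), ((nat_lit 179), (nat_lit 101), (nat_lit 1), (nat_lit 1)), ((nat_lit 181), (nat_lit 102), (nat_lit 1), (nat_lit 1)), ((nat_lit 188), (nat_lit 106), (nat_lit 1), (nat_lit 1)), ((nat_lit 189), (nat_lit 107), (nat_lit 1), (nat_lit 1)), ((nat_lit 191), (nat_lit 108), (nat_lit 1), (nat_lit 1)), ((nat_lit 194), (nat_lit 111), (nat_lit 1), (nat_lit 1)), ((nat_lit 195), (nat_lit 112), (nat_lit 1), (nat_lit 1)), ((nat_lit 197), (nat_lit 113), (nat_lit 1), (nat_lit 1)), ((nat_lit 201), (nat_lit 120), (nat_lit 1), (nat_lit 1)), ((nat_lit 202), (nat_lit 122), (nat_lit 1), (nat_lit 1)), ((nat_lit 203), (nat_lit 125), (nat_lit 1), (nat_lit 1)), ((nat_lit 210), (nat_lit 141), (nat_lit 1), (nat_lit 1)), ((nat_lit 214), (nat_lit 142), (nat_lit 1), (nat_lit 1)), ((nat_lit 218), (nat_lit 146), (nat_lit 1), (nat_lit 1)), ((nat_lit 219), (nat_lit 147), (nat_lit 1), (nat_lit 1)), ((nat_lit 223), (nat_lit 151), (nat_lit 1), (nat_lit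 1)), ((nat_lit 224), (nat_lit 155), (nat_lit 1), (nat_lit 1)), ((nat_lit 226), (nat_lit 169), (nat_lit 1), (nat_lit 1)), ((nat_lit 230), (nat_lit 173), (nat_lit 1), (nat_lit 1)), ((nat_lit 231), (nat_lit 177), (nat_lit 1), (nat_lit 1)), ((nat_lit 232), (nat_lit 187), (nat_lit 1), (nat_lit 1)), ((nat_lit 236), (nat_lit 206), (nat_lit 1), (nat_lit 1)), ((nat_lit 237), (nat_lit 208), (nat_lit 1), (nat_lit 1)), ((nat_lit 238), (nat_lit 209), (nat_lit 1), (nat_lit 1))]) (.leaf [((nat_lit 1), (nat_lit 14), (nat_lit 1), (nat_lit 1)), ((nat_lit 7), (nat_lit 19), (nat_lit 1), (nat_lit 1)), ((nat_lit 8), (nat_lit 24), (nat_lit 1), (nat_lit 1)), ((nat_lit 9), (nat_lit 28), (nat_lit 1), (nat_lit 1)), ((nat_lit 10), (nat_lit 31), (nat_lit 1), (nat_lit 1)), ((nat_lit 11), (nat_lit 33), (nat_lit 1), (nat_lit 1)), ((nat_lit 13), (nat_lit 35), (nat_lit 1), (nat_lit 1)), ((nat_lit 36), (nat_lit 79), (nat_lit 1), (nat_lit 1)), ((nat_lit 37), (nat_lit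 81), (nat_lit 1), (nat_lit 1)), ((nat_lit 39), (nat_lit 83), (nat_lit 1), (nat_lit 1)), ((nat_lit 40), (nat_lit 84), (nat_lit 1), (nat_lit 1)), ((nat_lit 42), (nat_lit 86), (nat_lit 1), (nat_lit 1)), ((nat_lit 44), (nat_lit 87), (nat_lit 1), (nat_lit 1)), ((nat_lit 46), (nat_lit 88), (nat_lit 1), (nat_lit 1)), ((nat_lit 48), (nat_lit 90), (nat_lit 1), (nat_lit 1)), ((nat_lit 50), (nat_lit 91), (nat_lit 1), (nat_lit 1)), ((nat_lit 53), (nat_lit 92), (nat_lit 1), (nat_lit 1)), ((nat_lit 56), (nat_lit 93), (nat_lit 1), (nat_lit 1)), ((nat_lit 58), (nat_lit 95), (nat_lit 1), (nat_lit 1)), ((nat_lit 60), (nat_lit 96), (nat_lit 1), (nat_lit 1)), ((nat_lit 63), (nat_lit 97), (nat_lit 1), (nat_lit 1)), ((nat_lit 67), (nat_lit 98), (nat_lit 1), (nat_lit 1)), ((nat_lit 71), (nat_lit 119), (nat_lit 1), (nat_lit 1)), ((nat_lit 73), (nat_lit 121), (nat_lit 1), (nat_lit 1)), ((nat_lit 74), (nat_lit 124), (nat_lit 1), (nat_lit 1)), ((nat_lit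 75), (nat_lit 128), (nat_lit 1), (nat_lit 1)), ((nat_lit 76), (nat_lit 133), (nat_lit 1), (nat_lit 1)), ((nat_lit 77), (nat_lit 139), (nat_lit 1), (nat_lit 1)), ((nat_lit 100), (nat_lit 162), (nat_lit 1), (nat_lit 1)), ((nat_lit 106), (nat_lit 163), (nat_lit 1), (nat_lit 1)), ((nat_lit 111), (nat_lit 164), (nat_lit 1), (nat_lit 1)), ((nat_lit 115), (nat_lit 165), (nat_lit 1), (nat_lit 1)), ((nat_lit 118), (nat_lit 166), (nat_lit 1), (nat_lit 1)), ((nat_lit 120), (nat_lit 168), (nat_lit 1), (nat_lit 1)), ((nat_lit 141), (nat_lit 172), (nat_lit 1), (nat_lit 1)), ((nat_lit 142), (nat_lit 176), (nat_lit 1), (nat_lit 1)), ((nat_lit 143), (nat_lit 179), (nat_lit 1), (nat_lit 1)), ((nat_lit 144), (nat_lit 181), (nat_lit 1), (nat_lit 1)), ((nat_lit 146), (nat_lit 183), (nat_lit 1), (nat_lit 1)), ((nat_lit 147), (nat_lit 186), (nat_lit 1), (nat_lit 1)), ((nat_lit 148), (nat_lit 189), (nat_lit 1), (nat_lit 1)), ((nat_lit 149), (nat_lit 191),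 (nat_lit 1), (nat_lit 1)), ((nat_lit 151), (nat_lit 193), (nat_lit 1), (nat_lit 1)), ((nat_lit 152), (nat_lit 195), (nat_lit 1), (nat_lit 1)), ((nat_lit 153), (nat_lit 197), (nat_lit 1), (nat_lit 1)), ((nat_lit 155), (nat_lit 199), (nat_lit 1), (nat_lit 1)), ((nat_lit 156), (nat_lit 200), (nat_lit 1), (nat_lit 1)), ((nat_lit 158), (nat_lit 202), (nat_lit 1), (nat_lit 1)), ((nat_lit 160), (nat_lit 203), (nat_lit 1), (nat_lit 1)), ((nat_lit 204), (nat_lit 226), (nat_lit 1), (nat_lit 1)), ((nat_lit 206), (nat_lit 228), (nat_lit 1), (nat_lit 1)), ((nat_lit 208), (nat_lit 229), (nat_lit 1), (nat_lit 1)), ((nat_lit 211), (nat_lit 230), (nat_lit 1), (nat_lit 1)), ((nat_lit 215), (nat_lit 231), (nat_lit 1), (nat_lit 1)), ((nat_lit 220), (nat_lit 232), (nat_lit 1), (nat_lit 1)), ((nat_lit 225), (nat_lit 238), (nat_lit 1), (nat_lit 1))])) (.node (.leaf [((nat_lit 6), (nat_lit 4), (nat_lit 1), (nat_lit 1)), ((nat_lit 9), (nat_lit 7), (nat_lit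 1), (nat_lit 1)), ((nat_lit 21), (nat_lit 15), (nat_lit 1), (nat_lit 1)), ((nat_lit 26), (nat_lit 17), (nat_lit 1), (nat_lit 1)), ((nat_lit 27), (nat_lit 18), (nat_lit 1), (nat_lit 1)), ((nat_lit 28), (nat_lit 19), (nat_lit 1), (nat_lit 1)), ((nat_lit 29), (nat_lit 20), (nat_lit 1), (nat_lit 1)), ((nat_lit 56), (nat_lit 40), (nat_lit 1), (nat_lit 1)), ((nat_lit 57), (nat_lit 41), (nat_lit 1), (nat_lit 1)), ((nat_lit 58), (nat_lit 42), (nat_lit 1), (nat_lit 1)), ((nat_lit 59), (nat_lit 43), (nat_lit 1), (nat_lit 1)), ((nat_lit 60), (nat_lit 44), (nat_lit 1), (nat_lit 1)), ((nat_lit 61), (nat_lit 45), (nat_lit 1), (nat_lit 1)), ((nat_lit 66), (nat_lit 52), (nat_lit 1), (nat_lit 1)), ((nat_lit 67), (nat_lit 53), (nat_lit 1), (nat_lit 1)), ((nat_lit 68), (nat_lit 54), (nat_lit 1), (nat_lit 1)), ((nat_lit 69), (nat_lit 55), (nat_lit 1), (nat_lit 1)), ((nat_lit 77), (nat_lit 75), (nat_lit 1), (nat_lit 1)), ((nat_lit 93), (nat_lit 84),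 (nat_lit 1), (nat_lit 1)), ((nat_lit 94), (nat_lit 85), (nat_lit 1), (nat_lit 1)), ((nat_lit 95), (nat_lit 86), (nat_lit 1), (nat_lit 1)), ((nat_lit 96), (nat_lit 87), (nat_lit 1), (nat_lit 1)), ((nat_lit 98), (nat_lit 92), (nat_lit 1), (nat_lit 1)), ((nat_lit 110), (nat_lit 99), (nat_lit 1), (nat_lit 1)), ((nat_lit 111), (nat_lit 100), (nat_lit 1), (nat_lit 1)), ((nat_lit 112), (nat_lit 101), (nat_lit 1), (nat_lit 1)), ((nat_lit 113), (nat_lit 102), (nat_lit 1), (nat_lit 1)), ((nat_lit 130), (nat_lit 104), (nat_lit 1), (nat_lit 1)), ((nat_lit 135), (nat_lit 109), (nat_lit 1), (nat_lit 1)), ((nat_lit 137), (nat_lit 126), (nat_lit 1), (nat_lit 1)), ((nat_lit 138), (nat_lit 127), (nat_lit 1), (nat_lit 1)), ((nat_lit 139), (nat_lit 128), (nat_lit 1), (nat_lit 1)), ((nat_lit 140), (nat_lit 129), (nat_lit 1), (nat_lit 1)), ((nat_lit 147), (nat_lit 141), (nat_lit 1), (nat_lit 1)), ((nat_lit 152), (nat_lit 143), (nat_lit 1), (nat_lit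 1)), ((nat_lit 153), (nat_lit 144), (nat_lit 1), (nat_lit 1)), ((nat_lit 154), (nat_lit 145), (nat_lit 1), (nat_lit 1)), ((nat_lit 155), (nat_lit 146), (nat_lit 1), (nat_lit 1)), ((nat_lit 164), (nat_lit 162), (nat_lit 1), (nat_lit 1)), ((nat_lit 184), (nat_lit 170), (nat_lit 1), (nat_lit 1)), ((nat_lit 185), (nat_lit 171), (nat_lit 1), (nat_lit 1)), ((nat_lit 186), (nat_lit 172), (nat_lit 1), (nat_lit 1)), ((nat_lit 187), (nat_lit 173), (nat_lit 1), (nat_lit 1)), ((nat_lit 194), (nat_lit 178), (nat_lit 1), (nat_lit 1)), ((nat_lit 195), (nat_lit 179), (nat_lit 1), (nat_lit 1)), ((nat_lit 196), (nat_lit 180), (nat_lit 1), (nat_lit 1)), ((nat_lit 197), (nat_lit 181), (nat_lit 1), (nat_lit 1)), ((nat_lit 198), (nat_lit 182), (nat_lit 1), (nat_lit 1)), ((nat_lit 199), (nat_lit 183), (nat_lit 1), (nat_lit 1)), ((nat_lit 219), (nat_lit 210), (nat_lit 1), (nat_lit 1)), ((nat_lit 220), (nat_lit 211), (nat_lit 1), (nat_lit 1)), ((nat_lit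 221), (nat_lit 212), (nat_lit 1), (nat_lit 1)), ((nat_lit 222), (nat_lit 213), (nat_lit 1), (nat_lit 1)), ((nat_lit 224), (nat_lit 218), (nat_lit 1), (nat_lit 1)), ((nat_lit 232), (nat_lit 230), (nat_lit 1), (nat_lit 1)), ((nat_lit 235), (nat_lit 233), (nat_lit 1), (nat_lit 1))]) (.leaf [((nat_lit 0), (nat_lit 88), (nat_lit 1), (nat_lit 1)), ((nat_lit 1), (nat_lit 89), (nat_lit 1), (nat_lit 1)), ((nat_lit 2), (nat_lit 90), (nat_lit 1), (nat_lit 1)), ((nat_lit 3), (nat_lit 91), (nat_lit 1), (nat_lit 1)), ((nat_lit 4), (nat_lit 92), (nat_lit 1), (nat_lit 1)), ((nat_lit 6), (nat_lit 98), (nat_lit 1), (nat_lit 1)), ((nat_lit 7), (nat_lit 104), (nat_lit 1), (nat_lit 1)), ((nat_lit 9), (nat_lit 130), (nat_lit 1), (nat_lit 1)), ((nat_lit 10), (nat_lit 131), (nat_lit 1), (nat_lit 1)), ((nat_lit 11), (nat_lit 132), (nat_lit 1), (nat_lit 1)), ((nat_lit 12), (nat_lit 133), (nat_lit 1), (nat_lit 1)), ((nat_lit 13), (nat_lit 134), (nat_lit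 1), (nat_lit 1)), ((nat_lit 15), (nat_lit 162), (nat_lit 1), (nat_lit 1)), ((nat_lit 21), (nat_lit 164), (nat_lit 1), (nat_lit 1)), ((nat_lit 22), (nat_lit 165), (nat_lit 1), (nat_lit 1)), ((nat_lit 23), (nat_lit 166), (nat_lit 1), (nat_lit 1)), ((nat_lit 24), (nat_lit 167), (nat_lit 1), (nat_lit 1)), ((nat_lit 25), (nat_lit 168), (nat_lit 1), (nat_lit 1)), ((nat_lit 36), (nat_lit 174), (nat_lit 1), (nat_lit 1)), ((nat_lit 37), (nat_lit 175), (nat_lit 1), (nat_lit 1)), ((nat_lit 38), (nat_lit 176), (nat_lit 1), (nat_lit 1)), ((nat_lit 39), (nat_lit 177), (nat_lit 1), (nat_lit 1)), ((nat_lit 40), (nat_lit 178), (nat_lit 1), (nat_lit 1)), ((nat_lit 41), (nat_lit 179), (nat_lit 1), (nat_lit 1)), ((nat_lit 42), (nat_lit 180), (nat_lit 1), (nat_lit 1)), ((nat_lit 43), (nat_lit 181), (nat_lit 1), (nat_lit 1)), ((nat_lit 44), (nat_lit 182), (nat_lit 1), (nat_lit 1)), ((nat_lit 45), (nat_lit 183), (nat_lit 1), (nat_lit 1)), ((nat_lit 56),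 (nat_lit 194), (nat_lit 1), (nat_lit 1)), ((nat_lit 57), (nat_lit 195), (nat_lit 1), (nat_lit 1)), ((nat_lit 58), (nat_lit 196), (nat_lit 1), (nat_lit 1)), ((nat_lit 59), (nat_lit 197), (nat_lit 1), (nat_lit 1)), ((nat_lit 60), (nat_lit 198), (nat_lit 1), (nat_lit 1)), ((nat_lit 61), (nat_lit 199), (nat_lit 1), (nat_lit 1)), ((nat_lit 62), (nat_lit 200), (nat_lit 1), (nat_lit 1)), ((nat_lit 63), (nat_lit 201), (nat_lit 1), (nat_lit 1)), ((nat_lit 64), (nat_lit 202), (nat_lit 1), (nat_lit 1)), ((nat_lit 65), (nat_lit 203), (nat_lit 1), (nat_lit 1)), ((nat_lit 71), (nat_lit 214), (nat_lit 1), (nat_lit 1)), ((nat_lit 72), (nat_lit 215), (nat_lit 1), (nat_lit 1)), ((nat_lit 73), (nat_lit 216), (nat_lit 1), (nat_lit 1)), ((nat_lit 74), (nat_lit 217), (nat_lit 1), (nat_lit 1)), ((nat_lit 75), (nat_lit 218), (nat_lit 1), (nat_lit 1)), ((nat_lit 77), (nat_lit 224), (nat_lit 1), (nat_lit 1)), ((nat_lit 105), (nat_lit 226), (nat_lit 1),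 (nat_lit 1)), ((nat_lit 106), (nat_lit 227), (nat_lit 1), (nat_lit 1)), ((nat_lit 107), (nat_lit 228), (nat_lit 1), (nat_lit 1)), ((nat_lit 108), (nat_lit 229), (nat_lit 1), (nat_lit 1)), ((nat_lit 109), (nat_lit 230), (nat_lit 1), (nat_lit 1)), ((nat_lit 135), (nat_lit 232), (nat_lit 1), (nat_lit 1)), ((nat_lit 141), (nat_lit 233), (nat_lit 1), (nat_lit 1)), ((nat_lit 147), (nat_lit 235), (nat_lit 1), (nat_lit 1)), ((nat_lit 148), (nat_lit 236), (nat_lit 1), (nat_lit 1)), ((nat_lit 149), (nat_lit 237), (nat_lit 1), (nat_lit 1)), ((nat_lit 150), (nat_lit 238), (nat_lit 1), (nat_lit 1)), ((nat_lit 151), (nat_lit 239), (nat_lit 1), (nat_lit 1))])))) (.node (.node (.node (.leaf [((nat_lit 47), (nat_lit 0), (nat_lit 1), (nat_lit 1)), ((nat_lit 48), (nat_lit 1), (nat_lit 1), (nat_lit 1)), ((nat_lit 51), (nat_lit 3), (nat_lit 1), (nat_lit 1)), ((nat_lit 54), (nat_lit 4), (nat_lit 1), (nat_lit 1)), ((nat_lit 68), (nat_lit 6), (nat_lit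 1), (nat_lit 1)), ((nat_lit 73), (nat_lit 8), (nat_lit 1), (nat_lit 1)), ((nat_lit 76), (nat_lit 11), (nat_lit 1), (nat_lit 1)), ((nat_lit 90), (nat_lit 14), (nat_lit 1), (nat_lit 1)), ((nat_lit 101), (nat_lit 15), (nat_lit 1), (nat_lit 1)), ((nat_lit 104), (nat_lit 18), (nat_lit 1), (nat_lit 1)), ((nat_lit 112), (nat_lit 21), (nat_lit 1), (nat_lit 1)), ((nat_lit 116), (nat_lit 22), (nat_lit 1), (nat_lit 1)), ((nat_lit 121), (nat_lit 24), (nat_lit 1), (nat_lit 1)), ((nat_lit 122), (nat_lit 25), (nat_lit 1), (nat_lit 1)), ((nat_lit 130), (nat_lit 27), (nat_lit 1), (nat_lit 1)), ((nat_lit 131), (nat_lit 30), (nat_lit 1), (nat_lit 1)), ((nat_lit 133), (nat_lit 33), (nat_lit 1), (nat_lit 1)), ((nat_lit 134), (nat_lit 34), (nat_lit 1), (nat_lit 1)), ((nat_lit 142), (nat_lit 37), (nat_lit 1), (nat_lit 1)), ((nat_lit 143), (nat_lit 40), (nat_lit 1), (nat_lit 1)), ((nat_lit 145), (nat_lit 43), (nat_lit 1), (nat_lit 1)), ((nat_lit 146),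 (nat_lit 44), (nat_lit 1), (nat_lit 1)), ((nat_lit 152), (nat_lit 56), (nat_lit 1), (nat_lit 1)), ((nat_lit 154), (nat_lit 59), (nat_lit 1), (nat_lit 1)), ((nat_lit 155), (nat_lit 60), (nat_lit 1), (nat_lit 1)), ((nat_lit 157), (nat_lit 62), (nat_lit 1), (nat_lit 1)), ((nat_lit 158), (nat_lit 63), (nat_lit 1), (nat_lit 1)), ((nat_lit 161), (nat_lit 65), (nat_lit 1), (nat_lit 1)), ((nat_lit 174), (nat_lit 78), (nat_lit 1), (nat_lit 1)), ((nat_lit 176), (nat_lit 81), (nat_lit 1), (nat_lit 1)), ((nat_lit 177), (nat_lit 82), (nat_lit 1), (nat_lit 1)), ((nat_lit 179), (nat_lit 84), (nat_lit 1), (nat_lit 1)), ((nat_lit 180), (nat_lit 85), (nat_lit 1), (nat_lit 1)), ((nat_lit 183), (nat_lit 87), (nat_lit 1), (nat_lit 1)), ((nat_lit 195), (nat_lit 93), (nat_lit 1), (nat_lit 1)), ((nat_lit 196), (nat_lit 94), (nat_lit 1), (nat_lit 1)), ((nat_lit 199), (nat_lit 96), (nat_lit 1), (nat_lit 1)), ((nat_lit 202), (nat_lit 97), (nat_lit 1), (nat_lit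 1)), ((nat_lit 205), (nat_lit 105), (nat_lit 1), (nat_lit 1)), ((nat_lit 206), (nat_lit 106), (nat_lit 1), (nat_lit 1)), ((nat_lit 209), (nat_lit 108), (nat_lit 1), (nat_lit 1)), ((nat_lit 212), (nat_lit 109), (nat_lit 1), (nat_lit 1)), ((nat_lit 214), (nat_lit 117), (nat_lit 1), (nat_lit 1)), ((nat_lit 215), (nat_lit 118), (nat_lit 1), (nat_lit 1)), ((nat_lit 217), (nat_lit 123), (nat_lit 1), (nat_lit 1)), ((nat_lit 218), (nat_lit 127), (nat_lit 1), (nat_lit 1)), ((nat_lit 221), (nat_lit 135), (nat_lit 1), (nat_lit 1)), ((nat_lit 224), (nat_lit 138), (nat_lit 1), (nat_lit 1)), ((nat_lit 225), (nat_lit 149), (nat_lit 1), (nat_lit 1)), ((nat_lit 228), (nat_lit 163), (nat_lit 1), (nat_lit 1)), ((nat_lit 231), (nat_lit 166), (nat_lit 1), (nat_lit 1)), ((nat_lit 233), (nat_lit 171), (nat_lit 1), (nat_lit 1)), ((nat_lit 235), (nat_lit 185), (nat_lit 1), (nat_lit 1)), ((nat_lit 236), (nat_lit 188), (nat_lit 1), (nat_lit 1)), ((nat_lit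 238), (nat_lit 191), (nat_lit 1), (nat_lit 1)), ((nat_lit 239), (nat_lit 192), (nat_lit 1), (nat_lit 1))]) (.leaf [((nat_lit 0), (nat_lit 8), (nat_lit 1), (nat_lit 1)), ((nat_lit 5), (nat_lit 13), (nat_lit 1), (nat_lit 1)), ((nat_lit 14), (nat_lit 25), (nat_lit 1), (nat_lit 1)), ((nat_lit 16), (nat_lit 39), (nat_lit 1), (nat_lit 1)), ((nat_lit 17), (nat_lit 42), (nat_lit 1), (nat_lit 1)), ((nat_lit 18), (nat_lit 44), (nat_lit 1), (nat_lit 1)), ((nat_lit 19), (nat_lit 45), (nat_lit 1), (nat_lit 1)), ((nat_lit 26), (nat_lit 58), (nat_lit 1), (nat_lit 1)), ((nat_lit 27), (nat_lit 60), (nat_lit 1), (nat_lit 1)), ((nat_lit 28), (nat_lit 61), (nat_lit 1), (nat_lit 1)), ((nat_lit 30), (nat_lit 63), (nat_lit 1), (nat_lit 1)), ((nat_lit 31), (nat_lit 64), (nat_lit 1), (nat_lit 1)), ((nat_lit 33), (nat_lit 65), (nat_lit 1), (nat_lit 1)), ((nat_lit 46), (nat_lit 72), (nat_lit 1), (nat_lit 1)), ((nat_lit 47), (nat_lit 73), (nat_lit 1), (nat_lit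 1)), ((nat_lit 49), (nat_lit 74), (nat_lit 1), (nat_lit 1)), ((nat_lit 52), (nat_lit 75), (nat_lit 1), (nat_lit 1)), ((nat_lit 66), (nat_lit 77), (nat_lit 1), (nat_lit 1)), ((nat_lit 78), (nat_lit 106), (nat_lit 1), (nat_lit 1)), ((nat_lit 79), (nat_lit 107), (nat_lit 1), (nat_lit 1)), ((nat_lit 81), (nat_lit 108), (nat_lit 1), (nat_lit 1)), ((nat_lit 84), (nat_lit 109), (nat_lit 1), (nat_lit 1)), ((nat_lit 89), (nat_lit 120), (nat_lit 1), (nat_lit 1)), ((nat_lit 90), (nat_lit 122), (nat_lit 1), (nat_lit 1)), ((nat_lit 91), (nat_lit 125), (nat_lit 1), (nat_lit 1)), ((nat_lit 92), (nat_lit 129), (nat_lit 1), (nat_lit 1)), ((nat_lit 93), (nat_lit 135), (nat_lit 1), (nat_lit 1)), ((nat_lit 98), (nat_lit 140), (nat_lit 1), (nat_lit 1)), ((nat_lit 99), (nat_lit 141), (nat_lit 1), (nat_lit 1)), ((nat_lit 104), (nat_lit 146), (nat_lit 1), (nat_lit 1)), ((nat_lit 110), (nat_lit 147), (nat_lit 1), (nat_lit 1)), ((nat_lit 114), (nat_lit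 148), (nat_lit 1), (nat_lit 1)), ((nat_lit 117), (nat_lit 149), (nat_lit 1), (nat_lit 1)), ((nat_lit 119), (nat_lit 150), (nat_lit 1), (nat_lit 1)), ((nat_lit 130), (nat_lit 155), (nat_lit 1), (nat_lit 1)), ((nat_lit 131), (nat_lit 158), (nat_lit 1), (nat_lit 1)), ((nat_lit 132), (nat_lit 160), (nat_lit 1), (nat_lit 1)), ((nat_lit 133), (nat_lit 161), (nat_lit 1), (nat_lit 1)), ((nat_lit 162), (nat_lit 173), (nat_lit 1), (nat_lit 1)), ((nat_lit 164), (nat_lit 187), (nat_lit 1), (nat_lit 1)), ((nat_lit 165), (nat_lit 190), (nat_lit 1), (nat_lit 1)), ((nat_lit 166), (nat_lit 192), (nat_lit 1), (nat_lit 1)), ((nat_lit 167), (nat_lit 193), (nat_lit 1), (nat_lit 1)), ((nat_lit 174), (nat_lit 206), (nat_lit 1), (nat_lit 1)), ((nat_lit 175), (nat_lit 208), (nat_lit 1), (nat_lit 1)), ((nat_lit 176), (nat_lit 209), (nat_lit 1), (nat_lit 1)), ((nat_lit 178), (nat_lit 211), (nat_lit 1), (nat_lit 1)), ((nat_lit 179), (nat_lit 212), (nat_lit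 1), (nat_lit 1)), ((nat_lit 181), (nat_lit 213), (nat_lit 1), (nat_lit 1)), ((nat_lit 194), (nat_lit 220), (nat_lit 1), (nat_lit 1)), ((nat_lit 195), (nat_lit 221), (nat_lit 1), (nat_lit 1)), ((nat_lit 197), (nat_lit 222), (nat_lit 1), (nat_lit 1)), ((nat_lit 200), (nat_lit 223), (nat_lit 1), (nat_lit 1)), ((nat_lit 214), (nat_lit 225), (nat_lit 1), (nat_lit 1)), ((nat_lit 226), (nat_lit 234), (nat_lit 1), (nat_lit 1)), ((nat_lit 231), (nat_lit 239), (nat_lit 1), (nat_lit 1))])) (.node (.leaf [((nat_lit 9), (nat_lit 3), (nat_lit 1), (nat_lit 1)), ((nat_lit 10), (nat_lit 4), (nat_lit 1), (nat_lit 1)), ((nat_lit 26), (nat_lit 14), (nat_lit 1), (nat_lit 1)), ((nat_lit 36), (nat_lit 15), (nat_lit 1), (nat_lit 1)), ((nat_lit 46), (nat_lit 18), (nat_lit 1), (nat_lit 1)), ((nat_lit 47), (nat_lit 19), (nat_lit 1), (nat_lit 1)), ((nat_lit 48), (nat_lit 20), (nat_lit 1), (nat_lit 1)), ((nat_lit 56), (nat_lit 23), (nat_lit 1), (nat_lit 1)),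 ((nat_lit 57), (nat_lit 24), (nat_lit 1), (nat_lit 1)), ((nat_lit 58), (nat_lit 25), (nat_lit 1), (nat_lit 1)), ((nat_lit 66), (nat_lit 33), (nat_lit 1), (nat_lit 1)), ((nat_lit 67), (nat_lit 34), (nat_lit 1), (nat_lit 1)), ((nat_lit 68), (nat_lit 35), (nat_lit 1), (nat_lit 1)), ((nat_lit 71), (nat_lit 43), (nat_lit 1), (nat_lit 1)), ((nat_lit 72), (nat_lit 44), (nat_lit 1), (nat_lit 1)), ((nat_lit 73), (nat_lit 45), (nat_lit 1), (nat_lit 1)), ((nat_lit 76), (nat_lit 55), (nat_lit 1), (nat_lit 1)), ((nat_lit 77), (nat_lit 65), (nat_lit 1), (nat_lit 1)), ((nat_lit 110), (nat_lit 81), (nat_lit 1), (nat_lit 1)), ((nat_lit 111), (nat_lit 82), (nat_lit 1), (nat_lit 1)), ((nat_lit 112), (nat_lit 83), (nat_lit 1), (nat_lit 1)), ((nat_lit 114), (nat_lit 84), (nat_lit 1), (nat_lit 1)), ((nat_lit 115), (nat_lit 85), (nat_lit 1), (nat_lit 1)), ((nat_lit 116), (nat_lit 86), (nat_lit 1), (nat_lit 1)), ((nat_lit 130), (nat_lit 91), (nat_lit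 1), (nat_lit 1)), ((nat_lit 131), (nat_lit 92), (nat_lit 1), (nat_lit 1)), ((nat_lit 136), (nat_lit 96), (nat_lit 1), (nat_lit 1)), ((nat_lit 137), (nat_lit 97), (nat_lit 1), (nat_lit 1)), ((nat_lit 142), (nat_lit 102), (nat_lit 1), (nat_lit 1)), ((nat_lit 143), (nat_lit 103), (nat_lit 1), (nat_lit 1)), ((nat_lit 147), (nat_lit 108), (nat_lit 1), (nat_lit 1)), ((nat_lit 148), (nat_lit 109), (nat_lit 1), (nat_lit 1)), ((nat_lit 153), (nat_lit 123), (nat_lit 1), (nat_lit 1)), ((nat_lit 154), (nat_lit 124), (nat_lit 1), (nat_lit 1)), ((nat_lit 155), (nat_lit 125), (nat_lit 1), (nat_lit 1)), ((nat_lit 156), (nat_lit 127), (nat_lit 1), (nat_lit 1)), ((nat_lit 157), (nat_lit 128), (nat_lit 1), (nat_lit 1)), ((nat_lit 158), (nat_lit 129), (nat_lit 1), (nat_lit 1)), ((nat_lit 174), (nat_lit 162), (nat_lit 1), (nat_lit 1)), ((nat_lit 184), (nat_lit 163), (nat_lit 1), (nat_lit 1)), ((nat_lit 194), (nat_lit 166), (nat_lit 1), (nat_lit 1)),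 ((nat_lit 195), (nat_lit 167), (nat_lit 1), (nat_lit 1)), ((nat_lit 196), (nat_lit 168), (nat_lit 1), (nat_lit 1)), ((nat_lit 204), (nat_lit 171), (nat_lit 1), (nat_lit 1)), ((nat_lit 205), (nat_lit 172), (nat_lit 1), (nat_lit 1)), ((nat_lit 206), (nat_lit 173), (nat_lit 1), (nat_lit 1)), ((nat_lit 214), (nat_lit 181), (nat_lit 1), (nat_lit 1)), ((nat_lit 215), (nat_lit 182), (nat_lit 1), (nat_lit 1)), ((nat_lit 216), (nat_lit 183), (nat_lit 1), (nat_lit 1)), ((nat_lit 219), (nat_lit 191), (nat_lit 1), (nat_lit 1)), ((nat_lit 220), (nat_lit 192), (nat_lit 1), (nat_lit 1)), ((nat_lit 221), (nat_lit 193), (nat_lit 1), (nat_lit 1)), ((nat_lit 224), (nat_lit 203), (nat_lit 1), (nat_lit 1)), ((nat_lit 225), (nat_lit 213), (nat_lit 1), (nat_lit 1)), ((nat_lit 235), (nat_lit 229), (nat_lit 1), (nat_lit 1)), ((nat_lit 236), (nat_lit 230), (nat_lit 1), (nat_lit 1))]) (.leaf [((nat_lit 0), (nat_lit 46), (nat_lit 1), (nat_lit 1)), ((nat_lit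 2), (nat_lit 48), (nat_lit 1), (nat_lit 1)), ((nat_lit 3), (nat_lit 50), (nat_lit 1), (nat_lit 1)), ((nat_lit 4), (nat_lit 53), (nat_lit 1), (nat_lit 1)), ((nat_lit 6), (nat_lit 67), (nat_lit 1), (nat_lit 1)), ((nat_lit 8), (nat_lit 72), (nat_lit 1), (nat_lit 1)), ((nat_lit 12), (nat_lit 76), (nat_lit 1), (nat_lit 1)), ((nat_lit 14), (nat_lit 89), (nat_lit 1), (nat_lit 1)), ((nat_lit 15), (nat_lit 100), (nat_lit 1), (nat_lit 1)), ((nat_lit 19), (nat_lit 104), (nat_lit 1), (nat_lit 1)), ((nat_lit 21), (nat_lit 111), (nat_lit 1), (nat_lit 1)), ((nat_lit 22), (nat_lit 115), (nat_lit 1), (nat_lit 1)), ((nat_lit 23), (nat_lit 118), (nat_lit 1), (nat_lit 1)), ((nat_lit 25), (nat_lit 120), (nat_lit 1), (nat_lit 1)), ((nat_lit 28), (nat_lit 130), (nat_lit 1), (nat_lit 1)), ((nat_lit 31), (nat_lit 131), (nat_lit 1), (nat_lit 1)), ((nat_lit 33), (nat_lit 132), (nat_lit 1), (nat_lit 1)), ((nat_lit 35), (nat_lit 134), (nat_lit 1), (nat_lit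 1)), ((nat_lit 38), (nat_lit 142), (nat_lit 1), (nat_lit 1)), ((nat_lit 41), (nat_lit 143), (nat_lit 1), (nat_lit 1)), ((nat_lit 43), (nat_lit 144), (nat_lit 1), (nat_lit 1)), ((nat_lit 45), (nat_lit 146), (nat_lit 1), (nat_lit 1)), ((nat_lit 57), (nat_lit 152), (nat_lit 1), (nat_lit 1)), ((nat_lit 59), (nat_lit 153), (nat_lit 1), (nat_lit 1)), ((nat_lit 61), (nat_lit 155), (nat_lit 1), (nat_lit 1)), ((nat_lit 62), (nat_lit 156), (nat_lit 1), (nat_lit 1)), ((nat_lit 64), (nat_lit 158), (nat_lit 1), (nat_lit 1)), ((nat_lit 65), (nat_lit 160), (nat_lit 1), (nat_lit 1)), ((nat_lit 79), (nat_lit 174), (nat_lit 1), (nat_lit 1)), ((nat_lit 81), (nat_lit 175), (nat_lit 1), (nat_lit 1)), ((nat_lit 83), (nat_lit 177), (nat_lit 1), (nat_lit 1)), ((nat_lit 84), (nat_lit 178), (nat_lit 1), (nat_lit 1)), ((nat_lit 86), (nat_lit 180), (nat_lit 1), (nat_lit 1)), ((nat_lit 87), (nat_lit 182), (nat_lit 1), (nat_lit 1)), ((nat_lit 93), (nat_lit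 194), (nat_lit 1), (nat_lit 1)), ((nat_lit 95), (nat_lit 196), (nat_lit 1), (nat_lit 1)), ((nat_lit 96), (nat_lit 198), (nat_lit 1), (nat_lit 1)), ((nat_lit 97), (nat_lit 201), (nat_lit 1), (nat_lit 1)), ((nat_lit 105), (nat_lit 204), (nat_lit 1), (nat_lit 1)), ((nat_lit 107), (nat_lit 206), (nat_lit 1), (nat_lit 1)), ((nat_lit 108), (nat_lit 208), (nat_lit 1), (nat_lit 1)), ((nat_lit 109), (nat_lit 211), (nat_lit 1), (nat_lit 1)), ((nat_lit 119), (nat_lit 214), (nat_lit 1), (nat_lit 1)), ((nat_lit 121), (nat_lit 216), (nat_lit 1), (nat_lit 1)), ((nat_lit 124), (nat_lit 217), (nat_lit 1), (nat_lit 1)), ((nat_lit 128), (nat_lit 218), (nat_lit 1), (nat_lit 1)), ((nat_lit 135), (nat_lit 220), (nat_lit 1), (nat_lit 1)), ((nat_lit 139), (nat_lit 224), (nat_lit 1), (nat_lit 1)), ((nat_lit 150), (nat_lit 225), (nat_lit 1), (nat_lit 1)), ((nat_lit 163), (nat_lit 227), (nat_lit 1), (nat_lit 1)), ((nat_lit 167), (nat_lit 231), (nat_lit 1),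 (nat_lit 1)), ((nat_lit 172), (nat_lit 233), (nat_lit 1), (nat_lit 1)), ((nat_lit 186), (nat_lit 235), (nat_lit 1), (nat_lit 1)), ((nat_lit 189), (nat_lit 236), (nat_lit 1), (nat_lit 1)), ((nat_lit 191), (nat_lit 237), (nat_lit 1), (nat_lit 1)), ((nat_lit 193), (nat_lit 239), (nat_lit 1), (nat_lit 1))]))) (.node (.node (.leaf [((nat_lit 21), (nat_lit 3), (nat_lit 1), (nat_lit 1)), ((nat_lit 22), (nat_lit 4), (nat_lit 1), (nat_lit 1)), ((nat_lit 26), (nat_lit 5), (nat_lit 1), (nat_lit 1)), ((nat_lit 36), (nat_lit 7), (nat_lit 1), (nat_lit 1)), ((nat_lit 56), (nat_lit 11), (nat_lit 1), (nat_lit 1)), ((nat_lit 57), (nat_lit 12), (nat_lit 1), (nat_lit 1)), ((nat_lit 58), (nat_lit 13), (nat_lit 1), (nat_lit 1)), ((nat_lit 78), (nat_lit 18), (nat_lit 1), (nat_lit 1)), ((nat_lit 79), (nat_lit 19), (nat_lit 1), (nat_lit 1)), ((nat_lit 80), (nat_lit 20), (nat_lit 1), (nat_lit 1)), ((nat_lit 93), (nat_lit 33), (nat_lit 1), (nat_lit 1)),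 ((nat_lit 94), (nat_lit 34), (nat_lit 1), (nat_lit 1)), ((nat_lit 95), (nat_lit 35), (nat_lit 1), (nat_lit 1)), ((nat_lit 105), (nat_lit 43), (nat_lit 1), (nat_lit 1)), ((nat_lit 106), (nat_lit 44), (nat_lit 1), (nat_lit 1)), ((nat_lit 107), (nat_lit 45), (nat_lit 1), (nat_lit 1)), ((nat_lit 110), (nat_lit 49), (nat_lit 1), (nat_lit 1)), ((nat_lit 111), (nat_lit 50), (nat_lit 1), (nat_lit 1)), ((nat_lit 112), (nat_lit 51), (nat_lit 1), (nat_lit 1)), ((nat_lit 114), (nat_lit 52), (nat_lit 1), (nat_lit 1)), ((nat_lit 115), (nat_lit 53), (nat_lit 1), (nat_lit 1)), ((nat_lit 116), (nat_lit 54), (nat_lit 1), (nat_lit 1)), ((nat_lit 135), (nat_lit 65), (nat_lit 1), (nat_lit 1)), ((nat_lit 136), (nat_lit 69), (nat_lit 1), (nat_lit 1)), ((nat_lit 137), (nat_lit 70), (nat_lit 1), (nat_lit 1)), ((nat_lit 147), (nat_lit 74), (nat_lit 1), (nat_lit 1)), ((nat_lit 148), (nat_lit 75), (nat_lit 1), (nat_lit 1)), ((nat_lit 152), (nat_lit 76), (nat_lit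 1), (nat_lit 1)), ((nat_lit 163), (nat_lit 87), (nat_lit 1), (nat_lit 1)), ((nat_lit 164), (nat_lit 91), (nat_lit 1), (nat_lit 1)), ((nat_lit 165), (nat_lit 92), (nat_lit 1), (nat_lit 1)), ((nat_lit 169), (nat_lit 102), (nat_lit 1), (nat_lit 1)), ((nat_lit 170), (nat_lit 103), (nat_lit 1), (nat_lit 1)), ((nat_lit 174), (nat_lit 104), (nat_lit 1), (nat_lit 1)), ((nat_lit 185), (nat_lit 123), (nat_lit 1), (nat_lit 1)), ((nat_lit 186), (nat_lit 124), (nat_lit 1), (nat_lit 1)), ((nat_lit 187), (nat_lit 125), (nat_lit 1), (nat_lit 1)), ((nat_lit 188), (nat_lit 127), (nat_lit 1), (nat_lit 1)), ((nat_lit 189), (nat_lit 128), (nat_lit 1), (nat_lit 1)), ((nat_lit 190), (nat_lit 129), (nat_lit 1), (nat_lit 1)), ((nat_lit 194), (nat_lit 132), (nat_lit 1), (nat_lit 1)), ((nat_lit 195), (nat_lit 133), (nat_lit 1), (nat_lit 1)), ((nat_lit 196), (nat_lit 134), (nat_lit 1), (nat_lit 1)), ((nat_lit 204), (nat_lit 144), (nat_lit 1), (nat_lit 1)),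 ((nat_lit 205), (nat_lit 145), (nat_lit 1), (nat_lit 1)), ((nat_lit 206), (nat_lit 146), (nat_lit 1), (nat_lit 1)), ((nat_lit 219), (nat_lit 159), (nat_lit 1), (nat_lit 1)), ((nat_lit 220), (nat_lit 160), (nat_lit 1), (nat_lit 1)), ((nat_lit 221), (nat_lit 161), (nat_lit 1), (nat_lit 1)), ((nat_lit 226), (nat_lit 181), (nat_lit 1), (nat_lit 1)), ((nat_lit 227), (nat_lit 182), (nat_lit 1), (nat_lit 1)), ((nat_lit 228), (nat_lit 183), (nat_lit 1), (nat_lit 1)), ((nat_lit 232), (nat_lit 203), (nat_lit 1), (nat_lit 1)), ((nat_lit 234), (nat_lit 213), (nat_lit 1), (nat_lit 1)), ((nat_lit 235), (nat_lit 217), (nat_lit 1), (nat_lit 1)), ((nat_lit 236), (nat_lit 218), (nat_lit 1), (nat_lit 1))]) (.leaf [((nat_lit 0), (nat_lit 19), (nat_lit 1), (nat_lit 1)), ((nat_lit 1), (nat_lit 20), (nat_lit 1), (nat_lit 1)), ((nat_lit 6), (nat_lit 35), (nat_lit 1), (nat_lit 1)), ((nat_lit 8), (nat_lit 45), (nat_lit 1), (nat_lit 1)), ((nat_lit 9), (nat_lit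 51), (nat_lit 1), (nat_lit 1)), ((nat_lit 10), (nat_lit 54), (nat_lit 1), (nat_lit 1)), ((nat_lit 11), (nat_lit 55), (nat_lit 1), (nat_lit 1)), ((nat_lit 21), (nat_lit 83), (nat_lit 1), (nat_lit 1)), ((nat_lit 22), (nat_lit 86), (nat_lit 1), (nat_lit 1)), ((nat_lit 23), (nat_lit 87), (nat_lit 1), (nat_lit 1)), ((nat_lit 26), (nat_lit 90), (nat_lit 1), (nat_lit 1)), ((nat_lit 27), (nat_lit 91), (nat_lit 1), (nat_lit 1)), ((nat_lit 30), (nat_lit 92), (nat_lit 1), (nat_lit 1)), ((nat_lit 36), (nat_lit 101), (nat_lit 1), (nat_lit 1)), ((nat_lit 37), (nat_lit 102), (nat_lit 1), (nat_lit 1)), ((nat_lit 40), (nat_lit 103), (nat_lit 1), (nat_lit 1)), ((nat_lit 46), (nat_lit 104), (nat_lit 1), (nat_lit 1)), ((nat_lit 57), (nat_lit 121), (nat_lit 1), (nat_lit 1)), ((nat_lit 58), (nat_lit 122), (nat_lit 1), (nat_lit 1)), ((nat_lit 59), (nat_lit 124), (nat_lit 1), (nat_lit 1)), ((nat_lit 60), (nat_lit 125), (nat_lit 1), (nat_lit 1)), ((nat_lit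 62), (nat_lit 128), (nat_lit 1), (nat_lit 1)), ((nat_lit 63), (nat_lit 129), (nat_lit 1), (nat_lit 1)), ((nat_lit 66), (nat_lit 133), (nat_lit 1), (nat_lit 1)), ((nat_lit 67), (nat_lit 134), (nat_lit 1), (nat_lit 1)), ((nat_lit 71), (nat_lit 145), (nat_lit 1), (nat_lit 1)), ((nat_lit 72), (nat_lit 146), (nat_lit 1), (nat_lit 1)), ((nat_lit 77), (nat_lit 161), (nat_lit 1), (nat_lit 1)), ((nat_lit 78), (nat_lit 162), (nat_lit 1), (nat_lit 1)), ((nat_lit 93), (nat_lit 167), (nat_lit 1), (nat_lit 1)), ((nat_lit 94), (nat_lit 168), (nat_lit 1), (nat_lit 1)), ((nat_lit 105), (nat_lit 172), (nat_lit 1), (nat_lit 1)), ((nat_lit 106), (nat_lit 173), (nat_lit 1), (nat_lit 1)), ((nat_lit 110), (nat_lit 176), (nat_lit 1), (nat_lit 1)), ((nat_lit 111), (nat_lit 177), (nat_lit 1), (nat_lit 1)), ((nat_lit 114), (nat_lit 179), (nat_lit 1), (nat_lit 1)), ((nat_lit 115), (nat_lit 180), (nat_lit 1), (nat_lit 1)), ((nat_lit 117), (nat_lit 181), (nat_lit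 1), (nat_lit 1)), ((nat_lit 118), (nat_lit 182), (nat_lit 1), (nat_lit 1)), ((nat_lit 135), (nat_lit 193), (nat_lit 1), (nat_lit 1)), ((nat_lit 136), (nat_lit 199), (nat_lit 1), (nat_lit 1)), ((nat_lit 137), (nat_lit 202), (nat_lit 1), (nat_lit 1)), ((nat_lit 138), (nat_lit 203), (nat_lit 1), (nat_lit 1)), ((nat_lit 147), (nat_lit 209), (nat_lit 1), (nat_lit 1)), ((nat_lit 148), (nat_lit 212), (nat_lit 1), (nat_lit 1)), ((nat_lit 149), (nat_lit 213), (nat_lit 1), (nat_lit 1)), ((nat_lit 152), (nat_lit 216), (nat_lit 1), (nat_lit 1)), ((nat_lit 153), (nat_lit 217), (nat_lit 1), (nat_lit 1)), ((nat_lit 156), (nat_lit 218), (nat_lit 1), (nat_lit 1)), ((nat_lit 184), (nat_lit 228), (nat_lit 1), (nat_lit 1)), ((nat_lit 185), (nat_lit 229), (nat_lit 1), (nat_lit 1)), ((nat_lit 188), (nat_lit 230), (nat_lit 1), (nat_lit 1)), ((nat_lit 194), (nat_lit 231), (nat_lit 1), (nat_lit 1)), ((nat_lit 204), (nat_lit 233), (nat_lit 1), (nat_lit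 1)), ((nat_lit 219), (nat_lit 238), (nat_lit 1), (nat_lit 1)), ((nat_lit 220), (nat_lit 239), (nat_lit 1), (nat_lit 1))])) (.leaf [((nat_lit 1), (nat_lit 0), (nat_lit 1), (nat_lit 1)), ((nat_lit 13), (nat_lit 12), (nat_lit 1), (nat_lit 1)), ((nat_lit 20), (nat_lit 19), (nat_lit 1), (nat_lit 1)), ((nat_lit 25), (nat_lit 24), (nat_lit 1), (nat_lit 1)), ((nat_lit 29), (nat_lit 28), (nat_lit 1), (nat_lit 1)), ((nat_lit 32), (nat_lit 31), (nat_lit 1), (nat_lit 1)), ((nat_lit 34), (nat_lit 33), (nat_lit 1), (nat_lit 1)), ((nat_lit 39), (nat_lit 38), (nat_lit 1), (nat_lit 1)), ((nat_lit 42), (nat_lit 41), (nat_lit 1), (nat_lit 1)), ((nat_lit 44), (nat_lit 43), (nat_lit 1), (nat_lit 1)), ((nat_lit 48), (nat_lit 47), (nat_lit 1), (nat_lit 1)), ((nat_lit 50), (nat_lit 49), (nat_lit 1), (nat_lit 1)), ((nat_lit 53), (nat_lit 52), (nat_lit 1), (nat_lit 1)), ((nat_lit 58), (nat_lit 57), (nat_lit 1), (nat_lit 1)), ((nat_lit 60), (nat_lit 59),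 (nat_lit 1), (nat_lit 1)), ((nat_lit 63), (nat_lit 62), (nat_lit 1), (nat_lit 1)), ((nat_lit 67), (nat_lit 66), (nat_lit 1), (nat_lit 1)), ((nat_lit 72), (nat_lit 71), (nat_lit 1), (nat_lit 1)), ((nat_lit 80), (nat_lit 79), (nat_lit 1), (nat_lit 1)), ((nat_lit 82), (nat_lit 81), (nat_lit 1), (nat_lit 1)), ((nat_lit 85), (nat_lit 84), (nat_lit 1), (nat_lit 1)), ((nat_lit 89), (nat_lit 88), (nat_lit 1), (nat_lit 1)), ((nat_lit 94), (nat_lit 93), (nat_lit 1), (nat_lit 1)), ((nat_lit 100), (nat_lit 99), (nat_lit 1), (nat_lit 1)), ((nat_lit 106), (nat_lit 105), (nat_lit 1), (nat_lit 1)), ((nat_lit 111), (nat_lit 110), (nat_lit 1), (nat_lit 1)), ((nat_lit 115), (nat_lit 114), (nat_lit 1), (nat_lit 1)), ((nat_lit 118), (nat_lit 117), (nat_lit 1), (nat_lit 1)), ((nat_lit 122), (nat_lit 121), (nat_lit 1), (nat_lit 1)), ((nat_lit 125), (nat_lit 124), (nat_lit 1), (nat_lit 1)), ((nat_lit 129), (nat_lit 128), (nat_lit 1), (nat_lit 1)), ((nat_lit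 134), (nat_lit 133), (nat_lit 1), (nat_lit 1)), ((nat_lit 140), (nat_lit 139), (nat_lit 1), (nat_lit 1)), ((nat_lit 146), (nat_lit 145), (nat_lit 1), (nat_lit 1)), ((nat_lit 151), (nat_lit 150), (nat_lit 1), (nat_lit 1)), ((nat_lit 155), (nat_lit 154), (nat_lit 1), (nat_lit 1)), ((nat_lit 158), (nat_lit 157), (nat_lit 1), (nat_lit 1)), ((nat_lit 160), (nat_lit 159), (nat_lit 1), (nat_lit 1)), ((nat_lit 168), (nat_lit 167), (nat_lit 1), (nat_lit 1)), ((nat_lit 173), (nat_lit 172), (nat_lit 1), (nat_lit 1)), ((nat_lit 177), (nat_lit 176), (nat_lit 1), (nat_lit 1)), ((nat_lit 180), (nat_lit 179), (nat_lit 1), (nat_lit 1)), ((nat_lit 182), (nat_lit 181), (nat_lit 1), (nat_lit 1)), ((nat_lit 187), (nat_lit 186), (nat_lit 1), (nat_lit 1)), ((nat_lit 190), (nat_lit 189), (nat_lit 1), (nat_lit 1)), ((nat_lit 192), (nat_lit 191), (nat_lit 1), (nat_lit 1)), ((nat_lit 196), (nat_lit 195), (nat_lit 1), (nat_lit 1)), ((nat_lit 198), (nat_lit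 197), (nat_lit 1), (nat_lit 1)), ((nat_lit 201), (nat_lit 200), (nat_lit 1), (nat_lit 1)), ((nat_lit 206), (nat_lit 205), (nat_lit 1), (nat_lit 1)), ((nat_lit 208), (nat_lit 207), (nat_lit 1), (nat_lit 1)), ((nat_lit 211), (nat_lit 210), (nat_lit 1), (nat_lit 1)), ((nat_lit 215), (nat_lit 214), (nat_lit 1), (nat_lit 1)), ((nat_lit 220), (nat_lit 219), (nat_lit 1), (nat_lit 1)), ((nat_lit 227), (nat_lit 226), (nat_lit 1), (nat_lit 1)), ((nat_lit 239), (nat_lit 238), (nat_lit 1), (nat_lit 1))])))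

def rows15 : Tr (List Entry) :=
  .node (.node (.node (.node (.leaf [((nat_lit 66), (nat_lit 0), (nat_lit 1), (nat_lit 1)), ((nat_lit 67), (nat_lit 1), (nat_lit 1), (nat_lit 1)), ((nat_lit 68), (nat_lit 2), (nat_lit 1), (nat_lit 1)), ((nat_lit 69), (nat_lit 3), (nat_lit 1), (nat_lit 1)), ((nat_lit 70), (nat_lit 4), (nat_lit 1), (nat_lit 1)), ((nat_lit 76), (nat_lit 7), (nat_lit 1), (nat_lit 1)), ((nat_lit 77), (nat_lit 8), (nat_lit 1), (nat_lit 1)), ((nat_lit 98), (nat_lit 14), (nat_lit 1), (nat_lit 1)), ((nat_lit 130), (nat_lit 16), (nat_lit 1), (nat_lit 1)), ((nat_lit 131), (nat_lit 17), (nat_lit 1), (nat_lit 1)), ((nat_lit 132), (nat_lit 18), (nat_lit 1), (nat_lit 1)), ((nat_lit 133), (nat_lit 19), (nat_lit 1), (nat_lit 1)), ((nat_lit 134), (nat_lit 20), (nat_lit 1), (nat_lit 1)), ((nat_lit 136), (nat_lit 21), (nat_lit 1), (nat_lit 1)), ((nat_lit 137), (nat_lit 22), (nat_lit 1), (nat_lit 1)), ((nat_lit 138), (nat_lit 23), (nat_lit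 1), (nat_lit 1)), ((nat_lit 139), (nat_lit 24), (nat_lit 1), (nat_lit 1)), ((nat_lit 140), (nat_lit 25), (nat_lit 1), (nat_lit 1)), ((nat_lit 152), (nat_lit 36), (nat_lit 1), (nat_lit 1)), ((nat_lit 153), (nat_lit 37), (nat_lit 1), (nat_lit 1)), ((nat_lit 154), (nat_lit 38), (nat_lit 1), (nat_lit 1)), ((nat_lit 155), (nat_lit 39), (nat_lit 1), (nat_lit 1)), ((nat_lit 156), (nat_lit 40), (nat_lit 1), (nat_lit 1)), ((nat_lit 157), (nat_lit 41), (nat_lit 1), (nat_lit 1)), ((nat_lit 158), (nat_lit 42), (nat_lit 1), (nat_lit 1)), ((nat_lit 159), (nat_lit 43), (nat_lit 1), (nat_lit 1)), ((nat_lit 160), (nat_lit 44), (nat_lit 1), (nat_lit 1)), ((nat_lit 161), (nat_lit 45), (nat_lit 1), (nat_lit 1)), ((nat_lit 194), (nat_lit 78), (nat_lit 1), (nat_lit 1)), ((nat_lit 195), (nat_lit 79), (nat_lit 1), (nat_lit 1)), ((nat_lit 196), (nat_lit 80), (nat_lit 1), (nat_lit 1)), ((nat_lit 197), (nat_lit 81), (nat_lit 1), (nat_lit 1)), ((nat_lit 198),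 (nat_lit 82), (nat_lit 1), (nat_lit 1)), ((nat_lit 199), (nat_lit 83), (nat_lit 1), (nat_lit 1)), ((nat_lit 200), (nat_lit 84), (nat_lit 1), (nat_lit 1)), ((nat_lit 201), (nat_lit 85), (nat_lit 1), (nat_lit 1)), ((nat_lit 202), (nat_lit 86), (nat_lit 1), (nat_lit 1)), ((nat_lit 203), (nat_lit 87), (nat_lit 1), (nat_lit 1)), ((nat_lit 214), (nat_lit 99), (nat_lit 1), (nat_lit 1)), ((nat_lit 215), (nat_lit 100), (nat_lit 1), (nat_lit 1)), ((nat_lit 216), (nat_lit 101), (nat_lit 1), (nat_lit 1)), ((nat_lit 217), (nat_lit 102), (nat_lit 1), (nat_lit 1)), ((nat_lit 218), (nat_lit 103), (nat_lit 1), (nat_lit 1)), ((nat_lit 219), (nat_lit 105), (nat_lit 1), (nat_lit 1)), ((nat_lit 220), (nat_lit 106), (nat_lit 1), (nat_lit 1)), ((nat_lit 221), (nat_lit 107), (nat_lit 1), (nat_lit 1)), ((nat_lit 222), (nat_lit 108), (nat_lit 1), (nat_lit 1)), ((nat_lit 223), (nat_lit 109), (nat_lit 1), (nat_lit 1)), ((nat_lit 225), (nat_lit 141), (nat_lit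 1), (nat_lit 1)), ((nat_lit 231), (nat_lit 162), (nat_lit 1), (nat_lit 1)), ((nat_lit 232), (nat_lit 163), (nat_lit 1), (nat_lit 1)), ((nat_lit 235), (nat_lit 169), (nat_lit 1), (nat_lit 1)), ((nat_lit 236), (nat_lit 170), (nat_lit 1), (nat_lit 1)), ((nat_lit 237), (nat_lit 171), (nat_lit 1), (nat_lit 1)), ((nat_lit 238), (nat_lit 172), (nat_lit 1), (nat_lit 1)), ((nat_lit 239), (nat_lit 173), (nat_lit 1), (nat_lit 1))]) (.leaf [((nat_lit 3), (nat_lit 7), (nat_lit 1), (nat_lit 1)), ((nat_lit 6), (nat_lit 10), (nat_lit 1), (nat_lit 1)), ((nat_lit 14), (nat_lit 17), (nat_lit 1), (nat_lit 1)), ((nat_lit 21), (nat_lit 36), (nat_lit 1), (nat_lit 1)), ((nat_lit 23), (nat_lit 40), (nat_lit 1), (nat_lit 1)), ((nat_lit 24), (nat_lit 41), (nat_lit 1), (nat_lit 1)), ((nat_lit 25), (nat_lit 42), (nat_lit 1), (nat_lit 1)), ((nat_lit 27), (nat_lit 46), (nat_lit 1), (nat_lit 1)), ((nat_lit 28), (nat_lit 47), (nat_lit 1), (nat_lit 1)), ((nat_lit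 29), (nat_lit 48), (nat_lit 1), (nat_lit 1)), ((nat_lit 33), (nat_lit 52), (nat_lit 1), (nat_lit 1)), ((nat_lit 34), (nat_lit 53), (nat_lit 1), (nat_lit 1)), ((nat_lit 35), (nat_lit 54), (nat_lit 1), (nat_lit 1)), ((nat_lit 59), (nat_lit 71), (nat_lit 1), (nat_lit 1)), ((nat_lit 60), (nat_lit 72), (nat_lit 1), (nat_lit 1)), ((nat_lit 61), (nat_lit 73), (nat_lit 1), (nat_lit 1)), ((nat_lit 65), (nat_lit 75), (nat_lit 1), (nat_lit 1)), ((nat_lit 69), (nat_lit 76), (nat_lit 1), (nat_lit 1)), ((nat_lit 81), (nat_lit 99), (nat_lit 1), (nat_lit 1)), ((nat_lit 82), (nat_lit 100), (nat_lit 1), (nat_lit 1)), ((nat_lit 83), (nat_lit 101), (nat_lit 1), (nat_lit 1)), ((nat_lit 87), (nat_lit 103), (nat_lit 1), (nat_lit 1)), ((nat_lit 91), (nat_lit 104), (nat_lit 1), (nat_lit 1)), ((nat_lit 93), (nat_lit 114), (nat_lit 1), (nat_lit 1)), ((nat_lit 94), (nat_lit 115), (nat_lit 1), (nat_lit 1)), ((nat_lit 95), (nat_lit 116), (nat_lit 1), (nat_lit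 1)), ((nat_lit 97), (nat_lit 126), (nat_lit 1), (nat_lit 1)), ((nat_lit 98), (nat_lit 131), (nat_lit 1), (nat_lit 1)), ((nat_lit 108), (nat_lit 141), (nat_lit 1), (nat_lit 1)), ((nat_lit 113), (nat_lit 142), (nat_lit 1), (nat_lit 1)), ((nat_lit 123), (nat_lit 144), (nat_lit 1), (nat_lit 1)), ((nat_lit 124), (nat_lit 145), (nat_lit 1), (nat_lit 1)), ((nat_lit 125), (nat_lit 146), (nat_lit 1), (nat_lit 1)), ((nat_lit 135), (nat_lit 148), (nat_lit 1), (nat_lit 1)), ((nat_lit 136), (nat_lit 152), (nat_lit 1), (nat_lit 1)), ((nat_lit 138), (nat_lit 156), (nat_lit 1), (nat_lit 1)), ((nat_lit 139), (nat_lit 157), (nat_lit 1), (nat_lit 1)), ((nat_lit 140), (nat_lit 158), (nat_lit 1), (nat_lit 1)), ((nat_lit 163), (nat_lit 170), (nat_lit 1), (nat_lit 1)), ((nat_lit 164), (nat_lit 174), (nat_lit 1), (nat_lit 1)), ((nat_lit 166), (nat_lit 178), (nat_lit 1), (nat_lit 1)), ((nat_lit 167), (nat_lit 179), (nat_lit 1), (nat_lit 1)), ((nat_lit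 168), (nat_lit 180), (nat_lit 1), (nat_lit 1)), ((nat_lit 185), (nat_lit 204), (nat_lit 1), (nat_lit 1)), ((nat_lit 186), (nat_lit 205), (nat_lit 1), (nat_lit 1)), ((nat_lit 187), (nat_lit 206), (nat_lit 1), (nat_lit 1)), ((nat_lit 191), (nat_lit 210), (nat_lit 1), (nat_lit 1)), ((nat_lit 192), (nat_lit 211), (nat_lit 1), (nat_lit 1)), ((nat_lit 193), (nat_lit 212), (nat_lit 1), (nat_lit 1)), ((nat_lit 197), (nat_lit 214), (nat_lit 1), (nat_lit 1)), ((nat_lit 198), (nat_lit 215), (nat_lit 1), (nat_lit 1)), ((nat_lit 199), (nat_lit 216), (nat_lit 1), (nat_lit 1)), ((nat_lit 203), (nat_lit 218), (nat_lit 1), (nat_lit 1)), ((nat_lit 222), (nat_lit 225), (nat_lit 1), (nat_lit 1)), ((nat_lit 229), (nat_lit 233), (nat_lit 1), (nat_lit 1)), ((nat_lit 232), (nat_lit 236), (nat_lit 1), (nat_lit 1))])) (.node (.leaf [((nat_lit 11), (nat_lit 0), (nat_lit 1), (nat_lit 1)), ((nat_lit 13), (nat_lit 2), (nat_lit 1), (nat_lit 1)), ((nat_lit 34),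 (nat_lit 14), (nat_lit 1), (nat_lit 1)), ((nat_lit 44), (nat_lit 15), (nat_lit 1), (nat_lit 1)), ((nat_lit 50), (nat_lit 16), (nat_lit 1), (nat_lit 1)), ((nat_lit 53), (nat_lit 17), (nat_lit 1), (nat_lit 1)), ((nat_lit 55), (nat_lit 19), (nat_lit 1), (nat_lit 1)), ((nat_lit 60), (nat_lit 21), (nat_lit 1), (nat_lit 1)), ((nat_lit 63), (nat_lit 22), (nat_lit 1), (nat_lit 1)), ((nat_lit 65), (nat_lit 24), (nat_lit 1), (nat_lit 1)), ((nat_lit 67), (nat_lit 26), (nat_lit 1), (nat_lit 1)), ((nat_lit 69), (nat_lit 28), (nat_lit 1), (nat_lit 1)), ((nat_lit 70), (nat_lit 31), (nat_lit 1), (nat_lit 1)), ((nat_lit 72), (nat_lit 36), (nat_lit 1), (nat_lit 1)), ((nat_lit 74), (nat_lit 38), (nat_lit 1), (nat_lit 1)), ((nat_lit 75), (nat_lit 41), (nat_lit 1), (nat_lit 1)), ((nat_lit 76), (nat_lit 47), (nat_lit 1), (nat_lit 1)), ((nat_lit 77), (nat_lit 57), (nat_lit 1), (nat_lit 1)), ((nat_lit 118), (nat_lit 78), (nat_lit 1), (nat_lit 1)), ((nat_lit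 120), (nat_lit 80), (nat_lit 1), (nat_lit 1)), ((nat_lit 123), (nat_lit 81), (nat_lit 1), (nat_lit 1)), ((nat_lit 125), (nat_lit 83), (nat_lit 1), (nat_lit 1)), ((nat_lit 127), (nat_lit 84), (nat_lit 1), (nat_lit 1)), ((nat_lit 129), (nat_lit 86), (nat_lit 1), (nat_lit 1)), ((nat_lit 132), (nat_lit 88), (nat_lit 1), (nat_lit 1)), ((nat_lit 134), (nat_lit 90), (nat_lit 1), (nat_lit 1)), ((nat_lit 138), (nat_lit 93), (nat_lit 1), (nat_lit 1)), ((nat_lit 140), (nat_lit 95), (nat_lit 1), (nat_lit 1)), ((nat_lit 144), (nat_lit 99), (nat_lit 1), (nat_lit 1)), ((nat_lit 146), (nat_lit 101), (nat_lit 1), (nat_lit 1)), ((nat_lit 149), (nat_lit 105), (nat_lit 1), (nat_lit 1)), ((nat_lit 151), (nat_lit 107), (nat_lit 1), (nat_lit 1)), ((nat_lit 153), (nat_lit 110), (nat_lit 1), (nat_lit 1)), ((nat_lit 155), (nat_lit 112), (nat_lit 1), (nat_lit 1)), ((nat_lit 156), (nat_lit 114), (nat_lit 1), (nat_lit 1)), ((nat_lit 158), (nat_lit 116), (nat_lit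 1), (nat_lit 1)), ((nat_lit 159), (nat_lit 119), (nat_lit 1), (nat_lit 1)), ((nat_lit 161), (nat_lit 121), (nat_lit 1), (nat_lit 1)), ((nat_lit 182), (nat_lit 162), (nat_lit 1), (nat_lit 1)), ((nat_lit 192), (nat_lit 163), (nat_lit 1), (nat_lit 1)), ((nat_lit 198), (nat_lit 164), (nat_lit 1), (nat_lit 1)), ((nat_lit 201), (nat_lit 165), (nat_lit 1), (nat_lit 1)), ((nat_lit 203), (nat_lit 167), (nat_lit 1), (nat_lit 1)), ((nat_lit 208), (nat_lit 169), (nat_lit 1), (nat_lit 1)), ((nat_lit 211), (nat_lit 170), (nat_lit 1), (nat_lit 1)), ((nat_lit 213), (nat_lit 172), (nat_lit 1), (nat_lit 1)), ((nat_lit 215), (nat_lit 174), (nat_lit 1), (nat_lit 1)), ((nat_lit 217), (nat_lit 176), (nat_lit 1), (nat_lit 1)), ((nat_lit 218), (nat_lit 179), (nat_lit 1), (nat_lit 1)), ((nat_lit 220), (nat_lit 184), (nat_lit 1), (nat_lit 1)), ((nat_lit 222), (nat_lit 186), (nat_lit 1), (nat_lit 1)), ((nat_lit 223), (nat_lit 189), (nat_lit 1), (nat_lit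 1)), ((nat_lit 224), (nat_lit 195), (nat_lit 1), (nat_lit 1)), ((nat_lit 225), (nat_lit 205), (nat_lit 1), (nat_lit 1)), ((nat_lit 237), (nat_lit 226), (nat_lit 1), (nat_lit 1)), ((nat_lit 239), (nat_lit 228), (nat_lit 1), (nat_lit 1))]) (.leaf [((nat_lit 1), (nat_lit 37), (nat_lit 1), (nat_lit 1)), ((nat_lit 2), (nat_lit 38), (nat_lit 1), (nat_lit 1)), ((nat_lit 4), (nat_lit 43), (nat_lit 1), (nat_lit 1)), ((nat_lit 5), (nat_lit 49), (nat_lit 1), (nat_lit 1)), ((nat_lit 6), (nat_lit 59), (nat_lit 1), (nat_lit 1)), ((nat_lit 10), (nat_lit 71), (nat_lit 1), (nat_lit 1)), ((nat_lit 13), (nat_lit 74), (nat_lit 1), (nat_lit 1)), ((nat_lit 14), (nat_lit 81), (nat_lit 1), (nat_lit 1)), ((nat_lit 17), (nat_lit 99), (nat_lit 1), (nat_lit 1)), ((nat_lit 20), (nat_lit 102), (nat_lit 1), (nat_lit 1)), ((nat_lit 22), (nat_lit 105), (nat_lit 1), (nat_lit 1)), ((nat_lit 25), (nat_lit 108), (nat_lit 1), (nat_lit 1)), ((nat_lit 26), (nat_lit 110),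 (nat_lit 1), (nat_lit 1)), ((nat_lit 29), (nat_lit 113), (nat_lit 1), (nat_lit 1)), ((nat_lit 30), (nat_lit 117), (nat_lit 1), (nat_lit 1)), ((nat_lit 31), (nat_lit 119), (nat_lit 1), (nat_lit 1)), ((nat_lit 34), (nat_lit 123), (nat_lit 1), (nat_lit 1)), ((nat_lit 35), (nat_lit 124), (nat_lit 1), (nat_lit 1)), ((nat_lit 42), (nat_lit 141), (nat_lit 1), (nat_lit 1)), ((nat_lit 48), (nat_lit 142), (nat_lit 1), (nat_lit 1)), ((nat_lit 53), (nat_lit 144), (nat_lit 1), (nat_lit 1)), ((nat_lit 54), (nat_lit 145), (nat_lit 1), (nat_lit 1)), ((nat_lit 58), (nat_lit 147), (nat_lit 1), (nat_lit 1)), ((nat_lit 63), (nat_lit 149), (nat_lit 1), (nat_lit 1)), ((nat_lit 64), (nat_lit 150), (nat_lit 1), (nat_lit 1)), ((nat_lit 67), (nat_lit 153), (nat_lit 1), (nat_lit 1)), ((nat_lit 68), (nat_lit 154), (nat_lit 1), (nat_lit 1)), ((nat_lit 70), (nat_lit 159), (nat_lit 1), (nat_lit 1)), ((nat_lit 80), (nat_lit 169), (nat_lit 1), (nat_lit 1)), ((nat_lit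 85), (nat_lit 171), (nat_lit 1), (nat_lit 1)), ((nat_lit 86), (nat_lit 172), (nat_lit 1), (nat_lit 1)), ((nat_lit 89), (nat_lit 175), (nat_lit 1), (nat_lit 1)), ((nat_lit 90), (nat_lit 176), (nat_lit 1), (nat_lit 1)), ((nat_lit 92), (nat_lit 181), (nat_lit 1), (nat_lit 1)), ((nat_lit 94), (nat_lit 185), (nat_lit 1), (nat_lit 1)), ((nat_lit 95), (nat_lit 186), (nat_lit 1), (nat_lit 1)), ((nat_lit 97), (nat_lit 191), (nat_lit 1), (nat_lit 1)), ((nat_lit 98), (nat_lit 197), (nat_lit 1), (nat_lit 1)), ((nat_lit 115), (nat_lit 204), (nat_lit 1), (nat_lit 1)), ((nat_lit 116), (nat_lit 205), (nat_lit 1), (nat_lit 1)), ((nat_lit 120), (nat_lit 208), (nat_lit 1), (nat_lit 1)), ((nat_lit 122), (nat_lit 209), (nat_lit 1), (nat_lit 1)), ((nat_lit 126), (nat_lit 210), (nat_lit 1), (nat_lit 1)), ((nat_lit 129), (nat_lit 213), (nat_lit 1), (nat_lit 1)), ((nat_lit 131), (nat_lit 214), (nat_lit 1), (nat_lit 1)), ((nat_lit 134), (nat_lit 217), (nat_lit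 1), (nat_lit 1)), ((nat_lit 137), (nat_lit 219), (nat_lit 1), (nat_lit 1)), ((nat_lit 140), (nat_lit 222), (nat_lit 1), (nat_lit 1)), ((nat_lit 158), (nat_lit 225), (nat_lit 1), (nat_lit 1)), ((nat_lit 165), (nat_lit 226), (nat_lit 1), (nat_lit 1)), ((nat_lit 168), (nat_lit 229), (nat_lit 1), (nat_lit 1)), ((nat_lit 180), (nat_lit 233), (nat_lit 1), (nat_lit 1)), ((nat_lit 190), (nat_lit 234), (nat_lit 1), (nat_lit 1)), ((nat_lit 196), (nat_lit 235), (nat_lit 1), (nat_lit 1)), ((nat_lit 201), (nat_lit 237), (nat_lit 1), (nat_lit 1)), ((nat_lit 202), (nat_lit 238), (nat_lit 1), (nat_lit 1))]))) (.node (.node (.leaf [((nat_lit 23), (nat_lit 0), (nat_lit 1), (nat_lit 1)), ((nat_lit 25), (nat_lit 2), (nat_lit 1), (nat_lit 1)), ((nat_lit 34), (nat_lit 5), (nat_lit 1), (nat_lit 1)), ((nat_lit 44), (nat_lit 7), (nat_lit 1), (nat_lit 1)), ((nat_lit 60), (nat_lit 9), (nat_lit 1), (nat_lit 1)), ((nat_lit 63), (nat_lit 10), (nat_lit 1), (nat_lit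 1)), ((nat_lit 65), (nat_lit 12), (nat_lit 1), (nat_lit 1)), ((nat_lit 82), (nat_lit 16), (nat_lit 1), (nat_lit 1)), ((nat_lit 85), (nat_lit 17), (nat_lit 1), (nat_lit 1)), ((nat_lit 87), (nat_lit 19), (nat_lit 1), (nat_lit 1)), ((nat_lit 94), (nat_lit 26), (nat_lit 1), (nat_lit 1)), ((nat_lit 96), (nat_lit 28), (nat_lit 1), (nat_lit 1)), ((nat_lit 97), (nat_lit 31), (nat_lit 1), (nat_lit 1)), ((nat_lit 106), (nat_lit 36), (nat_lit 1), (nat_lit 1)), ((nat_lit 108), (nat_lit 38), (nat_lit 1), (nat_lit 1)), ((nat_lit 109), (nat_lit 41), (nat_lit 1), (nat_lit 1)), ((nat_lit 118), (nat_lit 46), (nat_lit 1), (nat_lit 1)), ((nat_lit 120), (nat_lit 48), (nat_lit 1), (nat_lit 1)), ((nat_lit 123), (nat_lit 49), (nat_lit 1), (nat_lit 1)), ((nat_lit 125), (nat_lit 51), (nat_lit 1), (nat_lit 1)), ((nat_lit 127), (nat_lit 52), (nat_lit 1), (nat_lit 1)), ((nat_lit 129), (nat_lit 54), (nat_lit 1), (nat_lit 1)), ((nat_lit 135), (nat_lit 57), (nat_lit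 1), (nat_lit 1)), ((nat_lit 138), (nat_lit 66), (nat_lit 1), (nat_lit 1)), ((nat_lit 140), (nat_lit 68), (nat_lit 1), (nat_lit 1)), ((nat_lit 149), (nat_lit 71), (nat_lit 1), (nat_lit 1)), ((nat_lit 151), (nat_lit 73), (nat_lit 1), (nat_lit 1)), ((nat_lit 160), (nat_lit 76), (nat_lit 1), (nat_lit 1)), ((nat_lit 163), (nat_lit 79), (nat_lit 1), (nat_lit 1)), ((nat_lit 166), (nat_lit 88), (nat_lit 1), (nat_lit 1)), ((nat_lit 168), (nat_lit 90), (nat_lit 1), (nat_lit 1)), ((nat_lit 171), (nat_lit 99), (nat_lit 1), (nat_lit 1)), ((nat_lit 173), (nat_lit 101), (nat_lit 1), (nat_lit 1)), ((nat_lit 182), (nat_lit 104), (nat_lit 1), (nat_lit 1)), ((nat_lit 185), (nat_lit 110), (nat_lit 1), (nat_lit 1)), ((nat_lit 187), (nat_lit 112), (nat_lit 1), (nat_lit 1)), ((nat_lit 188), (nat_lit 114), (nat_lit 1), (nat_lit 1)), ((nat_lit 190), (nat_lit 116), (nat_lit 1), (nat_lit 1)), ((nat_lit 191), (nat_lit 119), (nat_lit 1), (nat_lit 1)), ((nat_lit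 193), (nat_lit 121), (nat_lit 1), (nat_lit 1)), ((nat_lit 198), (nat_lit 130), (nat_lit 1), (nat_lit 1)), ((nat_lit 201), (nat_lit 131), (nat_lit 1), (nat_lit 1)), ((nat_lit 203), (nat_lit 133), (nat_lit 1), (nat_lit 1)), ((nat_lit 208), (nat_lit 142), (nat_lit 1), (nat_lit 1)), ((nat_lit 211), (nat_lit 143), (nat_lit 1), (nat_lit 1)), ((nat_lit 213), (nat_lit 145), (nat_lit 1), (nat_lit 1)), ((nat_lit 220), (nat_lit 152), (nat_lit 1), (nat_lit 1)), ((nat_lit 222), (nat_lit 154), (nat_lit 1), (nat_lit 1)), ((nat_lit 223), (nat_lit 157), (nat_lit 1), (nat_lit 1)), ((nat_lit 227), (nat_lit 174), (nat_lit 1), (nat_lit 1)), ((nat_lit 229), (nat_lit 176), (nat_lit 1), (nat_lit 1)), ((nat_lit 230), (nat_lit 179), (nat_lit 1), (nat_lit 1)), ((nat_lit 232), (nat_lit 195), (nat_lit 1), (nat_lit 1)), ((nat_lit 234), (nat_lit 205), (nat_lit 1), (nat_lit 1)), ((nat_lit 237), (nat_lit 214), (nat_lit 1), (nat_lit 1)), ((nat_lit 239), (nat_lit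 216), (nat_lit 1), (nat_lit 1))]) (.leaf [((nat_lit 2), (nat_lit 16), (nat_lit 1), (nat_lit 1)), ((nat_lit 4), (nat_lit 18), (nat_lit 1), (nat_lit 1)), ((nat_lit 6), (nat_lit 27), (nat_lit 1), (nat_lit 1)), ((nat_lit 8), (nat_lit 37), (nat_lit 1), (nat_lit 1)), ((nat_lit 10), (nat_lit 46), (nat_lit 1), (nat_lit 1)), ((nat_lit 12), (nat_lit 49), (nat_lit 1), (nat_lit 1)), ((nat_lit 13), (nat_lit 50), (nat_lit 1), (nat_lit 1)), ((nat_lit 22), (nat_lit 78), (nat_lit 1), (nat_lit 1)), ((nat_lit 24), (nat_lit 81), (nat_lit 1), (nat_lit 1)), ((nat_lit 25), (nat_lit 82), (nat_lit 1), (nat_lit 1)), ((nat_lit 31), (nat_lit 88), (nat_lit 1), (nat_lit 1)), ((nat_lit 32), (nat_lit 89), (nat_lit 1), (nat_lit 1)), ((nat_lit 35), (nat_lit 91), (nat_lit 1), (nat_lit 1)), ((nat_lit 41), (nat_lit 99), (nat_lit 1), (nat_lit 1)), ((nat_lit 42), (nat_lit 100), (nat_lit 1), (nat_lit 1)), ((nat_lit 45), (nat_lit 102), (nat_lit 1), (nat_lit 1)), ((nat_lit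 54), (nat_lit 104), (nat_lit 1), (nat_lit 1)), ((nat_lit 57), (nat_lit 110), (nat_lit 1), (nat_lit 1)), ((nat_lit 58), (nat_lit 111), (nat_lit 1), (nat_lit 1)), ((nat_lit 61), (nat_lit 113), (nat_lit 1), (nat_lit 1)), ((nat_lit 62), (nat_lit 117), (nat_lit 1), (nat_lit 1)), ((nat_lit 63), (nat_lit 118), (nat_lit 1), (nat_lit 1)), ((nat_lit 65), (nat_lit 123), (nat_lit 1), (nat_lit 1)), ((nat_lit 68), (nat_lit 130), (nat_lit 1), (nat_lit 1)), ((nat_lit 70), (nat_lit 132), (nat_lit 1), (nat_lit 1)), ((nat_lit 73), (nat_lit 142), (nat_lit 1), (nat_lit 1)), ((nat_lit 75), (nat_lit 144), (nat_lit 1), (nat_lit 1)), ((nat_lit 77), (nat_lit 153), (nat_lit 1), (nat_lit 1)), ((nat_lit 86), (nat_lit 162), (nat_lit 1), (nat_lit 1)), ((nat_lit 95), (nat_lit 164), (nat_lit 1), (nat_lit 1)), ((nat_lit 97), (nat_lit 166), (nat_lit 1), (nat_lit 1)), ((nat_lit 107), (nat_lit 169), (nat_lit 1), (nat_lit 1)), ((nat_lit 109), (nat_lit 171), (nat_lit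 1), (nat_lit 1)), ((nat_lit 116), (nat_lit 174), (nat_lit 1), (nat_lit 1)), ((nat_lit 121), (nat_lit 176), (nat_lit 1), (nat_lit 1)), ((nat_lit 122), (nat_lit 177), (nat_lit 1), (nat_lit 1)), ((nat_lit 126), (nat_lit 178), (nat_lit 1), (nat_lit 1)), ((nat_lit 128), (nat_lit 181), (nat_lit 1), (nat_lit 1)), ((nat_lit 129), (nat_lit 182), (nat_lit 1), (nat_lit 1)), ((nat_lit 135), (nat_lit 185), (nat_lit 1), (nat_lit 1)), ((nat_lit 137), (nat_lit 194), (nat_lit 1), (nat_lit 1)), ((nat_lit 139), (nat_lit 197), (nat_lit 1), (nat_lit 1)), ((nat_lit 140), (nat_lit 198), (nat_lit 1), (nat_lit 1)), ((nat_lit 148), (nat_lit 204), (nat_lit 1), (nat_lit 1)), ((nat_lit 150), (nat_lit 207), (nat_lit 1), (nat_lit 1)), ((nat_lit 151), (nat_lit 208), (nat_lit 1), (nat_lit 1)), ((nat_lit 157), (nat_lit 214), (nat_lit 1), (nat_lit 1)), ((nat_lit 158), (nat_lit 215), (nat_lit 1), (nat_lit 1)), ((nat_lit 161), (nat_lit 217), (nat_lit 1), (nat_lit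 1)), ((nat_lit 189), (nat_lit 226), (nat_lit 1), (nat_lit 1)), ((nat_lit 190), (nat_lit 227), (nat_lit 1), (nat_lit 1)), ((nat_lit 193), (nat_lit 229), (nat_lit 1), (nat_lit 1)), ((nat_lit 202), (nat_lit 231), (nat_lit 1), (nat_lit 1)), ((nat_lit 212), (nat_lit 233), (nat_lit 1), (nat_lit 1)), ((nat_lit 221), (nat_lit 235), (nat_lit 1), (nat_lit 1)), ((nat_lit 223), (nat_lit 237), (nat_lit 1), (nat_lit 1))])) (.node (.leaf [((nat_lit 4), (nat_lit 1), (nat_lit 1), (nat_lit 1)), ((nat_lit 12), (nat_lit 9), (nat_lit 1), (nat_lit 1)), ((nat_lit 19), (nat_lit 16), (nat_lit 1), (nat_lit 1)), ((nat_lit 24), (nat_lit 21), (nat_lit 1), (nat_lit 1)), ((nat_lit 31), (nat_lit 26), (nat_lit 1), (nat_lit 1)), ((nat_lit 33), (nat_lit 27), (nat_lit 1), (nat_lit 1)), ((nat_lit 35), (nat_lit 29), (nat_lit 1), (nat_lit 1)), ((nat_lit 41), (nat_lit 36), (nat_lit 1), (nat_lit 1)), ((nat_lit 43), (nat_lit 37), (nat_lit 1), (nat_lit 1)), ((nat_lit 45),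 (nat_lit 39), (nat_lit 1), (nat_lit 1)), ((nat_lit 52), (nat_lit 46), (nat_lit 1), (nat_lit 1)), ((nat_lit 54), (nat_lit 48), (nat_lit 1), (nat_lit 1)), ((nat_lit 55), (nat_lit 50), (nat_lit 1), (nat_lit 1)), ((nat_lit 62), (nat_lit 56), (nat_lit 1), (nat_lit 1)), ((nat_lit 64), (nat_lit 58), (nat_lit 1), (nat_lit 1)), ((nat_lit 65), (nat_lit 60), (nat_lit 1), (nat_lit 1)), ((nat_lit 70), (nat_lit 67), (nat_lit 1), (nat_lit 1)), ((nat_lit 75), (nat_lit 72), (nat_lit 1), (nat_lit 1)), ((nat_lit 84), (nat_lit 78), (nat_lit 1), (nat_lit 1)), ((nat_lit 86), (nat_lit 80), (nat_lit 1), (nat_lit 1)), ((nat_lit 87), (nat_lit 82), (nat_lit 1), (nat_lit 1)), ((nat_lit 92), (nat_lit 89), (nat_lit 1), (nat_lit 1)), ((nat_lit 97), (nat_lit 94), (nat_lit 1), (nat_lit 1)), ((nat_lit 103), (nat_lit 100), (nat_lit 1), (nat_lit 1)), ((nat_lit 109), (nat_lit 106), (nat_lit 1), (nat_lit 1)), ((nat_lit 119), (nat_lit 110), (nat_lit 1), (nat_lit 1)),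 ((nat_lit 121), (nat_lit 112), (nat_lit 1), (nat_lit 1)), ((nat_lit 124), (nat_lit 113), (nat_lit 1), (nat_lit 1)), ((nat_lit 126), (nat_lit 115), (nat_lit 1), (nat_lit 1)), ((nat_lit 127), (nat_lit 118), (nat_lit 1), (nat_lit 1)), ((nat_lit 129), (nat_lit 120), (nat_lit 1), (nat_lit 1)), ((nat_lit 133), (nat_lit 130), (nat_lit 1), (nat_lit 1)), ((nat_lit 139), (nat_lit 136), (nat_lit 1), (nat_lit 1)), ((nat_lit 145), (nat_lit 142), (nat_lit 1), (nat_lit 1)), ((nat_lit 150), (nat_lit 147), (nat_lit 1), (nat_lit 1)), ((nat_lit 157), (nat_lit 152), (nat_lit 1), (nat_lit 1)), ((nat_lit 159), (nat_lit 153), (nat_lit 1), (nat_lit 1)), ((nat_lit 161), (nat_lit 155), (nat_lit 1), (nat_lit 1)), ((nat_lit 167), (nat_lit 164), (nat_lit 1), (nat_lit 1)), ((nat_lit 172), (nat_lit 169), (nat_lit 1), (nat_lit 1)), ((nat_lit 179), (nat_lit 174), (nat_lit 1), (nat_lit 1)), ((nat_lit 181), (nat_lit 175), (nat_lit 1), (nat_lit 1)), ((nat_lit 183),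 (nat_lit 177), (nat_lit 1), (nat_lit 1)), ((nat_lit 189), (nat_lit 184), (nat_lit 1), (nat_lit 1)), ((nat_lit 191), (nat_lit 185), (nat_lit 1), (nat_lit 1)), ((nat_lit 193), (nat_lit 187), (nat_lit 1), (nat_lit 1)), ((nat_lit 200), (nat_lit 194), (nat_lit 1), (nat_lit 1)), ((nat_lit 202), (nat_lit 196), (nat_lit 1), (nat_lit 1)), ((nat_lit 203), (nat_lit 198), (nat_lit 1), (nat_lit 1)), ((nat_lit 210), (nat_lit 204), (nat_lit 1), (nat_lit 1)), ((nat_lit 212), (nat_lit 206), (nat_lit 1), (nat_lit 1)), ((nat_lit 213), (nat_lit 208), (nat_lit 1), (nat_lit 1)), ((nat_lit 218), (nat_lit 215), (nat_lit 1), (nat_lit 1)), ((nat_lit 223), (nat_lit 220), (nat_lit 1), (nat_lit 1)), ((nat_lit 230), (nat_lit 227), (nat_lit 1), (nat_lit 1)), ((nat_lit 238), (nat_lit 235), (nat_lit 1), (nat_lit 1))]) (.leaf [((nat_lit 1), (nat_lit 120), (nat_lit 1), (nat_lit 1)), ((nat_lit 2), (nat_lit 122), (nat_lit 1), (nat_lit 1)), ((nat_lit 3), (nat_lit 125),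 (nat_lit 1), (nat_lit 1)), ((nat_lit 4), (nat_lit 129), (nat_lit 1), (nat_lit 1)), ((nat_lit 5), (nat_lit 134), (nat_lit 1), (nat_lit 1)), ((nat_lit 6), (nat_lit 140), (nat_lit 1), (nat_lit 1)), ((nat_lit 7), (nat_lit 146), (nat_lit 1), (nat_lit 1)), ((nat_lit 8), (nat_lit 151), (nat_lit 1), (nat_lit 1)), ((nat_lit 9), (nat_lit 155), (nat_lit 1), (nat_lit 1)), ((nat_lit 10), (nat_lit 158), (nat_lit 1), (nat_lit 1)), ((nat_lit 11), (nat_lit 160), (nat_lit 1), (nat_lit 1)), ((nat_lit 12), (nat_lit 161), (nat_lit 1), (nat_lit 1)), ((nat_lit 14), (nat_lit 168), (nat_lit 1), (nat_lit 1)), ((nat_lit 15), (nat_lit 173), (nat_lit 1), (nat_lit 1)), ((nat_lit 16), (nat_lit 177), (nat_lit 1), (nat_lit 1)), ((nat_lit 17), (nat_lit 180), (nat_lit 1), (nat_lit 1)), ((nat_lit 18), (nat_lit 182), (nat_lit 1), (nat_lit 1)), ((nat_lit 19), (nat_lit 183), (nat_lit 1), (nat_lit 1)), ((nat_lit 21), (nat_lit 187), (nat_lit 1), (nat_lit 1)), ((nat_lit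 22), (nat_lit 190), (nat_lit 1), (nat_lit 1)), ((nat_lit 23), (nat_lit 192), (nat_lit 1), (nat_lit 1)), ((nat_lit 24), (nat_lit 193), (nat_lit 1), (nat_lit 1)), ((nat_lit 26), (nat_lit 196), (nat_lit 1), (nat_lit 1)), ((nat_lit 27), (nat_lit 198), (nat_lit 1), (nat_lit 1)), ((nat_lit 28), (nat_lit 199), (nat_lit 1), (nat_lit 1)), ((nat_lit 30), (nat_lit 201), (nat_lit 1), (nat_lit 1)), ((nat_lit 31), (nat_lit 202), (nat_lit 1), (nat_lit 1)), ((nat_lit 33), (nat_lit 203), (nat_lit 1), (nat_lit 1)), ((nat_lit 36), (nat_lit 206), (nat_lit 1), (nat_lit 1)), ((nat_lit 37), (nat_lit 208), (nat_lit 1), (nat_lit 1)), ((nat_lit 38), (nat_lit 209), (nat_lit 1), (nat_lit 1)), ((nat_lit 40), (nat_lit 211), (nat_lit 1), (nat_lit 1)), ((nat_lit 41), (nat_lit 212), (nat_lit 1), (nat_lit 1)), ((nat_lit 43), (nat_lit 213), (nat_lit 1), (nat_lit 1)), ((nat_lit 46), (nat_lit 215), (nat_lit 1), (nat_lit 1)), ((nat_lit 47), (nat_lit 216), (nat_lit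 1), (nat_lit 1)), ((nat_lit 49), (nat_lit 217), (nat_lit 1), (nat_lit 1)), ((nat_lit 52), (nat_lit 218), (nat_lit 1), (nat_lit 1)), ((nat_lit 56), (nat_lit 220), (nat_lit 1), (nat_lit 1)), ((nat_lit 57), (nat_lit 221), (nat_lit 1), (nat_lit 1)), ((nat_lit 59), (nat_lit 222), (nat_lit 1), (nat_lit 1)), ((nat_lit 62), (nat_lit 223), (nat_lit 1), (nat_lit 1)), ((nat_lit 66), (nat_lit 224), (nat_lit 1), (nat_lit 1)), ((nat_lit 71), (nat_lit 225), (nat_lit 1), (nat_lit 1)), ((nat_lit 78), (nat_lit 227), (nat_lit 1), (nat_lit 1)), ((nat_lit 79), (nat_lit 228), (nat_lit 1), (nat_lit 1)), ((nat_lit 81), (nat_lit 229), (nat_lit 1), (nat_lit 1)), ((nat_lit 84), (nat_lit 230), (nat_lit 1), (nat_lit 1)), ((nat_lit 88), (nat_lit 231), (nat_lit 1), (nat_lit 1)), ((nat_lit 93), (nat_lit 232), (nat_lit 1), (nat_lit 1)), ((nat_lit 99), (nat_lit 233), (nat_lit 1), (nat_lit 1)), ((nat_lit 105), (nat_lit 234), (nat_lit 1), (nat_lit 1)), ((nat_lit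 110), (nat_lit 235), (nat_lit 1), (nat_lit 1)), ((nat_lit 114), (nat_lit 236), (nat_lit 1), (nat_lit 1)), ((nat_lit 117), (nat_lit 237), (nat_lit 1), (nat_lit 1)), ((nat_lit 119), (nat_lit 238), (nat_lit 1), (nat_lit 1))])))) (.node (.node (.node (.leaf [((nat_lit 37), (nat_lit 0), (nat_lit 1), (nat_lit 1)), ((nat_lit 39), (nat_lit 2), (nat_lit 1), (nat_lit 1)), ((nat_lit 44), (nat_lit 4), (nat_lit 1), (nat_lit 1)), ((nat_lit 50), (nat_lit 5), (nat_lit 1), (nat_lit 1)), ((nat_lit 60), (nat_lit 6), (nat_lit 1), (nat_lit 1)), ((nat_lit 72), (nat_lit 10), (nat_lit 1), (nat_lit 1)), ((nat_lit 74), (nat_lit 12), (nat_lit 1), (nat_lit 1)), ((nat_lit 82), (nat_lit 14), (nat_lit 1), (nat_lit 1)), ((nat_lit 100), (nat_lit 17), (nat_lit 1), (nat_lit 1)), ((nat_lit 102), (nat_lit 19), (nat_lit 1), (nat_lit 1)), ((nat_lit 106), (nat_lit 22), (nat_lit 1), (nat_lit 1)), ((nat_lit 108), (nat_lit 24), (nat_lit 1), (nat_lit 1)), ((nat_lit 111),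 (nat_lit 26), (nat_lit 1), (nat_lit 1)), ((nat_lit 113), (nat_lit 28), (nat_lit 1), (nat_lit 1)), ((nat_lit 118), (nat_lit 30), (nat_lit 1), (nat_lit 1)), ((nat_lit 120), (nat_lit 32), (nat_lit 1), (nat_lit 1)), ((nat_lit 123), (nat_lit 33), (nat_lit 1), (nat_lit 1)), ((nat_lit 125), (nat_lit 35), (nat_lit 1), (nat_lit 1)), ((nat_lit 141), (nat_lit 41), (nat_lit 1), (nat_lit 1)), ((nat_lit 142), (nat_lit 47), (nat_lit 1), (nat_lit 1)), ((nat_lit 144), (nat_lit 52), (nat_lit 1), (nat_lit 1)), ((nat_lit 146), (nat_lit 54), (nat_lit 1), (nat_lit 1)), ((nat_lit 147), (nat_lit 57), (nat_lit 1), (nat_lit 1)), ((nat_lit 149), (nat_lit 62), (nat_lit 1), (nat_lit 1)), ((nat_lit 151), (nat_lit 64), (nat_lit 1), (nat_lit 1)), ((nat_lit 153), (nat_lit 66), (nat_lit 1), (nat_lit 1)), ((nat_lit 155), (nat_lit 68), (nat_lit 1), (nat_lit 1)), ((nat_lit 160), (nat_lit 70), (nat_lit 1), (nat_lit 1)), ((nat_lit 169), (nat_lit 79), (nat_lit 1), (nat_lit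 1)), ((nat_lit 171), (nat_lit 84), (nat_lit 1), (nat_lit 1)), ((nat_lit 173), (nat_lit 86), (nat_lit 1), (nat_lit 1)), ((nat_lit 175), (nat_lit 88), (nat_lit 1), (nat_lit 1)), ((nat_lit 177), (nat_lit 90), (nat_lit 1), (nat_lit 1)), ((nat_lit 182), (nat_lit 92), (nat_lit 1), (nat_lit 1)), ((nat_lit 185), (nat_lit 93), (nat_lit 1), (nat_lit 1)), ((nat_lit 187), (nat_lit 95), (nat_lit 1), (nat_lit 1)), ((nat_lit 192), (nat_lit 97), (nat_lit 1), (nat_lit 1)), ((nat_lit 198), (nat_lit 98), (nat_lit 1), (nat_lit 1)), ((nat_lit 204), (nat_lit 114), (nat_lit 1), (nat_lit 1)), ((nat_lit 206), (nat_lit 116), (nat_lit 1), (nat_lit 1)), ((nat_lit 207), (nat_lit 119), (nat_lit 1), (nat_lit 1)), ((nat_lit 209), (nat_lit 121), (nat_lit 1), (nat_lit 1)), ((nat_lit 211), (nat_lit 126), (nat_lit 1), (nat_lit 1)), ((nat_lit 213), (nat_lit 128), (nat_lit 1), (nat_lit 1)), ((nat_lit 215), (nat_lit 131), (nat_lit 1), (nat_lit 1)), ((nat_lit 217), (nat_lit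 133), (nat_lit 1), (nat_lit 1)), ((nat_lit 220), (nat_lit 137), (nat_lit 1), (nat_lit 1)), ((nat_lit 222), (nat_lit 139), (nat_lit 1), (nat_lit 1)), ((nat_lit 225), (nat_lit 157), (nat_lit 1), (nat_lit 1)), ((nat_lit 227), (nat_lit 165), (nat_lit 1), (nat_lit 1)), ((nat_lit 229), (nat_lit 167), (nat_lit 1), (nat_lit 1)), ((nat_lit 233), (nat_lit 179), (nat_lit 1), (nat_lit 1)), ((nat_lit 234), (nat_lit 189), (nat_lit 1), (nat_lit 1)), ((nat_lit 235), (nat_lit 195), (nat_lit 1), (nat_lit 1)), ((nat_lit 237), (nat_lit 200), (nat_lit 1), (nat_lit 1)), ((nat_lit 239), (nat_lit 202), (nat_lit 1), (nat_lit 1))]) (.leaf [((nat_lit 1), (nat_lit 11), (nat_lit 1), (nat_lit 1)), ((nat_lit 2), (nat_lit 12), (nat_lit 1), (nat_lit 1)), ((nat_lit 14), (nat_lit 33), (nat_lit 1), (nat_lit 1)), ((nat_lit 15), (nat_lit 43), (nat_lit 1), (nat_lit 1)), ((nat_lit 16), (nat_lit 49), (nat_lit 1), (nat_lit 1)), ((nat_lit 17), (nat_lit 52), (nat_lit 1),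 (nat_lit 1)), ((nat_lit 20), (nat_lit 55), (nat_lit 1), (nat_lit 1)), ((nat_lit 21), (nat_lit 59), (nat_lit 1), (nat_lit 1)), ((nat_lit 22), (nat_lit 62), (nat_lit 1), (nat_lit 1)), ((nat_lit 25), (nat_lit 65), (nat_lit 1), (nat_lit 1)), ((nat_lit 26), (nat_lit 66), (nat_lit 1), (nat_lit 1)), ((nat_lit 29), (nat_lit 69), (nat_lit 1), (nat_lit 1)), ((nat_lit 32), (nat_lit 70), (nat_lit 1), (nat_lit 1)), ((nat_lit 36), (nat_lit 71), (nat_lit 1), (nat_lit 1)), ((nat_lit 39), (nat_lit 74), (nat_lit 1), (nat_lit 1)), ((nat_lit 42), (nat_lit 75), (nat_lit 1), (nat_lit 1)), ((nat_lit 48), (nat_lit 76), (nat_lit 1), (nat_lit 1)), ((nat_lit 58), (nat_lit 77), (nat_lit 1), (nat_lit 1)), ((nat_lit 78), (nat_lit 117), (nat_lit 1), (nat_lit 1)), ((nat_lit 79), (nat_lit 119), (nat_lit 1), (nat_lit 1)), ((nat_lit 82), (nat_lit 123), (nat_lit 1), (nat_lit 1)), ((nat_lit 83), (nat_lit 124), (nat_lit 1), (nat_lit 1)), ((nat_lit 85), (nat_lit 127),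 (nat_lit 1), (nat_lit 1)), ((nat_lit 86), (nat_lit 128), (nat_lit 1), (nat_lit 1)), ((nat_lit 89), (nat_lit 132), (nat_lit 1), (nat_lit 1)), ((nat_lit 90), (nat_lit 133), (nat_lit 1), (nat_lit 1)), ((nat_lit 94), (nat_lit 138), (nat_lit 1), (nat_lit 1)), ((nat_lit 95), (nat_lit 139), (nat_lit 1), (nat_lit 1)), ((nat_lit 100), (nat_lit 144), (nat_lit 1), (nat_lit 1)), ((nat_lit 101), (nat_lit 145), (nat_lit 1), (nat_lit 1)), ((nat_lit 106), (nat_lit 149), (nat_lit 1), (nat_lit 1)), ((nat_lit 107), (nat_lit 150), (nat_lit 1), (nat_lit 1)), ((nat_lit 111), (nat_lit 153), (nat_lit 1), (nat_lit 1)), ((nat_lit 112), (nat_lit 154), (nat_lit 1), (nat_lit 1)), ((nat_lit 115), (nat_lit 156), (nat_lit 1), (nat_lit 1)), ((nat_lit 116), (nat_lit 157), (nat_lit 1), (nat_lit 1)), ((nat_lit 120), (nat_lit 160), (nat_lit 1), (nat_lit 1)), ((nat_lit 122), (nat_lit 161), (nat_lit 1), (nat_lit 1)), ((nat_lit 162), (nat_lit 181), (nat_lit 1), (nat_lit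 1)), ((nat_lit 163), (nat_lit 191), (nat_lit 1), (nat_lit 1)), ((nat_lit 164), (nat_lit 197), (nat_lit 1), (nat_lit 1)), ((nat_lit 165), (nat_lit 200), (nat_lit 1), (nat_lit 1)), ((nat_lit 168), (nat_lit 203), (nat_lit 1), (nat_lit 1)), ((nat_lit 169), (nat_lit 207), (nat_lit 1), (nat_lit 1)), ((nat_lit 170), (nat_lit 210), (nat_lit 1), (nat_lit 1)), ((nat_lit 173), (nat_lit 213), (nat_lit 1), (nat_lit 1)), ((nat_lit 174), (nat_lit 214), (nat_lit 1), (nat_lit 1)), ((nat_lit 177), (nat_lit 217), (nat_lit 1), (nat_lit 1)), ((nat_lit 180), (nat_lit 218), (nat_lit 1), (nat_lit 1)), ((nat_lit 184), (nat_lit 219), (nat_lit 1), (nat_lit 1)), ((nat_lit 187), (nat_lit 222), (nat_lit 1), (nat_lit 1)), ((nat_lit 190), (nat_lit 223), (nat_lit 1), (nat_lit 1)), ((nat_lit 196), (nat_lit 224), (nat_lit 1), (nat_lit 1)), ((nat_lit 206), (nat_lit 225), (nat_lit 1), (nat_lit 1)), ((nat_lit 227), (nat_lit 237), (nat_lit 1), (nat_lit 1)), ((nat_lit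 228), (nat_lit 238), (nat_lit 1), (nat_lit 1))])) (.node (.leaf [((nat_lit 7), (nat_lit 2), (nat_lit 1), (nat_lit 1)), ((nat_lit 11), (nat_lit 6), (nat_lit 1), (nat_lit 1)), ((nat_lit 18), (nat_lit 14), (nat_lit 1), (nat_lit 1)), ((nat_lit 37), (nat_lit 21), (nat_lit 1), (nat_lit 1)), ((nat_lit 40), (nat_lit 22), (nat_lit 1), (nat_lit 1)), ((nat_lit 43), (nat_lit 24), (nat_lit 1), (nat_lit 1)), ((nat_lit 44), (nat_lit 25), (nat_lit 1), (nat_lit 1)), ((nat_lit 46), (nat_lit 26), (nat_lit 1), (nat_lit 1)), ((nat_lit 49), (nat_lit 28), (nat_lit 1), (nat_lit 1)), ((nat_lit 50), (nat_lit 29), (nat_lit 1), (nat_lit 1)), ((nat_lit 52), (nat_lit 31), (nat_lit 1), (nat_lit 1)), ((nat_lit 53), (nat_lit 32), (nat_lit 1), (nat_lit 1)), ((nat_lit 55), (nat_lit 35), (nat_lit 1), (nat_lit 1)), ((nat_lit 71), (nat_lit 57), (nat_lit 1), (nat_lit 1)), ((nat_lit 72), (nat_lit 58), (nat_lit 1), (nat_lit 1)), ((nat_lit 74), (nat_lit 61), (nat_lit 1),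 (nat_lit 1)), ((nat_lit 75), (nat_lit 64), (nat_lit 1), (nat_lit 1)), ((nat_lit 76), (nat_lit 68), (nat_lit 1), (nat_lit 1)), ((nat_lit 99), (nat_lit 79), (nat_lit 1), (nat_lit 1)), ((nat_lit 100), (nat_lit 80), (nat_lit 1), (nat_lit 1)), ((nat_lit 102), (nat_lit 83), (nat_lit 1), (nat_lit 1)), ((nat_lit 103), (nat_lit 86), (nat_lit 1), (nat_lit 1)), ((nat_lit 104), (nat_lit 90), (nat_lit 1), (nat_lit 1)), ((nat_lit 117), (nat_lit 93), (nat_lit 1), (nat_lit 1)), ((nat_lit 118), (nat_lit 94), (nat_lit 1), (nat_lit 1)), ((nat_lit 123), (nat_lit 96), (nat_lit 1), (nat_lit 1)), ((nat_lit 127), (nat_lit 97), (nat_lit 1), (nat_lit 1)), ((nat_lit 132), (nat_lit 98), (nat_lit 1), (nat_lit 1)), ((nat_lit 141), (nat_lit 107), (nat_lit 1), (nat_lit 1)), ((nat_lit 142), (nat_lit 112), (nat_lit 1), (nat_lit 1)), ((nat_lit 143), (nat_lit 116), (nat_lit 1), (nat_lit 1)), ((nat_lit 145), (nat_lit 121), (nat_lit 1), (nat_lit 1)), ((nat_lit 146),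 (nat_lit 122), (nat_lit 1), (nat_lit 1)), ((nat_lit 149), (nat_lit 135), (nat_lit 1), (nat_lit 1)), ((nat_lit 153), (nat_lit 136), (nat_lit 1), (nat_lit 1)), ((nat_lit 156), (nat_lit 137), (nat_lit 1), (nat_lit 1)), ((nat_lit 159), (nat_lit 139), (nat_lit 1), (nat_lit 1)), ((nat_lit 160), (nat_lit 140), (nat_lit 1), (nat_lit 1)), ((nat_lit 171), (nat_lit 163), (nat_lit 1), (nat_lit 1)), ((nat_lit 175), (nat_lit 164), (nat_lit 1), (nat_lit 1)), ((nat_lit 178), (nat_lit 165), (nat_lit 1), (nat_lit 1)), ((nat_lit 181), (nat_lit 167), (nat_lit 1), (nat_lit 1)), ((nat_lit 182), (nat_lit 168), (nat_lit 1), (nat_lit 1)), ((nat_lit 204), (nat_lit 184), (nat_lit 1), (nat_lit 1)), ((nat_lit 207), (nat_lit 186), (nat_lit 1), (nat_lit 1)), ((nat_lit 208), (nat_lit 187), (nat_lit 1), (nat_lit 1)), ((nat_lit 210), (nat_lit 189), (nat_lit 1), (nat_lit 1)), ((nat_lit 211), (nat_lit 190), (nat_lit 1), (nat_lit 1)), ((nat_lit 213), (nat_lit 193),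 (nat_lit 1), (nat_lit 1)), ((nat_lit 214), (nat_lit 195), (nat_lit 1), (nat_lit 1)), ((nat_lit 215), (nat_lit 196), (nat_lit 1), (nat_lit 1)), ((nat_lit 217), (nat_lit 199), (nat_lit 1), (nat_lit 1)), ((nat_lit 218), (nat_lit 202), (nat_lit 1), (nat_lit 1)), ((nat_lit 225), (nat_lit 221), (nat_lit 1), (nat_lit 1)), ((nat_lit 233), (nat_lit 228), (nat_lit 1), (nat_lit 1)), ((nat_lit 237), (nat_lit 232), (nat_lit 1), (nat_lit 1))]) (.leaf [((nat_lit 0), (nat_lit 62), (nat_lit 1), (nat_lit 1)), ((nat_lit 1), (nat_lit 63), (nat_lit 1), (nat_lit 1)), ((nat_lit 2), (nat_lit 64), (nat_lit 1), (nat_lit 1)), ((nat_lit 3), (nat_lit 65), (nat_lit 1), (nat_lit 1)), ((nat_lit 5), (nat_lit 70), (nat_lit 1), (nat_lit 1)), ((nat_lit 7), (nat_lit 75), (nat_lit 1), (nat_lit 1)), ((nat_lit 9), (nat_lit 77), (nat_lit 1), (nat_lit 1)), ((nat_lit 14), (nat_lit 97), (nat_lit 1), (nat_lit 1)), ((nat_lit 15), (nat_lit 109), (nat_lit 1), (nat_lit 1)), ((nat_lit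 17), (nat_lit 126), (nat_lit 1), (nat_lit 1)), ((nat_lit 18), (nat_lit 127), (nat_lit 1), (nat_lit 1)), ((nat_lit 19), (nat_lit 128), (nat_lit 1), (nat_lit 1)), ((nat_lit 20), (nat_lit 129), (nat_lit 1), (nat_lit 1)), ((nat_lit 21), (nat_lit 135), (nat_lit 1), (nat_lit 1)), ((nat_lit 26), (nat_lit 137), (nat_lit 1), (nat_lit 1)), ((nat_lit 27), (nat_lit 138), (nat_lit 1), (nat_lit 1)), ((nat_lit 28), (nat_lit 139), (nat_lit 1), (nat_lit 1)), ((nat_lit 29), (nat_lit 140), (nat_lit 1), (nat_lit 1)), ((nat_lit 36), (nat_lit 148), (nat_lit 1), (nat_lit 1)), ((nat_lit 37), (nat_lit 149), (nat_lit 1), (nat_lit 1)), ((nat_lit 38), (nat_lit 150), (nat_lit 1), (nat_lit 1)), ((nat_lit 39), (nat_lit 151), (nat_lit 1), (nat_lit 1)), ((nat_lit 46), (nat_lit 156), (nat_lit 1), (nat_lit 1)), ((nat_lit 47), (nat_lit 157), (nat_lit 1), (nat_lit 1)), ((nat_lit 48), (nat_lit 158), (nat_lit 1), (nat_lit 1)), ((nat_lit 49), (nat_lit 159), (nat_lit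 1), (nat_lit 1)), ((nat_lit 50), (nat_lit 160), (nat_lit 1), (nat_lit 1)), ((nat_lit 51), (nat_lit 161), (nat_lit 1), (nat_lit 1)), ((nat_lit 78), (nat_lit 188), (nat_lit 1), (nat_lit 1)), ((nat_lit 79), (nat_lit 189), (nat_lit 1), (nat_lit 1)), ((nat_lit 80), (nat_lit 190), (nat_lit 1), (nat_lit 1)), ((nat_lit 81), (nat_lit 191), (nat_lit 1), (nat_lit 1)), ((nat_lit 82), (nat_lit 192), (nat_lit 1), (nat_lit 1)), ((nat_lit 83), (nat_lit 193), (nat_lit 1), (nat_lit 1)), ((nat_lit 88), (nat_lit 200), (nat_lit 1), (nat_lit 1)), ((nat_lit 89), (nat_lit 201), (nat_lit 1), (nat_lit 1)), ((nat_lit 90), (nat_lit 202), (nat_lit 1), (nat_lit 1)), ((nat_lit 91), (nat_lit 203), (nat_lit 1), (nat_lit 1)), ((nat_lit 99), (nat_lit 210), (nat_lit 1), (nat_lit 1)), ((nat_lit 100), (nat_lit 211), (nat_lit 1), (nat_lit 1)), ((nat_lit 101), (nat_lit 212), (nat_lit 1), (nat_lit 1)), ((nat_lit 102), (nat_lit 213), (nat_lit 1), (nat_lit 1)), ((nat_lit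 104), (nat_lit 218), (nat_lit 1), (nat_lit 1)), ((nat_lit 110), (nat_lit 219), (nat_lit 1), (nat_lit 1)), ((nat_lit 111), (nat_lit 220), (nat_lit 1), (nat_lit 1)), ((nat_lit 112), (nat_lit 221), (nat_lit 1), (nat_lit 1)), ((nat_lit 113), (nat_lit 222), (nat_lit 1), (nat_lit 1)), ((nat_lit 130), (nat_lit 224), (nat_lit 1), (nat_lit 1)), ((nat_lit 142), (nat_lit 225), (nat_lit 1), (nat_lit 1)), ((nat_lit 162), (nat_lit 230), (nat_lit 1), (nat_lit 1)), ((nat_lit 164), (nat_lit 232), (nat_lit 1), (nat_lit 1)), ((nat_lit 169), (nat_lit 234), (nat_lit 1), (nat_lit 1)), ((nat_lit 174), (nat_lit 236), (nat_lit 1), (nat_lit 1)), ((nat_lit 175), (nat_lit 237), (nat_lit 1), (nat_lit 1)), ((nat_lit 176), (nat_lit 238), (nat_lit 1), (nat_lit 1)), ((nat_lit 177), (nat_lit 239), (nat_lit 1), (nat_lit 1))]))) (.node (.node (.leaf [((nat_lit 16), (nat_lit 1), (nat_lit 1), (nat_lit 1)), ((nat_lit 19), (nat_lit 4), (nat_lit 1), (nat_lit 1)), ((nat_lit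 28), (nat_lit 6), (nat_lit 1), (nat_lit 1)), ((nat_lit 38), (nat_lit 8), (nat_lit 1), (nat_lit 1)), ((nat_lit 47), (nat_lit 10), (nat_lit 1), (nat_lit 1)), ((nat_lit 49), (nat_lit 11), (nat_lit 1), (nat_lit 1)), ((nat_lit 51), (nat_lit 13), (nat_lit 1), (nat_lit 1)), ((nat_lit 79), (nat_lit 22), (nat_lit 1), (nat_lit 1)), ((nat_lit 81), (nat_lit 23), (nat_lit 1), (nat_lit 1)), ((nat_lit 83), (nat_lit 25), (nat_lit 1), (nat_lit 1)), ((nat_lit 88), (nat_lit 30), (nat_lit 1), (nat_lit 1)), ((nat_lit 90), (nat_lit 32), (nat_lit 1), (nat_lit 1)), ((nat_lit 91), (nat_lit 34), (nat_lit 1), (nat_lit 1)), ((nat_lit 99), (nat_lit 40), (nat_lit 1), (nat_lit 1)), ((nat_lit 101), (nat_lit 42), (nat_lit 1), (nat_lit 1)), ((nat_lit 102), (nat_lit 44), (nat_lit 1), (nat_lit 1)), ((nat_lit 104), (nat_lit 53), (nat_lit 1), (nat_lit 1)), ((nat_lit 110), (nat_lit 56), (nat_lit 1), (nat_lit 1)), ((nat_lit 112), (nat_lit 58), (nat_lit 1), (nat_lit 1)),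 ((nat_lit 113), (nat_lit 60), (nat_lit 1), (nat_lit 1)), ((nat_lit 119), (nat_lit 62), (nat_lit 1), (nat_lit 1)), ((nat_lit 121), (nat_lit 64), (nat_lit 1), (nat_lit 1)), ((nat_lit 124), (nat_lit 65), (nat_lit 1), (nat_lit 1)), ((nat_lit 130), (nat_lit 67), (nat_lit 1), (nat_lit 1)), ((nat_lit 133), (nat_lit 70), (nat_lit 1), (nat_lit 1)), ((nat_lit 142), (nat_lit 72), (nat_lit 1), (nat_lit 1)), ((nat_lit 145), (nat_lit 75), (nat_lit 1), (nat_lit 1)), ((nat_lit 154), (nat_lit 77), (nat_lit 1), (nat_lit 1)), ((nat_lit 162), (nat_lit 85), (nat_lit 1), (nat_lit 1)), ((nat_lit 164), (nat_lit 94), (nat_lit 1), (nat_lit 1)), ((nat_lit 167), (nat_lit 97), (nat_lit 1), (nat_lit 1)), ((nat_lit 169), (nat_lit 106), (nat_lit 1), (nat_lit 1)), ((nat_lit 172), (nat_lit 109), (nat_lit 1), (nat_lit 1)), ((nat_lit 174), (nat_lit 115), (nat_lit 1), (nat_lit 1)), ((nat_lit 175), (nat_lit 118), (nat_lit 1), (nat_lit 1)), ((nat_lit 177), (nat_lit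 120), (nat_lit 1), (nat_lit 1)), ((nat_lit 179), (nat_lit 126), (nat_lit 1), (nat_lit 1)), ((nat_lit 181), (nat_lit 127), (nat_lit 1), (nat_lit 1)), ((nat_lit 183), (nat_lit 129), (nat_lit 1), (nat_lit 1)), ((nat_lit 186), (nat_lit 135), (nat_lit 1), (nat_lit 1)), ((nat_lit 195), (nat_lit 137), (nat_lit 1), (nat_lit 1)), ((nat_lit 197), (nat_lit 138), (nat_lit 1), (nat_lit 1)), ((nat_lit 199), (nat_lit 140), (nat_lit 1), (nat_lit 1)), ((nat_lit 205), (nat_lit 148), (nat_lit 1), (nat_lit 1)), ((nat_lit 207), (nat_lit 149), (nat_lit 1), (nat_lit 1)), ((nat_lit 209), (nat_lit 151), (nat_lit 1), (nat_lit 1)), ((nat_lit 214), (nat_lit 156), (nat_lit 1), (nat_lit 1)), ((nat_lit 216), (nat_lit 158), (nat_lit 1), (nat_lit 1)), ((nat_lit 217), (nat_lit 160), (nat_lit 1), (nat_lit 1)), ((nat_lit 226), (nat_lit 188), (nat_lit 1), (nat_lit 1)), ((nat_lit 228), (nat_lit 190), (nat_lit 1), (nat_lit 1)), ((nat_lit 229), (nat_lit 192), (nat_lit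 1), (nat_lit 1)), ((nat_lit 231), (nat_lit 201), (nat_lit 1), (nat_lit 1)), ((nat_lit 233), (nat_lit 211), (nat_lit 1), (nat_lit 1)), ((nat_lit 235), (nat_lit 220), (nat_lit 1), (nat_lit 1)), ((nat_lit 238), (nat_lit 223), (nat_lit 1), (nat_lit 1))]) (.leaf [((nat_lit 1), (nat_lit 23), (nat_lit 1), (nat_lit 1)), ((nat_lit 2), (nat_lit 24), (nat_lit 1), (nat_lit 1)), ((nat_lit 5), (nat_lit 33), (nat_lit 1), (nat_lit 1)), ((nat_lit 7), (nat_lit 43), (nat_lit 1), (nat_lit 1)), ((nat_lit 9), (nat_lit 59), (nat_lit 1), (nat_lit 1)), ((nat_lit 10), (nat_lit 62), (nat_lit 1), (nat_lit 1)), ((nat_lit 13), (nat_lit 65), (nat_lit 1), (nat_lit 1)), ((nat_lit 16), (nat_lit 81), (nat_lit 1), (nat_lit 1)), ((nat_lit 17), (nat_lit 84), (nat_lit 1), (nat_lit 1)), ((nat_lit 20), (nat_lit 87), (nat_lit 1), (nat_lit 1)), ((nat_lit 26), (nat_lit 93), (nat_lit 1), (nat_lit 1)), ((nat_lit 29), (nat_lit 96), (nat_lit 1), (nat_lit 1)), ((nat_lit 32),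 (nat_lit 97), (nat_lit 1), (nat_lit 1)), ((nat_lit 36), (nat_lit 105), (nat_lit 1), (nat_lit 1)), ((nat_lit 39), (nat_lit 108), (nat_lit 1), (nat_lit 1)), ((nat_lit 42), (nat_lit 109), (nat_lit 1), (nat_lit 1)), ((nat_lit 46), (nat_lit 117), (nat_lit 1), (nat_lit 1)), ((nat_lit 47), (nat_lit 119), (nat_lit 1), (nat_lit 1)), ((nat_lit 50), (nat_lit 123), (nat_lit 1), (nat_lit 1)), ((nat_lit 51), (nat_lit 124), (nat_lit 1), (nat_lit 1)), ((nat_lit 53), (nat_lit 127), (nat_lit 1), (nat_lit 1)), ((nat_lit 54), (nat_lit 128), (nat_lit 1), (nat_lit 1)), ((nat_lit 58), (nat_lit 135), (nat_lit 1), (nat_lit 1)), ((nat_lit 67), (nat_lit 138), (nat_lit 1), (nat_lit 1)), ((nat_lit 68), (nat_lit 139), (nat_lit 1), (nat_lit 1)), ((nat_lit 72), (nat_lit 149), (nat_lit 1), (nat_lit 1)), ((nat_lit 73), (nat_lit 150), (nat_lit 1), (nat_lit 1)), ((nat_lit 76), (nat_lit 159), (nat_lit 1), (nat_lit 1)), ((nat_lit 80), (nat_lit 163), (nat_lit 1), (nat_lit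 1)), ((nat_lit 89), (nat_lit 166), (nat_lit 1), (nat_lit 1)), ((nat_lit 90), (nat_lit 167), (nat_lit 1), (nat_lit 1)), ((nat_lit 100), (nat_lit 171), (nat_lit 1), (nat_lit 1)), ((nat_lit 101), (nat_lit 172), (nat_lit 1), (nat_lit 1)), ((nat_lit 104), (nat_lit 181), (nat_lit 1), (nat_lit 1)), ((nat_lit 111), (nat_lit 185), (nat_lit 1), (nat_lit 1)), ((nat_lit 112), (nat_lit 186), (nat_lit 1), (nat_lit 1)), ((nat_lit 115), (nat_lit 188), (nat_lit 1), (nat_lit 1)), ((nat_lit 116), (nat_lit 189), (nat_lit 1), (nat_lit 1)), ((nat_lit 120), (nat_lit 192), (nat_lit 1), (nat_lit 1)), ((nat_lit 122), (nat_lit 193), (nat_lit 1), (nat_lit 1)), ((nat_lit 130), (nat_lit 197), (nat_lit 1), (nat_lit 1)), ((nat_lit 131), (nat_lit 200), (nat_lit 1), (nat_lit 1)), ((nat_lit 134), (nat_lit 203), (nat_lit 1), (nat_lit 1)), ((nat_lit 142), (nat_lit 207), (nat_lit 1), (nat_lit 1)), ((nat_lit 143), (nat_lit 210), (nat_lit 1), (nat_lit 1)), ((nat_lit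 146), (nat_lit 213), (nat_lit 1), (nat_lit 1)), ((nat_lit 152), (nat_lit 219), (nat_lit 1), (nat_lit 1)), ((nat_lit 155), (nat_lit 222), (nat_lit 1), (nat_lit 1)), ((nat_lit 158), (nat_lit 223), (nat_lit 1), (nat_lit 1)), ((nat_lit 174), (nat_lit 226), (nat_lit 1), (nat_lit 1)), ((nat_lit 177), (nat_lit 229), (nat_lit 1), (nat_lit 1)), ((nat_lit 180), (nat_lit 230), (nat_lit 1), (nat_lit 1)), ((nat_lit 196), (nat_lit 232), (nat_lit 1), (nat_lit 1)), ((nat_lit 206), (nat_lit 234), (nat_lit 1), (nat_lit 1)), ((nat_lit 215), (nat_lit 237), (nat_lit 1), (nat_lit 1)), ((nat_lit 216), (nat_lit 238), (nat_lit 1), (nat_lit 1))])) (.leaf [((nat_lit 2), (nat_lit 4), (nat_lit 1), (nat_lit 1)), ((nat_lit 9), (nat_lit 11), (nat_lit 1), (nat_lit 1)), ((nat_lit 16), (nat_lit 18), (nat_lit 1), (nat_lit 1)), ((nat_lit 21), (nat_lit 23), (nat_lit 1), (nat_lit 1)), ((nat_lit 26), (nat_lit 30), (nat_lit 1), (nat_lit 1)), ((nat_lit 28), (nat_lit 33),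 (nat_lit 1), (nat_lit 1)), ((nat_lit 29), (nat_lit 34), (nat_lit 1), (nat_lit 1)), ((nat_lit 36), (nat_lit 40), (nat_lit 1), (nat_lit 1)), ((nat_lit 38), (nat_lit 43), (nat_lit 1), (nat_lit 1)), ((nat_lit 39), (nat_lit 44), (nat_lit 1), (nat_lit 1)), ((nat_lit 47), (nat_lit 52), (nat_lit 1), (nat_lit 1)), ((nat_lit 48), (nat_lit 53), (nat_lit 1), (nat_lit 1)), ((nat_lit 51), (nat_lit 55), (nat_lit 1), (nat_lit 1)), ((nat_lit 57), (nat_lit 62), (nat_lit 1), (nat_lit 1)), ((nat_lit 58), (nat_lit 63), (nat_lit 1), (nat_lit 1)), ((nat_lit 61), (nat_lit 65), (nat_lit 1), (nat_lit 1)), ((nat_lit 68), (nat_lit 70), (nat_lit 1), (nat_lit 1)), ((nat_lit 73), (nat_lit 75), (nat_lit 1), (nat_lit 1)), ((nat_lit 79), (nat_lit 84), (nat_lit 1), (nat_lit 1)), ((nat_lit 80), (nat_lit 85), (nat_lit 1), (nat_lit 1)), ((nat_lit 83), (nat_lit 87), (nat_lit 1), (nat_lit 1)), ((nat_lit 90), (nat_lit 92), (nat_lit 1), (nat_lit 1)), ((nat_lit 95), (nat_lit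 97), (nat_lit 1), (nat_lit 1)), ((nat_lit 101), (nat_lit 103), (nat_lit 1), (nat_lit 1)), ((nat_lit 107), (nat_lit 109), (nat_lit 1), (nat_lit 1)), ((nat_lit 110), (nat_lit 117), (nat_lit 1), (nat_lit 1)), ((nat_lit 111), (nat_lit 118), (nat_lit 1), (nat_lit 1)), ((nat_lit 113), (nat_lit 123), (nat_lit 1), (nat_lit 1)), ((nat_lit 116), (nat_lit 126), (nat_lit 1), (nat_lit 1)), ((nat_lit 121), (nat_lit 128), (nat_lit 1), (nat_lit 1)), ((nat_lit 122), (nat_lit 129), (nat_lit 1), (nat_lit 1)), ((nat_lit 130), (nat_lit 132), (nat_lit 1), (nat_lit 1)), ((nat_lit 136), (nat_lit 138), (nat_lit 1), (nat_lit 1)), ((nat_lit 142), (nat_lit 144), (nat_lit 1), (nat_lit 1)), ((nat_lit 147), (nat_lit 149), (nat_lit 1), (nat_lit 1)), ((nat_lit 152), (nat_lit 156), (nat_lit 1), (nat_lit 1)), ((nat_lit 154), (nat_lit 159), (nat_lit 1), (nat_lit 1)), ((nat_lit 155), (nat_lit 160), (nat_lit 1), (nat_lit 1)), ((nat_lit 164), (nat_lit 166), (nat_lit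 1), (nat_lit 1)), ((nat_lit 169), (nat_lit 171), (nat_lit 1), (nat_lit 1)), ((nat_lit 174), (nat_lit 178), (nat_lit 1), (nat_lit 1)), ((nat_lit 176), (nat_lit 181), (nat_lit 1), (nat_lit 1)), ((nat_lit 177), (nat_lit 182), (nat_lit 1), (nat_lit 1)), ((nat_lit 184), (nat_lit 188), (nat_lit 1), (nat_lit 1)), ((nat_lit 186), (nat_lit 191), (nat_lit 1), (nat_lit 1)), ((nat_lit 187), (nat_lit 192), (nat_lit 1), (nat_lit 1)), ((nat_lit 195), (nat_lit 200), (nat_lit 1), (nat_lit 1)), ((nat_lit 196), (nat_lit 201), (nat_lit 1), (nat_lit 1)), ((nat_lit 199), (nat_lit 203), (nat_lit 1), (nat_lit 1)), ((nat_lit 205), (nat_lit 210), (nat_lit 1), (nat_lit 1)), ((nat_lit 206), (nat_lit 211), (nat_lit 1), (nat_lit 1)), ((nat_lit 209), (nat_lit 213), (nat_lit 1), (nat_lit 1)), ((nat_lit 216), (nat_lit 218), (nat_lit 1), (nat_lit 1)), ((nat_lit 221), (nat_lit 223), (nat_lit 1), (nat_lit 1)), ((nat_lit 228), (nat_lit 230), (nat_lit 1), (nat_lit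 1)), ((nat_lit 235), (nat_lit 237), (nat_lit 1), (nat_lit 1))])))

def rows : Tr (List Entry) :=
  (.node (.node (.node (.node rows0 rows1) (.node rows2 rows3)) (.node (.node rows4 rows5) (.node rows6 rows7))) (.node (.node (.node rows8 rows9) (.node rows10 rows11)) (.node (.node rows12 rows13) (.node rows14 rows15))))

def decs0 : Tr (List ℕ) :=
  .node (.node (.node (.node (.leaf []) (.leaf [(nat_lit 106338239662793269832304564822427566080), (nat_lit 172799639452039063477494917836444794880)])) (.node (.leaf []) (.leaf [(nat_lit 13153514735978126263833163494446547176903392886784), (nat_lit 93538959284563198684797945865781012248252448243712), (nat_lit 374145132780557500040083846318353177779486922375168), (nat_lit 2993155354647485751389310483748930016295872442138624), (nat_lit 11972621413363205849651627136198286095031530040590336), (nat_lit 6129982163463598989576353988724560046424707755065475072), (nat_lit 49039857307708444148031838710686820802548866773411692544),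 (nat_lit 196159429230833774040009602935708807234885911355385184256), (nat_lit 392318858461667547782272134815596458939319041207973183488), (nat_lit 1569275433846670190969581179768195931008819317598251384832), (nat_lit 3138550867693340381919223939599618123924081529292297601024)]))) (.node (.node (.leaf []) (.leaf [(nat_lit 23694541773438787087881700664688884100104192), (nat_lit 89551429937849533552729368688603576672452608), (nat_lit 713645624424462880590804640699623201356906496), (nat_lit 2854500829929790497131987352892709181056876544), (nat_lit 11417982222212412890343214682345175954598395904), (nat_lit 45671926336731899654334382754071148080131997696), (nat_lit 91343852375716728252847609977689514657466810368), (nat_lit 365375409343359553517200535162301211396225892352), (nat_lit 730750818666780687097627332231045316888246616064)])) (.node (.leaf []) (.leaf [(nat_lit 25108406944469726330004963529238035329841987817168003137536), (nat_lit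 50216813884554947748017218303865016161535126575368208646144), (nat_lit 100433627766917643040038082230424505073995828621252518477824), (nat_lit 200867255532739159852077987272196246523454444977763087548416), (nat_lit 401734511064930256590156885950066111234640283823155200393216), (nat_lit 803469022129586481623314227602969031563146264580124913434624), (nat_lit 1606938044259035947468128683057356467673225377627157083193344), (nat_lit 3213876088518003387047007480040422137619917179487767794548736), (nat_lit 6427752177035972520149390017043698876376567571092262403178496), (nat_lit 12855504354071927913326467562568825053321501748242888213397504), (nat_lit 26328072917139296674480900717492516243670119832529318336171868160), (nat_lit 52656145834278593348959710740122670241420720691470575888452550656), (nat_lit 105312291668557186697918376132814159359881681896147121384959508480), (nat_lit 210624583337114373395836229591912728158283484048897227573946220544),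 (nat_lit 421249166674228746791672197846967661035827028226095947549906042880), (nat_lit 842498333348457493583344243247434941491222424860367765667653353472), (nat_lit 1684996666696914987166688453827762658572352357236773217885558407168), (nat_lit 3369993333393829974333376891321971704939658468231565279046242664448), (nat_lit 6739986666787659948666753774477166603776793813342139979730048253952), (nat_lit 13479973333575319897333507544870944804502326065123784670278877970432)])))) (.node (.node (.node (.leaf []) (.leaf [(nat_lit 2793037667687062908107378777799953479630848), (nat_lit 5575356440816116254615661255465806260600832), (nat_lit 11150383233089277850094842366780662995746816)])) (.node (.leaf []) (.leaf [(nat_lit 749750339950753197038490319183453189083493394546688), (nat_lit 2993201025179855767197340402553970008099714095906816), (nat_lit 11972632830996298353603634615899546092982490454032384), (nat_lit 47890488506554412235618106715019100887075870333730816),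 (nat_lit 191561943321859953647773318922931632677089958464323584), (nat_lit 6129982163641961395021633093733522480656143380782252032), (nat_lit 49039857307797646448261227361376036748890245355899191296), (nat_lit 196159429230856074615066950098381111221471256001007058944), (nat_lit 6277101735386686339022089055863451800031923606554411008000), (nat_lit 401734511064747571673083672901618543322515532526743397072896), (nat_lit 25711008708143844408671436012754466757663180822350614335848448), (nat_lit 102844034832575377634685584543658372840747974832555223702044672), (nat_lit 205688069665150755269371149148896808907757856108004543198920704)]))) (.node (.node (.leaf []) (.leaf [(nat_lit 5868842512406907030911671906376324000805854117888), (nat_lit 23384070798784843752505240394897073611217932648448), (nat_lit 187072215153541873162727443971613794678049741996032), (nat_lit 748288838324311329861756665181564893501654044770304), (nat_lit 5986310706508739482429976828659748746940426768875520),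 (nat_lit 23945242826029534679497104857877547454955763269632000), (nat_lit 47890485652059029482154336168278907795699718128926720)])) (.leaf [])))

def decs1 : Tr (List ℕ) :=
  .node (.node (.node (.node (.leaf []) (.leaf [(nat_lit 44917272433563877177165448180993403912192)])) (.node (.leaf []) (.leaf [(nat_lit 47498803213254344841619757063279198138817807646720), (nat_lit 93718792493844149629811289897931648635436674318336), (nat_lit 187163553430688754962459388889728994204687861284864), (nat_lit 383123885217169112877040838760750287100705041842962432), (nat_lit 766247770433292878322900554561741087407379691740332032), (nat_lit 3064991081731951941288557574793911615036483309691469824), (nat_lit 392318858461667558628772580420509981834384653095584923648), (nat_lit 784637716923335100923991548635973717426788149466295697408), (nat_lit 3138550867693340384640153646971340915758174581686162948096), (nat_lit 25108406941546723055683440059751604127872796385287906263040),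 (nat_lit 50216813883093446110856456569121800560550530859428160208896), (nat_lit 200867255532373784442830332134375559931141217874707046465536)]))) (.node (.node (.leaf []) (.leaf [(nat_lit 5846007943120186580978685676847524119146324295680), (nat_lit 11692013120425294828569540323386239032880625876992), (nat_lit 23384026197975011425100834250387277529358457110528), (nat_lit 46768052394631428678383031954853978454918812401664), (nat_lit 93536104789183103677018968957333728486220804128768), (nat_lit 187072209578356902758067443503557130323019645845504)])) (.node (.leaf []) (.leaf [(nat_lit 37662610412320084583014736539245998496614132666784207077376), (nat_lit 56493915618480126874522104808868997744921199000176310616064), (nat_lit 103572178633880232603290525482926495865688864833656569462784), (nat_lit 202436530966220454633704208898447241919300963083965113040896), (nat_lit 402519148781670903980969996763191608932563542876256213139456), (nat_lit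 803861340987956805318720783009531780412107894106675419807744), (nat_lit 1607134203688221109315831960760637842097706192390432336379904), (nat_lit 3213974168232595967970859118892062824832157586869405421142016), (nat_lit 6427801216893268810611315836469519219982687774783081216475136), (nat_lit 12855528874000576058557430472281735225124561850088297620045824), (nat_lit 842498333348457867727763378180510518694477938572845921953218822144), (nat_lit 1684996666696915174238898021294300447173980114093012296028341141504), (nat_lit 3369993333393830067869481675055240599240472346659684818117634031616), (nat_lit 6739986666787659995434806166343801050927200752556199749265743937536), (nat_lit 13479973333575319920717533740804262028077529534730814555046725812224), (nat_lit 26959946667150639806359028185666854019266623084270836638351070593024), (nat_lit 107839786668602559178668061741875097602712524036144681964937035120640), (nat_lit 215679573337205118357336121393055332843179128553315775869090179055616),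 (nat_lit 431359146674410236714672241740763234505235297347144757707788412518400), (nat_lit 862718293348820473429344482958852753419909114814546118400380852240384), (nat_lit 1725436586697640946858688965656368649044537489689220538293163718082560), (nat_lit 3450873173395281893717377931182068869191434609408505227332528442966016)])))) (.node (.node (.node (.leaf []) (.leaf [(nat_lit 5749410871496176278677177367167155700760576), (nat_lit 11237484885197071817414483035826713415122944), (nat_lit 178408683847180352639993453178046346193534976), (nat_lit 356813284305957654018425345860803511168532480)])) (.node (.leaf []) (.leaf [(nat_lit 23948165829304175217685579668889013560082110649204736), (nat_lit 95781336679527386373126240118102503046926109119610880), (nat_lit 191562125295940773657658153854392737487719847264518144), (nat_lit 766247816104870595769889707440305614193213925339693056), (nat_lit 1532495563701851941653705124082884694810661304307548160),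 (nat_lit 12259964332636101637690615741435617346747893522999803904), (nat_lit 50216813883093535313667109508153897471691934149158300024832), (nat_lit 100433627766186936822863027832568945729074232408147564167168), (nat_lit 803469022129495148921353645435892872028960633215577170640896), (nat_lit 6427752177035961107743034668997306195472741543293261717700608), (nat_lit 51422017416287688817364565026400143342372151775925003895177216), (nat_lit 102844034832575377634696462945575876592251819589536558042054656), (nat_lit 822752278660603021077487313537610619999075639813649385819996160), (nat_lit 6582018229284824168619878091358869703684797316032749180467281920), (nat_lit 26328072917139296674479506926234520062863437341752506054699122688), (nat_lit 52656145834278593348959013844493672151017379446082169747716177920)]))) (.node (.node (.leaf []) (.leaf [(nat_lit 11697722089418047185153711805608062137792991330304), (nat_lit 23384383009217623181229221894952890688279016374272),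 (nat_lit 46768230800550481627503046932667237815881889218560), (nat_lit 748288838487646865983807127643984705068902786269184), (nat_lit 1496577676713956874172333515348097711630207586140160), (nat_lit 23945242826073069554815052422546892943794065115185152)])) (.leaf [])))

def decs2 : Tr (List ℕ) :=
  .node (.node (.node (.node (.leaf []) (.leaf [(nat_lit 1531270651144223085585185733442956951552), (nat_lit 2732892759333787034690227315936388448256)])) (.node (.leaf []) (.leaf [(nat_lit 23749401606627172420809878531639599069408903823360), (nat_lit 46813724320755484098711779797943440473354089267200), (nat_lit 374150128147481970899667550319246251012464261988352), (nat_lit 23945242827423309986757336245569563386083321378242560), (nat_lit 191561942608410331866656898887081895751347455597215744), (nat_lit 1532495540865975970644278787396955807518241654845734912), (nat_lit 24519928653854243511805035374466608593874701588103168000), (nat_lit 196159429230833776592127354842747283210195467093646770176),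 (nat_lit 1569275433846670192320076823485670457879087290843081474048), (nat_lit 25108406941546723055348474604813805327901037006097259429888), (nat_lit 50216813883093446110687644613657116244691747362772556447744)]))) (.node (.node (.leaf []) (.leaf [(nat_lit 5846006636435897604574985977489031581156392304640), (nat_lit 11692013100008352813313232515583762586974533189632)])) (.node (.leaf []) (.leaf [(nat_lit 36779892980781332600600328651607420406849738932406452224), (nat_lit 99612210156282775793292556764770096935218042941934141440), (nat_lit 196925677001266718299047592988814730095007977200592879616), (nat_lit 784829278865943331586768471279352090660746772948277264384), (nat_lit 1569371214817974309012594752491113498349565032311145103360), (nat_lit 12554227416016187557184990695587632055785704931726853144576), (nat_lit 50216825855714859125443021310247480940609340577111668162560), (nat_lit 100433633752497598728750983733615737463532935622124248236032),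 (nat_lit 803469023626072814397825634411154569962575309019071341658112), (nat_lit 6427752177784249940481270663484937044439548881195008803209216), (nat_lit 51422017416661833236499498101977346597885864254081289460645888), (nat_lit 102844034832762449844263929483364478220008675828614700824788992), (nat_lit 822752278660649789129879180172057770406014853873418921515679744), (nat_lit 6582018229284847552646074024676093278888266923062633948315123712), (nat_lit 105312291668557198389931126330893777948373757130813268501771321344), (nat_lit 3369993333393829980179383435201065507019382383682703638761681453056), (nat_lit 107839786668602559178668060348083839606531717353653905152655562375168), (nat_lit 215679573337205118357336120696159703845088725212070387462949442682880)])))) (.node (.node (.node (.leaf []) (.leaf [(nat_lit 2961817721679848385985212583086110512513024), (nat_lit 11193928742231191694091171086075447084056576), (nat_lit 178406046658836715366901612024838749989896192)]))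 (.node (.leaf []) (.leaf [(nat_lit 1499500679901506394076980638366906378166986789093376), (nat_lit 5986676081916711078691843996014074319265613679165440), (nat_lit 11972804100719423068789361610215880032398856383627264), (nat_lit 766247773287439814591093275691726530708359833857294336), (nat_lit 1532495542293136551064306908208595153068234258566348800), (nat_lit 12259964327283922790043266187467044961312286761564504064), (nat_lit 784637716923424298460267800393524444885885024004028235776), (nat_lit 1569275433846714792449344417048199675462134157839020589056), (nat_lit 12554203470773372678044178111726903600063847213108822016000), (nat_lit 6427752177035961104955441519180978302780776759212216529453056), (nat_lit 51422017416287688817343467519651045157637422550264234266066944), (nat_lit 102844034832575377634685914192201327499884454976706173227499520), (nat_lit 822752278660603021077484676349266982725983798660441789616357376), (nat_lit 1645504557321206042154969187874262488122399357248808104469987328),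 (nat_lit 3291009114642412084309938367773157001535303477074773847257907200)]))) (.node (.node (.leaf []) (.leaf [(nat_lit 6211381958656337402365660539044202833537713307648), (nat_lit 46768141597569687505010480789794147222435865296896), (nat_lit 374144430307083746325454887943227589356099483992064), (nat_lit 1496577676648622659723513330363129787003308089540608), (nat_lit 11972621413017478964859953657319497493880853537751040), (nat_lit 23945242826030193976583014176150507743257662320541696), (nat_lit 191561942608236192365385108628404513795994248215003136), (nat_lit 383123885216472219906498739927240787519913021667278848), (nat_lit 766247770432944430508401509360070464713176621372145664)])) (.leaf [])))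

def decs3 : Tr (List ℕ) :=
  .node (.node (.node (.node (.leaf []) (.leaf [(nat_lit 65334214448820184984967924626899496599552), (nat_lit 87792850665602123573550648717396198555648), (nat_lit 174267107159385610601180720830994295291904), (nat_lit 348454460639024126249987213238371769909248), (nat_lit 696899616682077758088864099827321577406464)])) (.node (.leaf []) (.leaf [(nat_lit 748380182165755475552674364652781673752565957787648), (nat_lit 1496589094608386235919621734989229408088765985980416), (nat_lit 2993161062244460000320670770546825422235895379001344), (nat_lit 23945243539653359764829112828366565718790366975492096), (nat_lit 47890486008870950000188314863018654350459381663924224), (nat_lit 383123885394878176177831741919863042085871672593743872), (nat_lit 24519928653876522478932083057546482656172474316443615232), (nat_lit 49039857307719593840066370180380661734935976090628259840), (nat_lit 392318858461673122926036471606264534935965377369378652160),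 (nat_lit 25108406941546725842936307509158558356374205858901326299136)]))) (.node (.node (.leaf []) (.leaf [(nat_lit 5847433797016317632695797616834581573760112918528), (nat_lit 11692057700137620406875761733166809453970472304640), (nat_lit 187072212365948723346399551279649010597004553748480), (nat_lit 748288838313762576487207572814200280671269230215168), (nat_lit 1496577676626865855888505827355440273040639409520640), (nat_lit 2993155353253691834937138107234693431869470408704000)])) (.node (.leaf []) (.leaf [(nat_lit 32138760885179805510839241846823252050444059875655856706027520), (nat_lit 54635893504805669368426711139599528485754901788614956400246784), (nat_lit 104450972876834367910227536002175569163943194595881534294589440), (nat_lit 1645604990948972229047190555188121827645393503320691287900815360), (nat_lit 3291059331456295177756049051430086671296800550110715438973321216), (nat_lit 6582043337691765715342932073387094850596607871956097309532487680),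 (nat_lit 26328074486414730521149697879864963881640377875726138929586372608), (nat_lit 52656146618916310272294109321308894060405849713068986185159802880), (nat_lit 105312292060876045159585575423407271269374246406946326533313134592), (nat_lit 421249166698748675445526332468415281709985328540096270972181544960), (nat_lit 842498333349989989124210110327721805578311072388011629156671422464), (nat_lit 1684996666697681234937121387367906090615896681000595149630067441664), (nat_lit 3369993333394213098218593358092043420961430630113476244918497181696), (nat_lit 13479973333575343842576333573023227185990871434851280283350589243392), (nat_lit 26959946667150641291244691713864218914210413124014384608778534256640), (nat_lit 53919893334301279636102082568628154729792203492002201591197061873664), (nat_lit 107839786668602559179033435757411248424099498898341360679328424132608), (nat_lit 215679573337205118357518808400823408253872615984414115226285873561600),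 (nat_lit 431359146674410236714763585244647272210582041062693927386386259771392), (nat_lit 1725436586697640946858694674560027186952301476186474436771176586936320), (nat_lit 3450873173395281893717378287950435902715524750656685639955046207586304), (nat_lit 6901746346790563787434755873427398051716420542938245691486704976789504), (nat_lit 13803492693581127574869511724728275476765738437634020909330113771864064), (nat_lit 27606985387162255149739023449110824068739803396389253217509551040888832), (nat_lit 55213970774324510299478046898216288690200602011978958284952051732447232)])))) (.node (.node (.node (.leaf []) (.leaf [(nat_lit 11498821742992352557354354734334311401521152), (nat_lit 22474969770394143634828966071653426830245888), (nat_lit 356817367694360705279986906356092692387069952), (nat_lit 713626568611915308036850691721607022337064960), (nat_lit 5708990940965022984702375609485284261415092224), (nat_lit 11417981626718270778700903621439612949004025856)]))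 (.node (.leaf []) (.leaf [(nat_lit 24519930115355859064636470638089779654182845610870177792), (nat_lit 49039857673083852800192834419731102054870406823858405376), (nat_lit 196159429322177626203049851862969877547966296367996862464), (nat_lit 392318858507339473906327555144344302028781059643250049024), (nat_lit 1569275433858088172500595034850382891781184822207070601216), (nat_lit 6277101735392389754606613262731899559980153425009565499392), (nat_lit 25108406941549577550728569612592782236348320768128903544832), (nat_lit 100433627766187605845218983751263191800622411858992743579648), (nat_lit 401734511064747925697413699575260915202043110819482304512000), (nat_lit 3213876088517980729489885772927310337330152168752477718446080), (nat_lit 25711008708143844410065190052366765586701230292565207958945792), (nat_lit 102844034832575377635034023053561447548007487200108872107819008), (nat_lit 411376139330301510538916520211201146738977214207400031161417728),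 (nat_lit 3291009114642412084310025477400632770212118355166662259359350784), (nat_lit 52656145834278593348959057397978182039570871012224306893486555136), (nat_lit 842498333348457493583344221470692686546945679077296697094768164864)]))) (.node (.node (.leaf []) (.leaf [(nat_lit 11783356950980404778017208963775031845975956127744), (nat_lit 46768766018435246362458443789905781376558032748544), (nat_lit 93536461601100963255006093865334475631763778437120), (nat_lit 1496577676975293731967614255287969410137805572538368), (nat_lit 2993155353427913748344667030696195423260415172280320), (nat_lit 383123885216515770732552636910900607854436046876966912), (nat_lit 24519928653854221903874735894874178669587129670821740544), (nat_lit 49039857307708443552537696599044509741643303767817322496)])) (.leaf [(nat_lit 13292279957849158729038070602803445760)])))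

def decs4 : Tr (List ℕ) :=
  .node (.node (.node (.node (.leaf []) (.leaf [])) (.node (.leaf []) (.leaf [(nat_lit 23475370049627628123646687625505296003223416471552), (nat_lit 46779470376130541061566380934676652590080903348224), (nat_lit 93541813779948610604560062437719911238525213736960), (nat_lit 23945242826377962555576213285810076592052929432649728), (nat_lit 47890485652233251395561865091740409787090662892503040), (nat_lit 383123885216559326875518517034223919804187313208033280), (nat_lit 24519928653854227178251423169420362351893544863229018112), (nat_lit 49039857307708446189726040236317601582796511364020961280), (nat_lit 392318858461667549100866306634233004859895645006075002880)]))) (.node (.node (.leaf []) (.leaf [])) (.node (.leaf []) (.leaf [(nat_lit 27584919735585999450450246488705565305137304199304839168), (nat_lit 49806105078141387896646278382385048467609021470967070720), (nat_lit 98462838500633359149523796494407365047503988600296439808),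 (nat_lit 392414639432971665793384235639676045330373386474138632192), (nat_lit 784685607408987154506297376245556749174782516155572551680), (nat_lit 3138574812936166411431306560776132431632171765030801375232), (nat_lit 25108412927857429562721510655123740470304670288555834081280), (nat_lit 50216816876248799364375491866807868731766467811062124118016), (nat_lit 200867257028951461069589849783218594016749186350524028420096), (nat_lit 1606938045007279113855384386461449236872939899846630297305088), (nat_lit 25711008708330916618249749050988673298942932127040644730322944), (nat_lit 51422017416381224922131964741682239110004337914307350412394496), (nat_lit 205688069665197523321765736713051331037488904260826472759951360), (nat_lit 1645504557321229426181166477004041763940059326161894358269296640), (nat_lit 26328072917139308366492605568140953709202435580401435061038088192), (nat_lit 842498333348457499429350770792975131365900094069524968658217992192)]))))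 (.node (.node (.node (.leaf []) (.leaf [(nat_lit 2809371221299267954353620758956678353780736), (nat_lit 5575866864366497662310856317376953912918016), (nat_lit 11150415134561176688075792058150109724016640), (nat_lit 22300750515442606281199209887876602627358720), (nat_lit 44601491726289242067987309449103783292305408)])) (.node (.leaf []) (.leaf [(nat_lit 1497308427445510039699675111117831953637502890278912), (nat_lit 2993338040958355539345921998007037159632806839582720), (nat_lit 5986402050359711534394680805107940016199428191813632), (nat_lit 383123886643719907295546637845863265354179916928647168), (nat_lit 766247771146568275532153454104297576534117129283174400), (nat_lit 3064991082088589639893184024565189859599852028462891008), (nat_lit 392318858461712149230133900196762222442942512002014117888), (nat_lit 784637716923357396224672208524099837731067078919510294528), (nat_lit 3138550867693351532290493976915403975910314046412770246656),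 (nat_lit 1606938044258990278329555242157490495214167777863838023548928), (nat_lit 25711008708143844408671733759825522578818711275132117133033472), (nat_lit 51422017416287688817342957096100663749942227488353086613749760), (nat_lit 205688069665150755269371232890260543357457849047849340860628992)]))) (.node (.node (.leaf []) (.leaf [(nat_lit 5937350401656793105202469632909899767352225955840), (nat_lit 46768074695334091913141056182639329277351347355648), (nat_lit 93536115939550386030347400061701249582160435740672), (nat_lit 1496577676632289106111308284116887805846583215390720), (nat_lit 2993155353256411435416514045110654621114803993706496), (nat_lit 23945242826029683553032632768455312681346514668224512), (nat_lit 47890485652059111894290074833063027831737455510290432)])) (.leaf [])))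

def decs5 : Tr (List ℕ) :=
  .node (.node (.node (.node (.leaf []) (.leaf [(nat_lit 49000660836615138738725943470174622449664), (nat_lit 87282427115220715878355586806248546238464), (nat_lit 174235205687486772620231029461547567022080)])) (.node (.leaf []) (.leaf [(nat_lit 49691055669250699218925284312353622668301706461184), (nat_lit 187437584987688299259622579795863297270873348636672), (nat_lit 374327106861377509924918777779457988409375722569728), (nat_lit 766247770434338225754081677521500574201410083685924864), (nat_lit 1532495540866585756645801109123482174814759383480664064), (nat_lit 12259964326927285091438639737695766716748918042793082880), (nat_lit 784637716923335117257545160841019963668769306191169847296), (nat_lit 1569275433846670201847983097271947434853576298932591394816), (nat_lit 12554203470773361530393837781782840539911707748382214717440), (nat_lit 50216813883093446111366880119503208255745592770575812526080), (nat_lit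 100433627766186892221712913138243601121101061718856320417792), (nat_lit 803469022129495137771066116762311535876967340543254359703552), (nat_lit 1606938044258990275541967409253145742185694609011033956679680), (nat_lit 3213876088517980551083926843138316774876151795179706231291904)]))) (.node (.node (.leaf []) (.leaf [(nat_lit 5846363361246788162785003902357494452407825858560), (nat_lit 11692024249019822610941049429589400481428213334016), (nat_lit 46768055182182043198845807338885840710035029622784), (nat_lit 748288838313507364712016868966602749715695404056576)])) (.node (.leaf []) (.leaf [(nat_lit 25723562911614617770199065056305016973187452611413613433847808), (nat_lit 51428294518023075498106622744340410947126598156493834764156928), (nat_lit 102847173383443070975067491804546010394629042779820973476544512), (nat_lit 205689638940584601939562106767024615039446008793058598927204352), (nat_lit 411376923968018433873837775113015527203985979202825523841466368),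 (nat_lit 822752670979461482745032331015514202970518939214005210676461568), (nat_lit 1645504753480635272988743052425769980222311368832187502849687552), (nat_lit 3291009212722126699726825300048910747585259482866463546447757312), (nat_lit 6582018278324681476328320197696506888740837338333971363269705728), (nat_lit 13164036483089576991093975194192356474266833862968464861726507008), (nat_lit 842498333348469466204757236226069383137310374994889911433879879680), (nat_lit 1684996666696920973477394950317079879395396332304034290768671670272), (nat_lit 3369993333393832967488730139566630315351180455765195815487799296000), (nat_lit 6739986666787661445244430398599495908982554807108955247950826569728), (nat_lit 13479973333575320645622345856932109457105206562007192304389267128320), (nat_lit 53919893334301279601026043272686484692903767506811409119454680842240), (nat_lit 107839786668602559178670914843463934614310694262101188914687206490112), (nat_lit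 215679573337205118357337547943849751348978213666294029343965264740352), (nat_lit 431359146674410236714672955016160443758134839903633884445225955360768), (nat_lit 862718293348820473429344839596551358046358886092790681769099623661568), (nat_lit 1725436586697640946858689143975217951357762375328342819977523103793152), (nat_lit 6901746346790563787434755865064618602267436864862351339243569412046848), (nat_lit 13803492693581127574869511724597607047868098067664085060076314778664960)])))) (.node (.node (.node (.leaf []) (.leaf [(nat_lit 6272084587086737758556920764182351673556992), (nat_lit 44688602682993006529718060444799255674093568), (nat_lit 178416850623986455163116574168624708630609920), (nat_lit 1427249053835427564812139822947924863455592448), (nat_lit 5708990792091487456791797844258893510016499712), (nat_lit 11417981544306135040036119501403575211622662144)])) (.node (.leaf []) (.leaf [(nat_lit 383126808219746876395423164157242728470724092410986496),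 (nat_lit 766249231934581760082091717259987308092389217024344064), (nat_lit 1532496271616707523809806128992725541760248950149873664), (nat_lit 3064991447107187049442423605221826546308233158350340096), (nat_lit 6129982346151260099796252884061840824010333945725976576), (nat_lit 12259964418270963200048208604932775513717601705964601344), (nat_lit 1606938044258990364744942886463655168665076084376238859223040), (nat_lit 3213876088517980595685414581743571488115842532862308682563584), (nat_lit 6427752177035961124468593567895273551624530247779532847185920), (nat_lit 12855504354071922215486069337994612390945483086586523435401216), (nat_lit 1645504557321206042154990960628833445044397521608455496514142208), (nat_lit 3291009114642412084309949254150442479996302559254597543279984640), (nat_lit 6582018229284824168619882174747272754946358876528038361685819392), (nat_lit 13164036458569648337239756182717739407369594632065498360934563840), (nat_lit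 26328072917139296674479507601482341921600700776886492677114167296), (nat_lit 52656145834278593348959014182117583080386011163649163058923700224), (nat_lit 105312291668557186697918027853811615779364327132236414970195083264), (nat_lit 210624583337114373395836055452411456368024806666941874366564007936)]))) (.node (.node (.leaf []) (.leaf [(nat_lit 11714849061730518703726411237241456079429584289792), (nat_lit 23385453444987152651140015609429977809631303434240), (nat_lit 187072387984317161775056790873430407702851413344256), (nat_lit 748288839010320581574368607523728102084098759065600), (nat_lit 5986310706594490638894053321452519148013232358162432), (nat_lit 95780971304161609790362569320217635925922461467541504), (nat_lit 24519928653854221755001200366963600904360738919423148032), (nat_lit 49039857307708443470125560860379725621607266030435958784)])) (.leaf [(nat_lit 3987683987354747618711421180841033728)])))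

def decs6 : Tr (List ℕ) :=
  .node (.node (.node (.node (.leaf []) (.leaf [(nat_lit 2041694201525630780780247644590609268736), (nat_lit 2764794231232625015639918685383116718080), (nat_lit 5449834782718155078905608947149412761600), (nat_lit 10890364969465815746700891244876863111168)])) (.node (.leaf []) (.leaf [(nat_lit 24845527834625349609462642156176811334150853230592), (nat_lit 93581776715344377481229694444864497102343930642432), (nat_lit 374155837138252794739191783463124048993009792974848), (nat_lit 47890485653452823398606508544793144380126120162361344), (nat_lit 191561942608584556438520419380375143550352520921481216), (nat_lit 6129982163463642545719319868847883358374459021396541440), (nat_lit 49039857307708465245538587808871555531774527543040802816), (nat_lit 196159429230833779314386290210254990917192326547792461824), (nat_lit 6277101735386680765196918890891420269955853874191107358720), (nat_lit 25108406941546723055385692988695782972342343603785109078016),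 (nat_lit 100433627766186892221383264595288941984620917567906794962944), (nat_lit 200867255532373784442746590770641110231148278029909384757248)]))) (.node (.node (.leaf []) (.leaf [(nat_lit 5846006897772755399855725917360730088754378702848), (nat_lit 11692013104091741216364494077144257876155751727104), (nat_lit 23384026197464587874719426555192215618210804793344), (nat_lit 46768052394599527206484193973904287085472084131840)])) (.node (.leaf []) (.leaf [(nat_lit 404578822788594658606603615167681624475347128256470974464), (nat_lit 790767699086798650912907066009559538747269387046738722816), (nat_lit 1572340424928401968675664049856217222392826339360375832576), (nat_lit 3140083363234206270776253058630983517234796461354200858624), (nat_lit 6277867983157113708264968596721241570694164814025126313984), (nat_lit 12554586594658577999886168433172120409500615573708614926336), (nat_lit 1606938056231611688556718798265748752133993490804192227360768),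 (nat_lit 3213876094504291257591302537644618279850301236076285366632448), (nat_lit 6427752180029116455421537545845796947491759599386521189220352), (nat_lit 12855504355568499880962541326969874088879097762390017606418432), (nat_lit 1645504557321580186574125893704410648299911234086611782079610880), (nat_lit 3291009114642599156519516720688231081624059415493675686062718976), (nat_lit 6582018229284917704724665908016167055760237304647577433077186560), (nat_lit 13164036458569695105292148049352186557776533846125267896630247424), (nat_lit 421249166674228758483685209381905074905059043332460602264704253952), (nat_lit 13479973333575319903179514092833427009633311542135418319175535296512), (nat_lit 107839786668602559178668060348759087428390454617089039139277977419776), (nat_lit 215679573337205118357336120696497327756018093843787954456260650205184), (nat_lit 431359146674410236714672241392484231961654779992380847001373648093184), (nat_lit 862718293348820473429344482784713252148118856137164163047173470027776)]))))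 (.node (.node (.node (.leaf []) (.leaf [(nat_lit 3484491437270409865864955980101306485309440), (nat_lit 44645046540027126406394748495047989343027200), (nat_lit 178406301870611906070749209555794323816054784), (nat_lit 356811944444137902823225458823286748581199872), (nat_lit 713623849011435932098974730532361688752062464)])) (.node (.leaf []) (.leaf [(nat_lit 23945973576848178863308274141639939135552626750390272), (nat_lit 47890668339763693186563120059051251523463054559805440), (nat_lit 95781062647970386828829076927196368743859923632259072), (nat_lit 383123908052435297884944853720152807096606962669846528), (nat_lit 766247781850925970826852562041442347405330652153774080), (nat_lit 3064991087440768487540533578533762245035458789898190848), (nat_lit 25108406941546767656833554754076948735845967074579150012416), (nat_lit 50216813883093468411431513916284472864537116204073782083584), (nat_lit 200867255532373795593117860807956896083134510547029857402880),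 (nat_lit 1606938044258990281117148391973818387906132561944883211796480), (nat_lit 25711008708143844408682282513200071671186075887962501947588608), (nat_lit 51422017416287688817348231472787938296125909794768279021027328), (nat_lit 205688069665150755269373870078604180630549690201056937064267776), (nat_lit 1645504557321206042154970543686818188736589719132009590421454848)]))) (.node (.node (.leaf []) (.leaf [(nat_lit 7307508186654514591018424163581415098279662714880), (nat_lit 93536193992158580887528395436715203851425706672128), (nat_lit 374144441457456345590766458711086725680280236982272), (nat_lit 2993155353275467247964086599064603599130983013548032), (nat_lit 11972621413020201223795321165027204490740307683442688), (nat_lit 47890485652059707388432186475374088737300461104660480), (nat_lit 191561942608236277435976838863020379639646106157056000), (nat_lit 383123885216472257124882621904885228826510709516926976), (nat_lit 1532495540865888868992170993429636166849195604426358784),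 (nat_lit 3064991081731777718045922050085534240141285304647548928)])) (.leaf [])))

def decs7 : Tr (List ℕ) :=
  .node (.node (.node (.node (.leaf []) (.leaf [(nat_lit 2788954279284011646545818282510772261093376)])) (.node (.leaf []) (.leaf [(nat_lit 748654213722755019849837555558915976818751445139456), (nat_lit 1496623348553011178956767133852496195972039171899392), (nat_lit 11972627122005527529764110382755668295001944923045888), (nat_lit 23945245680524898823768934415795519893033071549612032), (nat_lit 191561942965048030471283348658360140314716174368636928), (nat_lit 1532495541044294819946592012282594929799926014231445504), (nat_lit 24519928653943424714527674926971089810990419400961556480), (nat_lit 196159429230844924242467684786810343362334931820254068736), (nat_lit 1569275433846675766145246988457701987955157023206385123328), (nat_lit 100433627766186895008965780587650555349602471192469740453888), (nat_lit 25711008708143844408671398794370584780018739515752926486200320),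 (nat_lit 51422017416287688817342788284145199065626368704856431009988608)]))) (.node (.node (.leaf []) (.leaf [(nat_lit 5851715540094435512338972474742930059169261158400), (nat_lit 23384037347667045956570528091319664638675673677824), (nat_lit 46768057969775193015173700030850624791080217870336), (nat_lit 748288838316144553055654142058443902923291607695360), (nat_lit 1496577676628205717708257022555327310557401996853248)])) (.node (.leaf []) (.leaf [(nat_lit 64277521770359611021678483693646504100888119751311713412055040), (nat_lit 212115821842186716371538996189033463532930795179328654259781632), (nat_lit 824359216704862011353026553371016415093890135810572724509605888), (nat_lit 1646308026343335537292740163603521086283996967130471259766259712), (nat_lit 6582219096540356542404319475490944665256258737908542302498848768), (nat_lit 13164086675383531430685864146774189701193215743912194619064975360), (nat_lit 26328085471342767447841034592496454495056606054848166741646770176),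 (nat_lit 105312294807108054391258409601565143922728303451726833486328233984), (nat_lit 210624584121752090319171150846814542538748492813892653066626269184), (nat_lit 421249166772308461407088997669615939013200169353795748836994449408), (nat_lit 842498333360717457910271332336230234768363236673342803011956637696), (nat_lit 3369993333396894965415108663594170528258943671184809038382318485504), (nat_lit 6739986666788426196437186716184086841922861260226952489836994363392), (nat_lit 13479973333575415678304811661563462733507769105594262411746941599744), (nat_lit 26959946667150645780977721594397983635930219228435820991803306278912), (nat_lit 53919893334301279776406239752394834877345947432765371478166585999360), (nat_lit 107839786668602559181591063622740328530955947355594855963726306082816), (nat_lit 431359146674410236715402992210979542237296153177007301207485730258944), (nat_lit 862718293348820473429527170489294544421164082125387854772772519542784),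 (nat_lit 1725436586697640946858711801532339658470874175618107830712813179895808), (nat_lit 3450873173395281893717379358386205432185435544371162727076398494646272), (nat_lit 6901746346790563787434755906878515849512355255241823100459247235760128), (nat_lit 13803492693581127574869511725250949192356299917513764306345309744660480), (nat_lit 27606985387162255149739023449118990845545905919512374208087913477963776), (nat_lit 55213970774324510299478046898216543901975792715826555815907625558605824), (nat_lit 110427941548649020598956093796432428506865676113380151343513352066301952), (nat_lit 220855883097298041197912187592864817136891478679284115572814895722266624)])))) (.node (.node (.node (.leaf []) (.leaf [(nat_lit 12544169174173475517113841528364703347113984), (nat_lit 89377205365986013059436120889598511348187136), (nat_lit 356833701247972910326233148337249417261219840), (nat_lit 2854498107670855129624279645895849726911184896), (nat_lit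 5708991451388573366110070804547195409067409408), (nat_lit 45671926251661307924099766888227496222189944832), (nat_lit 91343852338498344370869965536382916969617162240), (nat_lit 182687704667692092771245519962439184517271912448)])) (.node (.leaf []) (.leaf [(nat_lit 49039860230711718129272941276179559308365691221740355584), (nat_lit 98079716076918524265837127941304620467882323475683082240), (nat_lit 196159429961584592535319878577081991861340117467467350016), (nat_lit 3138550867739012308084485427797698359073561566596265148416), (nat_lit 6277101735409516726919084781304598991613547366646158458880), (nat_lit 12554203470784779509213226525463799119960306850019130998784), (nat_lit 200867255532376638938130673462407441887214273213121869905920), (nat_lit 401734511064748996133183229045171708916520197940834591571968), (nat_lit 803469022129495851394827399150521830404086221638964609024000), (nat_lit 12855504354071922382741658326974285952463370131449234730254336),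 (nat_lit 205688069665150755270764944394576977069187965596238005512699904), (nat_lit 411376139330301510539439193926791708218856957604415227134214144), (nat_lit 822752278660603021077833040422402293477954428414800062322835456), (nat_lit 13164036458569648337239840572744735800108533548968141439451004928), (nat_lit 210624583337114373395836098923483830517913514113047973774953021440), (nat_lit 842498333348457493583344221511898754416278071137314715963458846720), (nat_lit 1684996666696914987166688442959994565034880180375246693033461153792), (nat_lit 3369993333393829974333376885888087658170922379800802016620194037760)]))) (.node (.node (.leaf []) (.leaf [(nat_lit 12057388507979949075180399869909334912161443479552), (nat_lit 46770906889974305302280031218859955619262606868480), (nat_lit 374144775968634323550113581746860815405702826688512), (nat_lit 1496577678020641163148737215047456204168197518131200), (nat_lit 11972621413188981277788106642905038296026464716324864),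 (nat_lit 1532495540865932414501312907273632495568490388514668544), (nat_lit 24519928653854222414298286276281873864649040818474057728), (nat_lit 196159429230833773954939011205474191369042259497443131392), (nat_lit 392318858461667547745053750933618814498012443520123535360), (nat_lit 784637716923335095480802905896743217885698237618284658688)])) (.leaf [])))

def decs8 : Tr (List ℕ) :=
  .node (.node (.node (.node (.leaf []) (.leaf [(nat_lit 127605887595351923798765477786913079296), (nat_lit 175458095443608895223302531957005484032), (nat_lit 341611594916723379336278414492048556032)])) (.node (.leaf []) (.leaf [(nat_lit 14615016373309029182036848327162830196559325429760), (nat_lit 187075064073740985449833775159623125506232130994176), (nat_lit 374145846404403853020024375461337902527055113748480), (nat_lit 5986310707901174927870457021151877640551222290153472), (nat_lit 11972621413711654993378668122784781693041660689121280), (nat_lit 12259964326927154423009742097325796780899664243799883776),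 (nat_lit 98079714615416887615498943579496714678348518683286962176), (nat_lit 196159429230833774210150786396178038966573215071269289984), (nat_lit 784637716923335095522008973766075609945716256486975340544), (nat_lit 1569275433846670190980215003734475257992049774080494141440), (nat_lit 3138550867693340381923211623586972871542792950473138634752), (nat_lit 6277101735386680763838447879199236247848163058584595202048)]))) (.node (.node (.leaf []) (.leaf [(nat_lit 45995286971969410229417418937337245606084608), (nat_lit 89899879081576574539315864286613707320983552), (nat_lit 1427269470777442821119947625424370769548279808), (nat_lit 2854506274447661232147402766886428089348259840), (nat_lit 22835963763860091938809502437941137045660368896), (nat_lit 45671926506873083114803614485758451796016103424), (nat_lit 182687704708898160640577912022457203385962594304), (nat_lit 365375409353993377483479862145531667878468648960), (nat_lit 730750818670768371084982079849756738069087649792),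 (nat_lit 1461501637333561374195254664462090633776493232128)])) (.node (.leaf []) (.leaf [(nat_lit 25711008708146767411946055283295009010020680466563997229907968), (nat_lit 51422017416289150318980117857835406965543212084069026662187008), (nat_lit 102844034832576108385504239361293508403837349743608569425559552), (nat_lit 205688069665151120644780480545398364044050162274952396901711872), (nat_lit 411376139330301693226446962002202401706288055943772422828720128), (nat_lit 822752278660603112421336924460107640221669977584478660170088448), (nat_lit 1645504557321206087826895349148066698847886888017424227596500992), (nat_lit 3291009114642412107145901448410059106898047242459081908821164032), (nat_lit 6582018229284824180037858271877081068397231218130280544456409088), (nat_lit 13164036458569648342948744231282643564095030802866619452319858688), (nat_lit 26328072917139296677334002306329527841840345789036268086343237632), (nat_lit 52656145834278593350386261534541176040505833669724050763538235392),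 (nat_lit 105312291668557186698631651530023412259424238385273858822502350848), (nat_lit 210624583337114373396192867290517354608054762293460596292717641728), (nat_lit 421249166674228746791850516696269974260712667348377631909291753472), (nat_lit 842498333348457493583433424450157581043726906077483483480511741952), (nat_lit 1684996666696914987166733044429123978348604597845331076791987601408), (nat_lit 3369993333393829974333399186622652364827784588535844208499457261568), (nat_lit 6739986666787659948666764922127506933720856873494279444456655552512), (nat_lit 13479973333575319897333513118696114969474357595199854402642181619712), (nat_lit 26959946667150639794667017874612780489965037114505356562148798496768)])))) (.node (.node (.node (.leaf []) (.leaf [(nat_lit 2798482185557797923522792771518861771014144), (nat_lit 5575526581999576723847392942769522144706560), (nat_lit 11150393866913244129421825597237145238503424), (nat_lit 22300747856986614711367464080262482066669568)]))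 (.node (.leaf []) (.leaf [(nat_lit 751211841588084099956694004016169472103149327089664), (nat_lit 5986356378433544943678486939956917632355063943921664), (nat_lit 11972644248977840001282683082187301688943581516005376), (nat_lit 95780974158613439059316451313466262875161467901968384), (nat_lit 191561944035483800000753259452074617401837526655696896), (nat_lit 12259964327105516828455021202334759215131099869516660736), (nat_lit 98079714615506089915728332230185930624689897265774460928), (nat_lit 196159429230878375360265480721522646939743904362513039360), (nat_lit 12554203470773367102857878479071118216134279051018445520896), (nat_lit 803469022129495140558574195986909193953066280972441605898240), (nat_lit 51422017416287688817342829490213068398018428722875299700670464), (nat_lit 102844034832575377634685595177482339120074958063011705944801280), (nat_lit 205688069665150755269371153136580796262505474819425724039954432), (nat_lit 411376139330301510538742298297793617815515712216009086397841408)])))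 (.node (.node (.leaf []) (.leaf [(nat_lit 5891678475490202389008604481887515922987978063872), (nat_lit 23384115400275240813751523466333618907940944609280), (nat_lit 374144424731897446692799102559298021194009107496960), (nat_lit 748288838335200365603226696012392880939470627536896), (nat_lit 11972621413016117835392269903465643995451126464905216), (nat_lit 23945242826029555947145037416531513915868727755145216), (nat_lit 47890485652059032140610327738110653603313838689615872), (nat_lit 95780971304118054976624684981810196879978255416819712)])) (.leaf [])))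

def decs9 : Tr (List ℕ) :=
  .node (.node (.node (.node (.leaf []) (.leaf [(nat_lit 46278401901247631031018946610720476758016), (nat_lit 87197356523490481262489743154390604185600)])) (.node (.leaf []) (.leaf [(nat_lit 48229554031919796300721599479637339648645773918208), (nat_lit 93901480198510512494586750502021184012893665886208), (nat_lit 374235763009044328492531047477413220720647226785792), (nat_lit 383123885217866011164494920733923278296725303140024320), (nat_lit 1532495540866237307502074068136895679216749252832133120), (nat_lit 6129982163463729658005251629094529982273961554058674176), (nat_lit 392318858461667569517808321890540812662372090912167690240), (nat_lit 1569275433846670196403465226536932019439582580024300011520), (nat_lit 6277101735386680766558048358575174123809352303918180204544), (nat_lit 25108406941546723056023722426672542591336170992719674474496), (nat_lit 100433627766186892221542771954783131889369374415140436312064),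 (nat_lit 401734511064747568885575593677020885246416592097556150878208), (nat_lit 1606938044258990275541963421569158387438075897589853115645952)]))) (.node (.node (.leaf []) (.leaf [(nat_lit 5846184955285199917799871616611313265515778015232), (nat_lit 11692018673833522978285264045659832319337836838912), (nat_lit 23384028984887596507586850015425312395540108935168)])) (.node (.leaf []) (.leaf [(nat_lit 25711020968108171335782260344234818842828716850437662833639424), (nat_lit 51422023546269852280898220388305311881947230276005859464052736), (nat_lit 102844037897566459366463290626528460862039358839576985826492416), (nat_lit 205688071197646296135260006178015840273151166822936605102178304), (nat_lit 411376140096549280971686724818511139820838558217764526928953344), (nat_lit 822752279043726906293956805868262009278945228721474712220205056), (nat_lit 1645504557512767984763205289852143883376524513585922253621559296), (nat_lit 3291009114738193055614056418762097699162366055243330921833693184),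 (nat_lit 6582018229332714654271935757053100364529390624522405050962673664), (nat_lit 13164036458593593580065782973870653212161110506062681705572990976), (nat_lit 26328072917151269295892521677623532665873385640634299212969803776), (nat_lit 52656145834284579659665521220188178452522353595523066326851518464), (nat_lit 105312291668560179853271281372846913465432498348173366604158992384), (nat_lit 210624583337115869973512682211929105211058892274910350183545962496), (nat_lit 421249166674229495080510424156975849562214732339102508854705913856), (nat_lit 53919893334301279595180036723362873020089028175946277040830950670336), (nat_lit 107839786668602559178668149551059316817041143833035380517860464918528), (nat_lit 215679573337205118357336165297647442450343438451761125145551893954560), (nat_lit 431359146674410236714672263693059289308817452296367432346019269967872), (nat_lit 862718293348820473429344493935000780821700192289157455719496280965120),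 (nat_lit 1725436586697640946858688971144442662745433028426526206952721432444928), (nat_lit 3450873173395281893717377933926105876041882378777158061662307300147200)])))) (.node (.node (.node (.leaf []) (.leaf [(nat_lit 5923635443359696771970425166172221025026048), (nat_lit 22387857484462383388182342172150894168113152), (nat_lit 178411406106115720147701160174905800339226624), (nat_lit 713625207482447624282996838223177295264219136), (nat_lit 5708990781457663490512470861028437027773743104)])) (.node (.leaf []) (.leaf [(nat_lit 47893408655333688629534751968112594554124909433323520), (nat_lit 95782432805755384550314892881727040259190851069018112), (nat_lit 191562673359054772746252480236205006093852218239221760), (nat_lit 3064991127403703883307410248165769389621322608615096320), (nat_lit 6129982186299518516728746205533812245666878670858354688), (nat_lit 12259964338345092408514455265668761224545874068530790400), (nat_lit 200867255532373873645726055665137891458148464816295128334336),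 (nat_lit 401734511064747613486980920146536933701987293742421220786176), (nat_lit 803469022129495160071726244701204442796819769539757923631104), (nat_lit 12855504354071922209910883038361956605561553518424433058906112), (nat_lit 205688069665150755269392925891151753184503639179073116084109312), (nat_lit 411376139330301510538753184675079096276514794395832782419918848), (nat_lit 822752278660603021077490035796545987506783346810508839965687808), (nat_lit 13164036458569648337239754821588271723615740778567068633861718016), (nat_lit 26328072917139296674479506963452903944841081783059103742548770816), (nat_lit 52656145834278593348959013863102864092006201666735468591641001984), (nat_lit 105312291668557186697918027694304256285174422383779567736553734144)]))) (.node (.node (.leaf []) (.leaf [(nat_lit 11703431080188871024677944949485860118338522316800), (nat_lit 23384739821140799671199486466445253062063112060928), (nat_lit 93536283195139375010020961579588294444871730593792),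 (nat_lit 748288838661871437847327620937232504073968110534656), (nat_lit 2993155353340801462412906784049571523757882510147584), (nat_lit 47890485652102582966664224721770473937836863899303936), (nat_lit 24519928653854221744367376400684273921130282437180391424)])) (.leaf [])))

def decs10 : Tr (List ℕ) :=
  .node (.node (.node (.node (.leaf []) (.leaf [(nat_lit 1701411834604692317316873037158841057280), (nat_lit 2743526583300066361673457772418631204864), (nat_lit 5447176326726585247159801333028852072448)])) (.node (.leaf []) (.leaf [(nat_lit 24114777015959898150360799739818669824322886959104), (nat_lit 93558940752261082123132761869353305180161806696448), (nat_lit 187083627559897221209120124875439822477050427473920), (nat_lit 47890485652755925111152426571620153184105858865299456), (nat_lit 95780971304466502791123730183480819574181325785006080), (nat_lit 3064991081731864829002625814547264991136980777029337088), (nat_lit 49039857307708454356502846338840724703787089726458036224),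 (nat_lit 98079714615416892379452080472635203165593022728041922560), (nat_lit 3138550867693340383279024179287587061904676151959090102272), (nat_lit 25108406941546723055364425340763224318375882690820623564800), (nat_lit 50216813883093446110696949209627610655802074012194518859776)]))) (.node (.node (.leaf []) (.leaf [(nat_lit 5846006723548183536335232624112931083689054437376), (nat_lit 11692013101369482280996986369437261016701606035456), (nat_lit 23384026197379517282989191939326371966352862740480)])) (.node (.leaf []) (.leaf [(nat_lit 61299821634635554334333881086012367344749564887344087040), (nat_lit 104209696778880442368367597846221024486074260308484947968), (nat_lit 199224420312565551586585113529540193870436085883868282880), (nat_lit 3138742429635948618025189504982226996699130064622290206720), (nat_lit 6277197516357984881889436819896863310426331615659170988032), (nat_lit 12554251361259013586698402544759931279366698974525637263360),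 (nat_lit 200867267504995197457501967467231474927065871244248496472064), (nat_lit 401734517051058275392868876047583725436445996956397904855040), (nat_lit 803469025122650491024670222651727838664049121146746265665536), (nat_lit 12855504354820211042649119032849587454528360856326180144414720), (nat_lit 205688069665524899688527858966728956440017351657229401649577984), (nat_lit 411376139330488582748320651212867697904271650634910925202653184), (nat_lit 822752278660696557182273769065440288320661774930047911357054976), (nat_lit 13164036458569671721265950754905495298819210385596953401709559808), (nat_lit 210624583337114385087849154014564210267268852531362379756082298880), (nat_lit 6739986666787659954512760321078519341224025436500275198899632734208), (nat_lit 107839786668602559178668060348121057990413694998095211750343412023296), (nat_lit 215679573337205118357336120696178313037029714034291040761793367506944), (nat_lit 431359146674410236714672241392324724602160590087632390154140006744064)]))))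 (.node (.node (.node (.leaf []) (.leaf [(nat_lit 3136042293543368879278460382091175836778496), (nat_lit 22344301341496503264859030222399627837046784), (nat_lit 178406131729428445601517477868490607931949056), (nat_lit 356811933810313936543898475592830266338443264)])) (.node (.leaf []) (.leaf [(nat_lit 2996078356528350982317553907068380190294661713100800), (nat_lit 5987772208144709255880496759638611531530355628572672), (nat_lit 11973352163833422157383687992028148638531227358330880), (nat_lit 3064991084586273102128613816417190306136468517132697600), (nat_lit 6129982164890803126139347989659522703924451625117155328), (nat_lit 12259964327640734713219756157731616453674660545660190720), (nat_lit 3138550867693429584898688834096399350924268315678041178112), (nat_lit 6277101735386725365326186484453949487538900741187046473728), (nat_lit 12554203470773383828416777377038474367922983537289575006208), (nat_lit 12855504354071922207123289888545628712869588734343387870658560),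 (nat_lit 205688069665150755269371828384402654999768909953412346454999040), (nat_lit 411376139330301510538742635921704547184147429783002397605363712), (nat_lit 822752278660603021077484761419858712960599664504093647558410240), (nat_lit 1645504557321206042154969225092646370100043798555405792319635456), (nat_lit 3291009114642412084309938386382348942524125697728072691182731264), (nat_lit 6582018229284824168619876740863225986210270445764775935637192704)]))) (.node (.node (.leaf []) (.leaf [(nat_lit 6576757367989063131916581747223273588451696443392), (nat_lit 93536149390668183826282112365278658554702694711296), (nat_lit 187072231879100772060694800123402499164320871481344), (nat_lit 2993155353264578212222616568233775611693166430781440), (nat_lit 5986310706512822870833028090221309242229607987412992), (nat_lit 47890485652059367106065265536910625362693029336449024), (nat_lit 95780971304118223788580149666126055663474911020580864), (nat_lit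 383123885216472235857234689346231262365597745031413760), (nat_lit 766247770432944439812997479854481575039826043334557696)])) (.leaf [])))

def decs11 : Tr (List ℕ) :=
  .node (.node (.node (.node (.leaf []) (.leaf [])) (.node (.leaf []) (.leaf [(nat_lit 748471526018088656985062094954826441441294453571584), (nat_lit 1496600512589927883598670201276985004049857047953408), (nat_lit 5986316415498149176801817307949773046491245227016192), (nat_lit 23945244253277206117809053357509550443537935166865408), (nat_lit 95780971660929976823886659461465816338544979232161792), (nat_lit 766247770611350390767418498707440337990556453139644416), (nat_lit 24519928653898823224130613680688018374445122677949595648), (nat_lit 98079714615428037307533475049190555610735628000503529472), (nat_lit 784637716923340670665773310556743685942362592648380809216), (nat_lit 50216813883093448898279465201989224020783627636757464350720), (nat_lit 25711008708143844408671396135914593210186993708138805925511168)])))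 (.node (.node (.leaf []) (.leaf [(nat_lit 5848861044709023592576855902804031068896495665152), (nat_lit 11692102301628017468122044804603354750693484265472), (nat_lit 374144421944304296876471209867333237112963919249408), (nat_lit 748288838314102858854128511277663655278700998426624), (nat_lit 1496577676626887123536438386009406733953603895033856), (nat_lit 2993155353253694493393129677066439239483590969393152), (nat_lit 5986310706507379682190288859721768152317759976374272)])) (.node (.leaf []) (.leaf [(nat_lit 38566513062215766613007090216187902460532871850787028047233024), (nat_lit 208901945753668735820455072004351138327886389191763068589178880), (nat_lit 412983077374560500814284257731678788848206169402177758672453632), (nat_lit 1645906291832270789723854673080435795633366416382025561557434368), (nat_lit 3291209981897944458094381110376243655290787006641382575801630720), (nat_lit 13164061566976589883962808803616496870527551334490416762926923776),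 (nat_lit 26328079194241032061160270756707031287390189952492722277612257280), (nat_lit 52656148972829461042299395759729927763280755751452277859172745216), (nat_lit 210624583729433231857503603107077703588269341807495437787624112128), (nat_lit 421249166723268604099380554202148834144390275477996096927119179776), (nat_lit 842498333354587475746807776902796846659761999938867846523222228992), (nat_lit 1684996666699979978248420220655443611156622144776023258313342844928), (nat_lit 6739986666788043072551970243969497255166073682931047805056448462848), (nat_lit 13479973333575367787819159602536639035163170658432274326149373362176), (nat_lit 26959946667150642787822368340708807154783681825488196736453458264064), (nat_lit 53919893334301279682870134963217048112310118138923258220186903248896), (nat_lit 107839786668602559180129561985409425612752262522878572944070373539840), (nat_lit 215679573337205118358066871514822496848198997796682721358656848265216),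 (nat_lit 862718293348820473429435826636961362988776351823343087084044023758848), (nat_lit 1725436586697640946858700383550798010791825709330352234751722117922816), (nat_lit 3450873173395281893717378644762359079205495015228178002328830303272960), (nat_lit 6901746346790563787434755884577770650981732113706104827810885729779712), (nat_lit 13803492693581127574869511724902500048629258930927268708335179096129536), (nat_lit 27606985387162255149739023449113546327675170904096960214369005186580480), (nat_lit 55213970774324510299478046898216373760792332246594824128603909674500096), (nat_lit 110427941548649020598956093796432417873041709834053168113056869823545344)])))) (.node (.node (.node (.leaf []) (.leaf [(nat_lit 11847270886719393543940850332344442050052096), (nat_lit 44775714968924766776364684344301788336226304), (nat_lit 356822812212231440295402320349811600678453248), (nat_lit 1427250414964895248565993676446354590528438272), (nat_lit 5708991111106206445171607341172587977299197952),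 (nat_lit 22835963168365949827167191377035574040065998848), (nat_lit 91343852335839888379300133790575302849056473088)])) (.node (.leaf []) (.leaf [(nat_lit 24519931576857496395539388841774612370465865266802720768), (nat_lit 98079714980792296267659939288540995930670058733733675008), (nat_lit 196159429413521478536231284250700179592733985096492646400), (nat_lit 784637716969007021646064394094823453035178274922252206080), (nat_lit 1569275433869506154042242713898849179536780783298132574208), (nat_lit 12554203470779070518442402685939565976082508869473600012288), (nat_lit 50216813883096300606071727305423447900757742545985041596416), (nat_lit 100433627766188319469065336731203720943607136606560934952960), (nat_lit 803469022129495494582904222660551565832593859265180513337344), (nat_lit 6427752177035961280573809957609635542374558156318063389048832), (nat_lit 51422017416287688818736583529825367227056478193089893323767808), (nat_lit 102844034832575377635382472197288488534593982798119002756349952),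 (nat_lit 822752278660603021077658815850538772984661180615794996998569984), (nat_lit 6582018229284824168619963842515333780177590086433821986056568832), (nat_lit 105312291668557186697918071239813398199018418712498862520642043904), (nat_lit 842498333348457493583344221474680370534300426696008118275609198592), (nat_lit 1684996666696914987166688442941385373093891358154593394189536329728)]))) (.node (.node (.leaf []) (.leaf [(nat_lit 11874700803313586210404939265819799534704451911680), (nat_lit 46769479642281599342398972932890506124126224121856), (nat_lit 187072566390278750020041923159176588889743461187584), (nat_lit 1496577677323742875694655241874465008147936221069312), (nat_lit 5986310706681602924825813568099143047515765020295168), (nat_lit 766247770432987985322139393698477903759120827422867456), (nat_lit 24519928653854222074015919355343410401274433386705846272), (nat_lit 98079714615416887020004801467854403617442955677692592128), (nat_lit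 392318858461667547742395294942048982752204829399562846208)])) (.leaf [(nat_lit 15950735949418990474845684723364134912), (nat_lit 22596875928343569839364720024765857792)])))

def decs12 : Tr (List ℕ) :=
  .node (.node (.node (.node (.leaf []) (.leaf [(nat_lit 1446200059413988469719342081585014898688)])) (.node (.leaf []) (.leaf [(nat_lit 23566713901960809556034417927550063691951912255488), (nat_lit 46790888357672188740614847222432248551171965321216), (nat_lit 187077918569126397369595891731562024496504896487424), (nat_lit 23945242826726411699303254272396572190063060081180672), (nat_lit 95780971304292278219260209690187571775176260460740608), (nat_lit 766247770433031541465105273821801215708872093753933824), (nat_lit 24519928653854232622769293904435777765887263771520401408), (nat_lit 98079714615416889657193145105127495458596163273896230912), (nat_lit 784637716923335096840603145584712155866292860285077159936), (nat_lit 25108406941546723055345816148822235496155229391976698740736)])))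 (.node (.node (.leaf []) (.leaf [(nat_lit 5846006592879754638694862654177081829890061238272)])) (.node (.leaf []) (.leaf [(nat_lit 30649910817317777167166940543006183672374782443672043520), (nat_lit 50572352848574332325825451895960203059418391032058871808), (nat_lit 196542553116050246084458006232027152799103292420046979072), (nat_lit 392510420404275783847031632328872939654349557669275107328), (nat_lit 1569323324332322249985771054146515051187576946713576865792), (nat_lit 6277125680629506793349201272379965639683349487262818631680), (nat_lit 25108418914168136070099863617416815276199918799255530110976), (nat_lit 100433630759342245475061807252469200060585311366774400221184), (nat_lit 401734512561325245512335111325863919332024560573373132832768), (nat_lit 3213876089266269389397346478802611839395142893629423132606464), (nat_lit 25711008708517988827828104624518744957530616353556604095823872), (nat_lit 102844034832668913739474751696599442390714833715356721142038528),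 (nat_lit 411376139330348278591136884532720144160330887465023955678527488), (nat_lit 3291009114642435468336135659561392268922795191795474221617905664), (nat_lit 52656145834278605040972112489058561788926209430538712874615832576), (nat_lit 1684996666696914993012694992262338589917060857273917858692705812480), (nat_lit 107839786668602559178668060348079851922544362606035193731474721341440)])))) (.node (.node (.node (.leaf []) (.leaf [(nat_lit 2874705435748088139338588683583577850380288), (nat_lit 5618742442598535908707241517913356707561472)])) (.node (.leaf []) (.leaf [(nat_lit 1498039178264175491158776953534190095147330856550400), (nat_lit 2993520728663021902210697458611126695010263831150592), (nat_lit 11972712756867089887356973879913835264710127887843328), (nat_lit 383123888070967600001506518904149234803675053311393792), (nat_lit 1532495541579512704711326967679452168343486690374975488), (nat_lit 6129982163820367356609878078865808226837330272830095360),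 (nat_lit 392318858461756750720530961443045293879487808725026078720), (nat_lit 1569275433846692491704145886425058139743861509477514608640), (nat_lit 6277101735386691914208388688519237183961491768644787503104), (nat_lit 3213876088517980553871517334498653097736370771646630858850304), (nat_lit 25711008708143844408672074042192443517282174649739548901244928), (nat_lit 102844034832575377634685744051017867030652723289402457343393792), (nat_lit 411376139330301510538742380709929356480299832252046823779205120), (nat_lit 1645504557321206042154969183886578500767651738537386923628953600)]))) (.node (.node (.leaf []) (.leaf [(nat_lit 6028694253989974537590199934954667456080721739776), (nat_lit 46768096996079290443764197718357601925712853336064), (nat_lit 187072220728728172795383229355543362840140118491136), (nat_lit 1496577676637733623982043299532301799565491506774016), (nat_lit 5986310706510100611897660582513602245370153841721344), (nat_lit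 23945242826029853694216093237687044368650230552330240), (nat_lit 95780971304118138717988419431510189819823053078528000), (nat_lit 383123885216472217248042748357409041712298901106589696)])) (.leaf [])))

def decs13 : Tr (List ℕ) :=
  .node (.node (.node (.node (.leaf []) (.leaf [(nat_lit 54445178707350154154139937189082913832960), (nat_lit 87452568298681185110087274109964430344192), (nat_lit 174245839511453051947214259918029809778688), (nat_lit 348451802183032556418241405624251209220096)])) (.node (.leaf []) (.leaf [(nat_lit 96459108063839592601443198959274679297291547836416), (nat_lit 188533711215686476448275343420400509535615298043904), (nat_lit 374875169975376598519245159591726594541746697273344), (nat_lit 3064991081733171513291602218246964349629518766961328128), (nat_lit 6129982163464252331720842190574409725670976750031470592), (nat_lit 12259964326927459316010503258189059964547923108117348352), (nat_lit 3138550867693340403695966194543894869707152597865182789632),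 (nat_lit 6277101735386680774724825164677697246930342882280617279488), (nat_lit 12554203470773361533116096717150348247618704607836360409088), (nat_lit 200867255532373784443425826276487202242202123437712640835584), (nat_lit 401734511064747568885830805452211589094014123053129977036800), (nat_lit 803469022129495137771151187354041770492833184195112301756416), (nat_lit 1606938044258990275542004627637027719830135915608721806327808), (nat_lit 3213876088517980551083945452330257763698372448478550156115968), (nat_lit 6427752177035961102167859003188616689415795205587653583962112)]))) (.node (.node (.leaf []) (.leaf [(nat_lit 5846720173169964652755268473849856826191921545216), (nat_lit 11692035399392421876252620197448536805608966324224), (nat_lit 93536107576770936581363721985806897339024870998016), (nat_lit 748288838313592435303747103582468593367553346109440), (nat_lit 1496577676626855222064539548028457042584157166764032)])) (.node (.leaf [])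 (.leaf [(nat_lit 26514477730273339546442374523629182941616349397416081782472704), (nat_lit 51823751927352436386228277478002493931341046549495068938469376), (nat_lit 103044902088107751419128319171377051886736266976321590563700736), (nat_lit 205788503292916942161592520450440135785499620891308907470782464), (nat_lit 411426356144184603984852981954723287577012785251950678113255424), (nat_lit 822777387067544567800539934436368083157032342238567787812356096), (nat_lit 26328073113298725905313280790786027554963349353335885453078822912), (nat_lit 52656145932358307964375900776769425897067335451873859446906028032), (nat_lit 105312291717597044005626471151137537187704989276348763164186247168), (nat_lit 210624583361634302049690277101074417072195137738998048463559589888), (nat_lit 842498333348649055525952457576658251929554551852345232424760770560), (nat_lit 1684996666697010768137992560992374313791518420732761951264112115712), (nat_lit 3369993333393877864819028944904277532549241499979559645735519518720),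 (nat_lit 6739986666787683893909579801268319517581585329216137163074686681088), (nat_lit 26959946667150640542955853400441924793923778773277478544941072252928), (nat_lit 53919893334301279612718056371333708038533246168541673276702141186048), (nat_lit 107839786668602559178713732274245113410742442841184673768778688888832), (nat_lit 215679573337205118357358956659240340747194087955835771771011005939712), (nat_lit 431359146674410236714683659373855738457242777048404755658748825960448), (nat_lit 862718293348820473429350191775399005395912854665176117375861058961408), (nat_lit 3450873173395281893717378109544474314470539618370939458768154159742976), (nat_lit 6901746346790563787434755867852211752083764757554316123324614600294400), (nat_lit 13803492693581127574869511724641163190833978190987397009827581109731328), (nat_lit 27606985387162255149739023449109462939272119642535399719079823968043008)])))) (.node (.node (.node (.leaf []) (.leaf [(nat_lit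 6968982874540819731729911960202612970618880), (nat_lit 89290093080054252812789496990095978686054400), (nat_lit 178427739659727925193947402156062525213376512), (nat_lit 2854496746541387445870425792397419999838339072), (nat_lit 5708990813359135389350451810719806474502012928), (nat_lit 11417981546964591031605951247211189332183351296), (nat_lit 22835963084624586092717491384095729242404290560)])) (.node (.leaf []) (.leaf [(nat_lit 24519929384605040399185011536247363296041335782903906304), (nat_lit 49039857490396148133829969644270497965335029366866837504), (nat_lit 98079714706760739268115642125350089796366992548246323200), (nat_lit 392318858484503510823032197047411726517589137461126103040), (nat_lit 784637716934753077021121356949424589768390391649066287104), (nat_lit 3138550867699049372688718551128066351928975702777548242944), (nat_lit 25108406941548150303035863652711723950378871272992520798208), (nat_lit 50216813883094159734532668365601860471803568303280467476480),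 (nat_lit 200867255532374141254668438032615589886767736596633200099328), (nat_lit 1606938044258990453947923680586147734807949174969684883144704), (nat_lit 25711008708143844409368291764912683613528239096544946661883904), (nat_lit 51422017416287688817691236098644244267296991399059501378174976), (nat_lit 205688069665150755269545372391532333616135231003202548242841600), (nat_lit 1645504557321206042155056294843282265229382489533082396010741760), (nat_lit 26328072917139296674479550477060573959847097162087029079908810752)]))) (.node (.node (.leaf []) (.leaf [(nat_lit 11737685024813814061823343812752648001611708235776), (nat_lit 23386880692679858611021073895399427304767686180864), (nat_lit 374144597562672735305128449461114634218810778845184), (nat_lit 748288839707218869028450580696719298104360056127488), (nat_lit 11972621413101868991856346396258414396523932054192128), (nat_lit 191561942608279663437759258517111959902093656604016640), (nat_lit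 24519928653854221776268848299522254870821651883908661248), (nat_lit 49039857307708443472784016851949557367414880150996647936), (nat_lit 98079714615416886936263437733404703624503110880030883840)])) (.leaf [])))

def decs14 : Tr (List ℕ) :=
  .node (.node (.node (.node (.leaf []) (.leaf [])) (.node (.leaf []) (.leaf [(nat_lit 26307029471956252527666326988893094353806785773568), (nat_lit 187117881504522164246265523738706610360323613392896), (nat_lit 374167255119794442418240249750879644954100854947840), (nat_lit 95780971305511850222304853143240306368211717730598912), (nat_lit 191561942608933005582247460366961639148362651570012160), (nat_lit 12259964326927197979152707977449120092849415510130950144), (nat_lit 98079714615416908713005692677681449407574179452916072448), (nat_lit 196159429230833784758904160945270406331186045456083845120), (nat_lit 12554203470773361529032708314099086686058209318655141871616), (nat_lit 50216813883093446110728850681526448636751765381641247129600),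 (nat_lit 100433627766186892221393898419255221311604148024389037719552), (nat_lit 200867255532373784442750578454628464978766989451090225790976), (nat_lit 401734511064747568885493181541282220462296556059818769514496)]))) (.node (.node (.leaf []) (.leaf [(nat_lit 5846007246221899126896712503856328098885027233792), (nat_lit 11692013109536259087099509492558251595064043110400), (nat_lit 23384026197634729058179895786923902921926688899072), (nat_lit 46768052394610161030450473300887517541954326888448), (nat_lit 93536104789180445221027399125587920872100243439616)])) (.node (.leaf []) (.leaf [(nat_lit 25120666905873650166210024469047868137878371690833606868992), (nat_lit 50222943865256909666119748773769932565553318512201010511872), (nat_lit 100436692757268623999089347465376963276004924589668919410688), (nat_lit 200868788027914650331603619889672475624458992961971288014848), (nat_lit 401735277312518001829919702258804225785142557815259300626432),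 (nat_lit 803469405253380354243195635757338088838397401576176963551232), (nat_lit 1606938235820932883778069387134540996310850946125183108251648), (nat_lit 3213876184298951855201977832079014401938729963736780807077888), (nat_lit 6427752224926446754226875193062995008535973963216768909443072), (nat_lit 12855504378017165030365210150578473119401204944305141466529792), (nat_lit 26328072917139670818898663632064668223040949218590309732308746240), (nat_lit 52656145834278780421168592197408746231106135384501071586520989696), (nat_lit 105312291668557280234022816861457197354724389242662369233993728000), (nat_lit 210624583337114420163888449956234247155704837722154851498463330304), (nat_lit 421249166674228770175698308029128420534537705062724759512164597760), (nat_lit 26959946667150639800513021636343242346451883753405704559727340421120), (nat_lit 107839786668602559178668060369856594177488639351818264800047606530048), (nat_lit 215679573337205118357336120707046081130567186211152567286645464760320),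 (nat_lit 431359146674410236714672241397758608648929326176063153416566055370752), (nat_lit 862718293348820473429344482787350440491756129229005316254769673666560), (nat_lit 1725436586697640946858688965570617492580460996896450137220358128795648)])))) (.node (.node (.node (.leaf []) (.leaf [(nat_lit 4181389724724491839037947176121567782371328), (nat_lit 89246536937088372689466185040344712354988032), (nat_lit 178406642152978827009212672930401755584266240), (nat_lit 356811965711785835381879425284199713066713088), (nat_lit 713623851669891923668806476339975809312751616), (nat_lit 1427247694035187876843201842353302196663091200)])) (.node (.leaf []) (.leaf [(nat_lit 23946704327666844314767375984056297277062454716661760), (nat_lit 47890851027468359549427895519655341058840511551373312), (nat_lit 191562033952088440476225766124090692720031118768734208), (nat_lit 383123930888398381180302950652728318288529144793792512), (nat_lit 1532495552283870400006026075616596939214700213245575168),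 (nat_lit 6129982169172546204257227632834380612272937034265395200), (nat_lit 25108406941546812258323951815323231807282512371302161973248), (nat_lit 100433627766186914522117829301945804193355959759786058186752), (nat_lit 401734511064747580035863122350602221398409884769878961815552), (nat_lit 3213876088517980556659110484314980990428335555727676047097856), (nat_lit 25711008708143844408693171548941541702016903875400318530355200), (nat_lit 102844034832575377634691018427705141576836405595817649750671360), (nat_lit 411376139330301510538745017898272993753391673405254419982843904), (nat_lit 3291009114642412084309939726244168693719325584765589453770063872), (nat_lit 26328072917139296674479506922246836075508689723041084873858088960)]))) (.node (.node (.leaf []) (.leaf [(nat_lit 8769009823985417509222108996297698117935595257856), (nat_lit 187072298781336367652564224730557317109405389422592), (nat_lit 374144463758201544121389600246804998328641742962688),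 (nat_lit 5986310706529156424445233136467551223386332861562880), (nat_lit 11972621413025645741666056180442618484459215974825984), (nat_lit 95780971304118734212130531073821250725386058672898048), (nat_lit 191561942608236447577160299332252111326949822041161728), (nat_lit 766247770432944471714469378692462524731195490062827520), (nat_lit 1532495540865888879625994959708963150079652086669115392), (nat_lit 3064991081731777722033606037440281858852706485488582656), (nat_lit 6129982163463555436091844100171068480282570609295097856)])) (.leaf [])))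

def decs15 : Tr (List ℕ) :=
  .node (.node (.node (.node (.leaf []) (.leaf [(nat_lit 2790315408751695400399671780940499333939200), (nat_lit 5575271370224386019999795411813948318547968)])) (.node (.leaf []) (.leaf [(nat_lit 749019589132087745579388476767095047573665428275200), (nat_lit 2993178189216772471839243469978458816177531971960832), (nat_lit 5986322124488920000641341541093650844471790758002688), (nat_lit 47890487079306719529658225656733131437580733950984192), (nat_lit 95780972017741900000376629726037308700918763327848448), (nat_lit 3064991081910183678304939039432904113418665136415047680), (nat_lit 49039857307753044957864166115092965312344948632887230464), (nat_lit 98079714615439187680132740360761323469871952181256519680), (nat_lit 3138550867693345957104194344259618591980745884322393751552), (nat_lit 200867255532373787230338411358973218007240158303894292660224), (nat_lit 25711008708143844408671414745106534199009214361437649850335232),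 (nat_lit 51422017416287688817342797588741169560037479031505852972400640)]))) (.node (.node (.leaf []) (.leaf [(nat_lit 5857424530865259351863205618620728039714792144896), (nat_lit 23384048498039645221882098859178800962856426668032), (nat_lit 93536110364364086397691614677771681420070059245568), (nat_lit 748288838318866811991021649766150899782745753387008), (nat_lit 2993155353255050305948830291256801122685076920860672), (nat_lit 23945242826029524045673138578550564224499281026875392)])) (.node (.leaf []) (.leaf [(nat_lit 115699539186647299839021270648563707381598615552361084141699072), (nat_lit 417803891507337471640910144008702276655772778383526137178357760), (nat_lit 825966154749121001628568515463357577696412338804355517344907264), (nat_lit 3291812583664541579447709346160871591266732832764051123114868736), (nat_lit 6582419963795888916188762220752487310581574013282765151603261440), (nat_lit 13164136892197414524131974833089575362524544562755750331341078528),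 (nat_lit 52656158388482064122320541513414062574780379904985444555224514560), (nat_lit 105312297945658922084598791519459855526561511502904555718345490432), (nat_lit 210624584906389807242506246326288220439706794826687083624630583296), (nat_lit 421249166870388176022505884604550148750819957105395052656744988672), (nat_lit 1684996666709174951493615553805593693319523999877735693046444457984), (nat_lit 3369993333399959956496840441310887222313244289552046516626685689856), (nat_lit 6739986666789192444207619660613266015436436414818761859398086164480), (nat_lit 13479973333575511459276115779617110130196965999918238582942078074880), (nat_lit 26959946667150651767288428101776336598223294034331069502503002308608), (nat_lit 53919893334301279963478449330750408407417606020449597994125951500288), (nat_lit 215679573337205118360259123970818851225504525045757145888140747079680), (nat_lit 431359146674410236716133743029644993696397995593365442717313696530432),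 (nat_lit 862718293348820473429709858193960907285939542729477390150229511110656), (nat_lit 1725436586697640946858734637495422953828971108193619022634995303841792), (nat_lit 3450873173395281893717380785633898138145316602657132176571534877392896), (nat_lit 6901746346790563787434755951480006246573601538313259645755970247720960), (nat_lit 13803492693581127574869511725947847479810381890686755502365571041722368), (nat_lit 27606985387162255149739023449129879881287375950343202195525730060730368), (nat_lit 55213970774324510299478046898216884184342713654290019190515057326817280), (nat_lit 110427941548649020598956093796432449774513608672034117804426316551815168), (nat_lit 220855883097298041197912187592864819795347470249115861380429016282955776), (nat_lit 441711766194596082395824375185729630286098970003820612434208610603499520)])))) (.node (.node (.node (.leaf []) (.leaf [(nat_lit 22997643485984705114708709468668622803042304), (nat_lit 44949939540788287269657932143306853660491776),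 (nat_lit 713634735388721410559973812712185384774139904), (nat_lit 1427253137223830616073701383443214044674129920), (nat_lit 11417981881930045969404751218970568522830184448), (nat_lit 22835963253436541557401807242879225898008051712), (nat_lit 91343852354449080320288956011228601692981297152), (nat_lit 182687704676996688741739931072765833939234324480)])) (.node (.leaf []) (.leaf [(nat_lit 392318861384670822401542675357848816438963254590867243008), (nat_lit 784637718384836732810376596104643134729077450213936857088), (nat_lit 1569275434577421009624398814903759020383730370943974899712), (nat_lit 3138550868058715791250620441154754416230248477146000392192), (nat_lit 6277101735569368468502152287983127020191890821921026080768), (nat_lit 12554203470864705380004760278803063134249478577656564809728), (nat_lit 1606938044258993130037347504260924719094141892773065600794624), (nat_lit 3213876088517981978331616890642206263330375437060722053349376),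 (nat_lit 6427752177035961815791694722344590939231796699878739532578816), (nat_lit 12855504354071922561147619915219271084749116312636126778097664), (nat_lit 1645504557321206042156362979132258668929081848025620385942732800), (nat_lit 3291009114642412084310635263402155091938644722463179987994279936), (nat_lit 6582018229284824168620225179373129060917529958132329584042967040), (nat_lit 13164036458569648337239927685030667560355180172867643972113137664), (nat_lit 421249166674228746791672154290824695155703704914146196283574976512), (nat_lit 842498333348457493583344222149928192393037690131142104898024243200), (nat_lit 1684996666696914987166688443279009284023259989872160387500743852032), (nat_lit 3369993333393829974333376886047595017665112284549258863853835386880), (nat_lit 6739986666787659948666753771839978260139520721500986772133844615168)]))) (.node (.node (.leaf []) (.leaf [(nat_lit 12422763917312674804731321078088405667075426615296),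 (nat_lit 93537532036870492724916887579811562753116065497088), (nat_lit 187072923202201926510012187730668951263527556874240), (nat_lit 2993155353950587463935228510575938820275611145076736), (nat_lit 5986310706855827496689334061392390846520830344560640), (nat_lit 3064991081731821272859659934423941679187229510698270720), (nat_lit 49039857307708443807749471789748357339174259341643481088), (nat_lit 98079714615416887105075393198089019483286607535634644992), (nat_lit 392318858461667547761004486883037804972858128243487670272), (nat_lit 784637716923335095490107501867237628996024887040247070720)])) (.leaf [(nat_lit 95704415696513942849074108340184809472)])))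

def decs : Tr (List ℕ) :=
  (.node (.node (.node (.node decs0 decs1) (.node decs2 decs3)) (.node (.node decs4 decs5) (.node decs6 decs7))) (.node (.node (.node decs8 decs9) (.node decs10 decs11)) (.node (.node decs12 decs13) (.node decs14 decs15))))

def refls0 : Tr (ℕ) :=
  .node (.node (.node (.node (.node (.node (.leaf (nat_lit 0)) (.leaf (nat_lit 128))) (.node (.leaf (nat_lit 86)) (.leaf (nat_lit 192)))) (.node (.node (.leaf (nat_lit 32)) (.leaf (nat_lit 182))) (.node (.leaf (nat_lit 96)) (.leaf (nat_lit 231))))) (.node (.node (.node (.leaf (nat_lit 9)) (.leaf (nat_lit 144))) (.node (.leaf (nat_lit 58)) (.leaf (nat_lit 208)))) (.node (.node (.leaf (nat_lit 48)) (.leaf (nat_lit 154))) (.leaf (nat_lit 112))))) (.node (.node (.node (.node (.leaf (nat_lit 15)) (.leaf (nat_lit 164))) (.node (.leaf (nat_lit 100)) (.leaf (nat_lit 200)))) (.node (.node (.leaf (nat_lit 40)) (.leaf (nat_lit 140))) (.node (.leaf (nat_lit 76)) (.leaf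 (nat_lit 232))))) (.node (.node (.node (.leaf (nat_lit 24)) (.leaf (nat_lit 174))) (.node (.leaf (nat_lit 66)) (.leaf (nat_lit 216)))) (.node (.node (.leaf (nat_lit 78)) (.leaf (nat_lit 184))) (.leaf (nat_lit 120)))))) (.node (.node (.node (.node (.node (.leaf (nat_lit 4)) (.leaf (nat_lit 132))) (.node (.leaf (nat_lit 90)) (.leaf (nat_lit 196)))) (.node (.node (.leaf (nat_lit 36)) (.leaf (nat_lit 136))) (.node (.leaf (nat_lit 72)) (.leaf (nat_lit 221))))) (.node (.node (.node (.leaf (nat_lit 13)) (.leaf (nat_lit 170))) (.node (.leaf (nat_lit 62)) (.leaf (nat_lit 212)))) (.node (.node (.leaf (nat_lit 52)) (.leaf (nat_lit 158))) (.leaf (nat_lit 116))))) (.node (.node (.node (.node (.leaf (nat_lit 19)) (.leaf (nat_lit 168))) (.node (.leaf (nat_lit 104)) (.leaf (nat_lit 204)))) (.node (.node (.leaf (nat_lit 44)) (.leaf (nat_lit 150))) (.node (.leaf (nat_lit 108)) (.leaf (nat_lit 236))))) (.node (.node (.node (.leaf (nat_lit 28)) (.leaf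 (nat_lit 178))) (.node (.leaf (nat_lit 70)) (.leaf (nat_lit 227)))) (.node (.node (.leaf (nat_lit 82)) (.leaf (nat_lit 188))) (.leaf (nat_lit 124))))))

def refls1 : Tr (ℕ) :=
  .node (.node (.node (.node (.node (.node (.leaf (nat_lit 2)) (.leaf (nat_lit 130))) (.node (.leaf (nat_lit 88)) (.leaf (nat_lit 194)))) (.node (.node (.leaf (nat_lit 34)) (.leaf (nat_lit 77))) (.node (.leaf (nat_lit 98)) (.leaf (nat_lit 219))))) (.node (.node (.node (.leaf (nat_lit 11)) (.leaf (nat_lit 146))) (.node (.leaf (nat_lit 60)) (.leaf (nat_lit 210)))) (.node (.node (.leaf (nat_lit 50)) (.leaf (nat_lit 156))) (.leaf (nat_lit 114))))) (.node (.node (.node (.node (.leaf (nat_lit 17)) (.leaf (nat_lit 166))) (.node (.leaf (nat_lit 102)) (.leaf (nat_lit 202)))) (.node (.node (.leaf (nat_lit 42)) (.leaf (nat_lit 148))) (.node (.leaf (nat_lit 106)) (.leaf (nat_lit 234))))) (.node (.node (.node (.leaf (nat_lit 26)) (.leaf (nat_lit 176))) (.node (.leaf (nat_lit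 68)) (.leaf (nat_lit 218)))) (.node (.node (.leaf (nat_lit 80)) (.leaf (nat_lit 186))) (.leaf (nat_lit 122)))))) (.node (.node (.node (.node (.node (.leaf (nat_lit 14)) (.leaf (nat_lit 134))) (.node (.leaf (nat_lit 92)) (.leaf (nat_lit 198)))) (.node (.node (.leaf (nat_lit 38)) (.leaf (nat_lit 138))) (.node (.leaf (nat_lit 74)) (.leaf (nat_lit 223))))) (.node (.node (.node (.leaf (nat_lit 22)) (.leaf (nat_lit 172))) (.node (.leaf (nat_lit 64)) (.leaf (nat_lit 214)))) (.node (.node (.leaf (nat_lit 54)) (.leaf (nat_lit 160))) (.leaf (nat_lit 118))))) (.node (.node (.node (.node (.leaf (nat_lit 6)) (.leaf (nat_lit 142))) (.node (.leaf (nat_lit 56)) (.leaf (nat_lit 206)))) (.node (.node (.leaf (nat_lit 46)) (.leaf (nat_lit 152))) (.node (.leaf (nat_lit 110)) (.leaf (nat_lit 238))))) (.node (.node (.node (.leaf (nat_lit 30)) (.leaf (nat_lit 180))) (.node (.leaf (nat_lit 94)) (.leaf (nat_lit 229)))) (.node (.node (.leaf (nat_lit 84))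 (.leaf (nat_lit 190))) (.leaf (nat_lit 126))))))

def refls2 : Tr (ℕ) :=
  .node (.node (.node (.node (.node (.node (.leaf (nat_lit 1)) (.leaf (nat_lit 129))) (.node (.leaf (nat_lit 87)) (.leaf (nat_lit 193)))) (.node (.node (.leaf (nat_lit 33)) (.leaf (nat_lit 183))) (.node (.leaf (nat_lit 97)) (.leaf (nat_lit 233))))) (.node (.node (.node (.leaf (nat_lit 10)) (.leaf (nat_lit 145))) (.node (.leaf (nat_lit 59)) (.leaf (nat_lit 209)))) (.node (.node (.leaf (nat_lit 49)) (.leaf (nat_lit 155))) (.leaf (nat_lit 113))))) (.node (.node (.node (.node (.leaf (nat_lit 16)) (.leaf (nat_lit 165))) (.node (.leaf (nat_lit 101)) (.leaf (nat_lit 201)))) (.node (.node (.leaf (nat_lit 41)) (.leaf (nat_lit 147))) (.node (.leaf (nat_lit 105)) (.leaf (nat_lit 225))))) (.node (.node (.node (.leaf (nat_lit 25)) (.leaf (nat_lit 175))) (.node (.leaf (nat_lit 67)) (.leaf (nat_lit 217)))) (.node (.node (.leaf (nat_lit 79)) (.leaf (nat_lit 185))) (.leaf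 (nat_lit 121)))))) (.node (.node (.node (.node (.node (.leaf (nat_lit 5)) (.leaf (nat_lit 133))) (.node (.leaf (nat_lit 91)) (.leaf (nat_lit 197)))) (.node (.node (.leaf (nat_lit 37)) (.leaf (nat_lit 137))) (.node (.leaf (nat_lit 73)) (.leaf (nat_lit 222))))) (.node (.node (.node (.leaf (nat_lit 21)) (.leaf (nat_lit 171))) (.node (.leaf (nat_lit 63)) (.leaf (nat_lit 213)))) (.node (.node (.leaf (nat_lit 53)) (.leaf (nat_lit 159))) (.leaf (nat_lit 117))))) (.node (.node (.node (.node (.leaf (nat_lit 20)) (.leaf (nat_lit 141))) (.node (.leaf (nat_lit 162)) (.leaf (nat_lit 205)))) (.node (.node (.leaf (nat_lit 45)) (.leaf (nat_lit 151))) (.node (.leaf (nat_lit 109)) (.leaf (nat_lit 237))))) (.node (.node (.node (.leaf (nat_lit 29)) (.leaf (nat_lit 179))) (.node (.leaf (nat_lit 93)) (.leaf (nat_lit 228)))) (.node (.node (.leaf (nat_lit 83)) (.leaf (nat_lit 189))) (.leaf (nat_lit 125))))))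

def refls3 : Tr (ℕ) :=
  .node (.node (.node (.node (.node (.node (.leaf (nat_lit 3)) (.leaf (nat_lit 131))) (.node (.leaf (nat_lit 89)) (.leaf (nat_lit 195)))) (.node (.node (.leaf (nat_lit 35)) (.leaf (nat_lit 135))) (.node (.leaf (nat_lit 71)) (.leaf (nat_lit 220))))) (.node (.node (.node (.leaf (nat_lit 12)) (.leaf (nat_lit 169))) (.node (.leaf (nat_lit 61)) (.leaf (nat_lit 211)))) (.node (.node (.leaf (nat_lit 51)) (.leaf (nat_lit 157))) (.leaf (nat_lit 115))))) (.node (.node (.node (.node (.leaf (nat_lit 18)) (.leaf (nat_lit 167))) (.node (.leaf (nat_lit 103)) (.leaf (nat_lit 203)))) (.node (.node (.leaf (nat_lit 43)) (.leaf (nat_lit 149))) (.node (.leaf (nat_lit 107)) (.leaf (nat_lit 235))))) (.node (.node (.node (.leaf (nat_lit 27)) (.leaf (nat_lit 177))) (.node (.leaf (nat_lit 69)) (.leaf (nat_lit 226)))) (.node (.node (.leaf (nat_lit 81)) (.leaf (nat_lit 187))) (.leaf (nat_lit 123)))))) (.node (.node (.node (.node (.node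 (.leaf (nat_lit 7)) (.leaf (nat_lit 163))) (.node (.leaf (nat_lit 99)) (.leaf (nat_lit 199)))) (.node (.node (.leaf (nat_lit 39)) (.leaf (nat_lit 139))) (.node (.leaf (nat_lit 75)) (.leaf (nat_lit 224))))) (.node (.node (.node (.leaf (nat_lit 23)) (.leaf (nat_lit 173))) (.node (.leaf (nat_lit 65)) (.leaf (nat_lit 215)))) (.node (.node (.leaf (nat_lit 55)) (.leaf (nat_lit 161))) (.leaf (nat_lit 119))))) (.node (.node (.node (.node (.leaf (nat_lit 8)) (.leaf (nat_lit 143))) (.node (.leaf (nat_lit 57)) (.leaf (nat_lit 207)))) (.node (.node (.leaf (nat_lit 47)) (.leaf (nat_lit 153))) (.node (.leaf (nat_lit 111)) (.leaf (nat_lit 239))))) (.node (.node (.node (.leaf (nat_lit 31)) (.leaf (nat_lit 181))) (.node (.leaf (nat_lit 95)) (.leaf (nat_lit 230)))) (.node (.node (.leaf (nat_lit 85)) (.leaf (nat_lit 191))) (.leaf (nat_lit 127))))))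

def refls4 : Tr (ℕ) :=
  .node (.node (.node (.node (.node (.node (.leaf (nat_lit 0)) (.leaf (nat_lit 124))) (.node (.leaf (nat_lit 61)) (.leaf (nat_lit 192)))) (.node (.node (.leaf (nat_lit 29)) (.leaf (nat_lit 160))) (.node (.leaf (nat_lit 97)) (.leaf (nat_lit 224))))) (.node (.node (.node (.leaf (nat_lit 17)) (.leaf (nat_lit 144))) (.node (.leaf (nat_lit 80)) (.leaf (nat_lit 211)))) (.node (.node (.leaf (nat_lit 48)) (.leaf (nat_lit 179))) (.leaf (nat_lit 116))))) (.node (.node (.node (.node (.leaf (nat_lit 8)) (.leaf (nat_lit 137))) (.node (.leaf (nat_lit 72)) (.leaf (nat_lit 197)))) (.node (.node (.leaf (nat_lit 37)) (.leaf (nat_lit 168))) (.node (.leaf (nat_lit 104)) (.leaf (nat_lit 232))))) (.node (.node (.node (.leaf (nat_lit 24)) (.leaf (nat_lit 152))) (.node (.leaf (nat_lit 88)) (.leaf (nat_lit 216)))) (.node (.node (.leaf (nat_lit 56)) (.leaf (nat_lit 184))) (.leaf (nat_lit 120)))))) (.node (.node (.node (.node (.node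 (.leaf (nat_lit 3)) (.leaf (nat_lit 132))) (.node (.leaf (nat_lit 68)) (.leaf (nat_lit 196)))) (.node (.node (.leaf (nat_lit 36)) (.leaf (nat_lit 165))) (.node (.leaf (nat_lit 100)) (.leaf (nat_lit 228))))) (.node (.node (.node (.leaf (nat_lit 20)) (.leaf (nat_lit 147))) (.node (.leaf (nat_lit 81)) (.leaf (nat_lit 209)))) (.node (.node (.leaf (nat_lit 49)) (.leaf (nat_lit 177))) (.leaf (nat_lit 112))))) (.node (.node (.node (.node (.leaf (nat_lit 12)) (.leaf (nat_lit 140))) (.node (.leaf (nat_lit 76)) (.leaf (nat_lit 204)))) (.node (.node (.leaf (nat_lit 44)) (.leaf (nat_lit 172))) (.node (.leaf (nat_lit 109)) (.leaf (nat_lit 235))))) (.node (.node (.node (.leaf (nat_lit 31)) (.leaf (nat_lit 153))) (.node (.leaf (nat_lit 91)) (.leaf (nat_lit 220)))) (.node (.node (.leaf (nat_lit 63)) (.leaf (nat_lit 185))) (.leaf (nat_lit 128))))))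

def refls5 : Tr (ℕ) :=
  .node (.node (.node (.node (.node (.node (.leaf (nat_lit 2)) (.leaf (nat_lit 131))) (.node (.leaf (nat_lit 66)) (.leaf (nat_lit 194)))) (.node (.node (.leaf (nat_lit 34)) (.leaf (nat_lit 162))) (.node (.leaf (nat_lit 98)) (.leaf (nat_lit 226))))) (.node (.node (.node (.leaf (nat_lit 18)) (.leaf (nat_lit 146))) (.node (.leaf (nat_lit 85)) (.leaf (nat_lit 207)))) (.node (.node (.leaf (nat_lit 53)) (.leaf (nat_lit 175))) (.leaf (nat_lit 110))))) (.node (.node (.node (.node (.leaf (nat_lit 9)) (.leaf (nat_lit 138))) (.node (.leaf (nat_lit 75)) (.leaf (nat_lit 199)))) (.node (.node (.leaf (nat_lit 39)) (.leaf (nat_lit 169))) (.node (.leaf (nat_lit 106)) (.leaf (nat_lit 234))))) (.node (.node (.node (.leaf (nat_lit 26)) (.leaf (nat_lit 157))) (.node (.leaf (nat_lit 90)) (.leaf (nat_lit 217)))) (.node (.node (.leaf (nat_lit 58)) (.leaf (nat_lit 189))) (.leaf (nat_lit 122)))))) (.node (.node (.node (.node (.node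 (.leaf (nat_lit 6)) (.leaf (nat_lit 134))) (.node (.leaf (nat_lit 69)) (.leaf (nat_lit 201)))) (.node (.node (.leaf (nat_lit 41)) (.leaf (nat_lit 166))) (.node (.leaf (nat_lit 103)) (.leaf (nat_lit 229))))) (.node (.node (.node (.leaf (nat_lit 21)) (.leaf (nat_lit 150))) (.node (.leaf (nat_lit 83)) (.leaf (nat_lit 214)))) (.node (.node (.leaf (nat_lit 51)) (.leaf (nat_lit 182))) (.leaf (nat_lit 118))))) (.node (.node (.node (.node (.leaf (nat_lit 14)) (.leaf (nat_lit 143))) (.node (.leaf (nat_lit 78)) (.leaf (nat_lit 206)))) (.node (.node (.leaf (nat_lit 46)) (.leaf (nat_lit 174))) (.node (.leaf (nat_lit 114)) (.leaf (nat_lit 238))))) (.node (.node (.node (.leaf (nat_lit 27)) (.leaf (nat_lit 155))) (.node (.leaf (nat_lit 94)) (.leaf (nat_lit 223)))) (.node (.node (.leaf (nat_lit 59)) (.leaf (nat_lit 187))) (.leaf (nat_lit 113))))))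

def refls6 : Tr (ℕ) :=
  .node (.node (.node (.node (.node (.node (.leaf (nat_lit 1)) (.leaf (nat_lit 125))) (.node (.leaf (nat_lit 65)) (.leaf (nat_lit 193)))) (.node (.node (.leaf (nat_lit 33)) (.leaf (nat_lit 161))) (.node (.leaf (nat_lit 96)) (.leaf (nat_lit 225))))) (.node (.node (.node (.leaf (nat_lit 16)) (.leaf (nat_lit 145))) (.node (.leaf (nat_lit 84)) (.leaf (nat_lit 212)))) (.node (.node (.leaf (nat_lit 52)) (.leaf (nat_lit 180))) (.leaf (nat_lit 126))))) (.node (.node (.node (.node (.leaf (nat_lit 10)) (.leaf (nat_lit 136))) (.node (.leaf (nat_lit 73)) (.leaf (nat_lit 198)))) (.node (.node (.leaf (nat_lit 38)) (.leaf (nat_lit 170))) (.node (.leaf (nat_lit 105)) (.leaf (nat_lit 233))))) (.node (.node (.node (.leaf (nat_lit 25)) (.leaf (nat_lit 156))) (.node (.leaf (nat_lit 89)) (.leaf (nat_lit 218)))) (.node (.node (.leaf (nat_lit 57)) (.leaf (nat_lit 188))) (.leaf (nat_lit 121)))))) (.node (.node (.node (.node (.node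 (.leaf (nat_lit 5)) (.leaf (nat_lit 133))) (.node (.leaf (nat_lit 70)) (.leaf (nat_lit 200)))) (.node (.node (.leaf (nat_lit 40)) (.leaf (nat_lit 164))) (.node (.leaf (nat_lit 101)) (.leaf (nat_lit 230))))) (.node (.node (.node (.leaf (nat_lit 22)) (.leaf (nat_lit 149))) (.node (.leaf (nat_lit 82)) (.leaf (nat_lit 213)))) (.node (.node (.leaf (nat_lit 50)) (.leaf (nat_lit 181))) (.leaf (nat_lit 117))))) (.node (.node (.node (.node (.leaf (nat_lit 13)) (.leaf (nat_lit 141))) (.node (.leaf (nat_lit 77)) (.leaf (nat_lit 205)))) (.node (.node (.leaf (nat_lit 45)) (.leaf (nat_lit 173))) (.node (.leaf (nat_lit 108)) (.leaf (nat_lit 237))))) (.node (.node (.node (.leaf (nat_lit 32)) (.leaf (nat_lit 154))) (.node (.leaf (nat_lit 93)) (.leaf (nat_lit 221)))) (.node (.node (.leaf (nat_lit 64)) (.leaf (nat_lit 186))) (.leaf (nat_lit 129))))))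

def refls7 : Tr (ℕ) :=
  .node (.node (.node (.node (.node (.node (.leaf (nat_lit 4)) (.leaf (nat_lit 130))) (.node (.leaf (nat_lit 67)) (.leaf (nat_lit 195)))) (.node (.node (.leaf (nat_lit 35)) (.leaf (nat_lit 163))) (.node (.leaf (nat_lit 99)) (.leaf (nat_lit 227))))) (.node (.node (.node (.leaf (nat_lit 19)) (.leaf (nat_lit 148))) (.node (.leaf (nat_lit 86)) (.leaf (nat_lit 208)))) (.node (.node (.leaf (nat_lit 54)) (.leaf (nat_lit 176))) (.leaf (nat_lit 111))))) (.node (.node (.node (.node (.leaf (nat_lit 11)) (.leaf (nat_lit 139))) (.node (.leaf (nat_lit 74)) (.leaf (nat_lit 203)))) (.node (.node (.leaf (nat_lit 43)) (.leaf (nat_lit 171))) (.node (.leaf (nat_lit 107)) (.leaf (nat_lit 236))))) (.node (.node (.node (.leaf (nat_lit 30)) (.leaf (nat_lit 158))) (.node (.leaf (nat_lit 92)) (.leaf (nat_lit 219)))) (.node (.node (.leaf (nat_lit 62)) (.leaf (nat_lit 190))) (.leaf (nat_lit 127)))))) (.node (.node (.node (.node (.node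 (.leaf (nat_lit 7)) (.leaf (nat_lit 135))) (.node (.leaf (nat_lit 71)) (.leaf (nat_lit 202)))) (.node (.node (.leaf (nat_lit 42)) (.leaf (nat_lit 167))) (.node (.leaf (nat_lit 102)) (.leaf (nat_lit 231))))) (.node (.node (.node (.leaf (nat_lit 23)) (.leaf (nat_lit 151))) (.node (.leaf (nat_lit 87)) (.leaf (nat_lit 215)))) (.node (.node (.leaf (nat_lit 55)) (.leaf (nat_lit 183))) (.leaf (nat_lit 119))))) (.node (.node (.node (.node (.leaf (nat_lit 15)) (.leaf (nat_lit 142))) (.node (.leaf (nat_lit 79)) (.leaf (nat_lit 210)))) (.node (.node (.leaf (nat_lit 47)) (.leaf (nat_lit 178))) (.node (.leaf (nat_lit 115)) (.leaf (nat_lit 239))))) (.node (.node (.node (.leaf (nat_lit 28)) (.leaf (nat_lit 159))) (.node (.leaf (nat_lit 95)) (.leaf (nat_lit 222)))) (.node (.node (.leaf (nat_lit 60)) (.leaf (nat_lit 191))) (.leaf (nat_lit 123))))))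

def refls8 : Tr (ℕ) :=
  .node (.node (.node (.node (.node (.node (.leaf (nat_lit 0)) (.leaf (nat_lit 128))) (.node (.leaf (nat_lit 54)) (.leaf (nat_lit 182)))) (.node (.node (.leaf (nat_lit 32)) (.leaf (nat_lit 160))) (.node (.leaf (nat_lit 91)) (.leaf (nat_lit 224))))) (.node (.node (.node (.leaf (nat_lit 21)) (.leaf (nat_lit 149))) (.node (.leaf (nat_lit 80)) (.leaf (nat_lit 208)))) (.node (.node (.leaf (nat_lit 58)) (.leaf (nat_lit 186))) (.leaf (nat_lit 112))))) (.node (.node (.node (.node (.leaf (nat_lit 7)) (.leaf (nat_lit 130))) (.node (.leaf (nat_lit 72)) (.leaf (nat_lit 200)))) (.node (.node (.leaf (nat_lit 40)) (.leaf (nat_lit 168))) (.node (.leaf (nat_lit 135)) (.leaf (nat_lit 231))))) (.node (.node (.node (.leaf (nat_lit 19)) (.leaf (nat_lit 152))) (.node (.leaf (nat_lit 93)) (.leaf (nat_lit 221)))) (.node (.node (.leaf (nat_lit 46)) (.leaf (nat_lit 174))) (.leaf (nat_lit 120)))))) (.node (.node (.node (.node (.node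 (.leaf (nat_lit 4)) (.leaf (nat_lit 138))) (.node (.leaf (nat_lit 68)) (.leaf (nat_lit 196)))) (.node (.node (.leaf (nat_lit 36)) (.leaf (nat_lit 164))) (.node (.leaf (nat_lit 106)) (.leaf (nat_lit 228))))) (.node (.node (.node (.leaf (nat_lit 25)) (.leaf (nat_lit 143))) (.node (.leaf (nat_lit 84)) (.leaf (nat_lit 212)))) (.node (.node (.leaf (nat_lit 62)) (.leaf (nat_lit 190))) (.leaf (nat_lit 116))))) (.node (.node (.node (.node (.leaf (nat_lit 12)) (.leaf (nat_lit 134))) (.node (.leaf (nat_lit 77)) (.leaf (nat_lit 204)))) (.node (.node (.leaf (nat_lit 44)) (.leaf (nat_lit 172))) (.node (.leaf (nat_lit 102)) (.leaf (nat_lit 236))))) (.node (.node (.node (.leaf (nat_lit 28)) (.leaf (nat_lit 156))) (.node (.leaf (nat_lit 97)) (.leaf (nat_lit 215)))) (.node (.node (.leaf (nat_lit 50)) (.leaf (nat_lit 178))) (.leaf (nat_lit 124))))))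

def refls9 : Tr (ℕ) :=
  .node (.node (.node (.node (.node (.node (.leaf (nat_lit 2)) (.leaf (nat_lit 136))) (.node (.leaf (nat_lit 66)) (.leaf (nat_lit 194)))) (.node (.node (.leaf (nat_lit 34)) (.leaf (nat_lit 163))) (.node (.leaf (nat_lit 98)) (.leaf (nat_lit 226))))) (.node (.node (.node (.leaf (nat_lit 23)) (.leaf (nat_lit 151))) (.node (.leaf (nat_lit 82)) (.leaf (nat_lit 210)))) (.node (.node (.leaf (nat_lit 60)) (.leaf (nat_lit 188))) (.leaf (nat_lit 114))))) (.node (.node (.node (.node (.leaf (nat_lit 10)) (.leaf (nat_lit 132))) (.node (.leaf (nat_lit 74)) (.leaf (nat_lit 202)))) (.node (.node (.leaf (nat_lit 42)) (.leaf (nat_lit 170))) (.node (.leaf (nat_lit 100)) (.leaf (nat_lit 233))))) (.node (.node (.node (.leaf (nat_lit 26)) (.leaf (nat_lit 154))) (.node (.leaf (nat_lit 95)) (.leaf (nat_lit 223)))) (.node (.node (.leaf (nat_lit 48)) (.leaf (nat_lit 176))) (.leaf (nat_lit 122)))))) (.node (.node (.node (.node (.node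 (.leaf (nat_lit 5)) (.leaf (nat_lit 140))) (.node (.leaf (nat_lit 70)) (.leaf (nat_lit 198)))) (.node (.node (.leaf (nat_lit 38)) (.leaf (nat_lit 166))) (.node (.leaf (nat_lit 108)) (.leaf (nat_lit 230))))) (.node (.node (.node (.leaf (nat_lit 17)) (.leaf (nat_lit 145))) (.node (.leaf (nat_lit 86)) (.leaf (nat_lit 219)))) (.node (.node (.leaf (nat_lit 64)) (.leaf (nat_lit 192))) (.leaf (nat_lit 118))))) (.node (.node (.node (.node (.leaf (nat_lit 14)) (.leaf (nat_lit 147))) (.node (.leaf (nat_lit 78)) (.leaf (nat_lit 206)))) (.node (.node (.leaf (nat_lit 56)) (.leaf (nat_lit 184))) (.node (.leaf (nat_lit 110)) (.leaf (nat_lit 238))))) (.node (.node (.node (.leaf (nat_lit 30)) (.leaf (nat_lit 158))) (.node (.leaf (nat_lit 89)) (.leaf (nat_lit 217)))) (.node (.node (.leaf (nat_lit 52)) (.leaf (nat_lit 180))) (.leaf (nat_lit 126))))))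

def refls10 : Tr (ℕ) :=
  .node (.node (.node (.node (.node (.node (.leaf (nat_lit 1)) (.leaf (nat_lit 129))) (.node (.leaf (nat_lit 55)) (.leaf (nat_lit 183)))) (.node (.node (.leaf (nat_lit 33)) (.leaf (nat_lit 161))) (.node (.leaf (nat_lit 92)) (.leaf (nat_lit 225))))) (.node (.node (.node (.leaf (nat_lit 22)) (.leaf (nat_lit 150))) (.node (.leaf (nat_lit 81)) (.leaf (nat_lit 209)))) (.node (.node (.leaf (nat_lit 59)) (.leaf (nat_lit 187))) (.leaf (nat_lit 113))))) (.node (.node (.node (.node (.leaf (nat_lit 9)) (.leaf (nat_lit 131))) (.node (.leaf (nat_lit 73)) (.leaf (nat_lit 201)))) (.node (.node (.leaf (nat_lit 41)) (.leaf (nat_lit 169))) (.node (.leaf (nat_lit 99)) (.leaf (nat_lit 234))))) (.node (.node (.node (.leaf (nat_lit 20)) (.leaf (nat_lit 153))) (.node (.leaf (nat_lit 94)) (.leaf (nat_lit 222)))) (.node (.node (.leaf (nat_lit 47)) (.leaf (nat_lit 175))) (.leaf (nat_lit 121)))))) (.node (.node (.node (.node (.node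 (.leaf (nat_lit 6)) (.leaf (nat_lit 139))) (.node (.leaf (nat_lit 69)) (.leaf (nat_lit 197)))) (.node (.node (.leaf (nat_lit 37)) (.leaf (nat_lit 165))) (.node (.leaf (nat_lit 107)) (.leaf (nat_lit 229))))) (.node (.node (.node (.leaf (nat_lit 16)) (.leaf (nat_lit 144))) (.node (.leaf (nat_lit 85)) (.leaf (nat_lit 213)))) (.node (.node (.leaf (nat_lit 63)) (.leaf (nat_lit 191))) (.leaf (nat_lit 117))))) (.node (.node (.node (.node (.leaf (nat_lit 13)) (.leaf (nat_lit 141))) (.node (.leaf (nat_lit 76)) (.leaf (nat_lit 205)))) (.node (.node (.leaf (nat_lit 45)) (.leaf (nat_lit 173))) (.node (.leaf (nat_lit 103)) (.leaf (nat_lit 237))))) (.node (.node (.node (.leaf (nat_lit 29)) (.leaf (nat_lit 157))) (.node (.leaf (nat_lit 88)) (.leaf (nat_lit 216)))) (.node (.node (.leaf (nat_lit 51)) (.leaf (nat_lit 179))) (.leaf (nat_lit 125))))))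

def refls11 : Tr (ℕ) :=
  .node (.node (.node (.node (.node (.node (.leaf (nat_lit 3)) (.leaf (nat_lit 137))) (.node (.leaf (nat_lit 67)) (.leaf (nat_lit 195)))) (.node (.node (.leaf (nat_lit 35)) (.leaf (nat_lit 162))) (.node (.leaf (nat_lit 105)) (.leaf (nat_lit 227))))) (.node (.node (.node (.leaf (nat_lit 24)) (.leaf (nat_lit 142))) (.node (.leaf (nat_lit 83)) (.leaf (nat_lit 211)))) (.node (.node (.leaf (nat_lit 61)) (.leaf (nat_lit 189))) (.leaf (nat_lit 115))))) (.node (.node (.node (.node (.leaf (nat_lit 11)) (.leaf (nat_lit 133))) (.node (.leaf (nat_lit 75)) (.leaf (nat_lit 203)))) (.node (.node (.leaf (nat_lit 43)) (.leaf (nat_lit 171))) (.node (.leaf (nat_lit 101)) (.leaf (nat_lit 235))))) (.node (.node (.node (.leaf (nat_lit 27)) (.leaf (nat_lit 155))) (.node (.leaf (nat_lit 96)) (.leaf (nat_lit 214)))) (.node (.node (.leaf (nat_lit 49)) (.leaf (nat_lit 177))) (.leaf (nat_lit 123)))))) (.node (.node (.node (.node (.node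 (.leaf (nat_lit 8)) (.leaf (nat_lit 104))) (.node (.leaf (nat_lit 71)) (.leaf (nat_lit 199)))) (.node (.node (.leaf (nat_lit 39)) (.leaf (nat_lit 167))) (.node (.leaf (nat_lit 109)) (.leaf (nat_lit 232))))) (.node (.node (.node (.leaf (nat_lit 18)) (.leaf (nat_lit 146))) (.node (.leaf (nat_lit 87)) (.leaf (nat_lit 220)))) (.node (.node (.leaf (nat_lit 65)) (.leaf (nat_lit 193))) (.leaf (nat_lit 119))))) (.node (.node (.node (.node (.leaf (nat_lit 15)) (.leaf (nat_lit 148))) (.node (.leaf (nat_lit 79)) (.leaf (nat_lit 207)))) (.node (.node (.leaf (nat_lit 57)) (.leaf (nat_lit 185))) (.node (.leaf (nat_lit 111)) (.leaf (nat_lit 239))))) (.node (.node (.node (.leaf (nat_lit 31)) (.leaf (nat_lit 159))) (.node (.leaf (nat_lit 90)) (.leaf (nat_lit 218)))) (.node (.node (.leaf (nat_lit 53)) (.leaf (nat_lit 181))) (.leaf (nat_lit 127))))))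

def refls12 : Tr (ℕ) :=
  .node (.node (.node (.node (.node (.node (.leaf (nat_lit 0)) (.leaf (nat_lit 127))) (.node (.leaf (nat_lit 63)) (.leaf (nat_lit 193)))) (.node (.node (.leaf (nat_lit 32)) (.leaf (nat_lit 161))) (.node (.leaf (nat_lit 96)) (.leaf (nat_lit 224))))) (.node (.node (.node (.leaf (nat_lit 16)) (.leaf (nat_lit 145))) (.node (.leaf (nat_lit 80)) (.leaf (nat_lit 209)))) (.node (.node (.leaf (nat_lit 48)) (.leaf (nat_lit 175))) (.leaf (nat_lit 111))))) (.node (.node (.node (.node (.leaf (nat_lit 8)) (.leaf (nat_lit 136))) (.node (.leaf (nat_lit 73)) (.leaf (nat_lit 200)))) (.node (.node (.leaf (nat_lit 41)) (.leaf (nat_lit 168))) (.node (.leaf (nat_lit 104)) (.leaf (nat_lit 232))))) (.node (.node (.node (.leaf (nat_lit 23)) (.leaf (nat_lit 152))) (.node (.leaf (nat_lit 88)) (.leaf (nat_lit 215)))) (.node (.node (.leaf (nat_lit 57)) (.leaf (nat_lit 184))) (.leaf (nat_lit 122)))))) (.node (.node (.node (.node (.node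 (.leaf (nat_lit 4)) (.leaf (nat_lit 133))) (.node (.leaf (nat_lit 67)) (.leaf (nat_lit 196)))) (.node (.node (.leaf (nat_lit 36)) (.leaf (nat_lit 164))) (.node (.leaf (nat_lit 101)) (.leaf (nat_lit 227))))) (.node (.node (.node (.leaf (nat_lit 20)) (.leaf (nat_lit 148))) (.node (.leaf (nat_lit 84)) (.leaf (nat_lit 211)))) (.node (.node (.leaf (nat_lit 52)) (.leaf (nat_lit 180))) (.leaf (nat_lit 115))))) (.node (.node (.node (.node (.leaf (nat_lit 11)) (.leaf (nat_lit 140))) (.node (.leaf (nat_lit 76)) (.leaf (nat_lit 205)))) (.node (.node (.leaf (nat_lit 45)) (.leaf (nat_lit 171))) (.node (.leaf (nat_lit 108)) (.leaf (nat_lit 236))))) (.node (.node (.node (.leaf (nat_lit 27)) (.leaf (nat_lit 157))) (.node (.leaf (nat_lit 92)) (.leaf (nat_lit 221)))) (.node (.node (.leaf (nat_lit 61)) (.leaf (nat_lit 189))) (.leaf (nat_lit 123))))))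

def refls13 : Tr (ℕ) :=
  .node (.node (.node (.node (.node (.node (.leaf (nat_lit 1)) (.leaf (nat_lit 130))) (.node (.leaf (nat_lit 66)) (.leaf (nat_lit 195)))) (.node (.node (.leaf (nat_lit 35)) (.leaf (nat_lit 162))) (.node (.leaf (nat_lit 98)) (.leaf (nat_lit 226))))) (.node (.node (.node (.leaf (nat_lit 19)) (.leaf (nat_lit 146))) (.node (.leaf (nat_lit 83)) (.leaf (nat_lit 210)))) (.node (.node (.leaf (nat_lit 51)) (.leaf (nat_lit 179))) (.leaf (nat_lit 114))))) (.node (.node (.node (.node (.leaf (nat_lit 10)) (.leaf (nat_lit 139))) (.node (.leaf (nat_lit 74)) (.leaf (nat_lit 201)))) (.node (.node (.leaf (nat_lit 42)) (.leaf (nat_lit 170))) (.node (.leaf (nat_lit 107)) (.leaf (nat_lit 234))))) (.node (.node (.node (.leaf (nat_lit 26)) (.leaf (nat_lit 153))) (.node (.leaf (nat_lit 89)) (.leaf (nat_lit 218)))) (.node (.node (.leaf (nat_lit 58)) (.leaf (nat_lit 185))) (.leaf (nat_lit 120)))))) (.node (.node (.node (.node (.node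 (.leaf (nat_lit 6)) (.leaf (nat_lit 134))) (.node (.leaf (nat_lit 70)) (.leaf (nat_lit 199)))) (.node (.node (.leaf (nat_lit 37)) (.leaf (nat_lit 167))) (.node (.leaf (nat_lit 102)) (.leaf (nat_lit 230))))) (.node (.node (.node (.leaf (nat_lit 22)) (.leaf (nat_lit 149))) (.node (.leaf (nat_lit 85)) (.leaf (nat_lit 214)))) (.node (.node (.leaf (nat_lit 53)) (.leaf (nat_lit 183))) (.leaf (nat_lit 121))))) (.node (.node (.node (.node (.leaf (nat_lit 14)) (.leaf (nat_lit 142))) (.node (.leaf (nat_lit 79)) (.leaf (nat_lit 206)))) (.node (.node (.leaf (nat_lit 47)) (.leaf (nat_lit 174))) (.node (.leaf (nat_lit 110)) (.leaf (nat_lit 237))))) (.node (.node (.node (.leaf (nat_lit 31)) (.leaf (nat_lit 158))) (.node (.leaf (nat_lit 95)) (.leaf (nat_lit 222)))) (.node (.node (.leaf (nat_lit 62)) (.leaf (nat_lit 190))) (.leaf (nat_lit 126))))))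

def refls14 : Tr (ℕ) :=
  .node (.node (.node (.node (.node (.node (.leaf (nat_lit 2)) (.leaf (nat_lit 129))) (.node (.leaf (nat_lit 65)) (.leaf (nat_lit 192)))) (.node (.node (.leaf (nat_lit 33)) (.leaf (nat_lit 160))) (.node (.leaf (nat_lit 97)) (.leaf (nat_lit 225))))) (.node (.node (.node (.leaf (nat_lit 17)) (.leaf (nat_lit 144))) (.node (.leaf (nat_lit 81)) (.leaf (nat_lit 208)))) (.node (.node (.leaf (nat_lit 49)) (.leaf (nat_lit 177))) (.leaf (nat_lit 113))))) (.node (.node (.node (.node (.leaf (nat_lit 9)) (.leaf (nat_lit 137))) (.node (.leaf (nat_lit 72)) (.leaf (nat_lit 202)))) (.node (.node (.leaf (nat_lit 40)) (.leaf (nat_lit 169))) (.node (.leaf (nat_lit 105)) (.leaf (nat_lit 233))))) (.node (.node (.node (.leaf (nat_lit 25)) (.leaf (nat_lit 154))) (.node (.leaf (nat_lit 90)) (.leaf (nat_lit 217)))) (.node (.node (.leaf (nat_lit 56)) (.leaf (nat_lit 186))) (.leaf (nat_lit 118)))))) (.node (.node (.node (.node (.node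 (.leaf (nat_lit 5)) (.leaf (nat_lit 132))) (.node (.leaf (nat_lit 69)) (.leaf (nat_lit 197)))) (.node (.node (.leaf (nat_lit 38)) (.leaf (nat_lit 165))) (.node (.leaf (nat_lit 100)) (.leaf (nat_lit 229))))) (.node (.node (.node (.leaf (nat_lit 21)) (.leaf (nat_lit 150))) (.node (.leaf (nat_lit 86)) (.leaf (nat_lit 213)))) (.node (.node (.leaf (nat_lit 54)) (.leaf (nat_lit 181))) (.leaf (nat_lit 119))))) (.node (.node (.node (.node (.leaf (nat_lit 13)) (.leaf (nat_lit 141))) (.node (.leaf (nat_lit 77)) (.leaf (nat_lit 204)))) (.node (.node (.leaf (nat_lit 44)) (.leaf (nat_lit 173))) (.node (.leaf (nat_lit 109)) (.leaf (nat_lit 238))))) (.node (.node (.node (.leaf (nat_lit 29)) (.leaf (nat_lit 156))) (.node (.leaf (nat_lit 93)) (.leaf (nat_lit 220)))) (.node (.node (.leaf (nat_lit 60)) (.leaf (nat_lit 188))) (.leaf (nat_lit 125))))))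

def refls15 : Tr (ℕ) :=
  .node (.node (.node (.node (.node (.node (.leaf (nat_lit 3)) (.leaf (nat_lit 131))) (.node (.leaf (nat_lit 68)) (.leaf (nat_lit 194)))) (.node (.node (.leaf (nat_lit 34)) (.leaf (nat_lit 163))) (.node (.leaf (nat_lit 99)) (.leaf (nat_lit 228))))) (.node (.node (.node (.leaf (nat_lit 18)) (.leaf (nat_lit 147))) (.node (.leaf (nat_lit 82)) (.leaf (nat_lit 212)))) (.node (.node (.leaf (nat_lit 50)) (.leaf (nat_lit 178))) (.leaf (nat_lit 116))))) (.node (.node (.node (.node (.leaf (nat_lit 12)) (.leaf (nat_lit 138))) (.node (.leaf (nat_lit 75)) (.leaf (nat_lit 203)))) (.node (.node (.leaf (nat_lit 43)) (.leaf (nat_lit 172))) (.node (.leaf (nat_lit 106)) (.leaf (nat_lit 235))))) (.node (.node (.node (.leaf (nat_lit 28)) (.leaf (nat_lit 155))) (.node (.leaf (nat_lit 91)) (.leaf (nat_lit 219)))) (.node (.node (.leaf (nat_lit 59)) (.leaf (nat_lit 187))) (.leaf (nat_lit 124)))))) (.node (.node (.node (.node (.node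 (.leaf (nat_lit 7)) (.leaf (nat_lit 135))) (.node (.leaf (nat_lit 71)) (.leaf (nat_lit 198)))) (.node (.node (.leaf (nat_lit 39)) (.leaf (nat_lit 166))) (.node (.leaf (nat_lit 103)) (.leaf (nat_lit 231))))) (.node (.node (.node (.leaf (nat_lit 24)) (.leaf (nat_lit 151))) (.node (.leaf (nat_lit 87)) (.leaf (nat_lit 216)))) (.node (.node (.leaf (nat_lit 55)) (.leaf (nat_lit 182))) (.leaf (nat_lit 117))))) (.node (.node (.node (.node (.leaf (nat_lit 15)) (.leaf (nat_lit 143))) (.node (.leaf (nat_lit 78)) (.leaf (nat_lit 207)))) (.node (.node (.leaf (nat_lit 46)) (.leaf (nat_lit 176))) (.node (.leaf (nat_lit 112)) (.leaf (nat_lit 239))))) (.node (.node (.node (.leaf (nat_lit 30)) (.leaf (nat_lit 159))) (.node (.leaf (nat_lit 94)) (.leaf (nat_lit 223)))) (.node (.node (.leaf (nat_lit 64)) (.leaf (nat_lit 191))) (.leaf (nat_lit 128))))))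

def refls16 : Tr (ℕ) :=
  .node (.node (.node (.node (.node (.node (.leaf (nat_lit 0)) (.leaf (nat_lit 128))) (.node (.leaf (nat_lit 64)) (.leaf (nat_lit 192)))) (.node (.node (.leaf (nat_lit 42)) (.leaf (nat_lit 160))) (.node (.leaf (nat_lit 108)) (.leaf (nat_lit 225))))) (.node (.node (.node (.leaf (nat_lit 16)) (.leaf (nat_lit 132))) (.node (.leaf (nat_lit 80)) (.leaf (nat_lit 198)))) (.node (.node (.leaf (nat_lit 48)) (.leaf (nat_lit 176))) (.leaf (nat_lit 112))))) (.node (.node (.node (.node (.leaf (nat_lit 6)) (.leaf (nat_lit 147))) (.node (.leaf (nat_lit 67)) (.leaf (nat_lit 210)))) (.node (.node (.leaf (nat_lit 30)) (.leaf (nat_lit 173))) (.node (.leaf (nat_lit 104)) (.leaf (nat_lit 234))))) (.node (.node (.node (.leaf (nat_lit 24)) (.leaf (nat_lit 152))) (.node (.leaf (nat_lit 99)) (.leaf (nat_lit 216)))) (.node (.node (.leaf (nat_lit 56)) (.leaf (nat_lit 184))) (.leaf (nat_lit 120)))))) (.node (.node (.node (.node (.node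 (.leaf (nat_lit 4)) (.leaf (nat_lit 144))) (.node (.leaf (nat_lit 73)) (.leaf (nat_lit 206)))) (.node (.node (.leaf (nat_lit 26)) (.leaf (nat_lit 169))) (.node (.leaf (nat_lit 89)) (.leaf (nat_lit 228))))) (.node (.node (.node (.leaf (nat_lit 20)) (.leaf (nat_lit 137))) (.node (.leaf (nat_lit 84)) (.leaf (nat_lit 202)))) (.node (.node (.leaf (nat_lit 52)) (.leaf (nat_lit 180))) (.leaf (nat_lit 116))))) (.node (.node (.node (.node (.leaf (nat_lit 12)) (.leaf (nat_lit 151))) (.node (.leaf (nat_lit 76)) (.leaf (nat_lit 194)))) (.node (.node (.leaf (nat_lit 34)) (.leaf (nat_lit 167))) (.node (.leaf (nat_lit 96)) (.leaf (nat_lit 236))))) (.node (.node (.node (.leaf (nat_lit 38)) (.leaf (nat_lit 156))) (.node (.leaf (nat_lit 103)) (.leaf (nat_lit 220)))) (.node (.node (.leaf (nat_lit 60)) (.leaf (nat_lit 188))) (.leaf (nat_lit 124))))))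

def refls17 : Tr (ℕ) :=
  .node (.node (.node (.node (.node (.node (.leaf (nat_lit 2)) (.leaf (nat_lit 142))) (.node (.leaf (nat_lit 71)) (.leaf (nat_lit 204)))) (.node (.node (.leaf (nat_lit 44)) (.leaf (nat_lit 162))) (.node (.leaf (nat_lit 141)) (.leaf (nat_lit 226))))) (.node (.node (.node (.leaf (nat_lit 18)) (.leaf (nat_lit 134))) (.node (.leaf (nat_lit 82)) (.leaf (nat_lit 200)))) (.node (.node (.leaf (nat_lit 50)) (.leaf (nat_lit 178))) (.leaf (nat_lit 114))))) (.node (.node (.node (.node (.leaf (nat_lit 10)) (.leaf (nat_lit 149))) (.node (.leaf (nat_lit 69)) (.leaf (nat_lit 212)))) (.node (.node (.leaf (nat_lit 32)) (.leaf (nat_lit 165))) (.node (.leaf (nat_lit 94)) (.leaf (nat_lit 232))))) (.node (.node (.node (.leaf (nat_lit 36)) (.leaf (nat_lit 154))) (.node (.leaf (nat_lit 101)) (.leaf (nat_lit 218)))) (.node (.node (.leaf (nat_lit 58)) (.leaf (nat_lit 186))) (.leaf (nat_lit 122)))))) (.node (.node (.node (.node (.node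 (.leaf (nat_lit 8)) (.leaf (nat_lit 146))) (.node (.leaf (nat_lit 75)) (.leaf (nat_lit 208)))) (.node (.node (.leaf (nat_lit 28)) (.leaf (nat_lit 171))) (.node (.leaf (nat_lit 91)) (.leaf (nat_lit 230))))) (.node (.node (.node (.leaf (nat_lit 22)) (.leaf (nat_lit 139))) (.node (.leaf (nat_lit 86)) (.leaf (nat_lit 214)))) (.node (.node (.leaf (nat_lit 54)) (.leaf (nat_lit 182))) (.leaf (nat_lit 118))))) (.node (.node (.node (.node (.leaf (nat_lit 15)) (.leaf (nat_lit 130))) (.node (.leaf (nat_lit 78)) (.leaf (nat_lit 196)))) (.node (.node (.leaf (nat_lit 46)) (.leaf (nat_lit 174))) (.node (.leaf (nat_lit 110)) (.leaf (nat_lit 238))))) (.node (.node (.node (.leaf (nat_lit 40)) (.leaf (nat_lit 158))) (.node (.leaf (nat_lit 106)) (.leaf (nat_lit 222)))) (.node (.node (.leaf (nat_lit 62)) (.leaf (nat_lit 190))) (.leaf (nat_lit 126))))))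

def refls18 : Tr (ℕ) :=
  .node (.node (.node (.node (.node (.node (.leaf (nat_lit 1)) (.leaf (nat_lit 129))) (.node (.leaf (nat_lit 65)) (.leaf (nat_lit 193)))) (.node (.node (.leaf (nat_lit 43)) (.leaf (nat_lit 161))) (.node (.leaf (nat_lit 109)) (.leaf (nat_lit 224))))) (.node (.node (.node (.leaf (nat_lit 17)) (.leaf (nat_lit 133))) (.node (.leaf (nat_lit 81)) (.leaf (nat_lit 199)))) (.node (.node (.leaf (nat_lit 49)) (.leaf (nat_lit 177))) (.leaf (nat_lit 113))))) (.node (.node (.node (.node (.leaf (nat_lit 9)) (.leaf (nat_lit 148))) (.node (.leaf (nat_lit 68)) (.leaf (nat_lit 211)))) (.node (.node (.leaf (nat_lit 31)) (.leaf (nat_lit 164))) (.node (.leaf (nat_lit 93)) (.leaf (nat_lit 231))))) (.node (.node (.node (.leaf (nat_lit 25)) (.leaf (nat_lit 153))) (.node (.leaf (nat_lit 100)) (.leaf (nat_lit 217)))) (.node (.node (.leaf (nat_lit 57)) (.leaf (nat_lit 185))) (.leaf (nat_lit 121)))))) (.node (.node (.node (.node (.node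 (.leaf (nat_lit 7)) (.leaf (nat_lit 145))) (.node (.leaf (nat_lit 74)) (.leaf (nat_lit 207)))) (.node (.node (.leaf (nat_lit 27)) (.leaf (nat_lit 170))) (.node (.leaf (nat_lit 90)) (.leaf (nat_lit 229))))) (.node (.node (.node (.leaf (nat_lit 21)) (.leaf (nat_lit 138))) (.node (.leaf (nat_lit 85)) (.leaf (nat_lit 203)))) (.node (.node (.leaf (nat_lit 53)) (.leaf (nat_lit 181))) (.leaf (nat_lit 117))))) (.node (.node (.node (.node (.leaf (nat_lit 13)) (.leaf (nat_lit 98))) (.node (.leaf (nat_lit 77)) (.leaf (nat_lit 195)))) (.node (.node (.leaf (nat_lit 35)) (.leaf (nat_lit 168))) (.node (.leaf (nat_lit 97)) (.leaf (nat_lit 237))))) (.node (.node (.node (.leaf (nat_lit 39)) (.leaf (nat_lit 157))) (.node (.leaf (nat_lit 105)) (.leaf (nat_lit 221)))) (.node (.node (.leaf (nat_lit 61)) (.leaf (nat_lit 189))) (.leaf (nat_lit 125))))))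

def refls19 : Tr (ℕ) :=
  .node (.node (.node (.node (.node (.node (.leaf (nat_lit 3)) (.leaf (nat_lit 143))) (.node (.leaf (nat_lit 72)) (.leaf (nat_lit 205)))) (.node (.node (.leaf (nat_lit 45)) (.leaf (nat_lit 163))) (.node (.leaf (nat_lit 88)) (.leaf (nat_lit 227))))) (.node (.node (.node (.leaf (nat_lit 19)) (.leaf (nat_lit 136))) (.node (.leaf (nat_lit 83)) (.leaf (nat_lit 201)))) (.node (.node (.leaf (nat_lit 51)) (.leaf (nat_lit 179))) (.leaf (nat_lit 115))))) (.node (.node (.node (.node (.leaf (nat_lit 11)) (.leaf (nat_lit 150))) (.node (.leaf (nat_lit 70)) (.leaf (nat_lit 213)))) (.node (.node (.leaf (nat_lit 33)) (.leaf (nat_lit 166))) (.node (.leaf (nat_lit 95)) (.leaf (nat_lit 235))))) (.node (.node (.node (.leaf (nat_lit 37)) (.leaf (nat_lit 155))) (.node (.leaf (nat_lit 102)) (.leaf (nat_lit 219)))) (.node (.node (.leaf (nat_lit 59)) (.leaf (nat_lit 187))) (.leaf (nat_lit 123)))))) (.node (.node (.node (.node (.node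 (.leaf (nat_lit 5)) (.leaf (nat_lit 135))) (.node (.leaf (nat_lit 66)) (.leaf (nat_lit 209)))) (.node (.node (.leaf (nat_lit 29)) (.leaf (nat_lit 172))) (.node (.leaf (nat_lit 92)) (.leaf (nat_lit 233))))) (.node (.node (.node (.leaf (nat_lit 23)) (.leaf (nat_lit 140))) (.node (.leaf (nat_lit 87)) (.leaf (nat_lit 215)))) (.node (.node (.leaf (nat_lit 55)) (.leaf (nat_lit 183))) (.leaf (nat_lit 119))))) (.node (.node (.node (.node (.leaf (nat_lit 14)) (.leaf (nat_lit 131))) (.node (.leaf (nat_lit 79)) (.leaf (nat_lit 197)))) (.node (.node (.leaf (nat_lit 47)) (.leaf (nat_lit 175))) (.node (.leaf (nat_lit 111)) (.leaf (nat_lit 239))))) (.node (.node (.node (.leaf (nat_lit 41)) (.leaf (nat_lit 159))) (.node (.leaf (nat_lit 107)) (.leaf (nat_lit 223)))) (.node (.node (.leaf (nat_lit 63)) (.leaf (nat_lit 191))) (.leaf (nat_lit 127))))))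

def refls20 : Tr (ℕ) :=
  .node (.node (.node (.node (.node (.node (.leaf (nat_lit 0)) (.leaf (nat_lit 128))) (.node (.leaf (nat_lit 65)) (.leaf (nat_lit 190)))) (.node (.node (.leaf (nat_lit 34)) (.leaf (nat_lit 158))) (.node (.leaf (nat_lit 95)) (.leaf (nat_lit 224))))) (.node (.node (.node (.leaf (nat_lit 16)) (.leaf (nat_lit 143))) (.node (.leaf (nat_lit 82)) (.leaf (nat_lit 206)))) (.node (.node (.leaf (nat_lit 50)) (.leaf (nat_lit 176))) (.leaf (nat_lit 113))))) (.node (.node (.node (.node (.leaf (nat_lit 8)) (.leaf (nat_lit 136))) (.node (.leaf (nat_lit 72)) (.leaf (nat_lit 200)))) (.node (.node (.leaf (nat_lit 40)) (.leaf (nat_lit 168))) (.node (.leaf (nat_lit 104)) (.leaf (nat_lit 232))))) (.node (.node (.node (.leaf (nat_lit 24)) (.leaf (nat_lit 153))) (.node (.leaf (nat_lit 88)) (.leaf (nat_lit 217)))) (.node (.node (.leaf (nat_lit 56)) (.leaf (nat_lit 185))) (.leaf (nat_lit 120)))))) (.node (.node (.node (.node (.node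 (.leaf (nat_lit 4)) (.leaf (nat_lit 131))) (.node (.leaf (nat_lit 69)) (.leaf (nat_lit 198)))) (.node (.node (.leaf (nat_lit 37)) (.leaf (nat_lit 164))) (.node (.leaf (nat_lit 100)) (.leaf (nat_lit 229))))) (.node (.node (.node (.leaf (nat_lit 20)) (.leaf (nat_lit 149))) (.node (.leaf (nat_lit 84)) (.leaf (nat_lit 213)))) (.node (.node (.leaf (nat_lit 52)) (.leaf (nat_lit 182))) (.leaf (nat_lit 123))))) (.node (.node (.node (.node (.leaf (nat_lit 12)) (.leaf (nat_lit 140))) (.node (.leaf (nat_lit 76)) (.leaf (nat_lit 204)))) (.node (.node (.leaf (nat_lit 42)) (.leaf (nat_lit 172))) (.node (.leaf (nat_lit 107)) (.leaf (nat_lit 237))))) (.node (.node (.node (.leaf (nat_lit 28)) (.leaf (nat_lit 156))) (.node (.leaf (nat_lit 92)) (.leaf (nat_lit 220)))) (.node (.node (.leaf (nat_lit 58)) (.leaf (nat_lit 188))) (.leaf (nat_lit 121))))))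

def refls21 : Tr (ℕ) :=
  .node (.node (.node (.node (.node (.node (.leaf (nat_lit 3)) (.leaf (nat_lit 130))) (.node (.leaf (nat_lit 66)) (.leaf (nat_lit 194)))) (.node (.node (.leaf (nat_lit 32)) (.leaf (nat_lit 162))) (.node (.leaf (nat_lit 98)) (.leaf (nat_lit 226))))) (.node (.node (.node (.leaf (nat_lit 17)) (.leaf (nat_lit 146))) (.node (.leaf (nat_lit 80)) (.leaf (nat_lit 210)))) (.node (.node (.leaf (nat_lit 48)) (.leaf (nat_lit 178))) (.leaf (nat_lit 117))))) (.node (.node (.node (.node (.leaf (nat_lit 11)) (.leaf (nat_lit 137))) (.node (.leaf (nat_lit 73)) (.leaf (nat_lit 203)))) (.node (.node (.leaf (nat_lit 44)) (.leaf (nat_lit 171))) (.node (.leaf (nat_lit 106)) (.leaf (nat_lit 234))))) (.node (.node (.node (.leaf (nat_lit 27)) (.leaf (nat_lit 154))) (.node (.leaf (nat_lit 91)) (.leaf (nat_lit 218)))) (.node (.node (.leaf (nat_lit 60)) (.leaf (nat_lit 186))) (.leaf (nat_lit 125)))))) (.node (.node (.node (.node (.node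 (.leaf (nat_lit 6)) (.leaf (nat_lit 134))) (.node (.leaf (nat_lit 70)) (.leaf (nat_lit 196)))) (.node (.node (.leaf (nat_lit 38)) (.leaf (nat_lit 165))) (.node (.leaf (nat_lit 101)) (.leaf (nat_lit 230))))) (.node (.node (.node (.leaf (nat_lit 23)) (.leaf (nat_lit 150))) (.node (.leaf (nat_lit 87)) (.leaf (nat_lit 214)))) (.node (.node (.leaf (nat_lit 55)) (.leaf (nat_lit 180))) (.leaf (nat_lit 115))))) (.node (.node (.node (.node (.leaf (nat_lit 14)) (.leaf (nat_lit 142))) (.node (.leaf (nat_lit 78)) (.leaf (nat_lit 208)))) (.node (.node (.leaf (nat_lit 46)) (.leaf (nat_lit 175))) (.node (.leaf (nat_lit 110)) (.leaf (nat_lit 238))))) (.node (.node (.node (.leaf (nat_lit 30)) (.leaf (nat_lit 160))) (.node (.leaf (nat_lit 94)) (.leaf (nat_lit 221)))) (.node (.node (.leaf (nat_lit 62)) (.leaf (nat_lit 192))) (.leaf (nat_lit 127))))))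

def refls22 : Tr (ℕ) :=
  .node (.node (.node (.node (.node (.node (.leaf (nat_lit 1)) (.leaf (nat_lit 129))) (.node (.leaf (nat_lit 64)) (.leaf (nat_lit 193)))) (.node (.node (.leaf (nat_lit 31)) (.leaf (nat_lit 161))) (.node (.leaf (nat_lit 97)) (.leaf (nat_lit 225))))) (.node (.node (.node (.leaf (nat_lit 18)) (.leaf (nat_lit 145))) (.node (.leaf (nat_lit 79)) (.leaf (nat_lit 209)))) (.node (.node (.leaf (nat_lit 47)) (.leaf (nat_lit 177))) (.leaf (nat_lit 112))))) (.node (.node (.node (.node (.leaf (nat_lit 9)) (.leaf (nat_lit 138))) (.node (.leaf (nat_lit 74)) (.leaf (nat_lit 201)))) (.node (.node (.leaf (nat_lit 43)) (.leaf (nat_lit 169))) (.node (.leaf (nat_lit 105)) (.leaf (nat_lit 233))))) (.node (.node (.node (.leaf (nat_lit 25)) (.leaf (nat_lit 152))) (.node (.leaf (nat_lit 89)) (.leaf (nat_lit 216)))) (.node (.node (.leaf (nat_lit 59)) (.leaf (nat_lit 184))) (.leaf (nat_lit 124)))))) (.node (.node (.node (.node (.node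 (.leaf (nat_lit 5)) (.leaf (nat_lit 133))) (.node (.leaf (nat_lit 68)) (.leaf (nat_lit 195)))) (.node (.node (.leaf (nat_lit 36)) (.leaf (nat_lit 166))) (.node (.leaf (nat_lit 102)) (.leaf (nat_lit 228))))) (.node (.node (.node (.leaf (nat_lit 21)) (.leaf (nat_lit 148))) (.node (.leaf (nat_lit 85)) (.leaf (nat_lit 212)))) (.node (.node (.leaf (nat_lit 53)) (.leaf (nat_lit 179))) (.leaf (nat_lit 114))))) (.node (.node (.node (.node (.leaf (nat_lit 13)) (.leaf (nat_lit 141))) (.node (.leaf (nat_lit 77)) (.leaf (nat_lit 207)))) (.node (.node (.leaf (nat_lit 45)) (.leaf (nat_lit 173))) (.node (.leaf (nat_lit 109)) (.leaf (nat_lit 236))))) (.node (.node (.node (.leaf (nat_lit 29)) (.leaf (nat_lit 159))) (.node (.leaf (nat_lit 93)) (.leaf (nat_lit 222)))) (.node (.node (.leaf (nat_lit 61)) (.leaf (nat_lit 191))) (.leaf (nat_lit 122))))))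

def refls23 : Tr (ℕ) :=
  .node (.node (.node (.node (.node (.node (.leaf (nat_lit 2)) (.leaf (nat_lit 132))) (.node (.leaf (nat_lit 67)) (.leaf (nat_lit 197)))) (.node (.node (.leaf (nat_lit 35)) (.leaf (nat_lit 163))) (.node (.leaf (nat_lit 99)) (.leaf (nat_lit 227))))) (.node (.node (.node (.leaf (nat_lit 19)) (.leaf (nat_lit 147))) (.node (.leaf (nat_lit 83)) (.leaf (nat_lit 211)))) (.node (.node (.leaf (nat_lit 51)) (.leaf (nat_lit 181))) (.leaf (nat_lit 118))))) (.node (.node (.node (.node (.leaf (nat_lit 10)) (.leaf (nat_lit 139))) (.node (.leaf (nat_lit 75)) (.leaf (nat_lit 202)))) (.node (.node (.leaf (nat_lit 41)) (.leaf (nat_lit 170))) (.node (.leaf (nat_lit 108)) (.leaf (nat_lit 235))))) (.node (.node (.node (.leaf (nat_lit 26)) (.leaf (nat_lit 155))) (.node (.leaf (nat_lit 90)) (.leaf (nat_lit 219)))) (.node (.node (.leaf (nat_lit 57)) (.leaf (nat_lit 187))) (.leaf (nat_lit 116)))))) (.node (.node (.node (.node (.node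 (.leaf (nat_lit 7)) (.leaf (nat_lit 135))) (.node (.leaf (nat_lit 71)) (.leaf (nat_lit 199)))) (.node (.node (.leaf (nat_lit 39)) (.leaf (nat_lit 167))) (.node (.leaf (nat_lit 103)) (.leaf (nat_lit 231))))) (.node (.node (.node (.leaf (nat_lit 22)) (.leaf (nat_lit 151))) (.node (.leaf (nat_lit 86)) (.leaf (nat_lit 215)))) (.node (.node (.leaf (nat_lit 54)) (.leaf (nat_lit 183))) (.leaf (nat_lit 119))))) (.node (.node (.node (.node (.leaf (nat_lit 15)) (.leaf (nat_lit 144))) (.node (.leaf (nat_lit 81)) (.leaf (nat_lit 205)))) (.node (.node (.leaf (nat_lit 49)) (.leaf (nat_lit 174))) (.node (.leaf (nat_lit 111)) (.leaf (nat_lit 239))))) (.node (.node (.node (.leaf (nat_lit 33)) (.leaf (nat_lit 157))) (.node (.leaf (nat_lit 96)) (.leaf (nat_lit 223)))) (.node (.node (.leaf (nat_lit 63)) (.leaf (nat_lit 189))) (.leaf (nat_lit 126))))))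

def refls24 : Tr (ℕ) :=
  .node (.node (.node (.node (.node (.node (.leaf (nat_lit 0)) (.leaf (nat_lit 133))) (.node (.leaf (nat_lit 68)) (.leaf (nat_lit 198)))) (.node (.node (.leaf (nat_lit 32)) (.leaf (nat_lit 160))) (.node (.leaf (nat_lit 96)) (.leaf (nat_lit 223))))) (.node (.node (.node (.leaf (nat_lit 15)) (.leaf (nat_lit 144))) (.node (.leaf (nat_lit 80)) (.leaf (nat_lit 208)))) (.node (.node (.leaf (nat_lit 42)) (.leaf (nat_lit 172))) (.leaf (nat_lit 107))))) (.node (.node (.node (.node (.leaf (nat_lit 9)) (.leaf (nat_lit 135))) (.node (.leaf (nat_lit 72)) (.leaf (nat_lit 200)))) (.node (.node (.leaf (nat_lit 46)) (.leaf (nat_lit 168))) (.node (.leaf (nat_lit 103)) (.leaf (nat_lit 232))))) (.node (.node (.node (.leaf (nat_lit 28)) (.leaf (nat_lit 148))) (.node (.leaf (nat_lit 84)) (.leaf (nat_lit 212)))) (.node (.node (.leaf (nat_lit 56)) (.leaf (nat_lit 184))) (.leaf (nat_lit 120)))))) (.node (.node (.node (.node (.node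 (.leaf (nat_lit 5)) (.leaf (nat_lit 127))) (.node (.leaf (nat_lit 64)) (.leaf (nat_lit 190)))) (.node (.node (.leaf (nat_lit 36)) (.leaf (nat_lit 163))) (.node (.leaf (nat_lit 100)) (.leaf (nat_lit 228))))) (.node (.node (.node (.leaf (nat_lit 20)) (.leaf (nat_lit 152))) (.node (.leaf (nat_lit 88)) (.leaf (nat_lit 216)))) (.node (.node (.leaf (nat_lit 52)) (.leaf (nat_lit 180))) (.leaf (nat_lit 116))))) (.node (.node (.node (.node (.leaf (nat_lit 12)) (.leaf (nat_lit 140))) (.node (.leaf (nat_lit 75)) (.leaf (nat_lit 204)))) (.node (.node (.leaf (nat_lit 50)) (.leaf (nat_lit 176))) (.node (.leaf (nat_lit 113)) (.leaf (nat_lit 236))))) (.node (.node (.node (.leaf (nat_lit 24)) (.leaf (nat_lit 156))) (.node (.leaf (nat_lit 92)) (.leaf (nat_lit 220)))) (.node (.node (.leaf (nat_lit 60)) (.leaf (nat_lit 194))) (.leaf (nat_lit 124))))))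

def refls25 : Tr (ℕ) :=
  .node (.node (.node (.node (.node (.node (.leaf (nat_lit 2)) (.leaf (nat_lit 109))) (.node (.leaf (nat_lit 62)) (.leaf (nat_lit 188)))) (.node (.node (.leaf (nat_lit 34)) (.leaf (nat_lit 162))) (.node (.leaf (nat_lit 97)) (.leaf (nat_lit 226))))) (.node (.node (.node (.leaf (nat_lit 18)) (.leaf (nat_lit 146))) (.node (.leaf (nat_lit 82)) (.leaf (nat_lit 214)))) (.node (.node (.leaf (nat_lit 44)) (.leaf (nat_lit 178))) (.leaf (nat_lit 114))))) (.node (.node (.node (.node (.leaf (nat_lit 10)) (.leaf (nat_lit 138))) (.node (.leaf (nat_lit 74)) (.leaf (nat_lit 202)))) (.node (.node (.leaf (nat_lit 48)) (.leaf (nat_lit 174))) (.node (.leaf (nat_lit 111)) (.leaf (nat_lit 235))))) (.node (.node (.node (.leaf (nat_lit 22)) (.leaf (nat_lit 150))) (.node (.leaf (nat_lit 86)) (.leaf (nat_lit 218)))) (.node (.node (.leaf (nat_lit 58)) (.leaf (nat_lit 186))) (.leaf (nat_lit 122)))))) (.node (.node (.node (.node (.node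 (.leaf (nat_lit 6)) (.leaf (nat_lit 129))) (.node (.leaf (nat_lit 70)) (.leaf (nat_lit 192)))) (.node (.node (.leaf (nat_lit 38)) (.leaf (nat_lit 166))) (.node (.leaf (nat_lit 102)) (.leaf (nat_lit 231))))) (.node (.node (.node (.leaf (nat_lit 26)) (.leaf (nat_lit 154))) (.node (.leaf (nat_lit 90)) (.leaf (nat_lit 210)))) (.node (.node (.leaf (nat_lit 54)) (.leaf (nat_lit 182))) (.leaf (nat_lit 118))))) (.node (.node (.node (.node (.leaf (nat_lit 14)) (.leaf (nat_lit 141))) (.node (.leaf (nat_lit 78)) (.leaf (nat_lit 206)))) (.node (.node (.leaf (nat_lit 40)) (.leaf (nat_lit 170))) (.node (.leaf (nat_lit 105)) (.leaf (nat_lit 238))))) (.node (.node (.node (.leaf (nat_lit 30)) (.leaf (nat_lit 158))) (.node (.leaf (nat_lit 94)) (.leaf (nat_lit 222)))) (.node (.node (.leaf (nat_lit 66)) (.leaf (nat_lit 196))) (.leaf (nat_lit 131))))))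

def refls26 : Tr (ℕ) :=
  .node (.node (.node (.node (.node (.node (.leaf (nat_lit 1)) (.leaf (nat_lit 134))) (.node (.leaf (nat_lit 69)) (.leaf (nat_lit 199)))) (.node (.node (.leaf (nat_lit 33)) (.leaf (nat_lit 161))) (.node (.leaf (nat_lit 98)) (.leaf (nat_lit 225))))) (.node (.node (.node (.leaf (nat_lit 17)) (.leaf (nat_lit 145))) (.node (.leaf (nat_lit 81)) (.leaf (nat_lit 209)))) (.node (.node (.leaf (nat_lit 43)) (.leaf (nat_lit 173))) (.leaf (nat_lit 108))))) (.node (.node (.node (.node (.leaf (nat_lit 8)) (.leaf (nat_lit 137))) (.node (.leaf (nat_lit 73)) (.leaf (nat_lit 201)))) (.node (.node (.leaf (nat_lit 47)) (.leaf (nat_lit 169))) (.node (.leaf (nat_lit 110)) (.leaf (nat_lit 233))))) (.node (.node (.node (.leaf (nat_lit 29)) (.leaf (nat_lit 149))) (.node (.leaf (nat_lit 85)) (.leaf (nat_lit 213)))) (.node (.node (.leaf (nat_lit 57)) (.leaf (nat_lit 185))) (.leaf (nat_lit 121)))))) (.node (.node (.node (.node (.node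 (.leaf (nat_lit 4)) (.leaf (nat_lit 128))) (.node (.leaf (nat_lit 65)) (.leaf (nat_lit 191)))) (.node (.node (.leaf (nat_lit 37)) (.leaf (nat_lit 165))) (.node (.leaf (nat_lit 101)) (.leaf (nat_lit 229))))) (.node (.node (.node (.leaf (nat_lit 21)) (.leaf (nat_lit 153))) (.node (.leaf (nat_lit 89)) (.leaf (nat_lit 217)))) (.node (.node (.leaf (nat_lit 53)) (.leaf (nat_lit 181))) (.leaf (nat_lit 117))))) (.node (.node (.node (.node (.leaf (nat_lit 13)) (.leaf (nat_lit 142))) (.node (.leaf (nat_lit 77)) (.leaf (nat_lit 205)))) (.node (.node (.leaf (nat_lit 51)) (.leaf (nat_lit 177))) (.node (.leaf (nat_lit 130)) (.leaf (nat_lit 237))))) (.node (.node (.node (.leaf (nat_lit 25)) (.leaf (nat_lit 157))) (.node (.leaf (nat_lit 93)) (.leaf (nat_lit 221)))) (.node (.node (.leaf (nat_lit 61)) (.leaf (nat_lit 195))) (.leaf (nat_lit 125))))))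

def refls27 : Tr (ℕ) :=
  .node (.node (.node (.node (.node (.node (.leaf (nat_lit 3)) (.leaf (nat_lit 126))) (.node (.leaf (nat_lit 63)) (.leaf (nat_lit 189)))) (.node (.node (.leaf (nat_lit 35)) (.leaf (nat_lit 164))) (.node (.leaf (nat_lit 99)) (.leaf (nat_lit 227))))) (.node (.node (.node (.leaf (nat_lit 19)) (.leaf (nat_lit 147))) (.node (.leaf (nat_lit 83)) (.leaf (nat_lit 215)))) (.node (.node (.leaf (nat_lit 45)) (.leaf (nat_lit 179))) (.leaf (nat_lit 115))))) (.node (.node (.node (.node (.leaf (nat_lit 11)) (.leaf (nat_lit 139))) (.node (.leaf (nat_lit 76)) (.leaf (nat_lit 203)))) (.node (.node (.leaf (nat_lit 49)) (.leaf (nat_lit 175))) (.node (.leaf (nat_lit 112)) (.leaf (nat_lit 234))))) (.node (.node (.node (.leaf (nat_lit 23)) (.leaf (nat_lit 151))) (.node (.leaf (nat_lit 87)) (.leaf (nat_lit 219)))) (.node (.node (.leaf (nat_lit 59)) (.leaf (nat_lit 187))) (.leaf (nat_lit 123)))))) (.node (.node (.node (.node (.node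 (.leaf (nat_lit 7)) (.leaf (nat_lit 136))) (.node (.leaf (nat_lit 71)) (.leaf (nat_lit 193)))) (.node (.node (.leaf (nat_lit 39)) (.leaf (nat_lit 167))) (.node (.leaf (nat_lit 104)) (.leaf (nat_lit 230))))) (.node (.node (.node (.leaf (nat_lit 27)) (.leaf (nat_lit 155))) (.node (.leaf (nat_lit 91)) (.leaf (nat_lit 211)))) (.node (.node (.leaf (nat_lit 55)) (.leaf (nat_lit 183))) (.leaf (nat_lit 119))))) (.node (.node (.node (.node (.leaf (nat_lit 16)) (.leaf (nat_lit 143))) (.node (.leaf (nat_lit 79)) (.leaf (nat_lit 207)))) (.node (.node (.leaf (nat_lit 41)) (.leaf (nat_lit 171))) (.node (.leaf (nat_lit 106)) (.leaf (nat_lit 239))))) (.node (.node (.node (.leaf (nat_lit 31)) (.leaf (nat_lit 159))) (.node (.leaf (nat_lit 95)) (.leaf (nat_lit 224)))) (.node (.node (.leaf (nat_lit 67)) (.leaf (nat_lit 197))) (.leaf (nat_lit 132))))))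

def refls28 : Tr (ℕ) :=
  .node (.node (.node (.node (.node (.node (.leaf (nat_lit 1)) (.leaf (nat_lit 129))) (.node (.leaf (nat_lit 64)) (.leaf (nat_lit 191)))) (.node (.node (.leaf (nat_lit 31)) (.leaf (nat_lit 159))) (.node (.leaf (nat_lit 96)) (.leaf (nat_lit 224))))) (.node (.node (.node (.leaf (nat_lit 16)) (.leaf (nat_lit 144))) (.node (.leaf (nat_lit 79)) (.leaf (nat_lit 207)))) (.node (.node (.leaf (nat_lit 47)) (.leaf (nat_lit 177))) (.leaf (nat_lit 112))))) (.node (.node (.node (.node (.leaf (nat_lit 8)) (.leaf (nat_lit 136))) (.node (.leaf (nat_lit 71)) (.leaf (nat_lit 201)))) (.node (.node (.leaf (nat_lit 40)) (.leaf (nat_lit 167))) (.node (.leaf (nat_lit 104)) (.leaf (nat_lit 232))))) (.node (.node (.node (.leaf (nat_lit 25)) (.leaf (nat_lit 152))) (.node (.leaf (nat_lit 89)) (.leaf (nat_lit 216)))) (.node (.node (.leaf (nat_lit 56)) (.leaf (nat_lit 184))) (.leaf (nat_lit 119)))))) (.node (.node (.node (.node (.node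 (.leaf (nat_lit 4)) (.leaf (nat_lit 132))) (.node (.leaf (nat_lit 68)) (.leaf (nat_lit 195)))) (.node (.node (.leaf (nat_lit 36)) (.leaf (nat_lit 164))) (.node (.leaf (nat_lit 99)) (.leaf (nat_lit 228))))) (.node (.node (.node (.leaf (nat_lit 19)) (.leaf (nat_lit 148))) (.node (.leaf (nat_lit 85)) (.leaf (nat_lit 212)))) (.node (.node (.leaf (nat_lit 53)) (.leaf (nat_lit 179))) (.leaf (nat_lit 116))))) (.node (.node (.node (.node (.leaf (nat_lit 13)) (.leaf (nat_lit 139))) (.node (.leaf (nat_lit 76)) (.leaf (nat_lit 204)))) (.node (.node (.leaf (nat_lit 43)) (.leaf (nat_lit 173))) (.node (.leaf (nat_lit 108)) (.leaf (nat_lit 236))))) (.node (.node (.node (.leaf (nat_lit 29)) (.leaf (nat_lit 156))) (.node (.leaf (nat_lit 92)) (.leaf (nat_lit 219)))) (.node (.node (.leaf (nat_lit 59)) (.leaf (nat_lit 188))) (.leaf (nat_lit 125))))))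

def refls29 : Tr (ℕ) :=
  .node (.node (.node (.node (.node (.node (.leaf (nat_lit 2)) (.leaf (nat_lit 130))) (.node (.leaf (nat_lit 67)) (.leaf (nat_lit 194)))) (.node (.node (.leaf (nat_lit 33)) (.leaf (nat_lit 162))) (.node (.leaf (nat_lit 98)) (.leaf (nat_lit 227))))) (.node (.node (.node (.leaf (nat_lit 18)) (.leaf (nat_lit 145))) (.node (.leaf (nat_lit 81)) (.leaf (nat_lit 211)))) (.node (.node (.leaf (nat_lit 49)) (.leaf (nat_lit 178))) (.leaf (nat_lit 115))))) (.node (.node (.node (.node (.leaf (nat_lit 10)) (.leaf (nat_lit 138))) (.node (.leaf (nat_lit 74)) (.leaf (nat_lit 202)))) (.node (.node (.leaf (nat_lit 41)) (.leaf (nat_lit 170))) (.node (.leaf (nat_lit 105)) (.leaf (nat_lit 234))))) (.node (.node (.node (.leaf (nat_lit 26)) (.leaf (nat_lit 155))) (.node (.leaf (nat_lit 90)) (.leaf (nat_lit 218)))) (.node (.node (.leaf (nat_lit 57)) (.leaf (nat_lit 187))) (.leaf (nat_lit 121)))))) (.node (.node (.node (.node (.node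 (.leaf (nat_lit 6)) (.leaf (nat_lit 133))) (.node (.leaf (nat_lit 70)) (.leaf (nat_lit 197)))) (.node (.node (.leaf (nat_lit 39)) (.leaf (nat_lit 166))) (.node (.leaf (nat_lit 102)) (.leaf (nat_lit 230))))) (.node (.node (.node (.leaf (nat_lit 22)) (.leaf (nat_lit 151))) (.node (.leaf (nat_lit 86)) (.leaf (nat_lit 215)))) (.node (.node (.leaf (nat_lit 54)) (.leaf (nat_lit 181))) (.leaf (nat_lit 117))))) (.node (.node (.node (.node (.leaf (nat_lit 14)) (.leaf (nat_lit 142))) (.node (.leaf (nat_lit 78)) (.leaf (nat_lit 205)))) (.node (.node (.leaf (nat_lit 46)) (.leaf (nat_lit 174))) (.node (.leaf (nat_lit 111)) (.leaf (nat_lit 239))))) (.node (.node (.node (.leaf (nat_lit 30)) (.leaf (nat_lit 157))) (.node (.leaf (nat_lit 93)) (.leaf (nat_lit 222)))) (.node (.node (.leaf (nat_lit 63)) (.leaf (nat_lit 189))) (.leaf (nat_lit 126))))))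

def refls30 : Tr (ℕ) :=
  .node (.node (.node (.node (.node (.node (.leaf (nat_lit 0)) (.leaf (nat_lit 128))) (.node (.leaf (nat_lit 65)) (.leaf (nat_lit 193)))) (.node (.node (.leaf (nat_lit 34)) (.leaf (nat_lit 161))) (.node (.leaf (nat_lit 97)) (.leaf (nat_lit 225))))) (.node (.node (.node (.leaf (nat_lit 17)) (.leaf (nat_lit 146))) (.node (.leaf (nat_lit 82)) (.leaf (nat_lit 209)))) (.node (.node (.leaf (nat_lit 50)) (.leaf (nat_lit 176))) (.leaf (nat_lit 113))))) (.node (.node (.node (.node (.leaf (nat_lit 9)) (.leaf (nat_lit 137))) (.node (.leaf (nat_lit 73)) (.leaf (nat_lit 200)))) (.node (.node (.leaf (nat_lit 42)) (.leaf (nat_lit 169))) (.node (.leaf (nat_lit 106)) (.leaf (nat_lit 233))))) (.node (.node (.node (.leaf (nat_lit 24)) (.leaf (nat_lit 153))) (.node (.leaf (nat_lit 88)) (.leaf (nat_lit 217)))) (.node (.node (.leaf (nat_lit 58)) (.leaf (nat_lit 185))) (.leaf (nat_lit 122)))))) (.node (.node (.node (.node (.node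 (.leaf (nat_lit 5)) (.leaf (nat_lit 134))) (.node (.leaf (nat_lit 69)) (.leaf (nat_lit 198)))) (.node (.node (.leaf (nat_lit 37)) (.leaf (nat_lit 165))) (.node (.leaf (nat_lit 101)) (.leaf (nat_lit 229))))) (.node (.node (.node (.leaf (nat_lit 21)) (.leaf (nat_lit 149))) (.node (.leaf (nat_lit 84)) (.leaf (nat_lit 213)))) (.node (.node (.leaf (nat_lit 52)) (.leaf (nat_lit 182))) (.leaf (nat_lit 118))))) (.node (.node (.node (.node (.leaf (nat_lit 12)) (.leaf (nat_lit 141))) (.node (.leaf (nat_lit 77)) (.leaf (nat_lit 206)))) (.node (.node (.leaf (nat_lit 45)) (.leaf (nat_lit 172))) (.node (.leaf (nat_lit 109)) (.leaf (nat_lit 237))))) (.node (.node (.node (.leaf (nat_lit 28)) (.leaf (nat_lit 158))) (.node (.leaf (nat_lit 94)) (.leaf (nat_lit 221)))) (.node (.node (.leaf (nat_lit 61)) (.leaf (nat_lit 190))) (.leaf (nat_lit 124))))))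

def refls31 : Tr (ℕ) :=
  .node (.node (.node (.node (.node (.node (.leaf (nat_lit 3)) (.leaf (nat_lit 131))) (.node (.leaf (nat_lit 66)) (.leaf (nat_lit 196)))) (.node (.node (.leaf (nat_lit 35)) (.leaf (nat_lit 163))) (.node (.leaf (nat_lit 100)) (.leaf (nat_lit 226))))) (.node (.node (.node (.leaf (nat_lit 20)) (.leaf (nat_lit 147))) (.node (.leaf (nat_lit 83)) (.leaf (nat_lit 210)))) (.node (.node (.leaf (nat_lit 51)) (.leaf (nat_lit 180))) (.leaf (nat_lit 114))))) (.node (.node (.node (.node (.leaf (nat_lit 11)) (.leaf (nat_lit 140))) (.node (.leaf (nat_lit 75)) (.leaf (nat_lit 203)))) (.node (.node (.leaf (nat_lit 44)) (.leaf (nat_lit 171))) (.node (.leaf (nat_lit 107)) (.leaf (nat_lit 235))))) (.node (.node (.node (.leaf (nat_lit 27)) (.leaf (nat_lit 154))) (.node (.leaf (nat_lit 91)) (.leaf (nat_lit 220)))) (.node (.node (.leaf (nat_lit 60)) (.leaf (nat_lit 186))) (.leaf (nat_lit 123)))))) (.node (.node (.node (.node (.node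 (.leaf (nat_lit 7)) (.leaf (nat_lit 135))) (.node (.leaf (nat_lit 72)) (.leaf (nat_lit 199)))) (.node (.node (.leaf (nat_lit 38)) (.leaf (nat_lit 168))) (.node (.leaf (nat_lit 103)) (.leaf (nat_lit 231))))) (.node (.node (.node (.leaf (nat_lit 23)) (.leaf (nat_lit 150))) (.node (.leaf (nat_lit 87)) (.leaf (nat_lit 214)))) (.node (.node (.leaf (nat_lit 55)) (.leaf (nat_lit 183))) (.leaf (nat_lit 120))))) (.node (.node (.node (.node (.leaf (nat_lit 15)) (.leaf (nat_lit 143))) (.node (.leaf (nat_lit 80)) (.leaf (nat_lit 208)))) (.node (.node (.leaf (nat_lit 48)) (.leaf (nat_lit 175))) (.node (.leaf (nat_lit 110)) (.leaf (nat_lit 238))))) (.node (.node (.node (.leaf (nat_lit 32)) (.leaf (nat_lit 160))) (.node (.leaf (nat_lit 95)) (.leaf (nat_lit 223)))) (.node (.node (.leaf (nat_lit 62)) (.leaf (nat_lit 192))) (.leaf (nat_lit 127))))))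

def refls : Tr (ℕ) :=
  (.node (.node (.node (.node (.node refls0 refls1) (.node refls2 refls3)) (.node (.node refls4 refls5) (.node refls6 refls7))) (.node (.node (.node refls8 refls9) (.node refls10 refls11)) (.node (.node refls12 refls13) (.node refls14 refls15)))) (.node (.node (.node (.node refls16 refls17) (.node refls18 refls19)) (.node (.node refls20 refls21) (.node refls22 refls23))) (.node (.node (.node refls24 refls25) (.node refls26 refls27)) (.node (.node refls28 refls29) (.node refls30 refls31)))))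

/-- The chain table as lists. -/
def cnv (A : Array (ℕ × Array (ℕ × ℤ))) : List (ℕ × List (ℕ × ℤ)) :=
  A.toList.map fun e => (e.1, e.2.toList)

def chs0 : Tr (List (ℕ × List (ℕ × ℤ))) :=
  .node (.node (.node (.node (.leaf (cnv chevE8Chain0)) (.leaf (cnv chevE8Chain128))) (.node (.leaf (cnv chevE8Chain64)) (.leaf (cnv chevE8Chain192)))) (.node (.node (.leaf (cnv chevE8Chain32)) (.leaf (cnv chevE8Chain160))) (.node (.leaf (cnv chevE8Chain96)) (.leaf (cnv chevE8Chain224))))) (.node (.node (.node (.leaf (cnv chevE8Chain16)) (.leaf (cnv chevE8Chain144))) (.node (.leaf (cnv chevE8Chain80)) (.leaf (cnv chevE8Chain208)))) (.node (.node (.leaf (cnv chevE8Chain48)) (.leaf (cnv chevE8Chain176))) (.leaf (cnv chevE8Chain112))))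

def chs1 : Tr (List (ℕ × List (ℕ × ℤ))) :=
  .node (.node (.node (.node (.leaf (cnv chevE8Chain8)) (.leaf (cnv chevE8Chain136))) (.node (.leaf (cnv chevE8Chain72)) (.leaf (cnv chevE8Chain200)))) (.node (.node (.leaf (cnv chevE8Chain40)) (.leaf (cnv chevE8Chain168))) (.node (.leaf (cnv chevE8Chain104)) (.leaf (cnv chevE8Chain232))))) (.node (.node (.node (.leaf (cnv chevE8Chain24)) (.leaf (cnv chevE8Chain152))) (.node (.leaf (cnv chevE8Chain88)) (.leaf (cnv chevE8Chain216)))) (.node (.node (.leaf (cnv chevE8Chain56)) (.leaf (cnv chevE8Chain184))) (.leaf (cnv chevE8Chain120))))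

def chs2 : Tr (List (ℕ × List (ℕ × ℤ))) :=
  .node (.node (.node (.node (.leaf (cnv chevE8Chain4)) (.leaf (cnv chevE8Chain132))) (.node (.leaf (cnv chevE8Chain68)) (.leaf (cnv chevE8Chain196)))) (.node (.node (.leaf (cnv chevE8Chain36)) (.leaf (cnv chevE8Chain164))) (.node (.leaf (cnv chevE8Chain100)) (.leaf (cnv chevE8Chain228))))) (.node (.node (.node (.leaf (cnv chevE8Chain20)) (.leaf (cnv chevE8Chain148))) (.node (.leaf (cnv chevE8Chain84)) (.leaf (cnv chevE8Chain212)))) (.node (.node (.leaf (cnv chevE8Chain52)) (.leaf (cnv chevE8Chain180))) (.leaf (cnv chevE8Chain116))))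

def chs3 : Tr (List (ℕ × List (ℕ × ℤ))) :=
  .node (.node (.node (.node (.leaf (cnv chevE8Chain12)) (.leaf (cnv chevE8Chain140))) (.node (.leaf (cnv chevE8Chain76)) (.leaf (cnv chevE8Chain204)))) (.node (.node (.leaf (cnv chevE8Chain44)) (.leaf (cnv chevE8Chain172))) (.node (.leaf (cnv chevE8Chain108)) (.leaf (cnv chevE8Chain236))))) (.node (.node (.node (.leaf (cnv chevE8Chain28)) (.leaf (cnv chevE8Chain156))) (.node (.leaf (cnv chevE8Chain92)) (.leaf (cnv chevE8Chain220)))) (.node (.node (.leaf (cnv chevE8Chain60)) (.leaf (cnv chevE8Chain188))) (.leaf (cnv chevE8Chain124))))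

def chs4 : Tr (List (ℕ × List (ℕ × ℤ))) :=
  .node (.node (.node (.node (.leaf (cnv chevE8Chain2)) (.leaf (cnv chevE8Chain130))) (.node (.leaf (cnv chevE8Chain66)) (.leaf (cnv chevE8Chain194)))) (.node (.node (.leaf (cnv chevE8Chain34)) (.leaf (cnv chevE8Chain162))) (.node (.leaf (cnv chevE8Chain98)) (.leaf (cnv chevE8Chain226))))) (.node (.node (.node (.leaf (cnv chevE8Chain18)) (.leaf (cnv chevE8Chain146))) (.node (.leaf (cnv chevE8Chain82)) (.leaf (cnv chevE8Chain210)))) (.node (.node (.leaf (cnv chevE8Chain50)) (.leaf (cnv chevE8Chain178))) (.leaf (cnv chevE8Chain114))))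

def chs5 : Tr (List (ℕ × List (ℕ × ℤ))) :=
  .node (.node (.node (.node (.leaf (cnv chevE8Chain10)) (.leaf (cnv chevE8Chain138))) (.node (.leaf (cnv chevE8Chain74)) (.leaf (cnv chevE8Chain202)))) (.node (.node (.leaf (cnv chevE8Chain42)) (.leaf (cnv chevE8Chain170))) (.node (.leaf (cnv chevE8Chain106)) (.leaf (cnv chevE8Chain234))))) (.node (.node (.node (.leaf (cnv chevE8Chain26)) (.leaf (cnv chevE8Chain154))) (.node (.leaf (cnv chevE8Chain90)) (.leaf (cnv chevE8Chain218)))) (.node (.node (.leaf (cnv chevE8Chain58)) (.leaf (cnv chevE8Chain186))) (.leaf (cnv chevE8Chain122))))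

def chs6 : Tr (List (ℕ × List (ℕ × ℤ))) :=
  .node (.node (.node (.node (.leaf (cnv chevE8Chain6)) (.leaf (cnv chevE8Chain134))) (.node (.leaf (cnv chevE8Chain70)) (.leaf (cnv chevE8Chain198)))) (.node (.node (.leaf (cnv chevE8Chain38)) (.leaf (cnv chevE8Chain166))) (.node (.leaf (cnv chevE8Chain102)) (.leaf (cnv chevE8Chain230))))) (.node (.node (.node (.leaf (cnv chevE8Chain22)) (.leaf (cnv chevE8Chain150))) (.node (.leaf (cnv chevE8Chain86)) (.leaf (cnv chevE8Chain214)))) (.node (.node (.leaf (cnv chevE8Chain54)) (.leaf (cnv chevE8Chain182))) (.leaf (cnv chevE8Chain118))))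

def chs7 : Tr (List (ℕ × List (ℕ × ℤ))) :=
  .node (.node (.node (.node (.leaf (cnv chevE8Chain14)) (.leaf (cnv chevE8Chain142))) (.node (.leaf (cnv chevE8Chain78)) (.leaf (cnv chevE8Chain206)))) (.node (.node (.leaf (cnv chevE8Chain46)) (.leaf (cnv chevE8Chain174))) (.node (.leaf (cnv chevE8Chain110)) (.leaf (cnv chevE8Chain238))))) (.node (.node (.node (.leaf (cnv chevE8Chain30)) (.leaf (cnv chevE8Chain158))) (.node (.leaf (cnv chevE8Chain94)) (.leaf (cnv chevE8Chain222)))) (.node (.node (.leaf (cnv chevE8Chain62)) (.leaf (cnv chevE8Chain190))) (.leaf (cnv chevE8Chain126))))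

def chs8 : Tr (List (ℕ × List (ℕ × ℤ))) :=
  .node (.node (.node (.node (.leaf (cnv chevE8Chain1)) (.leaf (cnv chevE8Chain129))) (.node (.leaf (cnv chevE8Chain65)) (.leaf (cnv chevE8Chain193)))) (.node (.node (.leaf (cnv chevE8Chain33)) (.leaf (cnv chevE8Chain161))) (.node (.leaf (cnv chevE8Chain97)) (.leaf (cnv chevE8Chain225))))) (.node (.node (.node (.leaf (cnv chevE8Chain17)) (.leaf (cnv chevE8Chain145))) (.node (.leaf (cnv chevE8Chain81)) (.leaf (cnv chevE8Chain209)))) (.node (.node (.leaf (cnv chevE8Chain49)) (.leaf (cnv chevE8Chain177))) (.leaf (cnv chevE8Chain113))))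

def chs9 : Tr (List (ℕ × List (ℕ × ℤ))) :=
  .node (.node (.node (.node (.leaf (cnv chevE8Chain9)) (.leaf (cnv chevE8Chain137))) (.node (.leaf (cnv chevE8Chain73)) (.leaf (cnv chevE8Chain201)))) (.node (.node (.leaf (cnv chevE8Chain41)) (.leaf (cnv chevE8Chain169))) (.node (.leaf (cnv chevE8Chain105)) (.leaf (cnv chevE8Chain233))))) (.node (.node (.node (.leaf (cnv chevE8Chain25)) (.leaf (cnv chevE8Chain153))) (.node (.leaf (cnv chevE8Chain89)) (.leaf (cnv chevE8Chain217)))) (.node (.node (.leaf (cnv chevE8Chain57)) (.leaf (cnv chevE8Chain185))) (.leaf (cnv chevE8Chain121))))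

def chs10 : Tr (List (ℕ × List (ℕ × ℤ))) :=
  .node (.node (.node (.node (.leaf (cnv chevE8Chain5)) (.leaf (cnv chevE8Chain133))) (.node (.leaf (cnv chevE8Chain69)) (.leaf (cnv chevE8Chain197)))) (.node (.node (.leaf (cnv chevE8Chain37)) (.leaf (cnv chevE8Chain165))) (.node (.leaf (cnv chevE8Chain101)) (.leaf (cnv chevE8Chain229))))) (.node (.node (.node (.leaf (cnv chevE8Chain21)) (.leaf (cnv chevE8Chain149))) (.node (.leaf (cnv chevE8Chain85)) (.leaf (cnv chevE8Chain213)))) (.node (.node (.leaf (cnv chevE8Chain53)) (.leaf (cnv chevE8Chain181))) (.leaf (cnv chevE8Chain117))))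

def chs11 : Tr (List (ℕ × List (ℕ × ℤ))) :=
  .node (.node (.node (.node (.leaf (cnv chevE8Chain13)) (.leaf (cnv chevE8Chain141))) (.node (.leaf (cnv chevE8Chain77)) (.leaf (cnv chevE8Chain205)))) (.node (.node (.leaf (cnv chevE8Chain45)) (.leaf (cnv chevE8Chain173))) (.node (.leaf (cnv chevE8Chain109)) (.leaf (cnv chevE8Chain237))))) (.node (.node (.node (.leaf (cnv chevE8Chain29)) (.leaf (cnv chevE8Chain157))) (.node (.leaf (cnv chevE8Chain93)) (.leaf (cnv chevE8Chain221)))) (.node (.node (.leaf (cnv chevE8Chain61)) (.leaf (cnv chevE8Chain189))) (.leaf (cnv chevE8Chain125))))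

def chs12 : Tr (List (ℕ × List (ℕ × ℤ))) :=
  .node (.node (.node (.node (.leaf (cnv chevE8Chain3)) (.leaf (cnv chevE8Chain131))) (.node (.leaf (cnv chevE8Chain67)) (.leaf (cnv chevE8Chain195)))) (.node (.node (.leaf (cnv chevE8Chain35)) (.leaf (cnv chevE8Chain163))) (.node (.leaf (cnv chevE8Chain99)) (.leaf (cnv chevE8Chain227))))) (.node (.node (.node (.leaf (cnv chevE8Chain19)) (.leaf (cnv chevE8Chain147))) (.node (.leaf (cnv chevE8Chain83)) (.leaf (cnv chevE8Chain211)))) (.node (.node (.leaf (cnv chevE8Chain51)) (.leaf (cnv chevE8Chain179))) (.leaf (cnv chevE8Chain115))))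

def chs13 : Tr (List (ℕ × List (ℕ × ℤ))) :=
  .node (.node (.node (.node (.leaf (cnv chevE8Chain11)) (.leaf (cnv chevE8Chain139))) (.node (.leaf (cnv chevE8Chain75)) (.leaf (cnv chevE8Chain203)))) (.node (.node (.leaf (cnv chevE8Chain43)) (.leaf (cnv chevE8Chain171))) (.node (.leaf (cnv chevE8Chain107)) (.leaf (cnv chevE8Chain235))))) (.node (.node (.node (.leaf (cnv chevE8Chain27)) (.leaf (cnv chevE8Chain155))) (.node (.leaf (cnv chevE8Chain91)) (.leaf (cnv chevE8Chain219)))) (.node (.node (.leaf (cnv chevE8Chain59)) (.leaf (cnv chevE8Chain187))) (.leaf (cnv chevE8Chain123))))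

def chs14 : Tr (List (ℕ × List (ℕ × ℤ))) :=
  .node (.node (.node (.node (.leaf (cnv chevE8Chain7)) (.leaf (cnv chevE8Chain135))) (.node (.leaf (cnv chevE8Chain71)) (.leaf (cnv chevE8Chain199)))) (.node (.node (.leaf (cnv chevE8Chain39)) (.leaf (cnv chevE8Chain167))) (.node (.leaf (cnv chevE8Chain103)) (.leaf (cnv chevE8Chain231))))) (.node (.node (.node (.leaf (cnv chevE8Chain23)) (.leaf (cnv chevE8Chain151))) (.node (.leaf (cnv chevE8Chain87)) (.leaf (cnv chevE8Chain215)))) (.node (.node (.leaf (cnv chevE8Chain55)) (.leaf (cnv chevE8Chain183))) (.leaf (cnv chevE8Chain119))))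

def chs15 : Tr (List (ℕ × List (ℕ × ℤ))) :=
  .node (.node (.node (.node (.leaf (cnv chevE8Chain15)) (.leaf (cnv chevE8Chain143))) (.node (.leaf (cnv chevE8Chain79)) (.leaf (cnv chevE8Chain207)))) (.node (.node (.leaf (cnv chevE8Chain47)) (.leaf (cnv chevE8Chain175))) (.node (.leaf (cnv chevE8Chain111)) (.leaf (cnv chevE8Chain239))))) (.node (.node (.node (.leaf (cnv chevE8Chain31)) (.leaf (cnv chevE8Chain159))) (.node (.leaf (cnv chevE8Chain95)) (.leaf (cnv chevE8Chain223)))) (.node (.node (.leaf (cnv chevE8Chain63)) (.leaf (cnv chevE8Chain191))) (.leaf (cnv chevE8Chain127))))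

def chs : Tr (List (ℕ × List (ℕ × ℤ))) :=
  (.node (.node (.node (.node chs0 chs1) (.node chs2 chs3)) (.node (.node chs4 chs5) (.node chs6 chs7))) (.node (.node (.node chs8 chs9) (.node chs10 chs11)) (.node (.node chs12 chs13) (.node chs14 chs15))))

/-- The tables. -/
def tab : Tab := ⟨rows, decs, refls⟩

theorem row_ok0 : ((List.range' 0 30).all fun p => force p fun p => rowCOk chevE8 240 chs tab p) = true := by decide +kernel

theorem row_ok30 : ((List.range' 30 30).all fun p => force p fun p => rowCOk chevE8 240 chs tab p) = true := by decide +kernel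

theorem row_ok60 : ((List.range' 60 30).all fun p => force p fun p => rowCOk chevE8 240 chs tab p) = true := by decide +kernel

theorem row_ok90 : ((List.range' 90 30).all fun p => force p fun p => rowCOk chevE8 240 chs tab p) = true := by decide +kernel

theorem row_ok120 : ((List.range' 120 30).all fun p => force p fun p => rowCOk chevE8 240 chs tab p) = true := by decide +kernel

theorem row_ok150 : ((List.range' 150 30).all fun p => force p fun p => rowCOk chevE8 240 chs tab p) = true := by decide +kernel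

theorem row_ok180 : ((List.range' 180 30).all fun p => force p fun p => rowCOk chevE8 240 chs tab p) = true := by decide +kernel

theorem row_ok210 : ((List.range' 210 30).all fun p => force p fun p => rowCOk chevE8 240 chs tab p) = true := by decide +kernel

theorem copy_ok0 : ((List.range' 0 60).all fun p => force p fun p => copyOk chevE8 chs p) = true := by decide +kernel

theorem copy_ok60 : ((List.range' 60 60).all fun p => force p fun p => copyOk chevE8 chs p) = true := by decide +kernel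

theorem copy_ok120 : ((List.range' 120 60).all fun p => force p fun p => copyOk chevE8 chs p) = true := by decide +kernel

theorem copy_ok180 : ((List.range' 180 60).all fun p => force p fun p => copyOk chevE8 chs p) = true := by decide +kernel

theorem sym_ok0 : ((List.range' 0 60).all fun p => force p fun p => symOk chs p) = true := by decide +kernel

theorem sym_ok60 : ((List.range' 60 60).all fun p => force p fun p => symOk chs p) = true := by decide +kernel

theorem sym_ok120 : ((List.range' 120 60).all fun p => force p fun p => symOk chs p) = true := by decide +kernel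

theorem sym_ok180 : ((List.range' 180 60).all fun p => force p fun p => symOk chs p) = true := by decide +kernel

theorem pos_ok120 : ((List.range' 120 30).all fun p => force p fun p => posOk chevE8 tab p) = true := by decide +kernel

theorem pos_ok150 : ((List.range' 150 30).all fun p => force p fun p => posOk chevE8 tab p) = true := by decide +kernel

theorem pos_ok180 : ((List.range' 180 30).all fun p => force p fun p => posOk chevE8 tab p) = true := by decide +kernel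

theorem pos_ok210 : ((List.range' 210 30).all fun p => force p fun p => posOk chevE8 tab p) = true := by decide +kernel

theorem refl_ok0 : ((List.range' 0 2).all fun p => force p fun p => reflCOk chevE8 240 chs tab p) = true := by decide +kernel

theorem refl_ok2 : ((List.range' 2 2).all fun p => force p fun p => reflCOk chevE8 240 chs tab p) = true := by decide +kernel

theorem refl_ok4 : ((List.range' 4 2).all fun p => force p fun p => reflCOk chevE8 240 chs tab p) = true := by decide +kernel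

theorem refl_ok6 : ((List.range' 6 2).all fun p => force p fun p => reflCOk chevE8 240 chs tab p) = true := by decide +kernel

theorem tabOk : TabOk chevE8 tab := by
  have hn : (chevE8).nroots = 240 := by decide +kernel
  have hr : (chevE8).rank = 8 := by decide +kernel
  refine ⟨fun p hp => ?_, fun p h1 h2 => ?_, fun p hp => ?_⟩
  · exact row_of_fast (n := 240) (ch := chs) hn (fun r hr => chunkF (P := fun p => copyOk chevE8 chs p) copy_ok0 (chunkF (P := fun p => copyOk chevE8 chs p) copy_ok60 (chunkF (P := fun p => copyOk chevE8 chs p) copy_ok120 (chunkF (P := fun p => copyOk chevE8 chs p) copy_ok180 (chunk_end (n := 240) (lo := 240) le_rfl)))) r (Nat.zero_le r) hr)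
      (fun r hr => chunkF (P := fun p => symOk chs p) sym_ok0 (chunkF (P := fun p => symOk chs p) sym_ok60 (chunkF (P := fun p => symOk chs p) sym_ok120 (chunkF (P := fun p => symOk chs p) sym_ok180 (chunk_end (n := 240) (lo := 240) le_rfl)))) r (Nat.zero_le r) hr) (hn ▸ hp) (chunkF (P := fun p => rowCOk chevE8 240 chs tab p) row_ok0 (chunkF (P := fun p => rowCOk chevE8 240 chs tab p) row_ok30 (chunkF (P := fun p => rowCOk chevE8 240 chs tab p) row_ok60 (chunkF (P := fun p => rowCOk chevE8 240 chs tab p) row_ok90 (chunkF (P := fun p => rowCOk chevE8 240 chs tab p) row_ok120 (chunkF (P := fun p => rowCOk chevE8 240 chs tab p) row_ok150 (chunkF (P := fun p => rowCOk chevE8 240 chs tab p) row_ok180 (chunkF (P := fun p => rowCOk chevE8 240 chs tab p) row_ok210 (chunk_end (n := 240) (lo := 240) le_rfl)))))))) p (Nat.zero_le p) (hn ▸ hp))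
  · rw [hn] at h1 h2
    exact chunkF (P := fun p => posOk chevE8 tab p) pos_ok120 (chunkF (P := fun p => posOk chevE8 tab p) pos_ok150 (chunkF (P := fun p => posOk chevE8 tab p) pos_ok180 (chunkF (P := fun p => posOk chevE8 tab p) pos_ok210 (chunk_end (n := 240) (lo := 240) le_rfl)))) p (le_trans (by norm_num) h1) h2
  · exact refl_of_fast (n := 240) (ch := chs) hn (fun r hr' => chunkF (P := fun p => copyOk chevE8 chs p) copy_ok0 (chunkF (P := fun p => copyOk chevE8 chs p) copy_ok60 (chunkF (P := fun p => copyOk chevE8 chs p) copy_ok120 (chunkF (P := fun p => copyOk chevE8 chs p) copy_ok180 (chunk_end (n := 240) (lo := 240) le_rfl)))) r (Nat.zero_le r) hr')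
      (chunkF (P := fun p => reflCOk chevE8 240 chs tab p) refl_ok0 (chunkF (P := fun p => reflCOk chevE8 240 chs tab p) refl_ok2 (chunkF (P := fun p => reflCOk chevE8 240 chs tab p) refl_ok4 (chunkF (P := fun p => reflCOk chevE8 240 chs tab p) refl_ok6 (chunk_end (n := 8) (lo := 8) le_rfl)))) p (Nat.zero_le p) (hr ▸ hp))

end Cfsg.Agent.Small.C2Inv.Cert.E8
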