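import Cfsg.Agent.Lib.Small.Char2Invol.FastRow
import Cfsg.Agent.Lib.Lie.FactsF4

/-!
Tables of the commutator formula modulo two of type F4.
-/

set_option autoImplicit false

namespace Cfsg.Agent.Small.C2Inv.Cert.F4

open Cfsg.Lie Cfsg.Agent.Small.C2Inv.Cert

def rows0 : Tr (List Entry) :=
  .node (.node (.node (.node (.leaf [((nat_lit 24), (nat_lit 1), (nat_lit 1), (nat_lit 1)), ((nat_lit 26), (nat_lit 2), (nat_lit 1), (nat_lit 1)), ((nat_lit 29), (nat_lit 3), (nat_lit 1), (nat_lit 1)), ((nat_lit 29), (nat_lit 6), (nat_lit 1), (nat_lit 2)), ((nat_lit 31), (nat_lit 4), (nat_lit 1), (nat_lit 1)), ((nat_lit 32), (nat_lit 5), (nat_lit 1), (nat_lit 1)), ((nat_lit 36), (nat_lit 7), (nat_lit 1), (nat_lit 1)), ((nat_lit 36), (nat_lit 17), (nat_lit 1), (nat_lit 2)), ((nat_lit 38), (nat_lit 8), (nat_lit 1), (nat_lit 1)), ((nat_lit 38), (nat_lit 22), (nat_lit 1), (nat_lit 2)), ((nat_lit 39), (nat_lit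 9), (nat_lit 1), (nat_lit 1)), ((nat_lit 39), (nat_lit 25), (nat_lit 1), (nat_lit 2)), ((nat_lit 40), (nat_lit 11), (nat_lit 1), (nat_lit 1)), ((nat_lit 40), (nat_lit 30), (nat_lit 1), (nat_lit 2)), ((nat_lit 42), (nat_lit 15), (nat_lit 1), (nat_lit 1)), ((nat_lit 43), (nat_lit 16), (nat_lit 1), (nat_lit 1)), ((nat_lit 44), (nat_lit 18), (nat_lit 1), (nat_lit 1)), ((nat_lit 44), (nat_lit 41), (nat_lit 1), (nat_lit 2)), ((nat_lit 45), (nat_lit 21), (nat_lit 1), (nat_lit 1)), ((nat_lit 46), (nat_lit 23), (nat_lit 1), (nat_lit 1))]) (.leaf [((nat_lit 0), (nat_lit 5), (nat_lit 1), (nat_lit 1)), ((nat_lit 1), (nat_lit 6), (nat_lit 1), (nat_lit 1)), ((nat_lit 7), (nat_lit 13), (nat_lit 1), (nat_lit 1)), ((nat_lit 7), (nat_lit 2), (nat_lit 1), (nat_lit 2)), ((nat_lit 8), (nat_lit 14), (nat_lit 1), (nat_lit 1)), ((nat_lit 8), (nat_lit 4), (nat_lit 1), (nat_lit 2)), ((nat_lit 16), (nat_lit 25), (nat_lit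 1), (nat_lit 1)), ((nat_lit 17), (nat_lit 26), (nat_lit 1), (nat_lit 1)), ((nat_lit 18), (nat_lit 28), (nat_lit 1), (nat_lit 1)), ((nat_lit 18), (nat_lit 23), (nat_lit 1), (nat_lit 2)), ((nat_lit 19), (nat_lit 29), (nat_lit 1), (nat_lit 1)), ((nat_lit 19), (nat_lit 24), (nat_lit 1), (nat_lit 2)), ((nat_lit 21), (nat_lit 30), (nat_lit 1), (nat_lit 1)), ((nat_lit 22), (nat_lit 31), (nat_lit 1), (nat_lit 1)), ((nat_lit 33), (nat_lit 39), (nat_lit 1), (nat_lit 1)), ((nat_lit 33), (nat_lit 43), (nat_lit 1), (nat_lit 2)), ((nat_lit 34), (nat_lit 40), (nat_lit 1), (nat_lit 1)), ((nat_lit 34), (nat_lit 45), (nat_lit 1), (nat_lit 2)), ((nat_lit 41), (nat_lit 46), (nat_lit 1), (nat_lit 1)), ((nat_lit 42), (nat_lit 47), (nat_lit 1), (nat_lit 1))])) (.leaf [((nat_lit 4), (nat_lit 0), (nat_lit 1), (nat_lit 1)), ((nat_lit 6), (nat_lit 2), (nat_lit 1), (nat_lit 1)), ((nat_lit 12), (nat_lit 7), (nat_lit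 1), (nat_lit 1)), ((nat_lit 12), (nat_lit 1), (nat_lit 1), (nat_lit 2)), ((nat_lit 14), (nat_lit 9), (nat_lit 1), (nat_lit 1)), ((nat_lit 14), (nat_lit 5), (nat_lit 1), (nat_lit 2)), ((nat_lit 22), (nat_lit 15), (nat_lit 1), (nat_lit 1)), ((nat_lit 24), (nat_lit 17), (nat_lit 1), (nat_lit 1)), ((nat_lit 27), (nat_lit 18), (nat_lit 1), (nat_lit 1)), ((nat_lit 27), (nat_lit 21), (nat_lit 1), (nat_lit 2)), ((nat_lit 29), (nat_lit 20), (nat_lit 1), (nat_lit 1)), ((nat_lit 29), (nat_lit 26), (nat_lit 1), (nat_lit 2)), ((nat_lit 30), (nat_lit 23), (nat_lit 1), (nat_lit 1)), ((nat_lit 32), (nat_lit 25), (nat_lit 1), (nat_lit 1)), ((nat_lit 38), (nat_lit 33), (nat_lit 1), (nat_lit 1)), ((nat_lit 38), (nat_lit 42), (nat_lit 1), (nat_lit 2)), ((nat_lit 40), (nat_lit 35), (nat_lit 1), (nat_lit 1)), ((nat_lit 40), (nat_lit 46), (nat_lit 1), (nat_lit 2)), ((nat_lit 45), (nat_lit 41), (nat_lit 1), (nat_lit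 1)), ((nat_lit 47), (nat_lit 43), (nat_lit 1), (nat_lit 1))])) (.node (.node (.leaf [((nat_lit 13), (nat_lit 3), (nat_lit 1), (nat_lit 1)), ((nat_lit 20), (nat_lit 7), (nat_lit 1), (nat_lit 1)), ((nat_lit 25), (nat_lit 9), (nat_lit 1), (nat_lit 1)), ((nat_lit 25), (nat_lit 0), (nat_lit 2), (nat_lit 1)), ((nat_lit 26), (nat_lit 10), (nat_lit 1), (nat_lit 1)), ((nat_lit 26), (nat_lit 1), (nat_lit 2), (nat_lit 1)), ((nat_lit 28), (nat_lit 11), (nat_lit 1), (nat_lit 1)), ((nat_lit 29), (nat_lit 12), (nat_lit 1), (nat_lit 1)), ((nat_lit 32), (nat_lit 14), (nat_lit 1), (nat_lit 1)), ((nat_lit 32), (nat_lit 4), (nat_lit 2), (nat_lit 1)), ((nat_lit 35), (nat_lit 18), (nat_lit 1), (nat_lit 1)), ((nat_lit 36), (nat_lit 19), (nat_lit 1), (nat_lit 1)), ((nat_lit 40), (nat_lit 27), (nat_lit 1), (nat_lit 1)), ((nat_lit 43), (nat_lit 33), (nat_lit 1), (nat_lit 1)), ((nat_lit 43), (nat_lit 15), (nat_lit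 2), (nat_lit 1)), ((nat_lit 44), (nat_lit 34), (nat_lit 1), (nat_lit 1)), ((nat_lit 46), (nat_lit 37), (nat_lit 1), (nat_lit 1)), ((nat_lit 46), (nat_lit 21), (nat_lit 2), (nat_lit 1)), ((nat_lit 47), (nat_lit 38), (nat_lit 1), (nat_lit 1)), ((nat_lit 47), (nat_lit 22), (nat_lit 2), (nat_lit 1))]) (.leaf [((nat_lit 0), (nat_lit 11), (nat_lit 1), (nat_lit 1)), ((nat_lit 0), (nat_lit 30), (nat_lit 2), (nat_lit 1)), ((nat_lit 1), (nat_lit 12), (nat_lit 1), (nat_lit 1)), ((nat_lit 1), (nat_lit 31), (nat_lit 2), (nat_lit 1)), ((nat_lit 2), (nat_lit 13), (nat_lit 1), (nat_lit 1)), ((nat_lit 2), (nat_lit 32), (nat_lit 2), (nat_lit 1)), ((nat_lit 3), (nat_lit 14), (nat_lit 1), (nat_lit 1)), ((nat_lit 8), (nat_lit 27), (nat_lit 1), (nat_lit 1)), ((nat_lit 9), (nat_lit 28), (nat_lit 1), (nat_lit 1)), ((nat_lit 10), (nat_lit 29), (nat_lit 1), (nat_lit 1)), ((nat_lit 15), (nat_lit 34), (nat_lit 1), (nat_lit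 1)), ((nat_lit 15), (nat_lit 45), (nat_lit 2), (nat_lit 1)), ((nat_lit 16), (nat_lit 35), (nat_lit 1), (nat_lit 1)), ((nat_lit 16), (nat_lit 46), (nat_lit 2), (nat_lit 1)), ((nat_lit 17), (nat_lit 36), (nat_lit 1), (nat_lit 1)), ((nat_lit 17), (nat_lit 47), (nat_lit 2), (nat_lit 1)), ((nat_lit 18), (nat_lit 37), (nat_lit 1), (nat_lit 1)), ((nat_lit 19), (nat_lit 38), (nat_lit 1), (nat_lit 1)), ((nat_lit 20), (nat_lit 39), (nat_lit 1), (nat_lit 1)), ((nat_lit 33), (nat_lit 44), (nat_lit 1), (nat_lit 1))])) (.leaf [((nat_lit 0), (nat_lit 1), (nat_lit 1), (nat_lit 1)), ((nat_lit 5), (nat_lit 6), (nat_lit 1), (nat_lit 1)), ((nat_lit 9), (nat_lit 10), (nat_lit 1), (nat_lit 1)), ((nat_lit 9), (nat_lit 2), (nat_lit 1), (nat_lit 2)), ((nat_lit 11), (nat_lit 12), (nat_lit 1), (nat_lit 1)), ((nat_lit 11), (nat_lit 4), (nat_lit 1), (nat_lit 2)), ((nat_lit 16), (nat_lit 17), (nat_lit 1), (nat_lit 1)),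 ((nat_lit 18), (nat_lit 19), (nat_lit 1), (nat_lit 1)), ((nat_lit 18), (nat_lit 15), (nat_lit 1), (nat_lit 2)), ((nat_lit 21), (nat_lit 22), (nat_lit 1), (nat_lit 1)), ((nat_lit 25), (nat_lit 26), (nat_lit 1), (nat_lit 1)), ((nat_lit 28), (nat_lit 29), (nat_lit 1), (nat_lit 1)), ((nat_lit 28), (nat_lit 32), (nat_lit 1), (nat_lit 2)), ((nat_lit 30), (nat_lit 31), (nat_lit 1), (nat_lit 1)), ((nat_lit 35), (nat_lit 36), (nat_lit 1), (nat_lit 1)), ((nat_lit 35), (nat_lit 43), (nat_lit 1), (nat_lit 2)), ((nat_lit 37), (nat_lit 38), (nat_lit 1), (nat_lit 1)), ((nat_lit 37), (nat_lit 45), (nat_lit 1), (nat_lit 2)), ((nat_lit 41), (nat_lit 42), (nat_lit 1), (nat_lit 1)), ((nat_lit 46), (nat_lit 47), (nat_lit 1), (nat_lit 1))]))) (.node (.node (.node (.leaf [((nat_lit 16), (nat_lit 0), (nat_lit 1), (nat_lit 1)), ((nat_lit 17), (nat_lit 1), (nat_lit 1), (nat_lit 1)), ((nat_lit 20), (nat_lit 3), (nat_lit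 1), (nat_lit 1)), ((nat_lit 20), (nat_lit 2), (nat_lit 1), (nat_lit 2)), ((nat_lit 25), (nat_lit 5), (nat_lit 1), (nat_lit 1)), ((nat_lit 26), (nat_lit 6), (nat_lit 1), (nat_lit 1)), ((nat_lit 33), (nat_lit 8), (nat_lit 1), (nat_lit 1)), ((nat_lit 33), (nat_lit 15), (nat_lit 1), (nat_lit 2)), ((nat_lit 35), (nat_lit 11), (nat_lit 1), (nat_lit 1)), ((nat_lit 35), (nat_lit 23), (nat_lit 1), (nat_lit 2)), ((nat_lit 36), (nat_lit 12), (nat_lit 1), (nat_lit 1)), ((nat_lit 36), (nat_lit 24), (nat_lit 1), (nat_lit 2)), ((nat_lit 39), (nat_lit 14), (nat_lit 1), (nat_lit 1)), ((nat_lit 39), (nat_lit 32), (nat_lit 1), (nat_lit 2)), ((nat_lit 41), (nat_lit 21), (nat_lit 1), (nat_lit 1)), ((nat_lit 42), (nat_lit 22), (nat_lit 1), (nat_lit 1)), ((nat_lit 44), (nat_lit 27), (nat_lit 1), (nat_lit 1)), ((nat_lit 44), (nat_lit 45), (nat_lit 1), (nat_lit 2)), ((nat_lit 46), (nat_lit 30), (nat_lit 1), (nat_lit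 1)), ((nat_lit 47), (nat_lit 31), (nat_lit 1), (nat_lit 1))]) (.leaf [((nat_lit 0), (nat_lit 7), (nat_lit 1), (nat_lit 1)), ((nat_lit 0), (nat_lit 17), (nat_lit 2), (nat_lit 1)), ((nat_lit 3), (nat_lit 10), (nat_lit 1), (nat_lit 1)), ((nat_lit 4), (nat_lit 12), (nat_lit 1), (nat_lit 1)), ((nat_lit 4), (nat_lit 24), (nat_lit 2), (nat_lit 1)), ((nat_lit 5), (nat_lit 13), (nat_lit 1), (nat_lit 1)), ((nat_lit 5), (nat_lit 26), (nat_lit 2), (nat_lit 1)), ((nat_lit 8), (nat_lit 19), (nat_lit 1), (nat_lit 1)), ((nat_lit 9), (nat_lit 20), (nat_lit 1), (nat_lit 1)), ((nat_lit 14), (nat_lit 29), (nat_lit 1), (nat_lit 1)), ((nat_lit 18), (nat_lit 33), (nat_lit 1), (nat_lit 1)), ((nat_lit 21), (nat_lit 34), (nat_lit 1), (nat_lit 1)), ((nat_lit 21), (nat_lit 42), (nat_lit 2), (nat_lit 1)), ((nat_lit 23), (nat_lit 35), (nat_lit 1), (nat_lit 1)), ((nat_lit 23), (nat_lit 43), (nat_lit 2), (nat_lit 1)), ((nat_lit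 27), (nat_lit 38), (nat_lit 1), (nat_lit 1)), ((nat_lit 28), (nat_lit 39), (nat_lit 1), (nat_lit 1)), ((nat_lit 30), (nat_lit 40), (nat_lit 1), (nat_lit 1)), ((nat_lit 30), (nat_lit 47), (nat_lit 2), (nat_lit 1)), ((nat_lit 37), (nat_lit 44), (nat_lit 1), (nat_lit 1))])) (.leaf [((nat_lit 4), (nat_lit 3), (nat_lit 1), (nat_lit 1)), ((nat_lit 4), (nat_lit 2), (nat_lit 2), (nat_lit 1)), ((nat_lit 8), (nat_lit 7), (nat_lit 1), (nat_lit 1)), ((nat_lit 11), (nat_lit 9), (nat_lit 1), (nat_lit 1)), ((nat_lit 12), (nat_lit 10), (nat_lit 1), (nat_lit 1)), ((nat_lit 14), (nat_lit 13), (nat_lit 1), (nat_lit 1)), ((nat_lit 21), (nat_lit 18), (nat_lit 1), (nat_lit 1)), ((nat_lit 21), (nat_lit 16), (nat_lit 2), (nat_lit 1)), ((nat_lit 22), (nat_lit 19), (nat_lit 1), (nat_lit 1)), ((nat_lit 22), (nat_lit 17), (nat_lit 2), (nat_lit 1)), ((nat_lit 30), (nat_lit 28), (nat_lit 1), (nat_lit 1)), ((nat_lit 30),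 (nat_lit 25), (nat_lit 2), (nat_lit 1)), ((nat_lit 31), (nat_lit 29), (nat_lit 1), (nat_lit 1)), ((nat_lit 31), (nat_lit 26), (nat_lit 2), (nat_lit 1)), ((nat_lit 34), (nat_lit 33), (nat_lit 1), (nat_lit 1)), ((nat_lit 37), (nat_lit 35), (nat_lit 1), (nat_lit 1)), ((nat_lit 38), (nat_lit 36), (nat_lit 1), (nat_lit 1)), ((nat_lit 40), (nat_lit 39), (nat_lit 1), (nat_lit 1)), ((nat_lit 45), (nat_lit 44), (nat_lit 1), (nat_lit 1)), ((nat_lit 45), (nat_lit 43), (nat_lit 2), (nat_lit 1))])) (.node (.node (.leaf [((nat_lit 9), (nat_lit 3), (nat_lit 1), (nat_lit 1)), ((nat_lit 16), (nat_lit 7), (nat_lit 1), (nat_lit 1)), ((nat_lit 16), (nat_lit 1), (nat_lit 2), (nat_lit 1)), ((nat_lit 18), (nat_lit 8), (nat_lit 1), (nat_lit 1)), ((nat_lit 20), (nat_lit 10), (nat_lit 1), (nat_lit 1)), ((nat_lit 23), (nat_lit 11), (nat_lit 1), (nat_lit 1)), ((nat_lit 23), (nat_lit 4), (nat_lit 2), (nat_lit 1)), ((nat_lit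 25), (nat_lit 13), (nat_lit 1), (nat_lit 1)), ((nat_lit 25), (nat_lit 6), (nat_lit 2), (nat_lit 1)), ((nat_lit 28), (nat_lit 14), (nat_lit 1), (nat_lit 1)), ((nat_lit 33), (nat_lit 19), (nat_lit 1), (nat_lit 1)), ((nat_lit 37), (nat_lit 27), (nat_lit 1), (nat_lit 1)), ((nat_lit 39), (nat_lit 29), (nat_lit 1), (nat_lit 1)), ((nat_lit 41), (nat_lit 34), (nat_lit 1), (nat_lit 1)), ((nat_lit 41), (nat_lit 22), (nat_lit 2), (nat_lit 1)), ((nat_lit 43), (nat_lit 36), (nat_lit 1), (nat_lit 1)), ((nat_lit 43), (nat_lit 24), (nat_lit 2), (nat_lit 1)), ((nat_lit 44), (nat_lit 38), (nat_lit 1), (nat_lit 1)), ((nat_lit 46), (nat_lit 40), (nat_lit 1), (nat_lit 1)), ((nat_lit 46), (nat_lit 31), (nat_lit 2), (nat_lit 1))]) (.leaf [((nat_lit 0), (nat_lit 18), (nat_lit 1), (nat_lit 1)), ((nat_lit 0), (nat_lit 41), (nat_lit 2), (nat_lit 1)), ((nat_lit 1), (nat_lit 19), (nat_lit 1), (nat_lit 1)), ((nat_lit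 1), (nat_lit 42), (nat_lit 2), (nat_lit 1)), ((nat_lit 2), (nat_lit 20), (nat_lit 1), (nat_lit 1)), ((nat_lit 2), (nat_lit 43), (nat_lit 2), (nat_lit 1)), ((nat_lit 4), (nat_lit 27), (nat_lit 1), (nat_lit 1)), ((nat_lit 4), (nat_lit 45), (nat_lit 2), (nat_lit 1)), ((nat_lit 5), (nat_lit 28), (nat_lit 1), (nat_lit 1)), ((nat_lit 5), (nat_lit 46), (nat_lit 2), (nat_lit 1)), ((nat_lit 6), (nat_lit 29), (nat_lit 1), (nat_lit 1)), ((nat_lit 6), (nat_lit 47), (nat_lit 2), (nat_lit 1)), ((nat_lit 7), (nat_lit 33), (nat_lit 1), (nat_lit 1)), ((nat_lit 8), (nat_lit 34), (nat_lit 1), (nat_lit 1)), ((nat_lit 9), (nat_lit 35), (nat_lit 1), (nat_lit 1)), ((nat_lit 10), (nat_lit 36), (nat_lit 1), (nat_lit 1)), ((nat_lit 11), (nat_lit 37), (nat_lit 1), (nat_lit 1)), ((nat_lit 12), (nat_lit 38), (nat_lit 1), (nat_lit 1)), ((nat_lit 13), (nat_lit 39), (nat_lit 1), (nat_lit 1)), ((nat_lit 14), (nat_lit 40),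 (nat_lit 1), (nat_lit 1))])) (.leaf [((nat_lit 1), (nat_lit 3), (nat_lit 1), (nat_lit 1)), ((nat_lit 1), (nat_lit 5), (nat_lit 2), (nat_lit 1)), ((nat_lit 7), (nat_lit 9), (nat_lit 1), (nat_lit 1)), ((nat_lit 8), (nat_lit 11), (nat_lit 1), (nat_lit 1)), ((nat_lit 10), (nat_lit 13), (nat_lit 1), (nat_lit 1)), ((nat_lit 12), (nat_lit 14), (nat_lit 1), (nat_lit 1)), ((nat_lit 15), (nat_lit 18), (nat_lit 1), (nat_lit 1)), ((nat_lit 15), (nat_lit 23), (nat_lit 2), (nat_lit 1)), ((nat_lit 17), (nat_lit 20), (nat_lit 1), (nat_lit 1)), ((nat_lit 17), (nat_lit 25), (nat_lit 2), (nat_lit 1)), ((nat_lit 22), (nat_lit 27), (nat_lit 1), (nat_lit 1)), ((nat_lit 22), (nat_lit 30), (nat_lit 2), (nat_lit 1)), ((nat_lit 24), (nat_lit 29), (nat_lit 1), (nat_lit 1)), ((nat_lit 24), (nat_lit 32), (nat_lit 2), (nat_lit 1)), ((nat_lit 33), (nat_lit 35), (nat_lit 1), (nat_lit 1)), ((nat_lit 34), (nat_lit 37), (nat_lit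 1), (nat_lit 1)), ((nat_lit 36), (nat_lit 39), (nat_lit 1), (nat_lit 1)), ((nat_lit 38), (nat_lit 40), (nat_lit 1), (nat_lit 1)), ((nat_lit 42), (nat_lit 44), (nat_lit 1), (nat_lit 1)), ((nat_lit 42), (nat_lit 46), (nat_lit 2), (nat_lit 1))])))

def rows1 : Tr (List Entry) :=
  .node (.node (.node (.node (.leaf [((nat_lit 21), (nat_lit 0), (nat_lit 1), (nat_lit 1)), ((nat_lit 22), (nat_lit 1), (nat_lit 1), (nat_lit 1)), ((nat_lit 27), (nat_lit 3), (nat_lit 1), (nat_lit 1)), ((nat_lit 27), (nat_lit 4), (nat_lit 1), (nat_lit 2)), ((nat_lit 30), (nat_lit 5), (nat_lit 1), (nat_lit 1)), ((nat_lit 31), (nat_lit 6), (nat_lit 1), (nat_lit 1)), ((nat_lit 34), (nat_lit 7), (nat_lit 1), (nat_lit 1)), ((nat_lit 34), (nat_lit 15), (nat_lit 1), (nat_lit 2)), ((nat_lit 37), (nat_lit 9), (nat_lit 1), (nat_lit 1)), ((nat_lit 37), (nat_lit 23), (nat_lit 1), (nat_lit 2)), ((nat_lit 38), (nat_lit 10), (nat_lit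 1), (nat_lit 1)), ((nat_lit 38), (nat_lit 24), (nat_lit 1), (nat_lit 2)), ((nat_lit 40), (nat_lit 13), (nat_lit 1), (nat_lit 1)), ((nat_lit 40), (nat_lit 32), (nat_lit 1), (nat_lit 2)), ((nat_lit 41), (nat_lit 16), (nat_lit 1), (nat_lit 1)), ((nat_lit 42), (nat_lit 17), (nat_lit 1), (nat_lit 1)), ((nat_lit 44), (nat_lit 20), (nat_lit 1), (nat_lit 1)), ((nat_lit 44), (nat_lit 43), (nat_lit 1), (nat_lit 2)), ((nat_lit 46), (nat_lit 25), (nat_lit 1), (nat_lit 1)), ((nat_lit 47), (nat_lit 26), (nat_lit 1), (nat_lit 1))]) (.leaf [((nat_lit 2), (nat_lit 7), (nat_lit 1), (nat_lit 1)), ((nat_lit 2), (nat_lit 15), (nat_lit 2), (nat_lit 1)), ((nat_lit 3), (nat_lit 8), (nat_lit 1), (nat_lit 1)), ((nat_lit 5), (nat_lit 11), (nat_lit 1), (nat_lit 1)), ((nat_lit 5), (nat_lit 21), (nat_lit 2), (nat_lit 1)), ((nat_lit 6), (nat_lit 12), (nat_lit 1), (nat_lit 1)), ((nat_lit 6), (nat_lit 22), (nat_lit 2), (nat_lit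 1)), ((nat_lit 9), (nat_lit 18), (nat_lit 1), (nat_lit 1)), ((nat_lit 10), (nat_lit 19), (nat_lit 1), (nat_lit 1)), ((nat_lit 14), (nat_lit 27), (nat_lit 1), (nat_lit 1)), ((nat_lit 20), (nat_lit 33), (nat_lit 1), (nat_lit 1)), ((nat_lit 25), (nat_lit 35), (nat_lit 1), (nat_lit 1)), ((nat_lit 25), (nat_lit 41), (nat_lit 2), (nat_lit 1)), ((nat_lit 26), (nat_lit 36), (nat_lit 1), (nat_lit 1)), ((nat_lit 26), (nat_lit 42), (nat_lit 2), (nat_lit 1)), ((nat_lit 28), (nat_lit 37), (nat_lit 1), (nat_lit 1)), ((nat_lit 29), (nat_lit 38), (nat_lit 1), (nat_lit 1)), ((nat_lit 32), (nat_lit 40), (nat_lit 1), (nat_lit 1)), ((nat_lit 32), (nat_lit 45), (nat_lit 2), (nat_lit 1)), ((nat_lit 39), (nat_lit 44), (nat_lit 1), (nat_lit 1))])) (.leaf [((nat_lit 6), (nat_lit 3), (nat_lit 1), (nat_lit 1)), ((nat_lit 6), (nat_lit 0), (nat_lit 2), (nat_lit 1)), ((nat_lit 10), (nat_lit 7), (nat_lit 1), (nat_lit 1)),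 ((nat_lit 12), (nat_lit 8), (nat_lit 1), (nat_lit 1)), ((nat_lit 13), (nat_lit 9), (nat_lit 1), (nat_lit 1)), ((nat_lit 14), (nat_lit 11), (nat_lit 1), (nat_lit 1)), ((nat_lit 24), (nat_lit 19), (nat_lit 1), (nat_lit 1)), ((nat_lit 24), (nat_lit 15), (nat_lit 2), (nat_lit 1)), ((nat_lit 26), (nat_lit 20), (nat_lit 1), (nat_lit 1)), ((nat_lit 26), (nat_lit 16), (nat_lit 2), (nat_lit 1)), ((nat_lit 31), (nat_lit 27), (nat_lit 1), (nat_lit 1)), ((nat_lit 31), (nat_lit 21), (nat_lit 2), (nat_lit 1)), ((nat_lit 32), (nat_lit 28), (nat_lit 1), (nat_lit 1)), ((nat_lit 32), (nat_lit 23), (nat_lit 2), (nat_lit 1)), ((nat_lit 36), (nat_lit 33), (nat_lit 1), (nat_lit 1)), ((nat_lit 38), (nat_lit 34), (nat_lit 1), (nat_lit 1)), ((nat_lit 39), (nat_lit 35), (nat_lit 1), (nat_lit 1)), ((nat_lit 40), (nat_lit 37), (nat_lit 1), (nat_lit 1)), ((nat_lit 47), (nat_lit 44), (nat_lit 1), (nat_lit 1)), ((nat_lit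 47), (nat_lit 41), (nat_lit 2), (nat_lit 1))])) (.node (.node (.leaf [((nat_lit 11), (nat_lit 3), (nat_lit 1), (nat_lit 1)), ((nat_lit 18), (nat_lit 7), (nat_lit 1), (nat_lit 1)), ((nat_lit 21), (nat_lit 8), (nat_lit 1), (nat_lit 1)), ((nat_lit 21), (nat_lit 1), (nat_lit 2), (nat_lit 1)), ((nat_lit 23), (nat_lit 9), (nat_lit 1), (nat_lit 1)), ((nat_lit 23), (nat_lit 2), (nat_lit 2), (nat_lit 1)), ((nat_lit 27), (nat_lit 12), (nat_lit 1), (nat_lit 1)), ((nat_lit 28), (nat_lit 13), (nat_lit 1), (nat_lit 1)), ((nat_lit 30), (nat_lit 14), (nat_lit 1), (nat_lit 1)), ((nat_lit 30), (nat_lit 6), (nat_lit 2), (nat_lit 1)), ((nat_lit 34), (nat_lit 19), (nat_lit 1), (nat_lit 1)), ((nat_lit 35), (nat_lit 20), (nat_lit 1), (nat_lit 1)), ((nat_lit 40), (nat_lit 29), (nat_lit 1), (nat_lit 1)), ((nat_lit 41), (nat_lit 33), (nat_lit 1), (nat_lit 1)), ((nat_lit 41), (nat_lit 17), (nat_lit 2), (nat_lit 1)),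 ((nat_lit 44), (nat_lit 36), (nat_lit 1), (nat_lit 1)), ((nat_lit 45), (nat_lit 38), (nat_lit 1), (nat_lit 1)), ((nat_lit 45), (nat_lit 24), (nat_lit 2), (nat_lit 1)), ((nat_lit 46), (nat_lit 39), (nat_lit 1), (nat_lit 1)), ((nat_lit 46), (nat_lit 26), (nat_lit 2), (nat_lit 1))]) (.leaf [((nat_lit 0), (nat_lit 15), (nat_lit 1), (nat_lit 1)), ((nat_lit 2), (nat_lit 17), (nat_lit 1), (nat_lit 1)), ((nat_lit 3), (nat_lit 19), (nat_lit 1), (nat_lit 1)), ((nat_lit 3), (nat_lit 1), (nat_lit 1), (nat_lit 2)), ((nat_lit 4), (nat_lit 22), (nat_lit 1), (nat_lit 1)), ((nat_lit 6), (nat_lit 24), (nat_lit 1), (nat_lit 1)), ((nat_lit 9), (nat_lit 33), (nat_lit 1), (nat_lit 1)), ((nat_lit 9), (nat_lit 16), (nat_lit 1), (nat_lit 2)), ((nat_lit 11), (nat_lit 34), (nat_lit 1), (nat_lit 1)), ((nat_lit 11), (nat_lit 21), (nat_lit 1), (nat_lit 2)), ((nat_lit 13), (nat_lit 36), (nat_lit 1), (nat_lit 1)), ((nat_lit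 13), (nat_lit 26), (nat_lit 1), (nat_lit 2)), ((nat_lit 14), (nat_lit 38), (nat_lit 1), (nat_lit 1)), ((nat_lit 14), (nat_lit 31), (nat_lit 1), (nat_lit 2)), ((nat_lit 23), (nat_lit 41), (nat_lit 1), (nat_lit 1)), ((nat_lit 25), (nat_lit 43), (nat_lit 1), (nat_lit 1)), ((nat_lit 28), (nat_lit 44), (nat_lit 1), (nat_lit 1)), ((nat_lit 28), (nat_lit 46), (nat_lit 1), (nat_lit 2)), ((nat_lit 30), (nat_lit 45), (nat_lit 1), (nat_lit 1)), ((nat_lit 32), (nat_lit 47), (nat_lit 1), (nat_lit 1))])) (.leaf [((nat_lit 0), (nat_lit 2), (nat_lit 1), (nat_lit 1)), ((nat_lit 4), (nat_lit 6), (nat_lit 1), (nat_lit 1)), ((nat_lit 8), (nat_lit 10), (nat_lit 1), (nat_lit 1)), ((nat_lit 8), (nat_lit 1), (nat_lit 1), (nat_lit 2)), ((nat_lit 11), (nat_lit 13), (nat_lit 1), (nat_lit 1)), ((nat_lit 11), (nat_lit 5), (nat_lit 1), (nat_lit 2)), ((nat_lit 15), (nat_lit 17), (nat_lit 1), (nat_lit 1)), ((nat_lit 18),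 (nat_lit 20), (nat_lit 1), (nat_lit 1)), ((nat_lit 18), (nat_lit 16), (nat_lit 1), (nat_lit 2)), ((nat_lit 22), (nat_lit 24), (nat_lit 1), (nat_lit 1)), ((nat_lit 23), (nat_lit 25), (nat_lit 1), (nat_lit 1)), ((nat_lit 27), (nat_lit 29), (nat_lit 1), (nat_lit 1)), ((nat_lit 27), (nat_lit 31), (nat_lit 1), (nat_lit 2)), ((nat_lit 30), (nat_lit 32), (nat_lit 1), (nat_lit 1)), ((nat_lit 34), (nat_lit 36), (nat_lit 1), (nat_lit 1)), ((nat_lit 34), (nat_lit 42), (nat_lit 1), (nat_lit 2)), ((nat_lit 37), (nat_lit 39), (nat_lit 1), (nat_lit 1)), ((nat_lit 37), (nat_lit 46), (nat_lit 1), (nat_lit 2)), ((nat_lit 41), (nat_lit 43), (nat_lit 1), (nat_lit 1)), ((nat_lit 45), (nat_lit 47), (nat_lit 1), (nat_lit 1))]))) (.node (.node (.node (.leaf [((nat_lit 15), (nat_lit 1), (nat_lit 1), (nat_lit 1)), ((nat_lit 16), (nat_lit 2), (nat_lit 1), (nat_lit 1)), ((nat_lit 18), (nat_lit 3), (nat_lit 1), (nat_lit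 1)), ((nat_lit 18), (nat_lit 0), (nat_lit 1), (nat_lit 2)), ((nat_lit 21), (nat_lit 4), (nat_lit 1), (nat_lit 1)), ((nat_lit 23), (nat_lit 5), (nat_lit 1), (nat_lit 1)), ((nat_lit 33), (nat_lit 10), (nat_lit 1), (nat_lit 1)), ((nat_lit 33), (nat_lit 17), (nat_lit 1), (nat_lit 2)), ((nat_lit 34), (nat_lit 12), (nat_lit 1), (nat_lit 1)), ((nat_lit 34), (nat_lit 22), (nat_lit 1), (nat_lit 2)), ((nat_lit 35), (nat_lit 13), (nat_lit 1), (nat_lit 1)), ((nat_lit 35), (nat_lit 25), (nat_lit 1), (nat_lit 2)), ((nat_lit 37), (nat_lit 14), (nat_lit 1), (nat_lit 1)), ((nat_lit 37), (nat_lit 30), (nat_lit 1), (nat_lit 2)), ((nat_lit 42), (nat_lit 24), (nat_lit 1), (nat_lit 1)), ((nat_lit 43), (nat_lit 26), (nat_lit 1), (nat_lit 1)), ((nat_lit 44), (nat_lit 29), (nat_lit 1), (nat_lit 1)), ((nat_lit 44), (nat_lit 47), (nat_lit 1), (nat_lit 2)), ((nat_lit 45), (nat_lit 31), (nat_lit 1), (nat_lit 1)), ((nat_lit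 46), (nat_lit 32), (nat_lit 1), (nat_lit 1))]) (.leaf [((nat_lit 0), (nat_lit 8), (nat_lit 1), (nat_lit 1)), ((nat_lit 0), (nat_lit 22), (nat_lit 2), (nat_lit 1)), ((nat_lit 2), (nat_lit 10), (nat_lit 1), (nat_lit 1)), ((nat_lit 2), (nat_lit 24), (nat_lit 2), (nat_lit 1)), ((nat_lit 3), (nat_lit 12), (nat_lit 1), (nat_lit 1)), ((nat_lit 5), (nat_lit 14), (nat_lit 1), (nat_lit 1)), ((nat_lit 5), (nat_lit 31), (nat_lit 2), (nat_lit 1)), ((nat_lit 7), (nat_lit 19), (nat_lit 1), (nat_lit 1)), ((nat_lit 11), (nat_lit 27), (nat_lit 1), (nat_lit 1)), ((nat_lit 13), (nat_lit 29), (nat_lit 1), (nat_lit 1)), ((nat_lit 16), (nat_lit 33), (nat_lit 1), (nat_lit 1)), ((nat_lit 16), (nat_lit 42), (nat_lit 2), (nat_lit 1)), ((nat_lit 18), (nat_lit 34), (nat_lit 1), (nat_lit 1)), ((nat_lit 20), (nat_lit 36), (nat_lit 1), (nat_lit 1)), ((nat_lit 23), (nat_lit 37), (nat_lit 1), (nat_lit 1)), ((nat_lit 23),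 (nat_lit 45), (nat_lit 2), (nat_lit 1)), ((nat_lit 25), (nat_lit 39), (nat_lit 1), (nat_lit 1)), ((nat_lit 25), (nat_lit 47), (nat_lit 2), (nat_lit 1)), ((nat_lit 28), (nat_lit 40), (nat_lit 1), (nat_lit 1)), ((nat_lit 35), (nat_lit 44), (nat_lit 1), (nat_lit 1))])) (.leaf [((nat_lit 2), (nat_lit 1), (nat_lit 1), (nat_lit 1)), ((nat_lit 5), (nat_lit 4), (nat_lit 1), (nat_lit 1)), ((nat_lit 9), (nat_lit 8), (nat_lit 1), (nat_lit 1)), ((nat_lit 9), (nat_lit 0), (nat_lit 1), (nat_lit 2)), ((nat_lit 13), (nat_lit 12), (nat_lit 1), (nat_lit 1)), ((nat_lit 13), (nat_lit 6), (nat_lit 1), (nat_lit 2)), ((nat_lit 16), (nat_lit 15), (nat_lit 1), (nat_lit 1)), ((nat_lit 20), (nat_lit 19), (nat_lit 1), (nat_lit 1)), ((nat_lit 20), (nat_lit 17), (nat_lit 1), (nat_lit 2)), ((nat_lit 23), (nat_lit 21), (nat_lit 1), (nat_lit 1)), ((nat_lit 26), (nat_lit 24), (nat_lit 1), (nat_lit 1)), ((nat_lit 28), (nat_lit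 27), (nat_lit 1), (nat_lit 1)), ((nat_lit 28), (nat_lit 30), (nat_lit 1), (nat_lit 2)), ((nat_lit 32), (nat_lit 31), (nat_lit 1), (nat_lit 1)), ((nat_lit 35), (nat_lit 34), (nat_lit 1), (nat_lit 1)), ((nat_lit 35), (nat_lit 41), (nat_lit 1), (nat_lit 2)), ((nat_lit 39), (nat_lit 38), (nat_lit 1), (nat_lit 1)), ((nat_lit 39), (nat_lit 47), (nat_lit 1), (nat_lit 2)), ((nat_lit 43), (nat_lit 42), (nat_lit 1), (nat_lit 1)), ((nat_lit 46), (nat_lit 45), (nat_lit 1), (nat_lit 1))])) (.node (.node (.leaf [((nat_lit 7), (nat_lit 3), (nat_lit 1), (nat_lit 1)), ((nat_lit 15), (nat_lit 8), (nat_lit 1), (nat_lit 1)), ((nat_lit 15), (nat_lit 4), (nat_lit 2), (nat_lit 1)), ((nat_lit 16), (nat_lit 9), (nat_lit 1), (nat_lit 1)), ((nat_lit 16), (nat_lit 5), (nat_lit 2), (nat_lit 1)), ((nat_lit 17), (nat_lit 10), (nat_lit 1), (nat_lit 1)), ((nat_lit 17), (nat_lit 6), (nat_lit 2), (nat_lit 1)), ((nat_lit 18),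 (nat_lit 11), (nat_lit 1), (nat_lit 1)), ((nat_lit 19), (nat_lit 12), (nat_lit 1), (nat_lit 1)), ((nat_lit 20), (nat_lit 13), (nat_lit 1), (nat_lit 1)), ((nat_lit 34), (nat_lit 27), (nat_lit 1), (nat_lit 1)), ((nat_lit 35), (nat_lit 28), (nat_lit 1), (nat_lit 1)), ((nat_lit 36), (nat_lit 29), (nat_lit 1), (nat_lit 1)), ((nat_lit 41), (nat_lit 37), (nat_lit 1), (nat_lit 1)), ((nat_lit 41), (nat_lit 30), (nat_lit 2), (nat_lit 1)), ((nat_lit 42), (nat_lit 38), (nat_lit 1), (nat_lit 1)), ((nat_lit 42), (nat_lit 31), (nat_lit 2), (nat_lit 1)), ((nat_lit 43), (nat_lit 39), (nat_lit 1), (nat_lit 1)), ((nat_lit 43), (nat_lit 32), (nat_lit 2), (nat_lit 1)), ((nat_lit 44), (nat_lit 40), (nat_lit 1), (nat_lit 1))]) (.leaf [((nat_lit 0), (nat_lit 23), (nat_lit 1), (nat_lit 1)), ((nat_lit 2), (nat_lit 25), (nat_lit 1), (nat_lit 1)), ((nat_lit 3), (nat_lit 28), (nat_lit 1), (nat_lit 1)), ((nat_lit 3),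 (nat_lit 5), (nat_lit 1), (nat_lit 2)), ((nat_lit 4), (nat_lit 30), (nat_lit 1), (nat_lit 1)), ((nat_lit 6), (nat_lit 32), (nat_lit 1), (nat_lit 1)), ((nat_lit 7), (nat_lit 35), (nat_lit 1), (nat_lit 1)), ((nat_lit 7), (nat_lit 16), (nat_lit 1), (nat_lit 2)), ((nat_lit 8), (nat_lit 37), (nat_lit 1), (nat_lit 1)), ((nat_lit 8), (nat_lit 21), (nat_lit 1), (nat_lit 2)), ((nat_lit 10), (nat_lit 39), (nat_lit 1), (nat_lit 1)), ((nat_lit 10), (nat_lit 26), (nat_lit 1), (nat_lit 2)), ((nat_lit 12), (nat_lit 40), (nat_lit 1), (nat_lit 1)), ((nat_lit 12), (nat_lit 31), (nat_lit 1), (nat_lit 2)), ((nat_lit 15), (nat_lit 41), (nat_lit 1), (nat_lit 1)), ((nat_lit 17), (nat_lit 43), (nat_lit 1), (nat_lit 1)), ((nat_lit 19), (nat_lit 44), (nat_lit 1), (nat_lit 1)), ((nat_lit 19), (nat_lit 42), (nat_lit 1), (nat_lit 2)), ((nat_lit 22), (nat_lit 45), (nat_lit 1), (nat_lit 1)), ((nat_lit 24), (nat_lit 47),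 (nat_lit 1), (nat_lit 1))])) (.leaf [((nat_lit 1), (nat_lit 4), (nat_lit 1), (nat_lit 1)), ((nat_lit 2), (nat_lit 5), (nat_lit 1), (nat_lit 1)), ((nat_lit 7), (nat_lit 11), (nat_lit 1), (nat_lit 1)), ((nat_lit 7), (nat_lit 0), (nat_lit 1), (nat_lit 2)), ((nat_lit 10), (nat_lit 14), (nat_lit 1), (nat_lit 1)), ((nat_lit 10), (nat_lit 6), (nat_lit 1), (nat_lit 2)), ((nat_lit 15), (nat_lit 21), (nat_lit 1), (nat_lit 1)), ((nat_lit 16), (nat_lit 23), (nat_lit 1), (nat_lit 1)), ((nat_lit 19), (nat_lit 27), (nat_lit 1), (nat_lit 1)), ((nat_lit 19), (nat_lit 22), (nat_lit 1), (nat_lit 2)), ((nat_lit 20), (nat_lit 28), (nat_lit 1), (nat_lit 1)), ((nat_lit 20), (nat_lit 25), (nat_lit 1), (nat_lit 2)), ((nat_lit 24), (nat_lit 31), (nat_lit 1), (nat_lit 1)), ((nat_lit 26), (nat_lit 32), (nat_lit 1), (nat_lit 1)), ((nat_lit 33), (nat_lit 37), (nat_lit 1), (nat_lit 1)), ((nat_lit 33), (nat_lit 41), (nat_lit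 1), (nat_lit 2)), ((nat_lit 36), (nat_lit 40), (nat_lit 1), (nat_lit 1)), ((nat_lit 36), (nat_lit 47), (nat_lit 1), (nat_lit 2)), ((nat_lit 42), (nat_lit 45), (nat_lit 1), (nat_lit 1)), ((nat_lit 43), (nat_lit 46), (nat_lit 1), (nat_lit 1))])))

def rows2 : Tr (List Entry) :=
  .node (.node (.node (.node (.leaf [((nat_lit 23), (nat_lit 0), (nat_lit 1), (nat_lit 1)), ((nat_lit 25), (nat_lit 2), (nat_lit 1), (nat_lit 1)), ((nat_lit 28), (nat_lit 3), (nat_lit 1), (nat_lit 1)), ((nat_lit 28), (nat_lit 5), (nat_lit 1), (nat_lit 2)), ((nat_lit 30), (nat_lit 4), (nat_lit 1), (nat_lit 1)), ((nat_lit 32), (nat_lit 6), (nat_lit 1), (nat_lit 1)), ((nat_lit 35), (nat_lit 7), (nat_lit 1), (nat_lit 1)), ((nat_lit 35), (nat_lit 16), (nat_lit 1), (nat_lit 2)), ((nat_lit 37), (nat_lit 8), (nat_lit 1), (nat_lit 1)), ((nat_lit 37), (nat_lit 21), (nat_lit 1), (nat_lit 2)), ((nat_lit 39), (nat_lit 10), (nat_lit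 1), (nat_lit 1)), ((nat_lit 39), (nat_lit 26), (nat_lit 1), (nat_lit 2)), ((nat_lit 40), (nat_lit 12), (nat_lit 1), (nat_lit 1)), ((nat_lit 40), (nat_lit 31), (nat_lit 1), (nat_lit 2)), ((nat_lit 41), (nat_lit 15), (nat_lit 1), (nat_lit 1)), ((nat_lit 43), (nat_lit 17), (nat_lit 1), (nat_lit 1)), ((nat_lit 44), (nat_lit 19), (nat_lit 1), (nat_lit 1)), ((nat_lit 44), (nat_lit 42), (nat_lit 1), (nat_lit 2)), ((nat_lit 45), (nat_lit 22), (nat_lit 1), (nat_lit 1)), ((nat_lit 47), (nat_lit 24), (nat_lit 1), (nat_lit 1))]) (.leaf [((nat_lit 3), (nat_lit 7), (nat_lit 1), (nat_lit 1)), ((nat_lit 4), (nat_lit 8), (nat_lit 1), (nat_lit 1)), ((nat_lit 4), (nat_lit 15), (nat_lit 2), (nat_lit 1)), ((nat_lit 5), (nat_lit 9), (nat_lit 1), (nat_lit 1)), ((nat_lit 5), (nat_lit 16), (nat_lit 2), (nat_lit 1)), ((nat_lit 6), (nat_lit 10), (nat_lit 1), (nat_lit 1)), ((nat_lit 6), (nat_lit 17), (nat_lit 2), (nat_lit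 1)), ((nat_lit 11), (nat_lit 18), (nat_lit 1), (nat_lit 1)), ((nat_lit 12), (nat_lit 19), (nat_lit 1), (nat_lit 1)), ((nat_lit 13), (nat_lit 20), (nat_lit 1), (nat_lit 1)), ((nat_lit 27), (nat_lit 34), (nat_lit 1), (nat_lit 1)), ((nat_lit 28), (nat_lit 35), (nat_lit 1), (nat_lit 1)), ((nat_lit 29), (nat_lit 36), (nat_lit 1), (nat_lit 1)), ((nat_lit 30), (nat_lit 37), (nat_lit 1), (nat_lit 1)), ((nat_lit 30), (nat_lit 41), (nat_lit 2), (nat_lit 1)), ((nat_lit 31), (nat_lit 38), (nat_lit 1), (nat_lit 1)), ((nat_lit 31), (nat_lit 42), (nat_lit 2), (nat_lit 1)), ((nat_lit 32), (nat_lit 39), (nat_lit 1), (nat_lit 1)), ((nat_lit 32), (nat_lit 43), (nat_lit 2), (nat_lit 1)), ((nat_lit 40), (nat_lit 44), (nat_lit 1), (nat_lit 1))])) (.leaf [((nat_lit 4), (nat_lit 1), (nat_lit 1), (nat_lit 1)), ((nat_lit 5), (nat_lit 2), (nat_lit 1), (nat_lit 1)), ((nat_lit 11), (nat_lit 7), (nat_lit 1), (nat_lit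 1)), ((nat_lit 11), (nat_lit 0), (nat_lit 1), (nat_lit 2)), ((nat_lit 14), (nat_lit 10), (nat_lit 1), (nat_lit 1)), ((nat_lit 14), (nat_lit 6), (nat_lit 1), (nat_lit 2)), ((nat_lit 21), (nat_lit 15), (nat_lit 1), (nat_lit 1)), ((nat_lit 23), (nat_lit 16), (nat_lit 1), (nat_lit 1)), ((nat_lit 27), (nat_lit 19), (nat_lit 1), (nat_lit 1)), ((nat_lit 27), (nat_lit 22), (nat_lit 1), (nat_lit 2)), ((nat_lit 28), (nat_lit 20), (nat_lit 1), (nat_lit 1)), ((nat_lit 28), (nat_lit 25), (nat_lit 1), (nat_lit 2)), ((nat_lit 31), (nat_lit 24), (nat_lit 1), (nat_lit 1)), ((nat_lit 32), (nat_lit 26), (nat_lit 1), (nat_lit 1)), ((nat_lit 37), (nat_lit 33), (nat_lit 1), (nat_lit 1)), ((nat_lit 37), (nat_lit 41), (nat_lit 1), (nat_lit 2)), ((nat_lit 40), (nat_lit 36), (nat_lit 1), (nat_lit 1)), ((nat_lit 40), (nat_lit 47), (nat_lit 1), (nat_lit 2)), ((nat_lit 45), (nat_lit 42), (nat_lit 1), (nat_lit 1)), ((nat_lit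 46), (nat_lit 43), (nat_lit 1), (nat_lit 1))])) (.node (.node (.leaf [((nat_lit 12), (nat_lit 3), (nat_lit 1), (nat_lit 1)), ((nat_lit 19), (nat_lit 7), (nat_lit 1), (nat_lit 1)), ((nat_lit 22), (nat_lit 8), (nat_lit 1), (nat_lit 1)), ((nat_lit 22), (nat_lit 0), (nat_lit 2), (nat_lit 1)), ((nat_lit 24), (nat_lit 10), (nat_lit 1), (nat_lit 1)), ((nat_lit 24), (nat_lit 2), (nat_lit 2), (nat_lit 1)), ((nat_lit 27), (nat_lit 11), (nat_lit 1), (nat_lit 1)), ((nat_lit 29), (nat_lit 13), (nat_lit 1), (nat_lit 1)), ((nat_lit 31), (nat_lit 14), (nat_lit 1), (nat_lit 1)), ((nat_lit 31), (nat_lit 5), (nat_lit 2), (nat_lit 1)), ((nat_lit 34), (nat_lit 18), (nat_lit 1), (nat_lit 1)), ((nat_lit 36), (nat_lit 20), (nat_lit 1), (nat_lit 1)), ((nat_lit 40), (nat_lit 28), (nat_lit 1), (nat_lit 1)), ((nat_lit 42), (nat_lit 33), (nat_lit 1), (nat_lit 1)), ((nat_lit 42), (nat_lit 16), (nat_lit 2), (nat_lit 1)),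 ((nat_lit 44), (nat_lit 35), (nat_lit 1), (nat_lit 1)), ((nat_lit 45), (nat_lit 37), (nat_lit 1), (nat_lit 1)), ((nat_lit 45), (nat_lit 23), (nat_lit 2), (nat_lit 1)), ((nat_lit 47), (nat_lit 39), (nat_lit 1), (nat_lit 1)), ((nat_lit 47), (nat_lit 25), (nat_lit 2), (nat_lit 1))]) (.leaf [((nat_lit 1), (nat_lit 15), (nat_lit 1), (nat_lit 1)), ((nat_lit 2), (nat_lit 16), (nat_lit 1), (nat_lit 1)), ((nat_lit 3), (nat_lit 18), (nat_lit 1), (nat_lit 1)), ((nat_lit 3), (nat_lit 0), (nat_lit 1), (nat_lit 2)), ((nat_lit 4), (nat_lit 21), (nat_lit 1), (nat_lit 1)), ((nat_lit 5), (nat_lit 23), (nat_lit 1), (nat_lit 1)), ((nat_lit 10), (nat_lit 33), (nat_lit 1), (nat_lit 1)), ((nat_lit 10), (nat_lit 17), (nat_lit 1), (nat_lit 2)), ((nat_lit 12), (nat_lit 34), (nat_lit 1), (nat_lit 1)), ((nat_lit 12), (nat_lit 22), (nat_lit 1), (nat_lit 2)), ((nat_lit 13), (nat_lit 35), (nat_lit 1), (nat_lit 1)), ((nat_lit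 13), (nat_lit 25), (nat_lit 1), (nat_lit 2)), ((nat_lit 14), (nat_lit 37), (nat_lit 1), (nat_lit 1)), ((nat_lit 14), (nat_lit 30), (nat_lit 1), (nat_lit 2)), ((nat_lit 24), (nat_lit 42), (nat_lit 1), (nat_lit 1)), ((nat_lit 26), (nat_lit 43), (nat_lit 1), (nat_lit 1)), ((nat_lit 29), (nat_lit 44), (nat_lit 1), (nat_lit 1)), ((nat_lit 29), (nat_lit 47), (nat_lit 1), (nat_lit 2)), ((nat_lit 31), (nat_lit 45), (nat_lit 1), (nat_lit 1)), ((nat_lit 32), (nat_lit 46), (nat_lit 1), (nat_lit 1))])) (.leaf [((nat_lit 1), (nat_lit 2), (nat_lit 1), (nat_lit 1)), ((nat_lit 4), (nat_lit 5), (nat_lit 1), (nat_lit 1)), ((nat_lit 8), (nat_lit 9), (nat_lit 1), (nat_lit 1)), ((nat_lit 8), (nat_lit 0), (nat_lit 1), (nat_lit 2)), ((nat_lit 12), (nat_lit 13), (nat_lit 1), (nat_lit 1)), ((nat_lit 12), (nat_lit 6), (nat_lit 1), (nat_lit 2)), ((nat_lit 15), (nat_lit 16), (nat_lit 1), (nat_lit 1)), ((nat_lit 19),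 (nat_lit 20), (nat_lit 1), (nat_lit 1)), ((nat_lit 19), (nat_lit 17), (nat_lit 1), (nat_lit 2)), ((nat_lit 21), (nat_lit 23), (nat_lit 1), (nat_lit 1)), ((nat_lit 24), (nat_lit 26), (nat_lit 1), (nat_lit 1)), ((nat_lit 27), (nat_lit 28), (nat_lit 1), (nat_lit 1)), ((nat_lit 27), (nat_lit 30), (nat_lit 1), (nat_lit 2)), ((nat_lit 31), (nat_lit 32), (nat_lit 1), (nat_lit 1)), ((nat_lit 34), (nat_lit 35), (nat_lit 1), (nat_lit 1)), ((nat_lit 34), (nat_lit 41), (nat_lit 1), (nat_lit 2)), ((nat_lit 38), (nat_lit 39), (nat_lit 1), (nat_lit 1)), ((nat_lit 38), (nat_lit 47), (nat_lit 1), (nat_lit 2)), ((nat_lit 42), (nat_lit 43), (nat_lit 1), (nat_lit 1)), ((nat_lit 45), (nat_lit 46), (nat_lit 1), (nat_lit 1))]))) (.node (.node (.node (.leaf [((nat_lit 15), (nat_lit 0), (nat_lit 1), (nat_lit 1)), ((nat_lit 17), (nat_lit 2), (nat_lit 1), (nat_lit 1)), ((nat_lit 19), (nat_lit 3), (nat_lit 1), (nat_lit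 1)), ((nat_lit 19), (nat_lit 1), (nat_lit 1), (nat_lit 2)), ((nat_lit 22), (nat_lit 4), (nat_lit 1), (nat_lit 1)), ((nat_lit 24), (nat_lit 6), (nat_lit 1), (nat_lit 1)), ((nat_lit 33), (nat_lit 9), (nat_lit 1), (nat_lit 1)), ((nat_lit 33), (nat_lit 16), (nat_lit 1), (nat_lit 2)), ((nat_lit 34), (nat_lit 11), (nat_lit 1), (nat_lit 1)), ((nat_lit 34), (nat_lit 21), (nat_lit 1), (nat_lit 2)), ((nat_lit 36), (nat_lit 13), (nat_lit 1), (nat_lit 1)), ((nat_lit 36), (nat_lit 26), (nat_lit 1), (nat_lit 2)), ((nat_lit 38), (nat_lit 14), (nat_lit 1), (nat_lit 1)), ((nat_lit 38), (nat_lit 31), (nat_lit 1), (nat_lit 2)), ((nat_lit 41), (nat_lit 23), (nat_lit 1), (nat_lit 1)), ((nat_lit 43), (nat_lit 25), (nat_lit 1), (nat_lit 1)), ((nat_lit 44), (nat_lit 28), (nat_lit 1), (nat_lit 1)), ((nat_lit 44), (nat_lit 46), (nat_lit 1), (nat_lit 2)), ((nat_lit 45), (nat_lit 30), (nat_lit 1), (nat_lit 1)), ((nat_lit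 47), (nat_lit 32), (nat_lit 1), (nat_lit 1))]) (.leaf [((nat_lit 1), (nat_lit 8), (nat_lit 1), (nat_lit 1)), ((nat_lit 1), (nat_lit 21), (nat_lit 2), (nat_lit 1)), ((nat_lit 2), (nat_lit 9), (nat_lit 1), (nat_lit 1)), ((nat_lit 2), (nat_lit 23), (nat_lit 2), (nat_lit 1)), ((nat_lit 3), (nat_lit 11), (nat_lit 1), (nat_lit 1)), ((nat_lit 6), (nat_lit 14), (nat_lit 1), (nat_lit 1)), ((nat_lit 6), (nat_lit 30), (nat_lit 2), (nat_lit 1)), ((nat_lit 7), (nat_lit 18), (nat_lit 1), (nat_lit 1)), ((nat_lit 12), (nat_lit 27), (nat_lit 1), (nat_lit 1)), ((nat_lit 13), (nat_lit 28), (nat_lit 1), (nat_lit 1)), ((nat_lit 17), (nat_lit 33), (nat_lit 1), (nat_lit 1)), ((nat_lit 17), (nat_lit 41), (nat_lit 2), (nat_lit 1)), ((nat_lit 19), (nat_lit 34), (nat_lit 1), (nat_lit 1)), ((nat_lit 20), (nat_lit 35), (nat_lit 1), (nat_lit 1)), ((nat_lit 24), (nat_lit 38), (nat_lit 1), (nat_lit 1)), ((nat_lit 24), (nat_lit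 45), (nat_lit 2), (nat_lit 1)), ((nat_lit 26), (nat_lit 39), (nat_lit 1), (nat_lit 1)), ((nat_lit 26), (nat_lit 46), (nat_lit 2), (nat_lit 1)), ((nat_lit 29), (nat_lit 40), (nat_lit 1), (nat_lit 1)), ((nat_lit 36), (nat_lit 44), (nat_lit 1), (nat_lit 1))])) (.leaf [((nat_lit 2), (nat_lit 0), (nat_lit 1), (nat_lit 1)), ((nat_lit 6), (nat_lit 4), (nat_lit 1), (nat_lit 1)), ((nat_lit 10), (nat_lit 8), (nat_lit 1), (nat_lit 1)), ((nat_lit 10), (nat_lit 1), (nat_lit 1), (nat_lit 2)), ((nat_lit 13), (nat_lit 11), (nat_lit 1), (nat_lit 1)), ((nat_lit 13), (nat_lit 5), (nat_lit 1), (nat_lit 2)), ((nat_lit 17), (nat_lit 15), (nat_lit 1), (nat_lit 1)), ((nat_lit 20), (nat_lit 18), (nat_lit 1), (nat_lit 1)), ((nat_lit 20), (nat_lit 16), (nat_lit 1), (nat_lit 2)), ((nat_lit 24), (nat_lit 22), (nat_lit 1), (nat_lit 1)), ((nat_lit 25), (nat_lit 23), (nat_lit 1), (nat_lit 1)), ((nat_lit 29), (nat_lit 27),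 (nat_lit 1), (nat_lit 1)), ((nat_lit 29), (nat_lit 31), (nat_lit 1), (nat_lit 2)), ((nat_lit 32), (nat_lit 30), (nat_lit 1), (nat_lit 1)), ((nat_lit 36), (nat_lit 34), (nat_lit 1), (nat_lit 1)), ((nat_lit 36), (nat_lit 42), (nat_lit 1), (nat_lit 2)), ((nat_lit 39), (nat_lit 37), (nat_lit 1), (nat_lit 1)), ((nat_lit 39), (nat_lit 46), (nat_lit 1), (nat_lit 2)), ((nat_lit 43), (nat_lit 41), (nat_lit 1), (nat_lit 1)), ((nat_lit 47), (nat_lit 45), (nat_lit 1), (nat_lit 1))])) (.node (.node (.leaf [((nat_lit 8), (nat_lit 3), (nat_lit 1), (nat_lit 1)), ((nat_lit 15), (nat_lit 7), (nat_lit 1), (nat_lit 1)), ((nat_lit 15), (nat_lit 2), (nat_lit 2), (nat_lit 1)), ((nat_lit 18), (nat_lit 9), (nat_lit 1), (nat_lit 1)), ((nat_lit 19), (nat_lit 10), (nat_lit 1), (nat_lit 1)), ((nat_lit 21), (nat_lit 11), (nat_lit 1), (nat_lit 1)), ((nat_lit 21), (nat_lit 5), (nat_lit 2), (nat_lit 1)), ((nat_lit 22), (nat_lit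 12), (nat_lit 1), (nat_lit 1)), ((nat_lit 22), (nat_lit 6), (nat_lit 2), (nat_lit 1)), ((nat_lit 27), (nat_lit 14), (nat_lit 1), (nat_lit 1)), ((nat_lit 33), (nat_lit 20), (nat_lit 1), (nat_lit 1)), ((nat_lit 37), (nat_lit 28), (nat_lit 1), (nat_lit 1)), ((nat_lit 38), (nat_lit 29), (nat_lit 1), (nat_lit 1)), ((nat_lit 41), (nat_lit 35), (nat_lit 1), (nat_lit 1)), ((nat_lit 41), (nat_lit 25), (nat_lit 2), (nat_lit 1)), ((nat_lit 42), (nat_lit 36), (nat_lit 1), (nat_lit 1)), ((nat_lit 42), (nat_lit 26), (nat_lit 2), (nat_lit 1)), ((nat_lit 44), (nat_lit 39), (nat_lit 1), (nat_lit 1)), ((nat_lit 45), (nat_lit 40), (nat_lit 1), (nat_lit 1)), ((nat_lit 45), (nat_lit 32), (nat_lit 2), (nat_lit 1))]) (.leaf [((nat_lit 0), (nat_lit 21), (nat_lit 1), (nat_lit 1)), ((nat_lit 1), (nat_lit 22), (nat_lit 1), (nat_lit 1)), ((nat_lit 3), (nat_lit 27), (nat_lit 1), (nat_lit 1)), ((nat_lit 3), (nat_lit 4),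 (nat_lit 1), (nat_lit 2)), ((nat_lit 5), (nat_lit 30), (nat_lit 1), (nat_lit 1)), ((nat_lit 6), (nat_lit 31), (nat_lit 1), (nat_lit 1)), ((nat_lit 7), (nat_lit 34), (nat_lit 1), (nat_lit 1)), ((nat_lit 7), (nat_lit 15), (nat_lit 1), (nat_lit 2)), ((nat_lit 9), (nat_lit 37), (nat_lit 1), (nat_lit 1)), ((nat_lit 9), (nat_lit 23), (nat_lit 1), (nat_lit 2)), ((nat_lit 10), (nat_lit 38), (nat_lit 1), (nat_lit 1)), ((nat_lit 10), (nat_lit 24), (nat_lit 1), (nat_lit 2)), ((nat_lit 13), (nat_lit 40), (nat_lit 1), (nat_lit 1)), ((nat_lit 13), (nat_lit 32), (nat_lit 1), (nat_lit 2)), ((nat_lit 16), (nat_lit 41), (nat_lit 1), (nat_lit 1)), ((nat_lit 17), (nat_lit 42), (nat_lit 1), (nat_lit 1)), ((nat_lit 20), (nat_lit 44), (nat_lit 1), (nat_lit 1)), ((nat_lit 20), (nat_lit 43), (nat_lit 1), (nat_lit 2)), ((nat_lit 25), (nat_lit 46), (nat_lit 1), (nat_lit 1)), ((nat_lit 26), (nat_lit 47), (nat_lit 1),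 (nat_lit 1))])) (.leaf [((nat_lit 0), (nat_lit 3), (nat_lit 1), (nat_lit 1)), ((nat_lit 0), (nat_lit 6), (nat_lit 2), (nat_lit 1)), ((nat_lit 7), (nat_lit 10), (nat_lit 1), (nat_lit 1)), ((nat_lit 8), (nat_lit 12), (nat_lit 1), (nat_lit 1)), ((nat_lit 9), (nat_lit 13), (nat_lit 1), (nat_lit 1)), ((nat_lit 11), (nat_lit 14), (nat_lit 1), (nat_lit 1)), ((nat_lit 15), (nat_lit 19), (nat_lit 1), (nat_lit 1)), ((nat_lit 15), (nat_lit 24), (nat_lit 2), (nat_lit 1)), ((nat_lit 16), (nat_lit 20), (nat_lit 1), (nat_lit 1)), ((nat_lit 16), (nat_lit 26), (nat_lit 2), (nat_lit 1)), ((nat_lit 21), (nat_lit 27), (nat_lit 1), (nat_lit 1)), ((nat_lit 21), (nat_lit 31), (nat_lit 2), (nat_lit 1)), ((nat_lit 23), (nat_lit 28), (nat_lit 1), (nat_lit 1)), ((nat_lit 23), (nat_lit 32), (nat_lit 2), (nat_lit 1)), ((nat_lit 33), (nat_lit 36), (nat_lit 1), (nat_lit 1)), ((nat_lit 34), (nat_lit 38), (nat_lit 1), (nat_lit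 1)), ((nat_lit 35), (nat_lit 39), (nat_lit 1), (nat_lit 1)), ((nat_lit 37), (nat_lit 40), (nat_lit 1), (nat_lit 1)), ((nat_lit 41), (nat_lit 44), (nat_lit 1), (nat_lit 1)), ((nat_lit 41), (nat_lit 47), (nat_lit 2), (nat_lit 1))])))

def rows3 : Tr (List Entry) :=
  .node (.node (.node (.node (.leaf [((nat_lit 33), (nat_lit 7), (nat_lit 1), (nat_lit 1)), ((nat_lit 34), (nat_lit 8), (nat_lit 1), (nat_lit 1)), ((nat_lit 35), (nat_lit 9), (nat_lit 1), (nat_lit 1)), ((nat_lit 36), (nat_lit 10), (nat_lit 1), (nat_lit 1)), ((nat_lit 37), (nat_lit 11), (nat_lit 1), (nat_lit 1)), ((nat_lit 38), (nat_lit 12), (nat_lit 1), (nat_lit 1)), ((nat_lit 39), (nat_lit 13), (nat_lit 1), (nat_lit 1)), ((nat_lit 40), (nat_lit 14), (nat_lit 1), (nat_lit 1)), ((nat_lit 41), (nat_lit 18), (nat_lit 1), (nat_lit 1)), ((nat_lit 41), (nat_lit 0), (nat_lit 2), (nat_lit 1)), ((nat_lit 42), (nat_lit 19), (nat_lit 1), (nat_lit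 1)), ((nat_lit 42), (nat_lit 1), (nat_lit 2), (nat_lit 1)), ((nat_lit 43), (nat_lit 20), (nat_lit 1), (nat_lit 1)), ((nat_lit 43), (nat_lit 2), (nat_lit 2), (nat_lit 1)), ((nat_lit 45), (nat_lit 27), (nat_lit 1), (nat_lit 1)), ((nat_lit 45), (nat_lit 4), (nat_lit 2), (nat_lit 1)), ((nat_lit 46), (nat_lit 28), (nat_lit 1), (nat_lit 1)), ((nat_lit 46), (nat_lit 5), (nat_lit 2), (nat_lit 1)), ((nat_lit 47), (nat_lit 29), (nat_lit 1), (nat_lit 1)), ((nat_lit 47), (nat_lit 6), (nat_lit 2), (nat_lit 1))]) (.leaf [((nat_lit 1), (nat_lit 7), (nat_lit 1), (nat_lit 1)), ((nat_lit 1), (nat_lit 16), (nat_lit 2), (nat_lit 1)), ((nat_lit 3), (nat_lit 9), (nat_lit 1), (nat_lit 1)), ((nat_lit 4), (nat_lit 11), (nat_lit 1), (nat_lit 1)), ((nat_lit 4), (nat_lit 23), (nat_lit 2), (nat_lit 1)), ((nat_lit 6), (nat_lit 13), (nat_lit 1), (nat_lit 1)), ((nat_lit 6), (nat_lit 25), (nat_lit 2), (nat_lit 1)), ((nat_lit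 8), (nat_lit 18), (nat_lit 1), (nat_lit 1)), ((nat_lit 10), (nat_lit 20), (nat_lit 1), (nat_lit 1)), ((nat_lit 14), (nat_lit 28), (nat_lit 1), (nat_lit 1)), ((nat_lit 19), (nat_lit 33), (nat_lit 1), (nat_lit 1)), ((nat_lit 22), (nat_lit 34), (nat_lit 1), (nat_lit 1)), ((nat_lit 22), (nat_lit 41), (nat_lit 2), (nat_lit 1)), ((nat_lit 24), (nat_lit 36), (nat_lit 1), (nat_lit 1)), ((nat_lit 24), (nat_lit 43), (nat_lit 2), (nat_lit 1)), ((nat_lit 27), (nat_lit 37), (nat_lit 1), (nat_lit 1)), ((nat_lit 29), (nat_lit 39), (nat_lit 1), (nat_lit 1)), ((nat_lit 31), (nat_lit 40), (nat_lit 1), (nat_lit 1)), ((nat_lit 31), (nat_lit 46), (nat_lit 2), (nat_lit 1)), ((nat_lit 38), (nat_lit 44), (nat_lit 1), (nat_lit 1))])) (.leaf [((nat_lit 5), (nat_lit 3), (nat_lit 1), (nat_lit 1)), ((nat_lit 5), (nat_lit 1), (nat_lit 2), (nat_lit 1)), ((nat_lit 9), (nat_lit 7), (nat_lit 1), (nat_lit 1)), ((nat_lit 11),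 (nat_lit 8), (nat_lit 1), (nat_lit 1)), ((nat_lit 13), (nat_lit 10), (nat_lit 1), (nat_lit 1)), ((nat_lit 14), (nat_lit 12), (nat_lit 1), (nat_lit 1)), ((nat_lit 23), (nat_lit 18), (nat_lit 1), (nat_lit 1)), ((nat_lit 23), (nat_lit 15), (nat_lit 2), (nat_lit 1)), ((nat_lit 25), (nat_lit 20), (nat_lit 1), (nat_lit 1)), ((nat_lit 25), (nat_lit 17), (nat_lit 2), (nat_lit 1)), ((nat_lit 30), (nat_lit 27), (nat_lit 1), (nat_lit 1)), ((nat_lit 30), (nat_lit 22), (nat_lit 2), (nat_lit 1)), ((nat_lit 32), (nat_lit 29), (nat_lit 1), (nat_lit 1)), ((nat_lit 32), (nat_lit 24), (nat_lit 2), (nat_lit 1)), ((nat_lit 35), (nat_lit 33), (nat_lit 1), (nat_lit 1)), ((nat_lit 37), (nat_lit 34), (nat_lit 1), (nat_lit 1)), ((nat_lit 39), (nat_lit 36), (nat_lit 1), (nat_lit 1)), ((nat_lit 40), (nat_lit 38), (nat_lit 1), (nat_lit 1)), ((nat_lit 46), (nat_lit 44), (nat_lit 1), (nat_lit 1)), ((nat_lit 46), (nat_lit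 42), (nat_lit 2), (nat_lit 1))])) (.node (.node (.leaf [((nat_lit 10), (nat_lit 3), (nat_lit 1), (nat_lit 1)), ((nat_lit 17), (nat_lit 7), (nat_lit 1), (nat_lit 1)), ((nat_lit 17), (nat_lit 0), (nat_lit 2), (nat_lit 1)), ((nat_lit 19), (nat_lit 8), (nat_lit 1), (nat_lit 1)), ((nat_lit 20), (nat_lit 9), (nat_lit 1), (nat_lit 1)), ((nat_lit 24), (nat_lit 12), (nat_lit 1), (nat_lit 1)), ((nat_lit 24), (nat_lit 4), (nat_lit 2), (nat_lit 1)), ((nat_lit 26), (nat_lit 13), (nat_lit 1), (nat_lit 1)), ((nat_lit 26), (nat_lit 5), (nat_lit 2), (nat_lit 1)), ((nat_lit 29), (nat_lit 14), (nat_lit 1), (nat_lit 1)), ((nat_lit 33), (nat_lit 18), (nat_lit 1), (nat_lit 1)), ((nat_lit 38), (nat_lit 27), (nat_lit 1), (nat_lit 1)), ((nat_lit 39), (nat_lit 28), (nat_lit 1), (nat_lit 1)), ((nat_lit 42), (nat_lit 34), (nat_lit 1), (nat_lit 1)), ((nat_lit 42), (nat_lit 21), (nat_lit 2), (nat_lit 1)), ((nat_lit 43),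 (nat_lit 35), (nat_lit 1), (nat_lit 1)), ((nat_lit 43), (nat_lit 23), (nat_lit 2), (nat_lit 1)), ((nat_lit 44), (nat_lit 37), (nat_lit 1), (nat_lit 1)), ((nat_lit 47), (nat_lit 40), (nat_lit 1), (nat_lit 1)), ((nat_lit 47), (nat_lit 30), (nat_lit 2), (nat_lit 1))]) (.leaf [((nat_lit 0), (nat_lit 16), (nat_lit 1), (nat_lit 1)), ((nat_lit 1), (nat_lit 17), (nat_lit 1), (nat_lit 1)), ((nat_lit 3), (nat_lit 20), (nat_lit 1), (nat_lit 1)), ((nat_lit 3), (nat_lit 2), (nat_lit 1), (nat_lit 2)), ((nat_lit 5), (nat_lit 25), (nat_lit 1), (nat_lit 1)), ((nat_lit 6), (nat_lit 26), (nat_lit 1), (nat_lit 1)), ((nat_lit 8), (nat_lit 33), (nat_lit 1), (nat_lit 1)), ((nat_lit 8), (nat_lit 15), (nat_lit 1), (nat_lit 2)), ((nat_lit 11), (nat_lit 35), (nat_lit 1), (nat_lit 1)), ((nat_lit 11), (nat_lit 23), (nat_lit 1), (nat_lit 2)), ((nat_lit 12), (nat_lit 36), (nat_lit 1), (nat_lit 1)), ((nat_lit 12), (nat_lit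 24), (nat_lit 1), (nat_lit 2)), ((nat_lit 14), (nat_lit 39), (nat_lit 1), (nat_lit 1)), ((nat_lit 14), (nat_lit 32), (nat_lit 1), (nat_lit 2)), ((nat_lit 21), (nat_lit 41), (nat_lit 1), (nat_lit 1)), ((nat_lit 22), (nat_lit 42), (nat_lit 1), (nat_lit 1)), ((nat_lit 27), (nat_lit 44), (nat_lit 1), (nat_lit 1)), ((nat_lit 27), (nat_lit 45), (nat_lit 1), (nat_lit 2)), ((nat_lit 30), (nat_lit 46), (nat_lit 1), (nat_lit 1)), ((nat_lit 31), (nat_lit 47), (nat_lit 1), (nat_lit 1))])) (.leaf [((nat_lit 2), (nat_lit 3), (nat_lit 1), (nat_lit 1)), ((nat_lit 2), (nat_lit 4), (nat_lit 2), (nat_lit 1)), ((nat_lit 7), (nat_lit 8), (nat_lit 1), (nat_lit 1)), ((nat_lit 9), (nat_lit 11), (nat_lit 1), (nat_lit 1)), ((nat_lit 10), (nat_lit 12), (nat_lit 1), (nat_lit 1)), ((nat_lit 13), (nat_lit 14), (nat_lit 1), (nat_lit 1)), ((nat_lit 16), (nat_lit 18), (nat_lit 1), (nat_lit 1)), ((nat_lit 16), (nat_lit 21),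 (nat_lit 2), (nat_lit 1)), ((nat_lit 17), (nat_lit 19), (nat_lit 1), (nat_lit 1)), ((nat_lit 17), (nat_lit 22), (nat_lit 2), (nat_lit 1)), ((nat_lit 25), (nat_lit 28), (nat_lit 1), (nat_lit 1)), ((nat_lit 25), (nat_lit 30), (nat_lit 2), (nat_lit 1)), ((nat_lit 26), (nat_lit 29), (nat_lit 1), (nat_lit 1)), ((nat_lit 26), (nat_lit 31), (nat_lit 2), (nat_lit 1)), ((nat_lit 33), (nat_lit 34), (nat_lit 1), (nat_lit 1)), ((nat_lit 35), (nat_lit 37), (nat_lit 1), (nat_lit 1)), ((nat_lit 36), (nat_lit 38), (nat_lit 1), (nat_lit 1)), ((nat_lit 39), (nat_lit 40), (nat_lit 1), (nat_lit 1)), ((nat_lit 43), (nat_lit 44), (nat_lit 1), (nat_lit 1)), ((nat_lit 43), (nat_lit 45), (nat_lit 2), (nat_lit 1))]))) (.node (.node (.node (.leaf [((nat_lit 14), (nat_lit 3), (nat_lit 1), (nat_lit 1)), ((nat_lit 27), (nat_lit 8), (nat_lit 1), (nat_lit 1)), ((nat_lit 28), (nat_lit 9), (nat_lit 1), (nat_lit 1)), ((nat_lit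 29), (nat_lit 10), (nat_lit 1), (nat_lit 1)), ((nat_lit 30), (nat_lit 11), (nat_lit 1), (nat_lit 1)), ((nat_lit 30), (nat_lit 0), (nat_lit 2), (nat_lit 1)), ((nat_lit 31), (nat_lit 12), (nat_lit 1), (nat_lit 1)), ((nat_lit 31), (nat_lit 1), (nat_lit 2), (nat_lit 1)), ((nat_lit 32), (nat_lit 13), (nat_lit 1), (nat_lit 1)), ((nat_lit 32), (nat_lit 2), (nat_lit 2), (nat_lit 1)), ((nat_lit 37), (nat_lit 18), (nat_lit 1), (nat_lit 1)), ((nat_lit 38), (nat_lit 19), (nat_lit 1), (nat_lit 1)), ((nat_lit 39), (nat_lit 20), (nat_lit 1), (nat_lit 1)), ((nat_lit 44), (nat_lit 33), (nat_lit 1), (nat_lit 1)), ((nat_lit 45), (nat_lit 34), (nat_lit 1), (nat_lit 1)), ((nat_lit 45), (nat_lit 15), (nat_lit 2), (nat_lit 1)), ((nat_lit 46), (nat_lit 35), (nat_lit 1), (nat_lit 1)), ((nat_lit 46), (nat_lit 16), (nat_lit 2), (nat_lit 1)), ((nat_lit 47), (nat_lit 36), (nat_lit 1), (nat_lit 1)), ((nat_lit 47), (nat_lit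 17), (nat_lit 2), (nat_lit 1))]) (.leaf [((nat_lit 0), (nat_lit 9), (nat_lit 1), (nat_lit 1)), ((nat_lit 0), (nat_lit 25), (nat_lit 2), (nat_lit 1)), ((nat_lit 1), (nat_lit 10), (nat_lit 1), (nat_lit 1)), ((nat_lit 1), (nat_lit 26), (nat_lit 2), (nat_lit 1)), ((nat_lit 3), (nat_lit 13), (nat_lit 1), (nat_lit 1)), ((nat_lit 4), (nat_lit 14), (nat_lit 1), (nat_lit 1)), ((nat_lit 4), (nat_lit 32), (nat_lit 2), (nat_lit 1)), ((nat_lit 7), (nat_lit 20), (nat_lit 1), (nat_lit 1)), ((nat_lit 11), (nat_lit 28), (nat_lit 1), (nat_lit 1)), ((nat_lit 12), (nat_lit 29), (nat_lit 1), (nat_lit 1)), ((nat_lit 15), (nat_lit 33), (nat_lit 1), (nat_lit 1)), ((nat_lit 15), (nat_lit 43), (nat_lit 2), (nat_lit 1)), ((nat_lit 18), (nat_lit 35), (nat_lit 1), (nat_lit 1)), ((nat_lit 19), (nat_lit 36), (nat_lit 1), (nat_lit 1)), ((nat_lit 21), (nat_lit 37), (nat_lit 1), (nat_lit 1)), ((nat_lit 21), (nat_lit 46),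 (nat_lit 2), (nat_lit 1)), ((nat_lit 22), (nat_lit 38), (nat_lit 1), (nat_lit 1)), ((nat_lit 22), (nat_lit 47), (nat_lit 2), (nat_lit 1)), ((nat_lit 27), (nat_lit 40), (nat_lit 1), (nat_lit 1)), ((nat_lit 34), (nat_lit 44), (nat_lit 1), (nat_lit 1))])) (.leaf [((nat_lit 1), (nat_lit 0), (nat_lit 1), (nat_lit 1)), ((nat_lit 6), (nat_lit 5), (nat_lit 1), (nat_lit 1)), ((nat_lit 10), (nat_lit 9), (nat_lit 1), (nat_lit 1)), ((nat_lit 10), (nat_lit 2), (nat_lit 1), (nat_lit 2)), ((nat_lit 12), (nat_lit 11), (nat_lit 1), (nat_lit 1)), ((nat_lit 12), (nat_lit 4), (nat_lit 1), (nat_lit 2)), ((nat_lit 17), (nat_lit 16), (nat_lit 1), (nat_lit 1)), ((nat_lit 19), (nat_lit 18), (nat_lit 1), (nat_lit 1)), ((nat_lit 19), (nat_lit 15), (nat_lit 1), (nat_lit 2)), ((nat_lit 22), (nat_lit 21), (nat_lit 1), (nat_lit 1)), ((nat_lit 26), (nat_lit 25), (nat_lit 1), (nat_lit 1)), ((nat_lit 29), (nat_lit 28), (nat_lit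 1), (nat_lit 1)), ((nat_lit 29), (nat_lit 32), (nat_lit 1), (nat_lit 2)), ((nat_lit 31), (nat_lit 30), (nat_lit 1), (nat_lit 1)), ((nat_lit 36), (nat_lit 35), (nat_lit 1), (nat_lit 1)), ((nat_lit 36), (nat_lit 43), (nat_lit 1), (nat_lit 2)), ((nat_lit 38), (nat_lit 37), (nat_lit 1), (nat_lit 1)), ((nat_lit 38), (nat_lit 45), (nat_lit 1), (nat_lit 2)), ((nat_lit 42), (nat_lit 41), (nat_lit 1), (nat_lit 1)), ((nat_lit 47), (nat_lit 46), (nat_lit 1), (nat_lit 1))])) (.node (.node (.leaf [((nat_lit 5), (nat_lit 0), (nat_lit 1), (nat_lit 1)), ((nat_lit 6), (nat_lit 1), (nat_lit 1), (nat_lit 1)), ((nat_lit 13), (nat_lit 7), (nat_lit 1), (nat_lit 1)), ((nat_lit 13), (nat_lit 2), (nat_lit 1), (nat_lit 2)), ((nat_lit 14), (nat_lit 8), (nat_lit 1), (nat_lit 1)), ((nat_lit 14), (nat_lit 4), (nat_lit 1), (nat_lit 2)), ((nat_lit 25), (nat_lit 16), (nat_lit 1), (nat_lit 1)), ((nat_lit 26), (nat_lit 17),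 (nat_lit 1), (nat_lit 1)), ((nat_lit 28), (nat_lit 18), (nat_lit 1), (nat_lit 1)), ((nat_lit 28), (nat_lit 23), (nat_lit 1), (nat_lit 2)), ((nat_lit 29), (nat_lit 19), (nat_lit 1), (nat_lit 1)), ((nat_lit 29), (nat_lit 24), (nat_lit 1), (nat_lit 2)), ((nat_lit 30), (nat_lit 21), (nat_lit 1), (nat_lit 1)), ((nat_lit 31), (nat_lit 22), (nat_lit 1), (nat_lit 1)), ((nat_lit 39), (nat_lit 33), (nat_lit 1), (nat_lit 1)), ((nat_lit 39), (nat_lit 43), (nat_lit 1), (nat_lit 2)), ((nat_lit 40), (nat_lit 34), (nat_lit 1), (nat_lit 1)), ((nat_lit 40), (nat_lit 45), (nat_lit 1), (nat_lit 2)), ((nat_lit 46), (nat_lit 41), (nat_lit 1), (nat_lit 1)), ((nat_lit 47), (nat_lit 42), (nat_lit 1), (nat_lit 1))]) (.leaf [((nat_lit 1), (nat_lit 24), (nat_lit 1), (nat_lit 1)), ((nat_lit 2), (nat_lit 26), (nat_lit 1), (nat_lit 1)), ((nat_lit 3), (nat_lit 29), (nat_lit 1), (nat_lit 1)), ((nat_lit 3), (nat_lit 6), (nat_lit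 1), (nat_lit 2)), ((nat_lit 4), (nat_lit 31), (nat_lit 1), (nat_lit 1)), ((nat_lit 5), (nat_lit 32), (nat_lit 1), (nat_lit 1)), ((nat_lit 7), (nat_lit 36), (nat_lit 1), (nat_lit 1)), ((nat_lit 7), (nat_lit 17), (nat_lit 1), (nat_lit 2)), ((nat_lit 8), (nat_lit 38), (nat_lit 1), (nat_lit 1)), ((nat_lit 8), (nat_lit 22), (nat_lit 1), (nat_lit 2)), ((nat_lit 9), (nat_lit 39), (nat_lit 1), (nat_lit 1)), ((nat_lit 9), (nat_lit 25), (nat_lit 1), (nat_lit 2)), ((nat_lit 11), (nat_lit 40), (nat_lit 1), (nat_lit 1)), ((nat_lit 11), (nat_lit 30), (nat_lit 1), (nat_lit 2)), ((nat_lit 15), (nat_lit 42), (nat_lit 1), (nat_lit 1)), ((nat_lit 16), (nat_lit 43), (nat_lit 1), (nat_lit 1)), ((nat_lit 18), (nat_lit 44), (nat_lit 1), (nat_lit 1)), ((nat_lit 18), (nat_lit 41), (nat_lit 1), (nat_lit 2)), ((nat_lit 21), (nat_lit 45), (nat_lit 1), (nat_lit 1)), ((nat_lit 23), (nat_lit 46), (nat_lit 1), (nat_lit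 1))])) (.leaf [((nat_lit 0), (nat_lit 4), (nat_lit 1), (nat_lit 1)), ((nat_lit 2), (nat_lit 6), (nat_lit 1), (nat_lit 1)), ((nat_lit 7), (nat_lit 12), (nat_lit 1), (nat_lit 1)), ((nat_lit 7), (nat_lit 1), (nat_lit 1), (nat_lit 2)), ((nat_lit 9), (nat_lit 14), (nat_lit 1), (nat_lit 1)), ((nat_lit 9), (nat_lit 5), (nat_lit 1), (nat_lit 2)), ((nat_lit 15), (nat_lit 22), (nat_lit 1), (nat_lit 1)), ((nat_lit 17), (nat_lit 24), (nat_lit 1), (nat_lit 1)), ((nat_lit 18), (nat_lit 27), (nat_lit 1), (nat_lit 1)), ((nat_lit 18), (nat_lit 21), (nat_lit 1), (nat_lit 2)), ((nat_lit 20), (nat_lit 29), (nat_lit 1), (nat_lit 1)), ((nat_lit 20), (nat_lit 26), (nat_lit 1), (nat_lit 2)), ((nat_lit 23), (nat_lit 30), (nat_lit 1), (nat_lit 1)), ((nat_lit 25), (nat_lit 32), (nat_lit 1), (nat_lit 1)), ((nat_lit 33), (nat_lit 38), (nat_lit 1), (nat_lit 1)), ((nat_lit 33), (nat_lit 42), (nat_lit 1), (nat_lit 2)),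 ((nat_lit 35), (nat_lit 40), (nat_lit 1), (nat_lit 1)), ((nat_lit 35), (nat_lit 46), (nat_lit 1), (nat_lit 2)), ((nat_lit 41), (nat_lit 45), (nat_lit 1), (nat_lit 1)), ((nat_lit 43), (nat_lit 47), (nat_lit 1), (nat_lit 1))])))

def rows : Tr (List Entry) :=
  (.node (.node rows0 rows1) (.node rows2 rows3))

def decs0 : Tr (List ℕ) :=
  .node (.node (.node (.node (.leaf []) (.leaf [(nat_lit 285212672), (nat_lit 1140850688), (nat_lit 2181038080)])) (.leaf [])) (.node (.node (.leaf []) (.leaf [(nat_lit 21474836480), (nat_lit 36507222016), (nat_lit 69793218560), (nat_lit 137975824384), (nat_lit 275146342400), (nat_lit 549890031616)])) (.leaf []))) (.node (.node (.node (.leaf []) (.leaf [(nat_lit 9126805504), (nat_lit 17246978048), (nat_lit 34376515584)])) (.leaf [])) (.node (.node (.leaf []) (.leaf [(nat_lit 206158430208), (nat_lit 309237645312), (nat_lit 566935683072), (nat_lit 1108101562368),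 (nat_lit 2199560126464), (nat_lit 4398314946560), (nat_lit 8796227239936)])) (.leaf [(nat_lit 167772160)])))

def decs1 : Tr (List ℕ) :=
  .node (.node (.node (.node (.leaf []) (.leaf [(nat_lit 8724152320)])) (.leaf [])) (.node (.node (.leaf []) (.leaf [(nat_lit 10737418240), (nat_lit 17246978048), (nat_lit 2199040032768)])) (.leaf [(nat_lit 50331648)]))) (.node (.node (.node (.leaf []) (.leaf [(nat_lit 10737418240), (nat_lit 17716740096), (nat_lit 68853694464), (nat_lit 137455730688)])) (.leaf [])) (.node (.node (.leaf []) (.leaf [(nat_lit 36507222016), (nat_lit 137506062336), (nat_lit 2203318222848), (nat_lit 4398314946560), (nat_lit 8797166764032), (nat_lit 35184405643264)])) (.leaf [(nat_lit 167772160)])))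

def decs2 : Tr (List ℕ) :=
  .node (.node (.node (.node (.leaf []) (.leaf [])) (.leaf [])) (.node (.node (.leaf []) (.leaf [(nat_lit 9663676416), (nat_lit 17213423616)])) (.leaf []))) (.node (.node (.node (.leaf []) (.leaf [(nat_lit 9663676416), (nat_lit 17448304640), (nat_lit 34493956096)])) (.leaf [])) (.node (.node (.leaf []) (.leaf [(nat_lit 21474836480), (nat_lit 137455730688), (nat_lit 2201170739200), (nat_lit 4399120252928), (nat_lit 8796227239936)])) (.leaf [(nat_lit 201326592), (nat_lit 285212672)])))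

def decs3 : Tr (List ℕ) :=
  .node (.node (.node (.node (.leaf []) (.leaf [(nat_lit 8858370048), (nat_lit 17213423616)])) (.leaf [])) (.node (.node (.leaf []) (.leaf [(nat_lit 12884901888), (nat_lit 34376515584), (nat_lit 2199090364416), (nat_lit 4398080065536)])) (.leaf []))) (.node (.node (.node (.leaf []) (.leaf [(nat_lit 12884901888), (nat_lit 34896609280), (nat_lit 68987912192), (nat_lit 137506062336), (nat_lit 274911461376)])) (.leaf [])) (.node (.node (.leaf []) (.leaf [(nat_lit 69793218560), (nat_lit 274911461376), (nat_lit 2199560126464), (nat_lit 4402341478400), (nat_lit 8798240505856), (nat_lit 35184439197696), (nat_lit 70368760954880)])) (.leaf [(nat_lit 201326592), (nat_lit 1090519040)])))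

def decs : Tr (List ℕ) :=
  (.node (.node decs0 decs1) (.node decs2 decs3))

def refls0 : Tr (ℕ) :=
  .node (.node (.node (.node (.node (.node (.leaf (nat_lit 0)) (.leaf (nat_lit 43))) (.leaf (nat_lit 5))) (.node (.node (.leaf (nat_lit 8)) (.leaf (nat_lit 44))) (.leaf (nat_lit 24)))) (.node (.node (.node (.leaf (nat_lit 15)) (.leaf (nat_lit 29))) (.leaf (nat_lit 13))) (.node (.node (.leaf (nat_lit 19)) (.leaf (nat_lit 40))) (.leaf (nat_lit 35))))) (.node (.node (.node (.node (.leaf (nat_lit 2)) (.leaf (nat_lit 27))) (.leaf (nat_lit 11))) (.node (.node (.leaf (nat_lit 10)) (.leaf (nat_lit 31))) (.leaf (nat_lit 26)))) (.node (.node (.node (.leaf (nat_lit 17)) (.leaf (nat_lit 38))) (.leaf (nat_lit 22))) (.node (.node (.leaf (nat_lit 33)) (.leaf (nat_lit 46))) (.leaf (nat_lit 41)))))) (.node (.node (.node (.node (.node (.leaf (nat_lit 1)) (.leaf (nat_lit 14))) (.leaf (nat_lit 6))) (.node (.node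 (.leaf (nat_lit 9)) (.leaf (nat_lit 30))) (.leaf (nat_lit 25)))) (.node (.node (.node (.leaf (nat_lit 16)) (.leaf (nat_lit 37))) (.leaf (nat_lit 21))) (.node (.node (.leaf (nat_lit 20)) (.leaf (nat_lit 45))) (.leaf (nat_lit 36))))) (.node (.node (.node (.node (.leaf (nat_lit 7)) (.leaf (nat_lit 28))) (.leaf (nat_lit 12))) (.node (.node (.leaf (nat_lit 18)) (.leaf (nat_lit 32))) (.leaf (nat_lit 34)))) (.node (.node (.node (.leaf (nat_lit 3)) (.leaf (nat_lit 39))) (.leaf (nat_lit 23))) (.node (.node (.leaf (nat_lit 4)) (.leaf (nat_lit 47))) (.leaf (nat_lit 42))))))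

def refls1 : Tr (ℕ) :=
  .node (.node (.node (.node (.node (.node (.leaf (nat_lit 0)) (.leaf (nat_lit 31))) (.leaf (nat_lit 15))) (.node (.node (.leaf (nat_lit 9)) (.leaf (nat_lit 40))) (.leaf (nat_lit 26)))) (.node (.node (.node (.leaf (nat_lit 5)) (.leaf (nat_lit 36))) (.leaf (nat_lit 19))) (.node (.node (.leaf (nat_lit 13)) (.leaf (nat_lit 44))) (.leaf (nat_lit 27))))) (.node (.node (.node (.node (.leaf (nat_lit 1)) (.leaf (nat_lit 35))) (.leaf (nat_lit 18))) (.node (.node (.leaf (nat_lit 10)) (.leaf (nat_lit 43))) (.leaf (nat_lit 24)))) (.node (.node (.node (.leaf (nat_lit 6)) (.leaf (nat_lit 39))) (.leaf (nat_lit 25))) (.node (.node (.leaf (nat_lit 14)) (.leaf (nat_lit 45))) (.leaf (nat_lit 30)))))) (.node (.node (.node (.node (.node (.leaf (nat_lit 2)) (.leaf (nat_lit 33))) (.leaf (nat_lit 17))) (.node (.node (.leaf (nat_lit 8)) (.leaf (nat_lit 41))) (.leaf (nat_lit 22)))) (.node (.node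 (.node (.leaf (nat_lit 4)) (.leaf (nat_lit 37))) (.leaf (nat_lit 23))) (.node (.node (.leaf (nat_lit 12)) (.leaf (nat_lit 46))) (.leaf (nat_lit 29))))) (.node (.node (.node (.node (.leaf (nat_lit 3)) (.leaf (nat_lit 34))) (.leaf (nat_lit 20))) (.node (.node (.leaf (nat_lit 11)) (.leaf (nat_lit 42))) (.leaf (nat_lit 28)))) (.node (.node (.node (.leaf (nat_lit 7)) (.leaf (nat_lit 38))) (.leaf (nat_lit 21))) (.node (.node (.leaf (nat_lit 16)) (.leaf (nat_lit 47))) (.leaf (nat_lit 32))))))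

def refls2 : Tr (ℕ) :=
  .node (.node (.node (.node (.node (.node (.leaf (nat_lit 0)) (.leaf (nat_lit 32))) (.leaf (nat_lit 21))) (.node (.node (.leaf (nat_lit 7)) (.leaf (nat_lit 39))) (.leaf (nat_lit 24)))) (.node (.node (.node (.leaf (nat_lit 2)) (.leaf (nat_lit 38))) (.leaf (nat_lit 27))) (.node (.node (.leaf (nat_lit 10)) (.leaf (nat_lit 44))) (.leaf (nat_lit 28))))) (.node (.node (.node (.node (.leaf (nat_lit 4)) (.leaf (nat_lit 33))) (.leaf (nat_lit 18))) (.node (.node (.leaf (nat_lit 12)) (.leaf (nat_lit 42))) (.leaf (nat_lit 31)))) (.node (.node (.node (.leaf (nat_lit 6)) (.leaf (nat_lit 36))) (.leaf (nat_lit 17))) (.node (.node (.leaf (nat_lit 13)) (.leaf (nat_lit 46))) (.leaf (nat_lit 25)))))) (.node (.node (.node (.node (.node (.leaf (nat_lit 1)) (.leaf (nat_lit 34))) (.leaf (nat_lit 22))) (.node (.node (.leaf (nat_lit 11)) (.leaf (nat_lit 41))) (.leaf (nat_lit 30)))) (.node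 (.node (.node (.leaf (nat_lit 5)) (.leaf (nat_lit 35))) (.leaf (nat_lit 16))) (.node (.node (.leaf (nat_lit 14)) (.leaf (nat_lit 43))) (.leaf (nat_lit 29))))) (.node (.node (.node (.node (.leaf (nat_lit 3)) (.leaf (nat_lit 37))) (.leaf (nat_lit 19))) (.node (.node (.leaf (nat_lit 9)) (.leaf (nat_lit 45))) (.leaf (nat_lit 20)))) (.node (.node (.node (.leaf (nat_lit 8)) (.leaf (nat_lit 40))) (.leaf (nat_lit 23))) (.node (.node (.leaf (nat_lit 15)) (.leaf (nat_lit 47))) (.leaf (nat_lit 26))))))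

def refls3 : Tr (ℕ) :=
  .node (.node (.node (.node (.node (.node (.leaf (nat_lit 1)) (.leaf (nat_lit 32))) (.leaf (nat_lit 17))) (.node (.node (.leaf (nat_lit 8)) (.leaf (nat_lit 40))) (.leaf (nat_lit 23)))) (.node (.node (.node (.leaf (nat_lit 4)) (.leaf (nat_lit 35))) (.leaf (nat_lit 20))) (.node (.node (.leaf (nat_lit 11)) (.leaf (nat_lit 44))) (.leaf (nat_lit 29))))) (.node (.node (.node (.node (.leaf (nat_lit 2)) (.leaf (nat_lit 34))) (.leaf (nat_lit 19))) (.node (.node (.leaf (nat_lit 9)) (.leaf (nat_lit 41))) (.leaf (nat_lit 25)))) (.node (.node (.node (.leaf (nat_lit 5)) (.leaf (nat_lit 37))) (.leaf (nat_lit 21))) (.node (.node (.leaf (nat_lit 14)) (.leaf (nat_lit 47))) (.leaf (nat_lit 31)))))) (.node (.node (.node (.node (.node (.leaf (nat_lit 0)) (.leaf (nat_lit 33))) (.leaf (nat_lit 16))) (.node (.node (.leaf (nat_lit 10)) (.leaf (nat_lit 42))) (.leaf (nat_lit 26)))) (.node (.node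 (.node (.leaf (nat_lit 6)) (.leaf (nat_lit 38))) (.leaf (nat_lit 22))) (.node (.node (.leaf (nat_lit 13)) (.leaf (nat_lit 45))) (.leaf (nat_lit 28))))) (.node (.node (.node (.node (.leaf (nat_lit 3)) (.leaf (nat_lit 36))) (.leaf (nat_lit 18))) (.node (.node (.leaf (nat_lit 12)) (.leaf (nat_lit 43))) (.leaf (nat_lit 27)))) (.node (.node (.node (.leaf (nat_lit 7)) (.leaf (nat_lit 39))) (.leaf (nat_lit 24))) (.node (.node (.leaf (nat_lit 15)) (.leaf (nat_lit 46))) (.leaf (nat_lit 30))))))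

def refls : Tr (ℕ) :=
  (.node (.node refls0 refls1) (.node refls2 refls3))

/-- The chain table as lists. -/
def cnv (A : Array (ℕ × Array (ℕ × ℤ))) : List (ℕ × List (ℕ × ℤ)) :=
  A.toList.map fun e => (e.1, e.2.toList)

def chs0 : Tr (List (ℕ × List (ℕ × ℤ))) :=
  .node (.node (.node (.node (.leaf (cnv chevF4Chain0)) (.leaf (cnv chevF4Chain32))) (.leaf (cnv chevF4Chain16))) (.node (.node (.leaf (cnv chevF4Chain8)) (.leaf (cnv chevF4Chain40))) (.leaf (cnv chevF4Chain24)))) (.node (.node (.node (.leaf (cnv chevF4Chain4)) (.leaf (cnv chevF4Chain36))) (.leaf (cnv chevF4Chain20))) (.node (.node (.leaf (cnv chevF4Chain12)) (.leaf (cnv chevF4Chain44))) (.leaf (cnv chevF4Chain28))))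

def chs1 : Tr (List (ℕ × List (ℕ × ℤ))) :=
  .node (.node (.node (.node (.leaf (cnv chevF4Chain2)) (.leaf (cnv chevF4Chain34))) (.leaf (cnv chevF4Chain18))) (.node (.node (.leaf (cnv chevF4Chain10)) (.leaf (cnv chevF4Chain42))) (.leaf (cnv chevF4Chain26)))) (.node (.node (.node (.leaf (cnv chevF4Chain6)) (.leaf (cnv chevF4Chain38))) (.leaf (cnv chevF4Chain22))) (.node (.node (.leaf (cnv chevF4Chain14)) (.leaf (cnv chevF4Chain46))) (.leaf (cnv chevF4Chain30))))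

def chs2 : Tr (List (ℕ × List (ℕ × ℤ))) :=
  .node (.node (.node (.node (.leaf (cnv chevF4Chain1)) (.leaf (cnv chevF4Chain33))) (.leaf (cnv chevF4Chain17))) (.node (.node (.leaf (cnv chevF4Chain9)) (.leaf (cnv chevF4Chain41))) (.leaf (cnv chevF4Chain25)))) (.node (.node (.node (.leaf (cnv chevF4Chain5)) (.leaf (cnv chevF4Chain37))) (.leaf (cnv chevF4Chain21))) (.node (.node (.leaf (cnv chevF4Chain13)) (.leaf (cnv chevF4Chain45))) (.leaf (cnv chevF4Chain29))))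

def chs3 : Tr (List (ℕ × List (ℕ × ℤ))) :=
  .node (.node (.node (.node (.leaf (cnv chevF4Chain3)) (.leaf (cnv chevF4Chain35))) (.leaf (cnv chevF4Chain19))) (.node (.node (.leaf (cnv chevF4Chain11)) (.leaf (cnv chevF4Chain43))) (.leaf (cnv chevF4Chain27)))) (.node (.node (.node (.leaf (cnv chevF4Chain7)) (.leaf (cnv chevF4Chain39))) (.leaf (cnv chevF4Chain23))) (.node (.node (.leaf (cnv chevF4Chain15)) (.leaf (cnv chevF4Chain47))) (.leaf (cnv chevF4Chain31))))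

def chs : Tr (List (ℕ × List (ℕ × ℤ))) :=
  (.node (.node chs0 chs1) (.node chs2 chs3))

/-- The tables. -/
def tab : Tab := ⟨rows, decs, refls⟩

theorem row_ok0 : ((List.range' 0 30).all fun p => force p fun p => rowCOk chevF4 48 chs tab p) = true := by decide +kernel

theorem row_ok30 : ((List.range' 30 18).all fun p => force p fun p => rowCOk chevF4 48 chs tab p) = true := by decide +kernel

theorem copy_ok0 : ((List.range' 0 48).all fun p => force p fun p => copyOk chevF4 chs p) = true := by decide +kernel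

theorem sym_ok0 : ((List.range' 0 48).all fun p => force p fun p => symOk chs p) = true := by decide +kernel

theorem pos_ok24 : ((List.range' 24 24).all fun p => force p fun p => posOk chevF4 tab p) = true := by decide +kernel

theorem refl_ok0 : ((List.range' 0 2).all fun p => force p fun p => reflCOk chevF4 48 chs tab p) = true := by decide +kernel

theorem refl_ok2 : ((List.range' 2 2).all fun p => force p fun p => reflCOk chevF4 48 chs tab p) = true := by decide +kernel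

theorem tabOk : TabOk chevF4 tab := by
  have hn : (chevF4).nroots = 48 := by decide +kernel
  have hr : (chevF4).rank = 4 := by decide +kernel
  refine ⟨fun p hp => ?_, fun p h1 h2 => ?_, fun p hp => ?_⟩
  · exact row_of_fast (n := 48) (ch := chs) hn (fun r hr => chunkF (P := fun p => copyOk chevF4 chs p) copy_ok0 (chunk_end (n := 48) (lo := 48) le_rfl) r (Nat.zero_le r) hr)
      (fun r hr => chunkF (P := fun p => symOk chs p) sym_ok0 (chunk_end (n := 48) (lo := 48) le_rfl) r (Nat.zero_le r) hr) (hn ▸ hp) (chunkF (P := fun p => rowCOk chevF4 48 chs tab p) row_ok0 (chunkF (P := fun p => rowCOk chevF4 48 chs tab p) row_ok30 (chunk_end (n := 48) (lo := 48) le_rfl)) p (Nat.zero_le p) (hn ▸ hp))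
  · rw [hn] at h1 h2
    exact chunkF (P := fun p => posOk chevF4 tab p) pos_ok24 (chunk_end (n := 48) (lo := 48) le_rfl) p (le_trans (by norm_num) h1) h2
  · exact refl_of_fast (n := 48) (ch := chs) hn (fun r hr' => chunkF (P := fun p => copyOk chevF4 chs p) copy_ok0 (chunk_end (n := 48) (lo := 48) le_rfl) r (Nat.zero_le r) hr')
      (chunkF (P := fun p => reflCOk chevF4 48 chs tab p) refl_ok0 (chunkF (P := fun p => reflCOk chevF4 48 chs tab p) refl_ok2 (chunk_end (n := 4) (lo := 4) le_rfl)) p (Nat.zero_le p) (hr ▸ hp))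

end Cfsg.Agent.Small.C2Inv.Cert.F4
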